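import Mathlib

set_option autoImplicit false

namespace Cfsg.Agent.Lib.Helper24

/-- If `a x a⁻¹ = x z` and `a` commutes with `z`, then `a^k x a^{-k} = x z^k`. -/
theorem conj_pow_of_commute {G : Type*} [Group G] (a x z : G) (hz : a * x * a⁻¹ = x * z)
    (hc : a * z = z * a) (k : ℕ) : a ^ k * x * (a ^ k)⁻¹ = x * z ^ k := by
  induction k with
  | zero => simp
  | succ k ih =>
    have hzk : a * z ^ k * a⁻¹ = z ^ k := by
      have : Commute a (z ^ k) := (show Commute a z from hc).pow_right k
      rw [this.eq, mul_assoc, mul_inv_cancel, mul_one]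
    calc a ^ (k + 1) * x * (a ^ (k + 1))⁻¹
        = a * (a ^ k * x * (a ^ k)⁻¹) * a⁻¹ := by
          rw [pow_succ', mul_inv_rev]; group
      _ = a * (x * z ^ k) * a⁻¹ := by rw [ih]
      _ = (a * x * a⁻¹) * (a * z ^ k * a⁻¹) := by group
      _ = x * z * z ^ k := by rw [hz, hzk]
      _ = x * z ^ (k + 1) := by rw [pow_succ', mul_assoc]

/-- The key coprimality trick: if `a x a⁻¹ = x z`, `a` commutes with `z`, and the orders of `a` and `z`
are coprime, then `z = 1`. -/
theorem eq_one_of_conj_eq_mul_of_commute_of_coprime {G : Type*} [Group G] (a x z : G)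
    (hz : a * x * a⁻¹ = x * z) (hc : a * z = z * a)
    (hcop : (orderOf a).Coprime (orderOf z)) : z = 1 := by
  have h := conj_pow_of_commute a x z hz hc (orderOf a)
  rw [pow_orderOf_eq_one, one_mul, inv_one, mul_one] at h
  have hz1 : z ^ orderOf a = 1 := by
    have := h.symm
    simpa using this
  have hdvd : orderOf z ∣ orderOf a := orderOf_dvd_of_pow_eq_one hz1
  have : orderOf z = 1 := Nat.Coprime.eq_one_of_dvd hcop.symm hdvd
  exact orderOf_eq_one_iff.mp this

/-- Variant: if `x⁻¹ * (a * x * a⁻¹)` commutes with `a` and has order coprime to that of `a`,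
then `a` commutes with `x`. -/
theorem commute_of_comm_commute_of_coprime {G : Type*} [Group G] (a x : G)
    (hc : a * (x⁻¹ * (a * x * a⁻¹)) = (x⁻¹ * (a * x * a⁻¹)) * a)
    (hcop : (orderOf a).Coprime (orderOf (x⁻¹ * (a * x * a⁻¹)))) : a * x = x * a := by
  have h1 : x⁻¹ * (a * x * a⁻¹) = 1 :=
    eq_one_of_conj_eq_mul_of_commute_of_coprime a x _ (by group) hc hcop
  have h2 : a * x * a⁻¹ = x := by
    have := congrArg (fun t => x * t) h1
    simpa using this
  calc a * x = a * x * a⁻¹ * a := by group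
    _ = x * a := by rw [h2]

end Cfsg.Agent.Lib.Helper24
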