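import Mathlib
import Cfsg.Agent.Lib.Helper24.Coprime

set_option autoImplicit false

open scoped commutatorElement

namespace Cfsg.Agent.Lib.Helper24

/-! ### Class two power formulas -/

/-- If `y * x = z * x * y` with `z` commuting with `x` and `y`, then `y^n * x = z^n * x * y^n`. -/
theorem pow_mul_of_central_comm {G : Type*} [Group G] (x y z : G) (hz : y * x = z * x * y)
    (hzx : Commute z x) (hzy : Commute z y) (n : ℕ) : y ^ n * x = z ^ n * x * y ^ n := by
  induction n with
  | zero => simp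
  | succ n ih =>
    have h1 : Commute (z ^ n) y := hzy.pow_left n
    calc y ^ (n + 1) * x = y * (y ^ n * x) := by rw [pow_succ', mul_assoc]
      _ = y * (z ^ n * x * y ^ n) := by rw [ih]
      _ = (y * z ^ n) * x * y ^ n := by simp only [mul_assoc]
      _ = (z ^ n * y) * x * y ^ n := by rw [h1.eq]
      _ = z ^ n * (y * x) * y ^ n := by simp only [mul_assoc]
      _ = z ^ n * (z * x * y) * y ^ n := by rw [hz]
      _ = z ^ (n + 1) * x * y ^ (n + 1) := by
        rw [pow_succ, pow_succ']; simp only [mul_assoc]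

/-- Class two power formula: `(x y)^n = x^n y^n z^(n choose 2)` where `y x = z x y`, `z` central
for `x, y`. -/
theorem mul_pow_of_central_comm {G : Type*} [Group G] (x y z : G) (hz : y * x = z * x * y)
    (hzx : Commute z x) (hzy : Commute z y) (n : ℕ) :
    (x * y) ^ n = x ^ n * y ^ n * z ^ (n.choose 2) := by
  induction n with
  | zero => simp
  | succ n ih =>
    have h1 := pow_mul_of_central_comm x y z hz hzx hzy n
    have hzxn : Commute (z ^ n) (x ^ n) := (hzx.pow_left n).pow_right n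
    have hc1 : Commute (z ^ (n.choose 2)) x := hzx.pow_left _
    have hc2 : Commute (z ^ (n.choose 2)) y := hzy.pow_left _
    have hc3 : Commute (z ^ (n.choose 2)) (x * y) := hc1.mul_right hc2
    have hc4 : Commute (z ^ n) (x ^ (n+1)) := (hzx.pow_left n).pow_right _
    have hc5 : Commute (z ^ n) (y ^ (n+1)) := (hzy.pow_left n).pow_right _
    have hch : (n + 1).choose 2 = n + n.choose 2 := by
      rw [Nat.choose_succ_succ, Nat.choose_one_right]
    calc (x * y) ^ (n + 1) = (x * y) ^ n * (x * y) := pow_succ _ _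
      _ = x ^ n * y ^ n * z ^ (n.choose 2) * (x * y) := by rw [ih]
      _ = x ^ n * y ^ n * ((x * y) * z ^ (n.choose 2)) := by rw [mul_assoc, hc3.eq]
      _ = x ^ n * (y ^ n * x) * y * z ^ (n.choose 2) := by simp only [mul_assoc]
      _ = x ^ n * (z ^ n * x * y ^ n) * y * z ^ (n.choose 2) := by rw [h1]
      _ = (x ^ n * z ^ n) * x * y ^ n * y * z ^ (n.choose 2) := by simp only [mul_assoc]
      _ = (z ^ n * x ^ n) * x * y ^ n * y * z ^ (n.choose 2) := by rw [hzxn.eq]
      _ = z ^ n * (x ^ (n + 1) * y ^ (n + 1)) * z ^ (n.choose 2) := by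
        rw [pow_succ, pow_succ]; simp only [mul_assoc]
      _ = (x ^ (n + 1) * y ^ (n + 1)) * z ^ n * z ^ (n.choose 2) := by
        rw [(hc4.mul_right hc5).eq]
      _ = x ^ (n + 1) * y ^ (n + 1) * z ^ ((n + 1).choose 2) := by
        rw [hch, pow_add z]; simp only [mul_assoc]

/-- If `z = ⁅y, x⁆` commutes with `x`, then `⁅y, x ^ n⁆ = z ^ n`. -/
theorem commutatorElement_pow_right_of_commute {G : Type*} [Group G] (x y : G)
    (hzx : Commute ⁅y, x⁆ x) (n : ℕ) : ⁅y, x ^ n⁆ = ⁅y, x⁆ ^ n := by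
  have h1 : y * x * y⁻¹ = ⁅y, x⁆ * x := by rw [commutatorElement_def]; group
  have h2 : y * x ^ n * y⁻¹ = (⁅y, x⁆ * x) ^ n := by
    rw [← h1, conj_pow]
  rw [hzx.mul_pow] at h2
  calc ⁅y, x ^ n⁆ = (y * x ^ n * y⁻¹) * (x ^ n)⁻¹ := by rw [commutatorElement_def]
    _ = ⁅y, x⁆ ^ n := by rw [h2]; group

/-! ### Normal subgroups of index `p` in `p`-groups -/

/-- A nontrivial finite `p`-group has a normal subgroup of index `p`. -/
theorem exists_normal_index_p {P : Type*} [Group P] [Finite P] (p : ℕ) [hp : Fact p.Prime]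
    (hP : IsPGroup p P) [Nontrivial P] : ∃ M : Subgroup P, M.Normal ∧ M.index = p := by
  obtain ⟨n, hn⟩ := hP.exists_card_eq
  have hn0 : n ≠ 0 := by
    rintro rfl
    rw [pow_zero] at hn
    have := Finite.one_lt_card (α := P)
    omega
  obtain ⟨m, rfl⟩ := Nat.exists_eq_succ_of_ne_zero hn0
  obtain ⟨M, hM⟩ := Sylow.exists_subgroup_card_pow_prime (G := P) p (n := m)
    (by rw [hn]; exact pow_dvd_pow p (Nat.le_succ m))
  have hidx : M.index = p := by
    have h1 := M.card_mul_index
    rw [hn, hM, pow_succ] at h1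
    exact Nat.eq_of_mul_eq_mul_left (pow_pos hp.out.pos m) h1
  refine ⟨M, ?_, hidx⟩
  apply Subgroup.normal_of_index_eq_minFac_card
  rw [hidx, hn, Nat.Prime.pow_minFac hp.out (Nat.succ_ne_zero m)]

/-- In a normal subgroup `M` of prime index `p`: all commutators and `p`-th powers lie in `M`. -/
theorem comm_mem_and_pow_mem_of_index_prime {P : Type*} [Group P] (p : ℕ) [hp : Fact p.Prime]
    (M : Subgroup P) [M.Normal] (hM : M.index = p) (x y : P) : ⁅x, y⁆ ∈ M ∧ x ^ p ∈ M := by
  have hcard : Nat.card (P ⧸ M) = p := by rw [← hM]; rfl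
  constructor
  · have hcyc : IsCyclic (P ⧸ M) := isCyclic_of_prime_card hcard
    rw [← QuotientGroup.eq_one_iff]
    have : ((⁅x, y⁆ : P) : P ⧸ M) = ⁅(x : P ⧸ M), (y : P ⧸ M)⁆ := by
      simp [commutatorElement_def]
    rw [this, commutatorElement_eq_one_iff_commute]
    obtain ⟨g, hg⟩ := hcyc.exists_generator
    obtain ⟨i, hi⟩ := Subgroup.mem_zpowers_iff.mp (hg (x : P ⧸ M))
    obtain ⟨j, hj⟩ := Subgroup.mem_zpowers_iff.mp (hg (y : P ⧸ M))
    rw [← hi, ← hj]
    exact (Commute.refl g).zpow_zpow i j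
  · rw [← QuotientGroup.eq_one_iff]
    have h := pow_card_eq_one' (G := P ⧸ M) (x := (x : P ⧸ M))
    rw [hcard] at h
    simpa using h

end Cfsg.Agent.Lib.Helper24
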