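import Mathlib
import Cfsg.Agent.Lib.Helper24.PGroupBasic

set_option autoImplicit false

open scoped commutatorElement

namespace Cfsg.Agent.Lib.Helper24

/-- The set of `p`-th powers of elements of `K`. -/
def powSet (p : ℕ) {G : Type*} [Group G] (K : Subgroup G) : Set G := {g | ∃ x ∈ K, x ^ p = g}

/-- The "Frattini-like" subgroup `K' K^p` of a subgroup `K` of `G`. -/
def frat (p : ℕ) {G : Type*} [Group G] (K : Subgroup G) : Subgroup G :=
  ⁅K, K⁆ ⊔ Subgroup.closure (powSet p K)

section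
variable {G : Type*} [Group G] (p : ℕ) (K : Subgroup G)

theorem comm_le_frat : ⁅K, K⁆ ≤ frat p K := le_sup_left

theorem comm_mem_frat {x y : G} (hx : x ∈ K) (hy : y ∈ K) : ⁅x, y⁆ ∈ frat p K :=
  comm_le_frat p K (Subgroup.commutator_mem_commutator hx hy)

theorem pow_mem_frat {x : G} (hx : x ∈ K) : x ^ p ∈ frat p K :=
  (le_sup_right : Subgroup.closure (powSet p K) ≤ frat p K)
    (Subgroup.subset_closure ⟨x, hx, rfl⟩)

theorem frat_le_of {M : Subgroup G} (h1 : ∀ x ∈ K, ∀ y ∈ K, ⁅x, y⁆ ∈ M) (h2 : ∀ x ∈ K, x ^ p ∈ M) :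
    frat p K ≤ M := by
  refine sup_le (Subgroup.commutator_le.mpr h1) ?_
  rw [Subgroup.closure_le]
  rintro g ⟨x, hx, rfl⟩
  exact h2 x hx

theorem frat_le : frat p K ≤ K :=
  frat_le_of p K (fun x hx y hy => by
    rw [commutatorElement_def]
    exact K.mul_mem (K.mul_mem (K.mul_mem hx hy) (K.inv_mem hx)) (K.inv_mem hy))
    (fun x hx => K.pow_mem hx p)

theorem normalizer_le_normalizer_powSet :
    Subgroup.normalizer (K : Set G) ≤ Subgroup.normalizer (powSet p K) := by
  intro a ha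
  rw [Subgroup.mem_set_normalizer_iff]
  intro h
  constructor
  · rintro ⟨x, hx, rfl⟩
    exact ⟨a * x * a⁻¹, (Subgroup.mem_normalizer_iff.mp ha x).mp hx, by rw [conj_pow]⟩
  · rintro ⟨x, hx, hxe⟩
    refine ⟨a⁻¹ * x * a, (Subgroup.mem_normalizer_iff''.mp ha x).mp hx, ?_⟩
    have : (a⁻¹ * x * a) ^ p = a⁻¹ * x ^ p * a := by
      have := conj_pow (a := a⁻¹) (b := x) (i := p)
      simpa using this
    rw [this, hxe]; group

theorem normalizer_le_normalizer_comm :
    Subgroup.normalizer (K : Set G) ≤ Subgroup.normalizer ((⁅K, K⁆ : Subgroup G) : Set G) := by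
  intro a ha
  rw [Subgroup.mem_normalizer_iff_map_conj_eq] at ha ⊢
  rw [Subgroup.map_commutator, ha]

theorem normalizer_le_normalizer_frat :
    Subgroup.normalizer (K : Set G) ≤ Subgroup.normalizer ((frat p K : Subgroup G) : Set G) := by
  intro a ha
  apply Subgroup.normalizer_inf_normalizer_le_normalizer_sup
  refine Subgroup.mem_inf.mpr ⟨normalizer_le_normalizer_comm K ha, ?_⟩
  exact Subgroup.normalizer_le_normalizer_closure _ (normalizer_le_normalizer_powSet p K ha)

/-- `frat p K` is normal in `K`. -/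
theorem le_normalizer_frat : K ≤ Subgroup.normalizer ((frat p K : Subgroup G) : Set G) :=
  le_trans Subgroup.le_normalizer (normalizer_le_normalizer_frat p K)

end

/-- For a nontrivial finite `p`-subgroup `K`, `frat p K` is a proper subgroup of `K`. -/
theorem frat_ne {G : Type*} [Group G] [Finite G] (p : ℕ) [hp : Fact p.Prime] (K : Subgroup G)
    (hK : IsPGroup p K) (hne : K ≠ ⊥) : frat p K ≠ K := by
  have : Nontrivial K := (Subgroup.nontrivial_iff_ne_bot K).mpr hne
  obtain ⟨M, hMn, hMi⟩ := exists_normal_index_p p hK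
  have hle : frat p K ≤ M.map K.subtype := by
    apply frat_le_of
    · intro x hx y hy
      refine ⟨⁅⟨x, hx⟩, ⟨y, hy⟩⁆, (comm_mem_and_pow_mem_of_index_prime p M hMi _ _).1, ?_⟩
      simp [commutatorElement_def]
    · intro x hx
      refine ⟨⟨x, hx⟩ ^ p, (comm_mem_and_pow_mem_of_index_prime p M hMi ⟨x, hx⟩ 1).2, ?_⟩
      simp
  intro heq
  have hMtop : M = ⊤ := by
    rw [Subgroup.eq_top_iff']
    intro k
    have hk : (k : G) ∈ M.map K.subtype := hle (by rw [heq]; exact k.2)
    obtain ⟨m, hm, hmk⟩ := hk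
    have : m = k := Subtype.ext hmk
    exact this ▸ hm
  rw [hMtop, Subgroup.index_top] at hMi
  exact hp.out.one_lt.ne hMi

end Cfsg.Agent.Lib.Helper24
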