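import Mathlib
import Cfsg.Agent.Lib.Helper24.Frat

set_option autoImplicit false

open scoped commutatorElement

namespace Cfsg.Agent.Lib.Helper24

theorem card_lt_of_le_of_ne {G : Type*} [Group G] [Finite G] {H K : Subgroup G} (hle : H ≤ K)
    (hne : H ≠ K) : Nat.card H < Nat.card K := by
  by_contra h
  exact hne (Subgroup.eq_of_le_of_card_ge hle (not_lt.mp h))

/-- Coprime trick inside a `p`-subgroup: if `a` normalizes the `p`-subgroup `K`, has order prime to
`p`, and commutes with `x⁻¹ (a x a⁻¹)` for an `x ∈ K`, then `a` commutes with `x`. -/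
theorem commute_of_comm_commute_pgroup {G : Type*} [Group G] (p : ℕ) [hp : Fact p.Prime]
    (a : G) (hcop : (orderOf a).Coprime p) (K : Subgroup G) (hK : IsPGroup p K)
    (ha : a ∈ Subgroup.normalizer (K : Set G)) (x : G) (hx : x ∈ K)
    (hc : a * (x⁻¹ * (a * x * a⁻¹)) = (x⁻¹ * (a * x * a⁻¹)) * a) : a * x = x * a := by
  apply commute_of_comm_commute_of_coprime a x hc
  have hw : x⁻¹ * (a * x * a⁻¹) ∈ K :=
    K.mul_mem (K.inv_mem hx) ((Subgroup.mem_normalizer_iff.mp ha x).mp hx)
  obtain ⟨k, hk⟩ := (IsPGroup.iff_orderOf.mp hK) ⟨_, hw⟩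
  rw [Subgroup.orderOf_mk] at hk
  rw [hk]
  exact Nat.Coprime.pow_right k hcop

/-- If `a` normalizes the `p`-subgroup `K`, has order prime to `p`, and centralizes a subgroup
containing all the `x⁻¹ (a x a⁻¹)`, `x ∈ K`, then it centralizes `K`. -/
theorem centralizes_of_centralizes_comm {G : Type*} [Group G] (p : ℕ) [hp : Fact p.Prime]
    (a : G) (hcop : (orderOf a).Coprime p) (K : Subgroup G) (hK : IsPGroup p K)
    (ha : a ∈ Subgroup.normalizer (K : Set G))
    (hL : ∀ y ∈ ⁅K, Subgroup.zpowers a⁆, a * y = y * a) : ∀ x ∈ K, a * x = x * a := by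
  intro x hx
  apply commute_of_comm_commute_pgroup p a hcop K hK ha x hx
  apply hL
  have : ⁅x⁻¹, a⁆ ∈ ⁅K, Subgroup.zpowers a⁆ :=
    Subgroup.commutator_mem_commutator (K.inv_mem hx) (Subgroup.mem_zpowers a)
  have e : ⁅x⁻¹, a⁆ = x⁻¹ * (a * x * a⁻¹) := by rw [commutatorElement_def]; group
  rwa [e] at this

/-- When `frat p K` is central in `K` and `p` is odd, the `p`-power map is multiplicative on `K`. -/
theorem mul_pow_of_frat_central {G : Type*} [Group G] (p : ℕ) [hp : Fact p.Prime] (hp2 : p ≠ 2)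
    (K : Subgroup G) (hcen : ∀ x ∈ K, ∀ c ∈ frat p K, c * x = x * c) (x y : G) (hx : x ∈ K)
    (hy : y ∈ K) : (x * y) ^ p = x ^ p * y ^ p := by
  have hz : ⁅y, x⁆ ∈ frat p K := comm_mem_frat p K hy hx
  have hzx : Commute ⁅y, x⁆ x := hcen x hx _ hz
  have hzy : Commute ⁅y, x⁆ y := hcen y hy _ hz
  have h1 : y * x = ⁅y, x⁆ * x * y := by rw [commutatorElement_def]; group
  have h2 := mul_pow_of_central_comm x y ⁅y, x⁆ h1 hzx hzy p
  have hzp : ⁅y, x⁆ ^ p = 1 := by
    rw [← commutatorElement_pow_right_of_commute x y hzx p, commutatorElement_eq_one_iff_commute]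
    exact (hcen y hy _ (pow_mem_frat p K hx)).symm
  have hdvd : p ∣ p.choose 2 := by
    apply Nat.Prime.dvd_choose_self hp.out (by norm_num)
    have := hp.out.two_le
    omega
  obtain ⟨k, hk⟩ := hdvd
  rw [h2, hk, pow_mul, hzp, one_pow, mul_one]

/-- **Ω₁-lemma.** Let `p` be an odd prime, `K` a `p`-subgroup of the finite group `G`, and `a` an
element normalizing `K`, of order prime to `p`, which commutes with every `x ∈ K` with `x ^ p = 1`.
Then `a` centralizes `K`. -/
theorem centralizes_of_centralizes_omega_aux {G : Type*} [Group G] [Finite G] (p : ℕ)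
    [hp : Fact p.Prime] (hp2 : p ≠ 2) (a : G) (hcop : (orderOf a).Coprime p) :
    ∀ (n : ℕ) (K : Subgroup G), Nat.card K ≤ n → IsPGroup p K →
      a ∈ Subgroup.normalizer (K : Set G) →
      (∀ x ∈ K, x ^ p = 1 → a * x = x * a) → ∀ x ∈ K, a * x = x * a := by
  intro n
  induction n with
  | zero =>
    intro K hcard
    have := Nat.card_pos (α := K)
    omega
  | succ n ih =>
    intro K hcard hK ha hfix
    have hzp : Subgroup.zpowers a ≤ Subgroup.normalizer (K : Set G) := Subgroup.zpowers_le.mpr ha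
    have hLK : ⁅K, Subgroup.zpowers a⁆ ≤ K := Subgroup.le_normalizer_iff_commutator_le_left.mp hzp
    have haL : a ∈ Subgroup.normalizer ((⁅K, Subgroup.zpowers a⁆ : Subgroup G) : Set G) :=
      Subgroup.normalizer_commutator_ge_right K (Subgroup.zpowers a) (Subgroup.mem_zpowers a)
    by_cases hL : ⁅K, Subgroup.zpowers a⁆ = K
    · -- the interesting case
      by_cases hbot : K = ⊥
      · intro x hx
        rw [hbot, Subgroup.mem_bot] at hx
        subst hx; simp
      have hΦne : frat p K ≠ K := frat_ne p K hK hbot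
      have hΦle : frat p K ≤ K := frat_le p K
      have hΦcard : Nat.card (frat p K) ≤ n := by
        have := card_lt_of_le_of_ne hΦle hΦne
        omega
      have haΦ : a ∈ Subgroup.normalizer ((frat p K : Subgroup G) : Set G) :=
        normalizer_le_normalizer_frat p K ha
      have hcΦ : ∀ x ∈ frat p K, a * x = x * a :=
        ih (frat p K) hΦcard (hK.to_le hΦle) haΦ (fun x hx hxp => hfix x (hΦle hx) hxp)
      -- `frat p K` is central in `K` by the three subgroups lemma
      have hzc : Subgroup.zpowers a ≤ Subgroup.centralizer ((frat p K : Subgroup G) : Set G) := by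
        rw [Subgroup.zpowers_le]
        exact Subgroup.mem_centralizer_iff.mpr (fun x hx => (hcΦ x hx).symm)
      have h1 : ⁅⁅Subgroup.zpowers a, frat p K⁆, K⁆ = ⊥ := by
        rw [Subgroup.commutator_eq_bot_iff_le_centralizer.mpr hzc, Subgroup.commutator_bot_left]
      have h2 : ⁅⁅frat p K, K⁆, Subgroup.zpowers a⁆ = ⊥ := by
        rw [eq_bot_iff]
        have hle1 : ⁅frat p K, K⁆ ≤ frat p K :=
          le_trans (Subgroup.commutator_mono hΦle le_rfl) (comm_le_frat p K)
        have hle2 : ⁅⁅frat p K, K⁆, Subgroup.zpowers a⁆ ≤ ⁅Subgroup.zpowers a, frat p K⁆ := by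
          rw [Subgroup.commutator_comm (Subgroup.zpowers a)]
          exact Subgroup.commutator_mono hle1 le_rfl
        rw [Subgroup.commutator_eq_bot_iff_le_centralizer.mpr hzc] at hle2
        exact hle2
      have h3 := Subgroup.commutator_commutator_eq_bot_of_rotate h1 h2
      rw [hL, Subgroup.commutator_eq_bot_iff_le_centralizer] at h3
      have hcen : ∀ x ∈ K, ∀ c ∈ frat p K, c * x = x * c := by
        intro x hx c hc
        exact Subgroup.mem_centralizer_iff.mp (h3 hx) c hc
      intro x hx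
      apply commute_of_comm_commute_pgroup p a hcop K hK ha x hx
      have haxa : a * x * a⁻¹ ∈ K := (Subgroup.mem_normalizer_iff.mp ha x).mp hx
      apply hfix _ (K.mul_mem (K.inv_mem hx) haxa)
      rw [mul_pow_of_frat_central p hp2 K hcen _ _ (K.inv_mem hx) haxa, conj_pow]
      have hxp : a * x ^ p = x ^ p * a := hcΦ _ (pow_mem_frat p K hx)
      rw [hxp]; group
    · -- `⁅K, a⁆ < K`
      have hLcard : Nat.card (⁅K, Subgroup.zpowers a⁆ : Subgroup G) ≤ n := by
        have := card_lt_of_le_of_ne hLK hL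
        omega
      have hcL : ∀ y ∈ ⁅K, Subgroup.zpowers a⁆, a * y = y * a :=
        ih _ hLcard (hK.to_le hLK) haL (fun x hx hxp => hfix x (hLK hx) hxp)
      exact centralizes_of_centralizes_comm p a hcop K hK ha hcL

/-- **Ω₁-lemma.** Let `p` be an odd prime, `K` a `p`-subgroup of the finite group `G`, and `a` an
element normalizing `K`, of order prime to `p`, which commutes with every `x ∈ K` with `x ^ p = 1`.
Then `a` centralizes `K`. -/
theorem centralizes_of_centralizes_omega {G : Type*} [Group G] [Finite G] (p : ℕ)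
    [hp : Fact p.Prime] (hp2 : p ≠ 2) (a : G) (hcop : (orderOf a).Coprime p) (K : Subgroup G)
    (hK : IsPGroup p K) (ha : a ∈ Subgroup.normalizer (K : Set G))
    (hfix : ∀ x ∈ K, x ^ p = 1 → a * x = x * a) : ∀ x ∈ K, a * x = x * a :=
  centralizes_of_centralizes_omega_aux p hp2 a hcop _ K le_rfl hK ha hfix

end Cfsg.Agent.Lib.Helper24
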