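import Mathlib
import Cfsg.Agent.Lib.Helper24.Coprime

set_option autoImplicit false

namespace Cfsg.Agent.Lib.Helper24

/-- Thompson-type lemma: `H` nilpotent, `A` normalizes `H` with coprime orders, and
`C_H(C_H(A)) ≤ C_H(A)`. Then `A` centralizes `H`. -/
theorem centralizes_of_centralizer_self_centralizing {G : Type*} [Group G] [Finite G]
    (H A : Subgroup G) (hH : Group.IsNilpotent H) (hA : A ≤ Subgroup.normalizer (H : Set G))
    (hcop : (Nat.card A).Coprime (Nat.card H))
    (hC : H ⊓ Subgroup.centralizer (((H ⊓ Subgroup.centralizer (A : Set G)) : Subgroup G) : Set G)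
      ≤ (H ⊓ Subgroup.centralizer (A : Set G))) :
    A ≤ Subgroup.centralizer (H : Set G) := by
  set C : Subgroup G := H ⊓ Subgroup.centralizer (A : Set G) with hCdef
  -- Step 1: every element of `H` normalizing `C` lies in `C`.
  have key : ∀ x ∈ H, (∀ c ∈ C, x * c * x⁻¹ ∈ C) → x ∈ C := by
    intro x hxH hxN
    refine Subgroup.mem_inf.mpr ⟨hxH, ?_⟩
    refine Subgroup.mem_centralizer_iff.mpr ?_
    intro a haA
    -- z = x⁻¹ (a x a⁻¹)
    have haN := hA haA
    have haxa : a * x * a⁻¹ ∈ H := (Subgroup.mem_normalizer_iff.mp haN x).mp hxH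
    have hzH : x⁻¹ * (a * x * a⁻¹) ∈ H := H.mul_mem (H.inv_mem hxH) haxa
    have hzC : x⁻¹ * (a * x * a⁻¹) ∈ C := by
      apply hC
      refine Subgroup.mem_inf.mpr ⟨hzH, ?_⟩
      refine Subgroup.mem_centralizer_iff.mpr ?_
      intro c hc
      -- a commutes with c and with x c x⁻¹
      have hca : a * c = c * a := by
        have := (Subgroup.mem_centralizer_iff.mp (Subgroup.mem_inf.mp hc).2) a haA
        exact this
      have hc2 := hxN c hc
      have hca2 : a * (x * c * x⁻¹) = (x * c * x⁻¹) * a := by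
        have := (Subgroup.mem_centralizer_iff.mp (Subgroup.mem_inf.mp hc2).2) a haA
        exact this
      -- z c z⁻¹ = c
      have hca' : a⁻¹ * c * a = c := by rw [mul_assoc, ← hca]; group
      have hca2' : a * (x * c * x⁻¹) * a⁻¹ = x * c * x⁻¹ := by rw [hca2]; group
      have : (x⁻¹ * (a * x * a⁻¹)) * c * (x⁻¹ * (a * x * a⁻¹))⁻¹ = c := by
        calc (x⁻¹ * (a * x * a⁻¹)) * c * (x⁻¹ * (a * x * a⁻¹))⁻¹
            = x⁻¹ * (a * (x * (a⁻¹ * c * a) * x⁻¹) * a⁻¹) * x := by group
          _ = x⁻¹ * (a * (x * c * x⁻¹) * a⁻¹) * x := by rw [hca']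
          _ = x⁻¹ * (x * c * x⁻¹) * x := by rw [hca2']
          _ = c := by group
      calc c * (x⁻¹ * (a * x * a⁻¹))
          = ((x⁻¹ * (a * x * a⁻¹)) * c * (x⁻¹ * (a * x * a⁻¹))⁻¹) * (x⁻¹ * (a * x * a⁻¹)) := by
            rw [this]
        _ = (x⁻¹ * (a * x * a⁻¹)) * c := by group
    have hza : a * (x⁻¹ * (a * x * a⁻¹)) = (x⁻¹ * (a * x * a⁻¹)) * a := by
      have := (Subgroup.mem_centralizer_iff.mp (Subgroup.mem_inf.mp hzC).2) a haA
      exact this
    have hcop' : (orderOf a).Coprime (orderOf (x⁻¹ * (a * x * a⁻¹))) := by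
      apply Nat.Coprime.coprime_dvd_left (Subgroup.orderOf_dvd_natCard A haA)
      exact Nat.Coprime.coprime_dvd_right (Subgroup.orderOf_dvd_natCard H hzH) hcop
    exact commute_of_comm_commute_of_coprime a x hza hcop'
  -- Step 2: normalizer condition in the nilpotent group `H`.
  have hnc : NormalizerCondition H := Group.normalizerCondition_of_isNilpotent
  have htop : C.subgroupOf H = ⊤ := by
    by_contra hne
    have hlt : C.subgroupOf H < ⊤ := lt_top_iff_ne_top.mpr hne
    have h2 := hnc _ hlt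
    obtain ⟨x, hxN, hxC⟩ := SetLike.exists_of_lt h2
    apply hxC
    rw [Subgroup.mem_subgroupOf]
    apply key x x.2
    intro c hc
    have hcH : c ∈ H := (Subgroup.mem_inf.mp hc).1
    have := (Subgroup.mem_normalizer_iff.mp hxN ⟨c, hcH⟩).mp (by
      rw [Subgroup.mem_subgroupOf]; exact hc)
    rw [Subgroup.mem_subgroupOf] at this
    simpa using this
  have hHC : H ≤ C := by
    intro h hh
    have : (⟨h, hh⟩ : H) ∈ C.subgroupOf H := by rw [htop]; trivial
    rw [Subgroup.mem_subgroupOf] at this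
    exact this
  intro a haA
  refine Subgroup.mem_centralizer_iff.mpr ?_
  intro h hh
  have := (Subgroup.mem_centralizer_iff.mp (Subgroup.mem_inf.mp (hHC hh)).2) a haA
  exact this.symm

end Cfsg.Agent.Lib.Helper24
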