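import Mathlib
import Cfsg.Prelude.Def_Characters
import Cfsg.Prelude.Def_OddOrderLocal
import Cfsg.Prelude.Def_OddOrderChar

/-!
# Peterfalvi sections 10-13, shared bookkeeping: definitions (helper24)

`W = W₁ ⊔ W₂` is the self-normalizing cyclic subgroup of `G` attached to a pair of maximal
subgroups of type P.  All character families are indexed by the linear characters
`ω : WChar W₁ W₂ := ↥(W₁ ⊔ W₂) →* ℂˣ` of `W` **as a subgroup of `G`**: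

* `η ω` : the cyclic TI family of `G` (`Cfsg.IsCyclicTIFamily W₁ W₂ η`, from S1502);
* `mu ω` : the irreducible characters `μ_ω` of `↥M` of S1511, for a subgroup `M ≥ W` with type-P
  data, transported to the index set `WChar W₁ W₂` (`MuData`).

`TrivOn X ω` says that `ω` is trivial on `X ∩ W`; the characters `φ` with `TrivOn W₂ φ` are the
`φ_i` of the book (characters of `W/W₂ ≅ W₁`), those with `TrivOn W₁ ψ` are the `ψ_j`.
-/

set_option autoImplicit false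

namespace Cfsg.Agent.Lib.Helper24.PFCyc

open Cfsg

universe u

variable {G : Type u} [Group G]

/-- linear characters of `W = W₁ ⊔ W₂` -/
abbrev WChar (W₁ W₂ : Subgroup G) : Type u := ↥(W₁ ⊔ W₂) →* ℂˣ

/-- `ω` is trivial on the elements of `W` lying in `X` -/
def TrivOn {W₁ W₂ : Subgroup G} (X : Subgroup G) (ω : WChar W₁ W₂) : Prop :=
  ∀ w : ↥(W₁ ⊔ W₂), (w : G) ∈ X → ω w = 1

theorem trivOn_one {W₁ W₂ : Subgroup G} (X : Subgroup G) : TrivOn X (1 : WChar W₁ W₂) :=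
  fun _ _ => rfl

theorem TrivOn.mul {W₁ W₂ X : Subgroup G} {ω ω' : WChar W₁ W₂} (h : TrivOn X ω)
    (h' : TrivOn X ω') : TrivOn X (ω * ω') := by
  intro w hw
  rw [MonoidHom.mul_apply, h w hw, h' w hw, mul_one]

theorem TrivOn.inv {W₁ W₂ X : Subgroup G} {ω : WChar W₁ W₂} (h : TrivOn X ω) :
    TrivOn X ω⁻¹ := by
  intro w hw
  rw [MonoidHom.inv_apply, h w hw, inv_one]

/-- a function on `W` (a subgroup of `G`) as a function on `W` seen inside `↥M` -/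
def pullW (M : Subgroup G) {W₁ W₂ : Subgroup G} (f : ↥(W₁ ⊔ W₂) → ℂ) :
    ↥((W₁ ⊔ W₂).subgroupOf M) → ℂ :=
  fun w => f ⟨((w : ↥M) : G), Subgroup.mem_subgroupOf.mp w.2⟩

/-- the Galois conjugate `σ ∘ ω` of a linear character -/
def galChar {W₁ W₂ : Subgroup G} (σ : ℂ ≃+* ℂ) (ω : WChar W₁ W₂) : WChar W₁ W₂ :=
  (Units.map (σ : ℂ →* ℂ)).comp ω

@[simp] theorem galChar_apply {W₁ W₂ : Subgroup G} (σ : ℂ ≃+* ℂ) (ω : WChar W₁ W₂)
    (w : ↥(W₁ ⊔ W₂)) : ((galChar σ ω w : ℂˣ) : ℂ) = σ ((ω w : ℂˣ) : ℂ) := rfl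

theorem TrivOn.galChar {W₁ W₂ X : Subgroup G} {ω : WChar W₁ W₂} (h : TrivOn X ω)
    (σ : ℂ ≃+* ℂ) : TrivOn X (galChar σ ω) := by
  intro w hw
  apply Units.ext
  rw [galChar_apply, h w hw]
  simp

/-- The conclusion of S1511 for `L = ↥M`, `K = M'`, with the characters `μ_ω` and the signs `δ_ω`
indexed by the linear characters of `W = W₁ ⊔ W₂ ≤ G`. -/
structure MuData (M W₁ W₂ : Subgroup G) [Fintype M] (mu : WChar W₁ W₂ → (↥M → ℂ))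
    (dl : WChar W₁ W₂ → ℂ) : Prop where
  inj : Function.Injective mu
  irr : ∀ ω, IsIrrCharacter ↥M (mu ω)
  sign : ∀ ω, dl ω = 1 ∨ dl ω = -1
  dl_congr : ∀ ω ω' : WChar W₁ W₂, (∀ w : ↥(W₁ ⊔ W₂), (w : G) ∈ W₂ → ω w = ω' w) → dl ω = dl ω'
  ind_sub : ∀ ω ω' : WChar W₁ W₂, (∀ w : ↥(W₁ ⊔ W₂), (w : G) ∈ W₂ → ω w = ω' w) →
    indFun ((W₁ ⊔ W₂).subgroupOf M) (pullW M (fun w => ((ω w : ℂˣ) : ℂ) - ((ω' w : ℂˣ) : ℂ))) =
      dl ω • (mu ω - mu ω')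
  val : ∀ (ω : WChar W₁ W₂) (m : ↥M) (hm : (m : G) ∈ W₁ ⊔ W₂), (m : G) ∉ W₂ →
    mu ω m = dl ω * ((ω ⟨(m : G), hm⟩ : ℂˣ) : ℂ)
  vanish : ∀ θ : ↥M → ℂ, IsIrrCharacter ↥M θ → (∀ ω, θ ≠ mu ω) →
    ∀ m : ↥M, (m : G) ∈ W₁ ⊔ W₂ → (m : G) ∉ W₂ → θ m = 0
  deg : ∀ ω, ∃ n : ℤ, mu ω 1 - dl ω = n * (Nat.card W₁ : ℂ)

open Classical in
/-- The finite set of linear characters of `W` trivial on `X ∩ W`: `trivSet W₁ W₂ W₂` is the set
of the `φ_i` (characters of `W/W₂ ≅ W₁`), `trivSet W₁ W₂ W₁` the set of the `ψ_j`. -/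
noncomputable def trivSet [Finite G] (W₁ W₂ X : Subgroup G) : Finset (WChar W₁ W₂) :=
  haveI : Fintype (WChar W₁ W₂) := Fintype.ofFinite _
  Finset.univ.filter (fun ω => TrivOn X ω)

theorem mem_trivSet [Finite G] {W₁ W₂ X : Subgroup G} {ω : WChar W₁ W₂} :
    ω ∈ trivSet W₁ W₂ X ↔ TrivOn X ω := by
  classical
  unfold trivSet
  simp

/-- `μ_j = ∑_i μ_ij` of the book: the sum of the `μ_{φψ}` over all `φ` trivial on `W₂`
(including `φ = 1`).  For `ψ = 1` this is `μ_0 = Ind_{M'}^M 1`. -/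
noncomputable def muSum [Finite G] {M W₁ W₂ : Subgroup G} (mu : WChar W₁ W₂ → (↥M → ℂ))
    (ψ : WChar W₁ W₂) : ↥M → ℂ :=
  ∑ φ ∈ trivSet W₁ W₂ W₂, mu (φ * ψ)

/-- `∑_i η_ij`: the sum of the `η_{φψ}` over all `φ` trivial on `W₂` (including `φ = 1`). -/
noncomputable def etaSum [Finite G] {W₁ W₂ : Subgroup G} (η : WChar W₁ W₂ → (G → ℂ))
    (ψ : WChar W₁ W₂) : G → ℂ :=
  ∑ φ ∈ trivSet W₁ W₂ W₂, η (φ * ψ)

end Cfsg.Agent.Lib.Helper24.PFCyc
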