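import Mathlib
import Cfsg.Agent.Lib.Helper24.PFCycDefs
import Cfsg.Agent.Lib.Helper4.PFTypes
import Cfsg.Agent.Lib.Helper74.PF127Defs

/-!
# Peterfalvi section 10, M-side: the standing context (helper24)

`M` is a maximal subgroup of Type III, IV or V with type-P data `(W₁, U, W₂)`; `K = M'`;
`calS M = Ind_K^M (Irr K ∖ {1})`; `tauM M` is the Dade map of `M` on `A₀(M)`.

* `MCtx`  : the primitive hypotheses of the M-side of (10.8): type-P data, `A(M) = K ∖ {1}`, the Dade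
  hypothesis for `A₀(M)`, the characters `mu ω` of `↥M` (S1511), the cyclic TI family `η ω` of `G`
  (S1502), a coherent extension `τ₁` of `tauM M` on `calS M`, and an irreducible `ζ ∈ calS M` of
  degree `q = |W₁|`.  **No primality of `q`.**
* `MFacts`: the conclusions of the batch-1 modules (to be discharged by the assembly).
* `MSide` : the outcome of the M-side, the interface to the T-side / endgame.
-/

set_option autoImplicit false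

namespace Cfsg.Agent.Lib.Helper24.PFCyc

open Cfsg Cfsg.Agent.Lib.Helper4.PF Cfsg.Agent.Lib.Helper74.PF127

universe u

variable {G : Type u} [Group G]

/-- `K = M'` as a subgroup of `↥M` -/
abbrev KM (M : Subgroup G) : Subgroup ↥M := (⁅M, M⁆ : Subgroup G).subgroupOf M

/-- `calS(M) = Ind_{M'}^M (Irr M' ∖ {1})` -/
abbrev calS (M : Subgroup G) [Fintype M] : Set (↥M → ℂ) := inducedIrrAbove (KM M) ⊥

/-- the Dade map of `M` on `A₀(M)` -/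
noncomputable abbrev tauM (M : Subgroup G) : (↥M → ℂ) → (G → ℂ) :=
  dadeIsometry (litA0 M) M (supportR M)

/-- the Dade support of `A(M)` -/
abbrev suppM (M : Subgroup G) : Set G := dadeSupp (litA M) (supportR M)

/-- The primitive hypotheses of the M-side of Peterfalvi (10.8). -/
structure MCtx [Fintype G] (M W₁ U W₂ : Subgroup G) [Fintype M]
    (mu : WChar W₁ W₂ → (↥M → ℂ)) (dl : WChar W₁ W₂ → ℂ) (η : WChar W₁ W₂ → (G → ℂ))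
    (τ₁ : (↥M → ℂ) → (G → ℂ)) (ζ : ↥M → ℂ) : Prop where
  hP : IsTypePWith M W₁ U W₂
  hodd : Odd (Nat.card M)
  hW : IsSelfNormalizingCyclic W₁ W₂
  hp : (Nat.card W₂).Prime
  hA : litA M = ((⁅M, M⁆ : Subgroup G) : Set G) \ {1}
  hD : DadeHypothesis (litA0 M) M (supportR M)
  md : MuData M W₁ W₂ mu dl
  hη : IsCyclicTIFamily W₁ W₂ η
  hτ₁ : IsLinearIsometryOn (zspan (calS M)) τ₁
  hext : ∀ α ∈ zspanOn (calS M) {1}ᶜ, τ₁ α = tauM M α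
  hζ : ζ ∈ calS M
  hζirr : IsIrrCharacter ↥M ζ
  hζ1 : ζ 1 = (Nat.card W₁ : ℂ)

/-- The conclusions of the batch-1 modules ([MU-ONE], [MU-RES], [MU-IND], [MU-IRRM], [CALS],
[MU-GAL], [MU-CONST], [MU-DEG], [M-COVER], [LITA0], [B1], [B2]) in the context `MCtx`. -/
structure MFacts [Fintype G] (M W₁ W₂ : Subgroup G) [Fintype M]
    (mu : WChar W₁ W₂ → (↥M → ℂ)) (dl : WChar W₁ W₂ → ℂ) (η : WChar W₁ W₂ → (G → ℂ)) :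
    Prop where
  mu_phi : ∀ φ : WChar W₁ W₂, TrivOn W₂ φ →
    dl φ = 1 ∧ ∃ f : ↥M →* ℂˣ, (mu φ = fun m => ((f m : ℂˣ) : ℂ)) ∧
      (∀ k : ↥M, (k : G) ∈ ⁅M, M⁆ → f k = 1) ∧
      ∀ (m : ↥M) (hm : (m : G) ∈ W₁), f m = φ ⟨(m : G), Subgroup.mem_sup_left hm⟩
  mu_one : mu 1 = fun _ => 1
  mu_res : ∀ ω ω' : WChar W₁ W₂, (∀ w : ↥(W₁ ⊔ W₂), (w : G) ∈ W₂ → ω w = ω' w) →
    ∀ k : ↥M, (k : G) ∈ ⁅M, M⁆ → mu ω k = mu ω' k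
  mu_ind : ∀ ω : WChar W₁ W₂, IsIrrCharacter ↥(KM M) (fun k => mu ω (k : ↥M)) ∧
    muSum mu ω = indFun (KM M) (fun k => mu ω (k : ↥M))
  irr_cases : ∀ θ : ↥M → ℂ, IsIrrCharacter ↥M θ → (∃ ω, θ = mu ω) ∨
    ∃ ϑ : ↥(KM M) → ℂ, IsIrrCharacter ↥(KM M) ϑ ∧ ϑ ≠ (fun _ => 1) ∧ θ = indFun (KM M) ϑ ∧
      ∀ m : ↥M, (m : G) ∉ ⁅M, M⁆ → θ m = 0
  calS_cases : ∀ ζ' ∈ calS M, (IsIrrCharacter ↥M ζ' ∧ ∀ ω, ζ' ≠ mu ω) ∨
    ∃ ψ : WChar W₁ W₂, TrivOn W₁ ψ ∧ ψ ≠ 1 ∧ ζ' = muSum mu ψ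
  muSum_mem : ∀ ψ : WChar W₁ W₂, TrivOn W₁ ψ → ψ ≠ 1 → muSum mu ψ ∈ calS M
  mu_gal : ∀ (σ : ℂ ≃+* ℂ) (ω : WChar W₁ W₂),
    mu (galChar σ ω) = (fun m => σ (mu ω m)) ∧ dl (galChar σ ω) = dl ω
  mu_const : ∀ ψ ψ' : WChar W₁ W₂, TrivOn W₁ ψ → TrivOn W₁ ψ' → ψ ≠ 1 → ψ' ≠ 1 →
    dl ψ = dl ψ' ∧ mu ψ 1 = mu ψ' 1
  mu_deg : ∀ ψ : WChar W₁ W₂, TrivOn W₁ ψ → ψ ≠ 1 →
    ∃ d : ℕ, mu ψ 1 = (d : ℂ) ∧ 2 * Nat.card W₁ - 1 ≤ d ∧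
      ∃ n : ℤ, (d : ℂ) - dl ψ = n * (Nat.card W₁ : ℂ)
  cover : ∀ m ∈ M, m ∉ ⁅M, M⁆ → ∃ x ∈ M, x * m * x⁻¹ ∈ W₁ ⊔ W₂ ∧ x * m * x⁻¹ ∉ W₂
  litA0 : ∀ w ∈ W₁ ⊔ W₂, w ∉ W₁ → w ∉ W₂ → ∀ m ∈ M,
    m * w * m⁻¹ ∈ litA0 M ∧ supportR M (m * w * m⁻¹) = ⊥
  rect : ∀ φ ψ : WChar W₁ W₂, TrivOn W₂ φ → TrivOn W₁ ψ → φ ≠ 1 → ψ ≠ 1 →
    tauM M ((fun _ => 1) - mu φ - dl ψ • mu ψ + dl ψ • mu (φ * ψ)) =
      fun g => 1 - η φ g - η ψ g + η (φ * ψ) g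
  musub : ∀ ψ ψ' : WChar W₁ W₂, TrivOn W₁ ψ → TrivOn W₁ ψ' → ψ ≠ 1 → ψ' ≠ 1 → ψ ≠ ψ' →
    tauM M (mu ψ - mu ψ') = dl ψ • (η ψ - η ψ') ∧
    tauM M (muSum mu ψ - muSum mu ψ') = dl ψ • (etaSum η ψ - etaSum η ψ')

/-- The outcome of the M-side of (10.8), with the set `A'` and the mass constant `c` as parameters
(main case: `A' = A(M) = K ∖ {1}`, `c = q²`): `χ = τ₁ ζ` is `±` irreducible, orthogonal to the whole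
cyclic TI family, `∑_{φ} η_φ - χ` (`φ` trivial on `W₂`) vanishes off the Dade support of `A'`, and
the mass of `χ` off that support is at most `c |G : M|`. -/
structure MSide [Fintype G] (M W₁ W₂ : Subgroup G) (η : WChar W₁ W₂ → (G → ℂ)) (χ : G → ℂ)
    (A' : Set G) (c : ℝ) : Prop where
  irr : IsIrrCharacter G χ ∨ IsIrrCharacter G (-χ)
  orth : ∀ ω : WChar W₁ W₂, classInner χ (η ω) = 0
  sub : A' ⊆ litA M
  conj_mem : ∀ x ∈ M, ∀ a ∈ A', x * a * x⁻¹ ∈ A'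
  supp : ∀ g : G, g ∉ dadeSupp A' (supportR M) → χ g = etaSum η 1 g
  mass : ∑ᶠ g ∈ (dadeSupp A' (supportR M))ᶜ, ‖χ g‖ ^ 2 ≤ c * (Nat.card G : ℝ) / Nat.card M

end Cfsg.Agent.Lib.Helper24.PFCyc
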