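import Mathlib
import Cfsg.Agent.Lib.Helper74.PFTwelveB

/-!
# The Dade map is ordinary induction on class functions supported where `R = 1` (helper24)

Generalization of `Helper74.PF12.dade_eq_indFun`: only the elements of the support of `α` are
required to have trivial `R`.
-/

set_option autoImplicit false

namespace Cfsg.Agent.Lib.Helper24.PFCyc

open Cfsg Cfsg.Agent.Lib.Helper78 Cfsg.Agent.Lib.Helper75
open scoped ComplexConjugate

universe u

variable {G : Type u} [Group G] [Fintype G] {A : Set G} {L : Subgroup G} [Fintype L]
  {R : G → Subgroup G}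

/-- **[DADE-IND]** If the class function `α` of `L` vanishes off `A` and off the set where
`R = ⊥`, then its Dade image is the induced function. -/
theorem dade_eq_indFun_of_support (hD : DadeHypothesis A L R)
    (α : L → ℂ) (hα : IsClassFunction L α) (hαA : ∀ x : L, (x : G) ∉ A → α x = 0)
    (hαR : ∀ x : L, α x ≠ 0 → R (x : G) = ⊥) :
    dadeIsometry A L R α = indFun L α := by
  have hcf : IsClassFunction G (dadeIsometry A L R α - indFun L α) := by
    intro g h
    have h1 := Cfsg.Agent.Lib.Helper3.Dade.dade_isClassFunction hD hα g h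
    have h2 := isClassFunction_indFun L α g h
    simp only [Pi.sub_apply]
    rw [h1, h2]
  have key : ∀ χ : G → ℂ, IsClassFunction G χ →
      classInner (dadeIsometry A L R α - indFun L α) χ = 0 := by
    intro χ hχ
    rw [Cfsg.Agent.Lib.Helper25.classInner_sub_left, frobenius_reciprocity L α hχ]
    have := (Cfsg.Agent.S1500.result A L R hD α hα hαA).2 χ
      (fun a : L => (Nat.card (R a) : ℂ)⁻¹ * ∑ᶠ u ∈ (R a : Set G), χ (a * u)) hχ
      (fun a _ => rfl)
    rw [this, sub_eq_zero]
    unfold classInner
    congr 1
    apply Finset.sum_congr rfl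
    intro x _
    by_cases hx : α x = 0
    · rw [hx, zero_mul, zero_mul]
    · beta_reduce
      rw [hαR x hx]
      have hc : Nat.card (⊥ : Subgroup G) = 1 := Subgroup.card_bot
      rw [hc]
      have hs : ((⊥ : Subgroup G) : Set G) = {1} := Subgroup.coe_bot
      rw [hs, finsum_mem_singleton]
      simp
  have h0 := Cfsg.Agent.Lib.Helper26.classInner_self_eq_zero (key _ hcf)
  exact sub_eq_zero.mp h0

end Cfsg.Agent.Lib.Helper24.PFCyc
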