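import Mathlib
import Cfsg.Agent.Lib.Helper24.PGroupBasic

set_option autoImplicit false

open scoped commutatorElement

namespace Cfsg.Agent.Lib.Helper24

/-- If all commutators of elements of a generating set `S` lie in a subgroup `C` that is central in
`closure S`, then all commutators of elements of `closure S` lie in `C`. -/
theorem comm_mem_of_closure {G : Type*} [Group G] (C : Subgroup G) (S : Set G)
    (hcomm : ∀ s ∈ S, ∀ t ∈ S, ⁅s, t⁆ ∈ C)
    (hcen : ∀ c ∈ C, ∀ f ∈ Subgroup.closure S, c * f = f * c) :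
    ∀ f ∈ Subgroup.closure S, ∀ g ∈ Subgroup.closure S, ⁅f, g⁆ ∈ C := by
  -- conjugation by elements of the closure fixes `C` pointwise
  have hconj : ∀ c ∈ C, ∀ f ∈ Subgroup.closure S, f * c * f⁻¹ = c := by
    intro c hc f hf
    rw [← hcen c hc f hf]; group
  have hconj' : ∀ c ∈ C, ∀ f ∈ Subgroup.closure S, f⁻¹ * c * f = c := by
    intro c hc f hf
    have := hconj c hc f⁻¹ (Subgroup.inv_mem _ hf)
    simpa using this
  -- step 1: `⁅f, t⁆ ∈ C` for `f` in the closure, `t ∈ S`
  have step1 : ∀ t ∈ S, ∀ f ∈ Subgroup.closure S, ⁅f, t⁆ ∈ C := by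
    intro t ht f hf
    induction hf using Subgroup.closure_induction with
    | mem s hs => exact hcomm s hs t ht
    | one => simp
    | mul a b ha hb iha ihb =>
      rw [commutatorElement_mul_left_eq_conj_mul, hconj _ ihb a ha]
      exact C.mul_mem ihb iha
    | inv a ha iha =>
      rw [commutatorElement_inv_left]
      have h1 : ⁅t, a⁆ ∈ C := by rw [← commutatorElement_inv]; exact C.inv_mem iha
      rw [hconj' _ h1 a ha]
      exact h1
  intro f hf g hg
  induction hg using Subgroup.closure_induction with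
  | mem t ht => exact step1 t ht f hf
  | one => simp
  | mul a b ha hb iha ihb =>
    rw [commutatorElement_mul_right_eq_mul_conj, mul_assoc ⁅f, a⁆, mul_assoc ⁅f, a⁆,
      hconj _ ihb a ha]
    exact C.mul_mem iha ihb
  | inv a ha iha =>
    rw [commutatorElement_inv_right]
    have h1 : ⁅a, f⁆ ∈ C := by rw [← commutatorElement_inv]; exact C.inv_mem iha
    rw [hconj' _ h1 a ha]
    exact h1

/-- **Class two, odd `p`.** If a group is generated by elements of order dividing `p` whose
commutators lie in a central subgroup `C` of exponent `p`, then every element has order dividing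
`p`. -/
theorem pow_eq_one_of_closure {G : Type*} [Group G] (p : ℕ) [hp : Fact p.Prime] (hp2 : p ≠ 2)
    (C : Subgroup G) (S : Set G) (hCexp : ∀ c ∈ C, c ^ p = 1) (hS : ∀ s ∈ S, s ^ p = 1)
    (hcomm : ∀ s ∈ S, ∀ t ∈ S, ⁅s, t⁆ ∈ C)
    (hcen : ∀ c ∈ C, ∀ f ∈ Subgroup.closure S, c * f = f * c) :
    ∀ f ∈ Subgroup.closure S, f ^ p = 1 := by
  have hc := comm_mem_of_closure C S hcomm hcen
  have hdvd : p ∣ p.choose 2 := by
    apply Nat.Prime.dvd_choose_self hp.out (by norm_num)
    have := hp.out.two_le
    omega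
  obtain ⟨k, hk⟩ := hdvd
  intro f hf
  induction hf using Subgroup.closure_induction with
  | mem s hs => exact hS s hs
  | one => simp
  | mul a b ha hb iha ihb =>
    have hz : ⁅b, a⁆ ∈ C := hc b hb a ha
    have h1 : b * a = ⁅b, a⁆ * a * b := by rw [commutatorElement_def]; group
    rw [mul_pow_of_central_comm a b ⁅b, a⁆ h1 (hcen _ hz a ha) (hcen _ hz b hb) p, iha, ihb, hk,
      pow_mul, hCexp _ hz]
    simp
  | inv a ha iha => rw [inv_pow, iha, inv_one]

end Cfsg.Agent.Lib.Helper24
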