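import Mathlib
import Cfsg.Agent.Lib.Helper24.Omega

set_option autoImplicit false

open scoped commutatorElement

namespace Cfsg.Agent.Lib.Helper24

/-- In a nilpotent group, a subgroup `Y` with `Y ≤ ⁅Y, N⁆` is trivial. -/
theorem eq_bot_of_le_commutator {G : Type*} [Group G] [hG : Group.IsNilpotent G] (Y N : Subgroup G)
    (h : Y ≤ ⁅Y, N⁆) : Y = ⊥ := by
  have key : ∀ n : ℕ, Y ≤ Subgroup.lowerCentralSeries ⊤ n := by
    intro n
    induction n with
    | zero => simp
    | succ n ih =>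
      rw [Subgroup.lowerCentralSeries_succ]
      exact le_trans h (Subgroup.commutator_mono ih le_top)
  obtain ⟨n, hn⟩ := Subgroup.nilpotent_iff_lowerCentralSeries.mp hG
  rw [eq_bot_iff, ← hn]
  exact key n

/-- **Minimal invariant subgroup argument.** In a finite nilpotent group, if `N` normalizes `F` and
`F` is not contained in `C`, there is `y ∈ F`, `y ∉ C` with `⁅y, n⁆ ∈ C` for all `n ∈ N`. -/
theorem exists_mem_not_mem_comm_mem_aux {G : Type*} [Group G] [Finite G] [Group.IsNilpotent G]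
    (C N : Subgroup G) :
    ∀ (k : ℕ) (F : Subgroup G), Nat.card F ≤ k → N ≤ Subgroup.normalizer (F : Set G) → ¬ F ≤ C →
      ∃ y ∈ F, y ∉ C ∧ ∀ n ∈ N, ⁅y, n⁆ ∈ C := by
  intro k
  induction k with
  | zero =>
    intro F hcard
    have := Nat.card_pos (α := F)
    omega
  | succ k ih =>
    intro F hcard hN hFC
    by_cases hcomm : ⁅F, N⁆ ≤ C
    · obtain ⟨y, hyF, hyC⟩ := SetLike.not_le_iff_exists.mp hFC
      exact ⟨y, hyF, hyC, fun n hn => hcomm (Subgroup.commutator_mem_commutator hyF hn)⟩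
    · have hle : ⁅F, N⁆ ≤ F := Subgroup.le_normalizer_iff_commutator_le_left.mp hN
      have hne : ⁅F, N⁆ ≠ F := by
        intro heq
        have hbot : F = ⊥ := eq_bot_of_le_commutator F N heq.ge
        apply hFC
        rw [hbot]; exact bot_le
      have hcard' : Nat.card (⁅F, N⁆ : Subgroup G) ≤ k := by
        have := card_lt_of_le_of_ne hle hne
        omega
      obtain ⟨y, hy, hyC, hyN⟩ := ih ⁅F, N⁆ hcard' (Subgroup.normalizer_commutator_ge_right F N) hcomm
      exact ⟨y, hle hy, hyC, hyN⟩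

theorem exists_mem_not_mem_comm_mem {G : Type*} [Group G] [Finite G] [Group.IsNilpotent G]
    (C N F : Subgroup G) (hN : N ≤ Subgroup.normalizer (F : Set G)) (hFC : ¬ F ≤ C) :
    ∃ y ∈ F, y ∉ C ∧ ∀ n ∈ N, ⁅y, n⁆ ∈ C :=
  exists_mem_not_mem_comm_mem_aux C N _ F le_rfl hN hFC

end Cfsg.Agent.Lib.Helper24
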