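import Mathlib
import Cfsg.Agent.Lib.Helper24.NilAction
import Cfsg.Agent.Lib.Helper24.ClassTwoExp

set_option autoImplicit false

open scoped commutatorElement

namespace Cfsg.Agent.Lib.Helper24

/-- The "centralizer of `x` modulo `C`": all `n` with `⁅x, n⁆ ∈ C`, for a normal subgroup `C`. -/
def centMod {R : Type*} [Group R] (C : Subgroup R) [hC : C.Normal] (x : R) : Subgroup R where
  carrier := {n | ⁅x, n⁆ ∈ C}
  mul_mem' := by
    intro a b ha hb
    change ⁅x, a⁆ ∈ C at ha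
    change ⁅x, b⁆ ∈ C at hb
    change ⁅x, a * b⁆ ∈ C
    rw [commutatorElement_mul_right_eq_mul_conj, mul_assoc ⁅x, a⁆, mul_assoc ⁅x, a⁆]
    exact C.mul_mem ha (hC.conj_mem _ hb a)
  one_mem' := by simp
  inv_mem' := by
    intro a ha
    change ⁅x, a⁆ ∈ C at ha
    change ⁅x, a⁻¹⁆ ∈ C
    rw [commutatorElement_inv_right]
    have h1 : ⁅a, x⁆ ∈ C := by rw [← commutatorElement_inv]; exact C.inv_mem ha
    have := hC.conj_mem _ h1 a⁻¹
    simpa using this

theorem mem_centMod {R : Type*} [Group R] (C : Subgroup R) [C.Normal] (x n : R) :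
    n ∈ centMod C x ↔ ⁅x, n⁆ ∈ C := Iff.rfl

/-- **Normal replacement.** Let `R` be a finite `p`-group, `p` odd, `C` a normal abelian subgroup of
exponent `p`. If `C_R(C)` has an element of order `p` outside `C`, then it has one that is central
modulo `C`. -/
theorem normal_replacement {R : Type*} [Group R] [Finite R] (p : ℕ) [hp : Fact p.Prime]
    (hp2 : p ≠ 2) (hR : IsPGroup p R) (C : Subgroup R) [hC : C.Normal] (hCexp : ∀ c ∈ C, c ^ p = 1)
    (hCab : C ≤ Subgroup.centralizer (C : Set R))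
    (x : R) (hxT : x ∈ Subgroup.centralizer (C : Set R)) (hxC : x ∉ C) (hxp : x ^ p = 1) :
    ∃ y, y ∈ Subgroup.centralizer (C : Set R) ∧ y ∉ C ∧ y ^ p = 1 ∧ ∀ r : R, ⁅y, r⁆ ∈ C := by
  have : Group.IsNilpotent R := hR.isNilpotent
  -- the set of candidates
  let X : Type _ := {x : R // x ∈ Subgroup.centralizer (C : Set R) ∧ x ∉ C ∧ x ^ p = 1}
  have : Nonempty X := ⟨⟨x, hxT, hxC, hxp⟩⟩
  obtain ⟨x₀, hmax⟩ := Finite.exists_max (fun x : X => Nat.card (centMod C x.1))
  obtain ⟨x₀, hx₀T, hx₀C, hx₀p⟩ := x₀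
  simp only at hmax
  suffices htop : centMod C x₀ = ⊤ by
    refine ⟨x₀, hx₀T, hx₀C, hx₀p, fun r => ?_⟩
    have : r ∈ centMod C x₀ := by rw [htop]; trivial
    exact this
  by_contra hne
  have hnc : NormalizerCondition R := Group.normalizerCondition_of_isNilpotent
  have hlt := hnc _ (lt_top_iff_ne_top.mpr hne)
  set N := centMod C x₀ with hN
  set N₁ := Subgroup.normalizer (N : Set R) with hN₁
  -- generating set
  let S : Set R := (C : Set R) ∪ {g | ∃ n ∈ N₁, g = n * x₀ * n⁻¹}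
  have hTn : (Subgroup.centralizer (C : Set R)).Normal := inferInstance
  have hST : ∀ s ∈ S, s ∈ Subgroup.centralizer (C : Set R) := by
    rintro s (hs | ⟨n, -, rfl⟩)
    · exact hCab hs
    · exact hTn.conj_mem _ hx₀T n
  have hFT : Subgroup.closure S ≤ Subgroup.centralizer (C : Set R) := by
    rw [Subgroup.closure_le]; exact hST
  have hSp : ∀ s ∈ S, s ^ p = 1 := by
    rintro s (hs | ⟨n, -, rfl⟩)
    · exact hCexp s hs
    · rw [conj_pow, hx₀p]; group
  have hx₀N : x₀ ∈ N := by rw [hN, mem_centMod]; simp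
  have hScomm : ∀ s ∈ S, ∀ t ∈ S, ⁅s, t⁆ ∈ C := by
    rintro s (hs | ⟨n, hn, rfl⟩) t (ht | ⟨m, hm, rfl⟩)
    · have : s * t = t * s := (Subgroup.mem_centralizer_iff.mp (hCab hs) t ht).symm
      rw [commutatorElement_eq_one_iff_mul_comm.mpr this]; exact C.one_mem
    · have hmT : m * x₀ * m⁻¹ ∈ Subgroup.centralizer (C : Set R) := hTn.conj_mem _ hx₀T m
      have : s * (m * x₀ * m⁻¹) = (m * x₀ * m⁻¹) * s := Subgroup.mem_centralizer_iff.mp hmT s hs
      rw [commutatorElement_eq_one_iff_mul_comm.mpr this]; exact C.one_mem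
    · have hnT : n * x₀ * n⁻¹ ∈ Subgroup.centralizer (C : Set R) := hTn.conj_mem _ hx₀T n
      have : (n * x₀ * n⁻¹) * t = t * (n * x₀ * n⁻¹) :=
        (Subgroup.mem_centralizer_iff.mp hnT t ht).symm
      rw [commutatorElement_eq_one_iff_mul_comm.mpr this]; exact C.one_mem
    · -- the main case
      have hk : n⁻¹ * m ∈ N₁ := N₁.mul_mem (N₁.inv_mem hn) hm
      have hk2 : (n⁻¹ * m) * x₀ * (n⁻¹ * m)⁻¹ ∈ N :=
        (Subgroup.mem_normalizer_iff.mp hk x₀).mp hx₀N
      rw [hN, mem_centMod] at hk2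
      have := hC.conj_mem _ hk2 n
      rw [conjugate_commutatorElement] at this
      have e : n * ((n⁻¹ * m) * x₀ * (n⁻¹ * m)⁻¹) * n⁻¹ = m * x₀ * m⁻¹ := by group
      rwa [e] at this
  have hcen : ∀ c ∈ C, ∀ f ∈ Subgroup.closure S, c * f = f * c := by
    intro c hc f hf
    exact (Subgroup.mem_centralizer_iff.mp (hFT hf) c hc)
  have hFexp : ∀ f ∈ Subgroup.closure S, f ^ p = 1 :=
    pow_eq_one_of_closure p hp2 C S hCexp hSp hScomm hcen
  -- `N₁` normalizes `F = closure S`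
  have hN₁F : N₁ ≤ Subgroup.normalizer ((Subgroup.closure S : Subgroup R) : Set R) := by
    rw [Subgroup.le_normalizer_closure_iff]
    rintro h hh g (hg | ⟨n, hn, rfl⟩)
    · exact Subgroup.subset_closure (Or.inl (hC.conj_mem g hg h))
    · apply Subgroup.subset_closure
      right
      exact ⟨h * n, N₁.mul_mem hh hn, by group⟩
  have hx₀F : x₀ ∈ Subgroup.closure S :=
    Subgroup.subset_closure (Or.inr ⟨1, N₁.one_mem, by group⟩)
  have hFC : ¬ Subgroup.closure S ≤ C := fun h => hx₀C (h hx₀F)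
  obtain ⟨y, hyF, hyC, hyN⟩ := exists_mem_not_mem_comm_mem C N₁ (Subgroup.closure S) hN₁F hFC
  -- `y` is a better candidate
  have h1 := hmax ⟨y, hFT hyF, hyC, hFexp y hyF⟩
  simp only at h1
  have hle : N₁ ≤ centMod C y := fun n hn => hyN n hn
  have h2 : Nat.card N₁ ≤ Nat.card (centMod C y) := Subgroup.card_le_of_le hle
  have h3 : Nat.card N < Nat.card N₁ := card_lt_of_le_of_ne hlt.le hlt.ne
  omega

end Cfsg.Agent.Lib.Helper24
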