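import Mathlib
import Cfsg.Agent.Lib.Helper24.NormalReplacement

set_option autoImplicit false

open scoped commutatorElement

namespace Cfsg.Agent.Lib.Helper24

/-- The closure of a set of pairwise commuting elements of order dividing `p` is commutative of
exponent dividing `p`. -/
theorem elemAb_closure {G : Type*} [Group G] (p : ℕ) (S : Set G)
    (hcomm : ∀ s ∈ S, ∀ t ∈ S, s * t = t * s) (hS : ∀ s ∈ S, s ^ p = 1) :
    IsMulCommutative (Subgroup.closure S) ∧ ∀ g ∈ Subgroup.closure S, g ^ p = 1 := by
  have hc : IsMulCommutative (Subgroup.closure S) := Subgroup.isMulCommutative_closure hcomm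
  refine ⟨hc, ?_⟩
  intro g hg
  induction hg using Subgroup.closure_induction with
  | mem s hs => exact hS s hs
  | one => simp
  | mul a b ha hb iha ihb =>
    have : Commute a b := setLike_mul_comm ha hb
    rw [this.mul_pow, iha, ihb, one_mul]
  | inv a ha iha => rw [inv_pow, iha, inv_one]

/-- Adjoining to a commutative exponent-`p` subgroup `C` an element `y` of order dividing `p`
centralizing `C` gives a commutative exponent-`p` subgroup. -/
theorem elemAb_adjoin {G : Type*} [Group G] (p : ℕ) (C : Subgroup G) (hC : IsMulCommutative C)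
    (hCexp : ∀ c ∈ C, c ^ p = 1) (y : G) (hy : y ∈ Subgroup.centralizer (C : Set G))
    (hyp : y ^ p = 1) :
    IsMulCommutative (Subgroup.closure ((C : Set G) ∪ {y})) ∧
      ∀ g ∈ Subgroup.closure ((C : Set G) ∪ {y}), g ^ p = 1 := by
  apply elemAb_closure
  · rintro s (hs | hs) t (ht | ht)
    · exact setLike_mul_comm hs ht
    · rw [Set.mem_singleton_iff] at ht; subst ht
      exact (Subgroup.mem_centralizer_iff.mp hy s hs)
    · rw [Set.mem_singleton_iff] at hs; subst hs
      exact (Subgroup.mem_centralizer_iff.mp hy t ht).symm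
    · rw [Set.mem_singleton_iff] at hs ht; subst hs; subst ht; rfl
  · rintro s (hs | hs)
    · exact hCexp s hs
    · rw [Set.mem_singleton_iff] at hs; subst hs; exact hyp

theorem le_adjoin {G : Type*} [Group G] (C : Subgroup G) (y : G) :
    C ≤ Subgroup.closure ((C : Set G) ∪ {y}) := by
  intro c hc
  exact Subgroup.subset_closure (Or.inl hc)

theorem mem_adjoin {G : Type*} [Group G] (C : Subgroup G) (y : G) :
    y ∈ Subgroup.closure ((C : Set G) ∪ {y}) :=
  Subgroup.subset_closure (Or.inr rfl)

theorem card_lt_card_adjoin {G : Type*} [Group G] [Finite G] (C : Subgroup G) (y : G)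
    (hy : y ∉ C) : Nat.card C < Nat.card (Subgroup.closure ((C : Set G) ∪ {y})) := by
  apply card_lt_of_le_of_ne (le_adjoin C y)
  intro h
  apply hy
  rw [h]
  exact mem_adjoin C y

/-- If `C` is normal and `y` is central modulo `C`, then `⟨C, y⟩` is normal. -/
theorem adjoin_normal {G : Type*} [Group G] (C : Subgroup G) [hC : C.Normal] (y : G)
    (hy : ∀ r : G, ⁅y, r⁆ ∈ C) : (Subgroup.closure ((C : Set G) ∪ {y})).Normal := by
  rw [← Subgroup.normalizer_eq_top_iff, eq_top_iff, Subgroup.le_normalizer_closure_iff]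
  rintro r - g (hg | hg)
  · exact Subgroup.subset_closure (Or.inl (hC.conj_mem g hg r))
  · rw [Set.mem_singleton_iff] at hg; subst hg
    have h1 : ⁅r, g⁆ ∈ C := by rw [← commutatorElement_inv]; exact C.inv_mem (hy r)
    have e : r * g * r⁻¹ = ⁅r, g⁆ * g := by rw [commutatorElement_def]; group
    rw [e]
    exact Subgroup.mul_mem _ (le_adjoin C g h1) (mem_adjoin C g)

/-- Unfolding `¬ PRankLE`-style statements: a subgroup of order `> p ^ k` that is commutative of
exponent `p`, contained in `closure`. -/
theorem centralizer_adjoin {G : Type*} [Group G] (C : Subgroup G) (y : G) :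
    Subgroup.centralizer ((Subgroup.closure ((C : Set G) ∪ {y}) : Subgroup G) : Set G) =
      Subgroup.centralizer (C : Set G) ⊓ Subgroup.centralizer ({y} : Set G) := by
  rw [Subgroup.centralizer_closure]
  ext g
  simp only [Subgroup.mem_inf, Subgroup.mem_centralizer_iff, Set.mem_union, Set.mem_singleton_iff]
  constructor
  · intro h
    exact ⟨fun c hc => h c (Or.inl hc), fun h' hh => h h' (Or.inr hh)⟩
  · rintro ⟨h1, h2⟩ c (hc | hc)
    · exact h1 c hc
    · exact h2 c hc

theorem card_subgroupOf_eq_card_inf {G : Type*} [Group G] (H K : Subgroup G) :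
    Nat.card (H.subgroupOf K) = Nat.card (H ⊓ K : Subgroup G) := by
  rw [← Subgroup.inf_subgroupOf_right]
  exact Nat.card_congr (Subgroup.subgroupOfEquivOfLe (inf_le_right)).toEquiv

/-- **Commutator homomorphism bound.** If `Z₀` is central and `⁅w, e⁆ ∈ Z₀` for all `w ∈ W`, then
`#W` divides `#C_W(e) * #Z₀`. -/
theorem card_dvd_card_centralizer_mul {G : Type*} [Group G] [Finite G] (W Z₀ : Subgroup G)
    (hZ : Z₀ ≤ Subgroup.center G) (e : G) (he : ∀ w ∈ W, ⁅w, e⁆ ∈ Z₀) :
    Nat.card W ∣ Nat.card (W ⊓ Subgroup.centralizer ({e} : Set G) : Subgroup G) * Nat.card Z₀ := by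
  -- the homomorphism `w ↦ ⁅w, e⁆`
  let φ : W →* Z₀ :=
    { toFun := fun w => ⟨⁅(w : G), e⁆, he w w.2⟩
      map_one' := by
        apply Subtype.ext
        simp
      map_mul' := by
        intro a b
        apply Subtype.ext
        simp only [Subgroup.coe_mul]
        rw [commutatorElement_mul_left_eq_conj_mul]
        have hb : ⁅(b : G), e⁆ ∈ Subgroup.center G := hZ (he b b.2)
        have h1 : (a : G) * ⁅(b : G), e⁆ * (a : G)⁻¹ = ⁅(b : G), e⁆ := by
          rw [Subgroup.mem_center_iff] at hb
          rw [hb (a : G)]; group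
        rw [h1]
        have ha : ⁅(a : G), e⁆ ∈ Subgroup.center G := hZ (he a a.2)
        rw [Subgroup.mem_center_iff] at ha
        exact ha _ }
  have hker : Nat.card φ.ker = Nat.card (W ⊓ Subgroup.centralizer ({e} : Set G) : Subgroup G) := by
    have hk : φ.ker = (Subgroup.centralizer ({e} : Set G)).subgroupOf W := by
      ext w
      rw [MonoidHom.mem_ker, Subgroup.mem_subgroupOf, Subgroup.mem_centralizer_singleton_iff]
      constructor
      · intro h
        have h' : ⁅(w : G), e⁆ = 1 := congrArg Subtype.val h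
        exact commutatorElement_eq_one_iff_mul_comm.mp h'
      · intro h
        apply Subtype.ext
        exact commutatorElement_eq_one_iff_mul_comm.mpr h
    rw [hk, inf_comm]
    exact card_subgroupOf_eq_card_inf _ _
  have h1 : Nat.card φ.ker * φ.ker.index = Nat.card W := φ.ker.card_mul_index
  rw [Subgroup.index_ker] at h1
  have h2 : Nat.card φ.range ∣ Nat.card Z₀ := Subgroup.card_subgroup_dvd_card φ.range
  rw [← h1, hker]
  exact Nat.mul_dvd_mul_left _ h2

end Cfsg.Agent.Lib.Helper24
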