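import Mathlib
import Cfsg.Agent.Lib.Lead.Class3
import Cfsg.Agent.Lib.Helper24.NilAction
import Cfsg.Agent.Lib.Helper24.Omega
import Cfsg.Agent.Lib.Helper24.ElemAb

/-!
# Sections of exponent `p` in `p`-groups with small `Ω₁` (helper24)

For `p > 3`: if every subgroup of exponent `p` of the `p`-group `R` has order at most `p ^ 2`
(`HP p R`), then the same holds for every quotient of `R` (`HP_quotient`), and every quotient of
exponent `p` has order dividing `p ^ 2` (`index_dvd_sq_of_HP`).
-/

set_option autoImplicit false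

open scoped commutatorElement

namespace Cfsg.Agent.Lib.Helper24

universe u

/-- Class at most three, `p > 3`: if `x ^ p` commutes with `y` then `(x * y) ^ p = x ^ p * y ^ p`. -/
theorem mul_pow_prime_class3 {R : Type*} [Group R] {p : ℕ} (hp : p.Prime) (h3 : 3 < p)
    (hcl : ⁅⁅commutator R, (⊤ : Subgroup R)⁆, (⊤ : Subgroup R)⁆ = ⊥) {x y : R}
    (hx : Commute (x ^ p) y) : (x * y) ^ p = x ^ p * y ^ p := by
  obtain ⟨h1, h2, h3', hd, he, -, -, -⟩ := Cfsg.Agent.Lib.Lead.class3_setup hcl x y
  set c := ⁅y, x⁆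
  set d := ⁅x, c⁆
  set e := ⁅y, c⁆
  have hp2 : p ∣ p.choose 2 := hp.dvd_choose_self (by norm_num) (by omega)
  have hp3 : p ∣ p.choose 3 := hp.dvd_choose_self (by norm_num) h3
  have hpS : p ∣ ∑ k ∈ Finset.range p, k ^ 2 := Cfsg.Agent.Lib.Lead.prime_dvd_sum_sq hp h3
  have hF2 := Cfsg.Agent.Lib.Lead.class3_F2 h1 h2 hd p
  have hcd : d ^ (p.choose 2) * c ^ p = 1 := by
    have e1 : y * x ^ p = (d ^ (p.choose 2) * c ^ p) * (y * x ^ p) := by
      conv_lhs => rw [hF2]
      rw [← hx.eq]
      simp only [mul_assoc]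
    exact (mul_eq_right.mp e1.symm)
  have hcp : c ^ p = (d ^ (p.choose 2))⁻¹ := eq_inv_of_mul_eq_one_right hcd
  have hcpx : Commute (c ^ p) x := by
    rw [hcp]
    exact ((hd x).pow_left _).inv_left
  have hF3 := Cfsg.Agent.Lib.Lead.class3_F3 h2 hd p
  have hdp : d ^ p = 1 := by
    have : c ^ p * x = d ^ p * (c ^ p * x) := by
      rw [← hcpx.eq] at hF3; rw [← mul_assoc]; exact hF3
    exact (mul_eq_right.mp this.symm)
  have hd2 : d ^ (p.choose 2) = 1 := by
    obtain ⟨k, hk⟩ := hp2
    rw [hk, pow_mul, hdp, one_pow]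
  have hc1 : c ^ p = 1 := by rw [hcp, hd2, inv_one]
  have hF1 := Cfsg.Agent.Lib.Lead.class3_F1 h3' he p
  have hep : e ^ p = 1 := by
    rw [hc1, mul_one, mul_one] at hF1
    exact (mul_eq_right.mp hF1.symm)
  rw [Cfsg.Agent.Lib.Lead.mul_pow_class3 h1 h2 h3' hd he p]
  obtain ⟨k2, hk2⟩ := hp2
  obtain ⟨k3, hk3⟩ := hp3
  obtain ⟨kS, hkS⟩ := hpS
  rw [hk2, hk3, hkS, pow_mul, pow_mul, pow_mul, hc1, hdp, hep]
  simp

/-- A group of order dividing `p ^ 2` is commutative. -/
theorem mul_comm_of_card_dvd_sq {Q : Type*} [Group Q] [Finite Q] {p : ℕ} [hp : Fact p.Prime]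
    (h : Nat.card Q ∣ p ^ 2) (a b : Q) : a * b = b * a := by
  obtain ⟨j, hj, hcard⟩ := (Nat.dvd_prime_pow hp.out).mp h
  interval_cases j
  · have : Subsingleton Q := (Nat.card_eq_one_iff_unique.mp (by simpa using hcard)).1
    exact Subsingleton.elim _ _
  · have hc : IsCyclic Q := isCyclic_of_prime_card (p := p) (by simpa using hcard)
    exact (IsCyclic.commGroup (α := Q)).mul_comm a b
  · have := IsPGroup.isMulCommutative_of_card_eq_prime_sq (p := p) (G := Q) hcard
    exact mul_comm' a b

/-- If `N` is normal with commutative quotient then the derived subgroup lies in `N`. -/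
theorem commutator_le_of_quotient_comm {G : Type*} [Group G] (N : Subgroup G) [N.Normal]
    (h : ∀ a b : G ⧸ N, a * b = b * a) : commutator G ≤ N := by
  rw [commutator_def, Subgroup.commutator_le]
  intro a _ b _
  rw [← QuotientGroup.eq_one_iff (N := N)]
  show (QuotientGroup.mk' N) ⁅a, b⁆ = 1
  rw [map_commutatorElement]
  exact commutatorElement_eq_one_iff_mul_comm.mpr (h _ _)

/-- A `p`-group of order dividing `p ^ 3` has class at most two. -/
theorem class_two_of_card_dvd_cube {Q : Type*} [Group Q] [Finite Q] {p : ℕ} [hp : Fact p.Prime]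
    (hQ : IsPGroup p Q) (h : Nat.card Q ∣ p ^ 3) :
    ⁅commutator Q, (⊤ : Subgroup Q)⁆ = ⊥ := by
  rcases subsingleton_or_nontrivial Q with hs | hnt
  · rw [eq_bot_iff]
    intro x _
    rw [Subgroup.mem_bot]
    exact Subsingleton.elim _ _
  · have hZnt : Nontrivial (Subgroup.center Q) := hQ.center_nontrivial
    have hZ1 : Nat.card (Subgroup.center Q) ≠ 1 := by
      intro h1
      have := (Nat.card_eq_one_iff_unique.mp h1).1
      exact not_subsingleton _ this
    have hmul := (Subgroup.center Q).card_mul_index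
    obtain ⟨c, hc, hcard⟩ := (Nat.dvd_prime_pow hp.out).mp h
    obtain ⟨a, ha, hcardZ⟩ := (Nat.dvd_prime_pow hp.out).mp
      ((Subgroup.card_subgroup_dvd_card (Subgroup.center Q)).trans h)
    obtain ⟨b, hb, hidx⟩ := (Nat.dvd_prime_pow hp.out).mp
      ((Subgroup.index_dvd_card (Subgroup.center Q)).trans h)
    have ha0 : a ≠ 0 := by
      intro h0
      rw [h0, pow_zero] at hcardZ
      exact hZ1 hcardZ
    rw [hcardZ, hidx, hcard, ← pow_add] at hmul
    have hab : a + b = c := Nat.pow_right_injective hp.out.two_le hmul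
    have hb2 : b ≤ 2 := by omega
    have hQZ : Nat.card (Q ⧸ Subgroup.center Q) ∣ p ^ 2 := by
      rw [← Subgroup.index_eq_card, hidx]
      exact pow_dvd_pow p hb2
    have hder : commutator Q ≤ Subgroup.center Q :=
      commutator_le_of_quotient_comm _ (mul_comm_of_card_dvd_sq hQZ)
    rw [Subgroup.commutator_eq_bot_iff_le_centralizer, Subgroup.coe_top, Subgroup.centralizer_univ]
    exact hder

/-- **Core lemma.** Let `p > 3`, `G` a `p`-group, `N` a central subgroup of order dividing `p` and
index dividing `p ^ 3` such that `G / N` has exponent `p`. Then the elements of order dividing `p`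
form a subgroup of index dividing `p`. -/
theorem exists_exponent_subgroup_of_index_dvd {G : Type*} [Group G] [Finite G] {p : ℕ}
    [hp : Fact p.Prime] (hp3 : 3 < p) (hG : IsPGroup p G) (N : Subgroup G) [hNn : N.Normal]
    (hNc : N ≤ Subgroup.center G) (hNcard : Nat.card N ∣ p) (hidx : N.index ∣ p ^ 3)
    (hexp : ∀ g : G, g ^ p ∈ N) : ∃ W : Subgroup G, (∀ w ∈ W, w ^ p = 1) ∧ W.index ∣ p := by
  -- class at most three
  have hQ : ⁅commutator (G ⧸ N), (⊤ : Subgroup (G ⧸ N))⁆ = ⊥ :=
    class_two_of_card_dvd_cube (hG.to_quotient N) (by rw [← Subgroup.index_eq_card]; exact hidx)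
  have hle : ⁅commutator G, (⊤ : Subgroup G)⁆ ≤ N := by
    have hmap : (⁅commutator G, (⊤ : Subgroup G)⁆).map (QuotientGroup.mk' N) = ⊥ := by
      rw [Subgroup.map_commutator, commutator_def, Subgroup.map_commutator,
        ← MonoidHom.range_eq_map, MonoidHom.range_eq_top.mpr (QuotientGroup.mk'_surjective N),
        ← commutator_def, hQ]
    have h1 : ⁅commutator G, (⊤ : Subgroup G)⁆ ≤ (QuotientGroup.mk' N).ker := by
      rw [← Subgroup.map_eq_bot_iff]
      exact hmap
    rwa [QuotientGroup.ker_mk'] at h1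
  have hcl : ⁅⁅commutator G, (⊤ : Subgroup G)⁆, (⊤ : Subgroup G)⁆ = ⊥ := by
    rw [Subgroup.commutator_eq_bot_iff_le_centralizer, Subgroup.coe_top, Subgroup.centralizer_univ]
    exact hle.trans hNc
  -- the power map
  let φ : G →* N :=
    { toFun := fun g => ⟨g ^ p, hexp g⟩
      map_one' := by
        apply Subtype.ext
        simp
      map_mul' := by
        intro a b
        apply Subtype.ext
        have hc : Commute (a ^ p) b := (Subgroup.mem_center_iff.mp (hNc (hexp a)) b).symm
        exact mul_pow_prime_class3 hp.out hp3 hcl hc }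
  refine ⟨φ.ker, ?_, ?_⟩
  · intro w hw
    have := MonoidHom.mem_ker.mp hw
    exact congrArg Subtype.val this
  · rw [Subgroup.index_ker]
    exact (Subgroup.card_subgroup_dvd_card φ.range).trans hNcard

/-- Every subgroup of exponent `p` has order at most `p ^ 2`. -/
def HP (p : ℕ) (R : Type*) [Group R] : Prop :=
  ∀ W : Subgroup R, (∀ w ∈ W, w ^ p = 1) → Nat.card W ≤ p ^ 2

theorem HP.subgroup {p : ℕ} {R : Type*} [Group R] (h : HP p R) (H : Subgroup R) : HP p H := by
  intro W hW
  have h1 : ∀ w ∈ W.map H.subtype, w ^ p = 1 := by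
    rintro w ⟨w', hw', rfl⟩
    have := hW w' hw'
    rw [← map_pow, this, map_one]
  have h2 := h _ h1
  rwa [Subgroup.card_map_of_injective H.subtype_injective] at h2

/-- Restriction of the quotient map to the preimage of a subgroup of the quotient: its kernel is
`N` and its index is the order of the subgroup. -/
theorem index_subgroupOf_comap {R : Type*} [Group R] (N : Subgroup R) [N.Normal]
    (V : Subgroup (R ⧸ N)) :
    (N.subgroupOf (V.comap (QuotientGroup.mk' N))).index = Nat.card V := by
  set H := V.comap (QuotientGroup.mk' N) with hH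
  let ψ : H →* R ⧸ N := (QuotientGroup.mk' N).comp H.subtype
  have hker : ψ.ker = N.subgroupOf H := by
    ext x
    rw [MonoidHom.mem_ker, Subgroup.mem_subgroupOf]
    show (QuotientGroup.mk' N) (x : R) = 1 ↔ _
    rw [QuotientGroup.mk'_apply, QuotientGroup.eq_one_iff]
  have hrange : ψ.range = V := by
    rw [MonoidHom.range_comp, Subgroup.range_subtype, hH,
      Subgroup.map_comap_eq_self_of_surjective (QuotientGroup.mk'_surjective N)]
  rw [← hker, Subgroup.index_ker, hrange]

/-- `HP` passes to the quotient by a central subgroup of order `p`. -/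
theorem HP_quotient_central {R : Type*} [Group R] [Finite R] {p : ℕ} [hp : Fact p.Prime]
    (hp3 : 3 < p) (hR : IsPGroup p R) (h : HP p R) (N : Subgroup R) [hNn : N.Normal]
    (hNc : N ≤ Subgroup.center R) (hNcard : Nat.card N = p) : HP p (R ⧸ N) := by
  intro W hW
  by_contra hcon
  push Not at hcon
  -- a subgroup of `W` of order `p ^ 3`
  have hWp : IsPGroup p W := (hR.to_quotient N).to_subgroup W
  obtain ⟨k, hk⟩ := hWp.exists_card_eq
  have hk3 : 3 ≤ k := by
    by_contra hlt
    push Not at hlt
    have : p ^ k ≤ p ^ 2 := Nat.pow_le_pow_right hp.out.pos (by omega)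
    omega
  obtain ⟨V', hV'⟩ := Sylow.exists_subgroup_card_pow_prime (G := W) p (n := 3)
    (by rw [hk]; exact pow_dvd_pow p hk3)
  set V : Subgroup (R ⧸ N) := V'.map W.subtype with hV
  have hVcard : Nat.card V = p ^ 3 := by
    rw [hV, Subgroup.card_map_of_injective W.subtype_injective, hV']
  have hVexp : ∀ v ∈ V, v ^ p = 1 := by
    rintro v ⟨v', -, rfl⟩
    exact hW _ v'.2
  set H := V.comap (QuotientGroup.mk' N) with hH
  have hNH : N ≤ H := by
    intro n hn
    rw [hH, Subgroup.mem_comap, QuotientGroup.mk'_apply, (QuotientGroup.eq_one_iff n).mpr hn]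
    exact V.one_mem
  have hidx : (N.subgroupOf H).index = p ^ 3 := by
    rw [hH, index_subgroupOf_comap, hVcard]
  have hNHcard : Nat.card (N.subgroupOf H) = p := by
    rw [card_subgroupOf_eq_card_inf, inf_of_le_left hNH, hNcard]
  have hcen : N.subgroupOf H ≤ Subgroup.center H := by
    intro x hx
    rw [Subgroup.mem_center_iff]
    intro g
    apply Subtype.ext
    have := Subgroup.mem_center_iff.mp (hNc (Subgroup.mem_subgroupOf.mp hx)) (g : R)
    simpa using this
  have hexp : ∀ g : H, g ^ p ∈ N.subgroupOf H := by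
    intro g
    rw [Subgroup.mem_subgroupOf]
    have hg : (QuotientGroup.mk' N) (g : R) ∈ V := g.2
    have := hVexp _ hg
    rw [← map_pow, QuotientGroup.mk'_apply, QuotientGroup.eq_one_iff] at this
    simpa using this
  obtain ⟨W', hW'exp, hW'idx⟩ := exists_exponent_subgroup_of_index_dvd hp3 (hR.to_subgroup H)
    (N.subgroupOf H) hcen (by rw [hNHcard]) (by rw [hidx]) hexp
  have hHcard : Nat.card H = p ^ 4 := by
    rw [← (N.subgroupOf H).card_mul_index, hNHcard, hidx]
    ring
  have hW'card : p ^ 3 ≤ Nat.card W' := by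
    have hmul := W'.card_mul_index
    rw [hHcard] at hmul
    have hle : W'.index ≤ p := Nat.le_of_dvd hp.out.pos hW'idx
    by_contra hlt
    push Not at hlt
    have : Nat.card W' * W'.index < p ^ 3 * p := by
      calc Nat.card W' * W'.index ≤ Nat.card W' * p := Nat.mul_le_mul_left _ hle
        _ < p ^ 3 * p := Nat.mul_lt_mul_of_pos_right hlt hp.out.pos
    rw [hmul] at this
    have : p ^ 4 < p ^ 4 := by
      calc p ^ 4 < p ^ 3 * p := this
        _ = p ^ 4 := by ring
    omega
  have h2 := (h.subgroup H) W' hW'exp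
  have : p ^ 2 < p ^ 3 := Nat.pow_lt_pow_right hp.out.one_lt (by norm_num)
  omega

/-- **Quotients of exponent `p`.** For `p > 3`, if every subgroup of exponent `p` of the `p`-group
`R` has order at most `p ^ 2`, then every normal subgroup with quotient of exponent `p` has index
dividing `p ^ 2`. -/
theorem index_dvd_sq_of_HP_aux {p : ℕ} [hp : Fact p.Prime] (hp3 : 3 < p) :
    ∀ (n : ℕ) (R : Type u) [Group R] [Finite R], Nat.card R ≤ n → IsPGroup p R → HP p R →
      ∀ (T : Subgroup R) [T.Normal], (∀ x : R, x ^ p ∈ T) → T.index ∣ p ^ 2 := by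
  intro n
  induction n with
  | zero =>
    intro R _ _ hc
    have := Nat.card_pos (α := R)
    omega
  | succ n ih =>
    intro R _ _ hc hR h T hTn hexp
    have hnil : Group.IsNilpotent R := hR.isNilpotent
    by_cases hT : T = ⊥
    · -- `R` has exponent `p`
      have h1 : ∀ w ∈ (⊤ : Subgroup R), w ^ p = 1 := by
        intro w _
        have := hexp w
        rwa [hT, Subgroup.mem_bot] at this
      have h2 := h ⊤ h1
      rw [Subgroup.card_top] at h2
      rw [hT, Subgroup.index_bot]
      obtain ⟨k, hk⟩ := hR.exists_card_eq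
      rw [hk] at h2 ⊢
      have : k ≤ 2 := (Nat.pow_le_pow_iff_right hp.out.one_lt).mp h2
      exact pow_dvd_pow p this
    · -- a central subgroup of order `p` inside `T`
      have hTnorm : (⊤ : Subgroup R) ≤ Subgroup.normalizer (T : Set R) := by
        rw [Subgroup.normalizer_eq_top]
      have hTbot : ¬ T ≤ ⊥ := fun hle => hT (le_bot_iff.mp hle)
      obtain ⟨y, hyT, hy1, hyc⟩ := exists_mem_not_mem_comm_mem ⊥ ⊤ T hTnorm hTbot
      have hycen : y ∈ Subgroup.center R := by
        rw [Subgroup.mem_center_iff]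
        intro g
        have := hyc g trivial
        rw [Subgroup.mem_bot, commutatorElement_eq_one_iff_mul_comm] at this
        exact this.symm
      have hy1' : y ≠ 1 := fun h1 => hy1 (by rw [h1]; exact Subgroup.one_mem _)
      -- an element of order `p` in `⟨y⟩`
      obtain ⟨m, hm⟩ := (hR.to_subgroup (Subgroup.zpowers y)).exists_card_eq
      have hm0 : m ≠ 0 := by
        intro h0
        rw [h0, pow_zero, Subgroup.card_eq_one, Subgroup.zpowers_eq_bot] at hm
        exact hy1' hm
      obtain ⟨z', hz'⟩ := exists_prime_orderOf_dvd_card' (G := Subgroup.zpowers y) p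
        (by rw [hm]; exact dvd_pow_self p hm0)
      set z : R := (z' : R) with hz
      have hzo : orderOf z = p := by rw [hz, Subgroup.orderOf_coe, hz']
      have hzy : z ∈ Subgroup.zpowers y := z'.2
      have hzT : z ∈ T := (Subgroup.zpowers_le.mpr hyT) hzy
      have hzc : z ∈ Subgroup.center R := (Subgroup.zpowers_le.mpr hycen) hzy
      set N := Subgroup.zpowers z with hN
      have hNc : N ≤ Subgroup.center R := Subgroup.zpowers_le.mpr hzc
      have hNT : N ≤ T := Subgroup.zpowers_le.mpr hzT
      have hNn : N.Normal := by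
        constructor
        intro n hn g
        have := Subgroup.mem_center_iff.mp (hNc hn) g
        have e : g * n * g⁻¹ = n := by rw [this]; group
        rw [e]; exact hn
      have hNcard : Nat.card N = p := by rw [hN, Nat.card_zpowers, hzo]
      have hQ : HP p (R ⧸ N) := HP_quotient_central hp3 hR h N hNc hNcard
      have hQcard : Nat.card (R ⧸ N) ≤ n := by
        have := Subgroup.card_eq_card_quotient_mul_card_subgroup N
        rw [hNcard] at this
        have hp2 := hp.out.two_le
        have hpos : 0 < Nat.card (R ⧸ N) := Nat.card_pos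
        nlinarith
      have hTmapn : (T.map (QuotientGroup.mk' N)).Normal :=
        Subgroup.Normal.map hTn _ (QuotientGroup.mk'_surjective N)
      have hexp' : ∀ x : R ⧸ N, x ^ p ∈ T.map (QuotientGroup.mk' N) := by
        intro x
        obtain ⟨x', rfl⟩ := QuotientGroup.mk'_surjective N x
        rw [← map_pow]
        exact Subgroup.mem_map_of_mem _ (hexp x')
      have := ih (R ⧸ N) hQcard (hR.to_quotient N) hQ (T.map (QuotientGroup.mk' N)) hexp'
      rwa [Subgroup.index_map_eq T (QuotientGroup.mk'_surjective N)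
        (by rw [QuotientGroup.ker_mk']; exact hNT)] at this

theorem index_dvd_sq_of_HP {R : Type u} [Group R] [Finite R] {p : ℕ} [hp : Fact p.Prime]
    (hp3 : 3 < p) (hR : IsPGroup p R) (h : HP p R) (T : Subgroup R) [T.Normal]
    (hexp : ∀ x : R, x ^ p ∈ T) : T.index ∣ p ^ 2 :=
  index_dvd_sq_of_HP_aux hp3 (Nat.card R) R le_rfl hR h T hexp

/-- `HP` passes to arbitrary quotients (for `p > 3`). -/
theorem HP_quotient {R : Type u} [Group R] [Finite R] {p : ℕ} [hp : Fact p.Prime]
    (hp3 : 3 < p) (hR : IsPGroup p R) (h : HP p R) (N : Subgroup R) [hNn : N.Normal] :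
    HP p (R ⧸ N) := by
  intro W hW
  set H := W.comap (QuotientGroup.mk' N) with hH
  have hexp : ∀ g : H, g ^ p ∈ N.subgroupOf H := by
    intro g
    rw [Subgroup.mem_subgroupOf]
    have hg : (QuotientGroup.mk' N) (g : R) ∈ W := g.2
    have := hW _ hg
    rw [← map_pow, QuotientGroup.mk'_apply, QuotientGroup.eq_one_iff] at this
    simpa using this
  have h1 := index_dvd_sq_of_HP hp3 (hR.to_subgroup H) (h.subgroup H) (N.subgroupOf H) hexp
  rw [hH, index_subgroupOf_comap] at h1
  exact Nat.le_of_dvd (pow_pos hp.out.pos 2) h1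

end Cfsg.Agent.Lib.Helper24
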