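import Mathlib
import Cfsg.Agent.Lib.Helper24.ElemAb

set_option autoImplicit false

open scoped commutatorElement

namespace Cfsg.Agent.Lib.Helper24

/-- A divisor of `p ^ 2` that is not `1` and is `< p ^ 2` equals `p`. Packaged for cardinalities. -/
theorem eq_prime_of_dvd_sq {p m : ℕ} (hp : p.Prime) (hm : m ∣ p ^ 2) (h1 : m ≠ 1) (h2 : m ≠ p ^ 2) :
    m = p := by
  obtain ⟨i, hi, rfl⟩ := (Nat.dvd_prime_pow hp).mp hm
  interval_cases i
  · simp at h1
  · simp
  · simp at h2

/-- Central decomposition of a non-central normal subgroup of order `p ^ 2` of a `p`-group. -/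
theorem exists_central_decomp {R : Type*} [Group R] [Finite R] (p : ℕ) [hp : Fact p.Prime]
    (hR : IsPGroup p R) (E : Subgroup R) [hEn : E.Normal] (hE2 : Nat.card E = p ^ 2)
    (hEcen : ¬ E ≤ Subgroup.center R) :
    ∃ z e : R, z ∈ E ∧ z ∈ Subgroup.center R ∧ Nat.card (Subgroup.zpowers z) = p ∧ e ∈ E ∧
      e ∉ Subgroup.zpowers z ∧ (∀ r : R, ⁅e, r⁆ ∈ Subgroup.zpowers z) ∧
      E = Subgroup.closure (((Subgroup.zpowers z : Subgroup R) : Set R) ∪ {e}) := by
  have : Group.IsNilpotent R := hR.isNilpotent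
  have hEnorm : (⊤ : Subgroup R) ≤ Subgroup.normalizer (E : Set R) := by
    rw [Subgroup.normalizer_eq_top]
  have hEbot : ¬ E ≤ ⊥ := by
    intro h
    have : E = ⊥ := le_bot_iff.mp h
    rw [this, Subgroup.card_bot] at hE2
    have := hp.out.one_lt
    have : 1 < p ^ 2 := Nat.one_lt_pow (by norm_num) this
    omega
  obtain ⟨z, hzE, hz1, hzc⟩ := exists_mem_not_mem_comm_mem ⊥ ⊤ E hEnorm hEbot
  have hzcen : z ∈ Subgroup.center R := by
    rw [Subgroup.mem_center_iff]
    intro g
    have := hzc g trivial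
    rw [Subgroup.mem_bot, commutatorElement_eq_one_iff_mul_comm] at this
    exact this.symm
  have hZE : Subgroup.zpowers z ≤ E := Subgroup.zpowers_le.mpr hzE
  have hZcen : Subgroup.zpowers z ≤ Subgroup.center R := Subgroup.zpowers_le.mpr hzcen
  have hEZ : ¬ E ≤ Subgroup.zpowers z := fun h => hEcen (le_trans h hZcen)
  obtain ⟨e, heE, heZ, hec⟩ := exists_mem_not_mem_comm_mem (Subgroup.zpowers z) ⊤ E hEnorm hEZ
  have hE'le : Subgroup.closure (((Subgroup.zpowers z : Subgroup R) : Set R) ∪ {e}) ≤ E := by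
    rw [Subgroup.closure_le]
    rintro g (hg | hg)
    · exact hZE hg
    · rw [Set.mem_singleton_iff] at hg; subst hg; exact heE
  have hlt := card_lt_card_adjoin (Subgroup.zpowers z) e heZ
  have hd1 : Nat.card (Subgroup.closure (((Subgroup.zpowers z : Subgroup R) : Set R) ∪ {e})) ∣ p ^ 2 := by
    rw [← hE2]; exact Subgroup.card_dvd_of_le hE'le
  have hd2 : Nat.card (Subgroup.zpowers z) ∣ p ^ 2 := by
    rw [← hE2]; exact Subgroup.card_dvd_of_le hZE
  have hZ1 : Nat.card (Subgroup.zpowers z) ≠ 1 := by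
    intro h
    rw [Subgroup.card_eq_one, Subgroup.zpowers_eq_bot] at h
    exact hz1 (by rw [h]; exact Subgroup.mem_bot.mpr rfl)
  have hle : Nat.card (Subgroup.closure (((Subgroup.zpowers z : Subgroup R) : Set R) ∪ {e})) ≤ p ^ 2 :=
    Nat.le_of_dvd (pow_pos hp.out.pos 2) hd1
  have hZp : Nat.card (Subgroup.zpowers z) = p :=
    eq_prime_of_dvd_sq hp.out hd2 hZ1 (by omega)
  have hE'card : Nat.card (Subgroup.closure (((Subgroup.zpowers z : Subgroup R) : Set R) ∪ {e})) = p ^ 2 := by
    by_contra hne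
    have h1 : Nat.card (Subgroup.closure (((Subgroup.zpowers z : Subgroup R) : Set R) ∪ {e})) ≠ 1 := by
      have := hp.out.one_lt
      omega
    have := eq_prime_of_dvd_sq hp.out hd1 h1 hne
    omega
  refine ⟨z, e, hzE, hzcen, hZp, heE, heZ, fun r => hec r trivial, ?_⟩
  exact (Subgroup.eq_of_le_of_card_ge hE'le (by rw [hE'card, hE2])).symm

/-- **Lemma E.** If `E` is a normal subgroup of order `p ^ 2` of the finite `p`-group `R` and `B₀` is a
commutative subgroup of exponent `p` and order `> p ^ 2`, then some element of `B₀` centralizes `E`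
and lies outside `E`. -/
theorem exists_mem_centralizer_not_mem {R : Type*} [Group R] [Finite R] (p : ℕ) [hp : Fact p.Prime]
    (hR : IsPGroup p R) (E : Subgroup R) [hEn : E.Normal] (hE2 : Nat.card E = p ^ 2)
    (B₀ : Subgroup R) (hB₀c : IsMulCommutative B₀) (hB₀card : p ^ 2 < Nat.card B₀) :
    ∃ x ∈ B₀, x ∈ Subgroup.centralizer (E : Set R) ∧ x ∉ E := by
  by_cases hEcen : E ≤ Subgroup.center R
  · -- `E` central
    have hBE : ¬ B₀ ≤ E := by
      intro h
      have := Subgroup.card_le_of_le h
      omega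
    obtain ⟨x, hxB, hxE⟩ := SetLike.not_le_iff_exists.mp hBE
    refine ⟨x, hxB, ?_, hxE⟩
    rw [Subgroup.mem_centralizer_iff]
    intro g hg
    have := hEcen hg
    rw [Subgroup.mem_center_iff] at this
    exact (this x).symm
  · obtain ⟨z, e, hzE, hzcen, hZp, heE, heZ, hec, hEeq⟩ := exists_central_decomp p hR E hE2 hEcen
    have hZcen : Subgroup.zpowers z ≤ Subgroup.center R := Subgroup.zpowers_le.mpr hzcen
    -- elements of `B₀ ⊓ C(e)` centralize `E`
    have hKT : B₀ ⊓ Subgroup.centralizer ({e} : Set R) ≤ Subgroup.centralizer (E : Set R) := by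
      intro g hg
      rw [hEeq, centralizer_adjoin]
      refine Subgroup.mem_inf.mpr ⟨?_, (Subgroup.mem_inf.mp hg).2⟩
      rw [Subgroup.mem_centralizer_iff]
      intro c hc
      have := hZcen hc
      rw [Subgroup.mem_center_iff] at this
      exact (this g).symm
    by_cases hKE : B₀ ⊓ Subgroup.centralizer ({e} : Set R) ≤ E
    · exfalso
      have hdvd := card_dvd_card_centralizer_mul B₀ (Subgroup.zpowers z) hZcen e (fun w _ => by
        have h1 : ⁅e, w⁆ ∈ Subgroup.zpowers z := hec w
        rw [← commutatorElement_inv]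
        exact Subgroup.inv_mem _ h1)
      rw [hZp] at hdvd
      have hKd : Nat.card (B₀ ⊓ Subgroup.centralizer ({e} : Set R) : Subgroup R) ∣ p ^ 2 := by
        rw [← hE2]; exact Subgroup.card_dvd_of_le hKE
      have hKpos : 0 < Nat.card (B₀ ⊓ Subgroup.centralizer ({e} : Set R) : Subgroup R) :=
        Nat.card_pos
      have hle := Nat.le_of_dvd (Nat.mul_pos hKpos hp.out.pos) hdvd
      -- so `#K * p > p ^ 2`, hence `#K > p`, hence `#K = p ^ 2`
      have hKgt : p < Nat.card (B₀ ⊓ Subgroup.centralizer ({e} : Set R) : Subgroup R) := by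
        by_contra hcon
        rw [not_lt] at hcon
        have : Nat.card (B₀ ⊓ Subgroup.centralizer ({e} : Set R) : Subgroup R) * p ≤ p * p :=
          Nat.mul_le_mul_right p hcon
        have : p * p = p ^ 2 := by ring
        omega
      have hK2 : Nat.card (B₀ ⊓ Subgroup.centralizer ({e} : Set R) : Subgroup R) = p ^ 2 := by
        by_contra hne
        have h1 : Nat.card (B₀ ⊓ Subgroup.centralizer ({e} : Set R) : Subgroup R) ≠ 1 := by
          have := hp.out.one_lt
          omega
        have := eq_prime_of_dvd_sq hp.out hKd h1 hne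
        omega
      have hKeq : B₀ ⊓ Subgroup.centralizer ({e} : Set R) = E :=
        Subgroup.eq_of_le_of_card_ge hKE (by rw [hK2, hE2])
      have hEB : E ≤ B₀ := by rw [← hKeq]; exact inf_le_left
      -- then `B₀ ≤ C(e)`
      have hBe : B₀ ≤ Subgroup.centralizer ({e} : Set R) := by
        intro b hb
        rw [Subgroup.mem_centralizer_singleton_iff]
        exact setLike_mul_comm hb (hEB heE)
      have : B₀ ⊓ Subgroup.centralizer ({e} : Set R) = B₀ := inf_eq_left.mpr hBe
      rw [this] at hK2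
      omega
    · obtain ⟨x, hxK, hxE⟩ := SetLike.not_le_iff_exists.mp hKE
      exact ⟨x, (Subgroup.mem_inf.mp hxK).1, hKT hxK, hxE⟩

/-- **Lemma G.** In a finite nilpotent group every normal abelian subgroup lies in a
self-centralizing normal subgroup. -/
theorem exists_normal_self_centralizing {R : Type*} [Group R] [Finite R] [Group.IsNilpotent R]
    (B : Subgroup R) [hBn : B.Normal] (hB : IsMulCommutative B) :
    ∃ A : Subgroup R, B ≤ A ∧ A.Normal ∧ Subgroup.centralizer (A : Set R) = A := by
  let X : Type _ := {A : Subgroup R // B ≤ A ∧ A.Normal ∧ IsMulCommutative A}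
  have : Nonempty X := ⟨⟨B, le_rfl, hBn, hB⟩⟩
  obtain ⟨A, hmax⟩ := Finite.exists_max (fun A : X => Nat.card A.1)
  obtain ⟨A, hBA, hAn, hAc⟩ := A
  simp only at hmax
  refine ⟨A, hBA, hAn, ?_⟩
  have hAle : A ≤ Subgroup.centralizer (A : Set R) :=
    Subgroup.le_centralizer_iff_isMulCommutative.mpr hAc
  apply le_antisymm _ hAle
  by_contra hcon
  have hTn : (Subgroup.centralizer (A : Set R)).Normal := inferInstance
  have hnorm : (⊤ : Subgroup R) ≤
      Subgroup.normalizer ((Subgroup.centralizer (A : Set R) : Subgroup R) : Set R) := by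
    rw [Subgroup.normalizer_eq_top]
  obtain ⟨y, hyT, hyA, hyc⟩ := exists_mem_not_mem_comm_mem A ⊤ _ hnorm hcon
  have hyc' : ∀ r : R, ⁅y, r⁆ ∈ A := fun r => hyc r trivial
  have hn : (Subgroup.closure ((A : Set R) ∪ {y})).Normal := adjoin_normal A y hyc'
  have hc : IsMulCommutative (Subgroup.closure ((A : Set R) ∪ {y})) := by
    apply Subgroup.isMulCommutative_closure
    rintro s (hs | hs) t (ht | ht)
    · exact setLike_mul_comm hs ht
    · rw [Set.mem_singleton_iff] at ht; subst ht
      exact (Subgroup.mem_centralizer_iff.mp hyT s hs)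
    · rw [Set.mem_singleton_iff] at hs; subst hs
      exact (Subgroup.mem_centralizer_iff.mp hyT t ht).symm
    · rw [Set.mem_singleton_iff] at hs ht; subst hs; subst ht; rfl
  have h1 := hmax ⟨_, le_trans hBA (le_adjoin A y), hn, hc⟩
  simp only at h1
  have h2 := card_lt_card_adjoin A y hyA
  omega

end Cfsg.Agent.Lib.Helper24
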