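import Mathlib
import Cfsg.Prelude.Def_OddOrderLocal
import Cfsg.Agent.S0012
import Cfsg.Agent.S0123
import Cfsg.Agent.S0128
import Cfsg.Agent.Lib.Helper24.SectionRank
import Cfsg.Agent.Lib.Helper24.ClassTwoExp
import Cfsg.Agent.Lib.Helper49.RankOneCyclic

/-!
# `p`-groups all of whose exponent-`p` subgroups have order at most `p ^ 2` are metacyclic (`p > 3`)

Main result: `metacyclic_of_HP`.
-/

set_option autoImplicit false

open scoped commutatorElement

namespace Cfsg.Agent.Lib.Helper24

universe u

/-- A nontrivial normal subgroup of a finite `p`-group contains a central element of order `p`. -/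
theorem exists_central_orderOf_eq_prime {R : Type*} [Group R] [Finite R] {p : ℕ}
    [hp : Fact p.Prime] (hR : IsPGroup p R) (T : Subgroup R) [hTn : T.Normal] (hT : T ≠ ⊥) :
    ∃ z ∈ T, z ∈ Subgroup.center R ∧ orderOf z = p := by
  have hnil : Group.IsNilpotent R := hR.isNilpotent
  have hTnorm : (⊤ : Subgroup R) ≤ Subgroup.normalizer (T : Set R) := by
    rw [Subgroup.normalizer_eq_top]
  have hTbot : ¬ T ≤ ⊥ := fun hle => hT (le_bot_iff.mp hle)
  obtain ⟨y, hyT, hy1, hyc⟩ := exists_mem_not_mem_comm_mem ⊥ ⊤ T hTnorm hTbot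
  have hycen : y ∈ Subgroup.center R := by
    rw [Subgroup.mem_center_iff]
    intro g
    have := hyc g trivial
    rw [Subgroup.mem_bot, commutatorElement_eq_one_iff_mul_comm] at this
    exact this.symm
  have hy1' : y ≠ 1 := fun h1 => hy1 (by rw [h1]; exact Subgroup.one_mem _)
  obtain ⟨m, hm⟩ := (hR.to_subgroup (Subgroup.zpowers y)).exists_card_eq
  have hm0 : m ≠ 0 := by
    intro h0
    rw [h0, pow_zero, Subgroup.card_eq_one, Subgroup.zpowers_eq_bot] at hm
    exact hy1' hm
  obtain ⟨z', hz'⟩ := exists_prime_orderOf_dvd_card' (G := Subgroup.zpowers y) p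
    (by rw [hm]; exact dvd_pow_self p hm0)
  refine ⟨(z' : R), (Subgroup.zpowers_le.mpr hyT) z'.2, (Subgroup.zpowers_le.mpr hycen) z'.2, ?_⟩
  rw [Subgroup.orderOf_coe, hz']

/-- A subgroup of the centre is normal. -/
theorem normal_of_le_center' {R : Type*} [Group R] (N : Subgroup R)
    (hNc : N ≤ Subgroup.center R) : N.Normal := by
  constructor
  intro n hn g
  have := Subgroup.mem_center_iff.mp (hNc hn) g
  have e : g * n * g⁻¹ = n := by rw [this]; group
  rw [e]; exact hn

/-- A subgroup containing the derived subgroup is normal. -/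
theorem normal_of_commutator_le_meta {R : Type*} [Group R] (C : Subgroup R)
    (h : commutator R ≤ C) : C.Normal := by
  constructor
  intro c hc g
  have h1 : ⁅g, c⁆ ∈ C := by
    apply h
    rw [commutator_def]
    exact Subgroup.commutator_mem_commutator (Subgroup.mem_top g) (Subgroup.mem_top c)
  have e : g * c * g⁻¹ = ⁅g, c⁆ * c := by rw [commutatorElement_def]; group
  rw [e]
  exact C.mul_mem h1 hc

/-- **Step 1.** If the derived subgroup lies in a central subgroup of order `p` (`p` odd) and every
subgroup of exponent `p` has order at most `p ^ 2`, the group is metacyclic. -/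
theorem metacyclic_of_commutator_le_central {R : Type u} [Group R] [Finite R] {p : ℕ}
    [hp : Fact p.Prime] (hp2 : p ≠ 2) (hR : IsPGroup p R) (h : HP p R) (N₀ : Subgroup R)
    (hN₀c : N₀ ≤ Subgroup.center R) (hN₀card : Nat.card N₀ = p) (hder : commutator R ≤ N₀) :
    Cfsg.IsMetacyclic R := by
  have hN₀exp : ∀ n ∈ N₀, n ^ p = 1 := by
    intro n hn
    have h1 : (⟨n, hn⟩ : N₀) ^ Nat.card N₀ = 1 := pow_card_eq_one'
    rw [hN₀card] at h1
    exact congrArg Subtype.val h1
  have hcl2 : ⁅commutator R, (⊤ : Subgroup R)⁆ = ⊥ := by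
    rw [Subgroup.commutator_eq_bot_iff_le_centralizer, Subgroup.coe_top, Subgroup.centralizer_univ]
    exact hder.trans hN₀c
  have hderΩ : commutator R ≤ Subgroup.closure {x : R | x ^ p = 1} := by
    intro x hx
    exact Subgroup.subset_closure (hN₀exp x (hder hx))
  have hmul : ∀ x y : R, (x * y) ^ p = x ^ p * y ^ p :=
    Cfsg.Agent.S0123.result hR (Or.inl ⟨hp2, hcl2⟩) hderΩ
  let φ : R →* R :=
    { toFun := fun x => x ^ p
      map_one' := one_pow p
      map_mul' := hmul }
  have hWexp : ∀ w ∈ φ.ker, w ^ p = 1 := fun w hw => MonoidHom.mem_ker.mp hw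
  have hWcard : Nat.card φ.ker ≤ p ^ 2 := h φ.ker hWexp
  have hN₀W : N₀ ≤ φ.ker := fun n hn => MonoidHom.mem_ker.mpr (hN₀exp n hn)
  -- a maximal cyclic subgroup containing `N₀`
  have hN₀cyc : IsCyclic N₀ := isCyclic_of_prime_card (p := p) hN₀card
  obtain ⟨C, hN₀C, hCmax⟩ := Set.Finite.exists_le_maximal
    (s := {C : Subgroup R | IsCyclic C ∧ N₀ ≤ C}) (Set.toFinite _) ⟨hN₀cyc, le_rfl⟩
  have hCcyc : IsCyclic C := hCmax.prop.1
  have hCn : C.Normal := normal_of_commutator_le_meta C (hder.trans hN₀C)
  refine ⟨C, hCn, hCcyc, ?_⟩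
  -- the quotient is commutative
  have hQcomm : ∀ a b : R ⧸ C, a * b = b * a := by
    intro a b
    obtain ⟨a', rfl⟩ := QuotientGroup.mk'_surjective C a
    obtain ⟨b', rfl⟩ := QuotientGroup.mk'_surjective C b
    have h1 : ⁅a', b'⁆ ∈ C := by
      apply (hder.trans hN₀C)
      rw [commutator_def]
      exact Subgroup.commutator_mem_commutator (Subgroup.mem_top _) (Subgroup.mem_top _)
    have h2 : (QuotientGroup.mk' C) ⁅a', b'⁆ = 1 := by
      rw [QuotientGroup.mk'_apply]
      exact (QuotientGroup.eq_one_iff _).mpr h1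
    rw [map_commutatorElement] at h2
    exact commutatorElement_eq_one_iff_mul_comm.mp h2
  -- generator of `C`
  obtain ⟨g', hg'⟩ := hCcyc.exists_generator
  set g : R := (g' : R) with hg
  have hCg : ∀ c ∈ C, c ∈ Subgroup.zpowers g := by
    intro c hc
    obtain ⟨i, hi⟩ := Subgroup.mem_zpowers_iff.mp (hg' ⟨c, hc⟩)
    refine Subgroup.mem_zpowers_iff.mpr ⟨i, ?_⟩
    have := congrArg Subtype.val hi
    simpa using this
  have hgC : g ∈ C := g'.2
  have hgC' : Subgroup.zpowers g ≤ C := Subgroup.zpowers_le.mpr hgC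
  -- order of `g`
  obtain ⟨k, hk⟩ := (hR g)
  have hgord : ∃ k, orderOf g = p ^ k := by
    obtain ⟨k', -, hk'⟩ := (Nat.dvd_prime_pow hp.out).mp (orderOf_dvd_of_pow_eq_one hk)
    exact ⟨k', hk'⟩
  obtain ⟨kg, hkg⟩ := hgord
  have hg1 : 1 < orderOf g := by
    by_contra hle
    push Not at hle
    have hpos : 0 < orderOf g := orderOf_pos g
    have h1 : orderOf g = 1 := by omega
    have hg1 : g = 1 := orderOf_eq_one_iff.mp h1
    -- then `C` is trivial, but it contains `N₀`
    have hCbot : C = ⊥ := by
      rw [eq_bot_iff]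
      intro c hc
      have := hCg c hc
      rw [hg1, Subgroup.zpowers_one_eq_bot] at this
      exact this
    have : N₀ = ⊥ := le_bot_iff.mp (hCbot ▸ hN₀C)
    rw [this, Subgroup.card_bot] at hN₀card
    exact hp.out.one_lt.ne hN₀card
  -- every element of order `p` of the quotient comes from the kernel of the power map
  have hkey : ∀ y : R, y ^ p ∈ C → ∃ w ∈ φ.ker, w⁻¹ * y ∈ C := by
    intro y hy
    have hyg : y ^ p ∈ Subgroup.zpowers g := hCg _ hy
    rw [← mem_powers_iff_mem_zpowers] at hyg
    obtain ⟨j, hj⟩ := hyg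
    have hj' : g ^ j = y ^ p := hj
    by_cases hpj : p ∣ j
    · obtain ⟨j', rfl⟩ := hpj
      refine ⟨y * (g ^ j')⁻¹, ?_, ?_⟩
      · rw [MonoidHom.mem_ker]
        show (y * (g ^ j')⁻¹) ^ p = 1
        rw [hmul, inv_pow, ← pow_mul, mul_comm j' p, hj', mul_inv_cancel]
      · have e : (y * (g ^ j')⁻¹)⁻¹ * y = g ^ j' := by group
        rw [e]
        exact C.pow_mem hgC j'
    · -- `g` is a power of `y`
      have hcop : Nat.Coprime j (orderOf g) := by
        rw [hkg]
        apply Nat.Coprime.pow_right
        exact ((Nat.Prime.coprime_iff_not_dvd hp.out).mpr hpj).symm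
      obtain ⟨m, hm⟩ := Nat.exists_mul_mod_eq_one_of_coprime hcop hg1
      have hgy : g ∈ Subgroup.zpowers y := by
        have e1 : g = (g ^ j) ^ m := by
          rw [← pow_mul, ← pow_mod_orderOf, hm.2, pow_one]
        rw [e1, hj', ← pow_mul]
        exact Subgroup.npow_mem_zpowers y _
      have hle : C ≤ Subgroup.zpowers y := fun c hc =>
        (Subgroup.zpowers_le.mpr hgy) (hCg c hc)
      have hmem : Subgroup.zpowers y ∈ {C : Subgroup R | IsCyclic C ∧ N₀ ≤ C} :=
        ⟨inferInstance, hN₀C.trans hle⟩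
      have hyC : y ∈ C := (hCmax.le_of_ge hmem hle) (Subgroup.mem_zpowers y)
      exact ⟨1, Subgroup.one_mem _, by simpa using hyC⟩
  -- the image of the kernel has order at most `p`
  set Wbar : Subgroup (R ⧸ C) := φ.ker.map (QuotientGroup.mk' C) with hWbar
  have hWbarcard : Nat.card Wbar ≤ p := by
    let ψ : φ.ker →* R ⧸ C := (QuotientGroup.mk' C).comp φ.ker.subtype
    have hrange : ψ.range = Wbar := by
      rw [MonoidHom.range_comp, Subgroup.range_subtype]
    have hkerge : (N₀.subgroupOf φ.ker) ≤ ψ.ker := by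
      intro x hx
      rw [MonoidHom.mem_ker]
      show (QuotientGroup.mk' C) (x : R) = 1
      rw [QuotientGroup.mk'_apply, QuotientGroup.eq_one_iff]
      exact hN₀C (Subgroup.mem_subgroupOf.mp hx)
    have hN₀sub : Nat.card (N₀.subgroupOf φ.ker) = p := by
      rw [card_subgroupOf_eq_card_inf, inf_of_le_left hN₀W, hN₀card]
    have hpk : p ≤ Nat.card ψ.ker := by
      rw [← hN₀sub]
      exact Subgroup.card_le_of_le hkerge
    have hmul' := ψ.ker.card_mul_index
    rw [Subgroup.index_ker, hrange] at hmul'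
    by_contra hlt
    push Not at hlt
    have : p * p < Nat.card ψ.ker * Nat.card Wbar :=
      calc p * p < p * Nat.card Wbar := Nat.mul_lt_mul_of_pos_left hlt hp.out.pos
        _ ≤ Nat.card ψ.ker * Nat.card Wbar := Nat.mul_le_mul_right _ hpk
    rw [hmul'] at this
    have h2 : p * p = p ^ 2 := by ring
    omega
  have hrk : Cfsg.PRankLE p 1 (R ⧸ C) := by
    intro A _ hAexp
    have hle : A ≤ Wbar := by
      intro a ha
      obtain ⟨y, rfl⟩ := QuotientGroup.mk'_surjective C a
      have h1 := hAexp _ ha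
      rw [← map_pow, QuotientGroup.mk'_apply, QuotientGroup.eq_one_iff] at h1
      obtain ⟨w, hw, hwy⟩ := hkey y h1
      refine ⟨w, hw, ?_⟩
      rw [QuotientGroup.mk'_apply, QuotientGroup.mk'_apply, QuotientGroup.eq]
      exact hwy
    rw [pow_one]
    exact (Subgroup.card_le_of_le hle).trans hWbarcard
  exact Cfsg.Agent.Lib.Helper49.isCyclic_of_pRankLE_one hp2 (hR.to_quotient C) hrk

/-- **Step 2.** If the derived subgroup has exponent `p`, then it lies in a central subgroup of
order `p`. -/
theorem exists_central_of_commutator_exponent {R : Type u} [Group R] [Finite R] {p : ℕ}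
    [hp : Fact p.Prime] (hp3 : 3 < p) (hR : IsPGroup p R) (h : HP p R) [hnt : Nontrivial R]
    (hexp : ∀ x ∈ commutator R, x ^ p = 1) :
    ∃ N₀ : Subgroup R, N₀ ≤ Subgroup.center R ∧ Nat.card N₀ = p ∧ commutator R ≤ N₀ := by
  have hp2 : p ≠ 2 := by omega
  have hnil : Group.IsNilpotent R := hR.isNilpotent
  -- the derived subgroup has order dividing `p ^ 2`
  have hdercard : Nat.card (commutator R) ∣ p ^ 2 := by
    have h1 := h (commutator R) hexp
    obtain ⟨k, hk⟩ := (hR.to_subgroup (commutator R)).exists_card_eq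
    rw [hk] at h1 ⊢
    exact pow_dvd_pow p ((Nat.pow_le_pow_iff_right hp.out.one_lt).mp h1)
  have hdern : (commutator R).Normal := by rw [commutator_def]; infer_instance
  have h1 : Nat.card (⁅commutator R, (⊤ : Subgroup R)⁆ : Subgroup R) ∣ p ^ 1 :=
    Cfsg.Agent.S0128.card_commutator_top_dvd hR (commutator R) 1 hdercard
  have h2 : Nat.card (⁅⁅commutator R, (⊤ : Subgroup R)⁆, (⊤ : Subgroup R)⁆ : Subgroup R) ∣ p ^ 0 :=
    Cfsg.Agent.S0128.card_commutator_top_dvd hR _ 0 (by simpa using h1)
  have hcl : ⁅⁅commutator R, (⊤ : Subgroup R)⁆, (⊤ : Subgroup R)⁆ = ⊥ := by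
    rw [← Subgroup.card_eq_one]
    simpa using h2
  have hderΩ : commutator R ≤ Subgroup.closure {x : R | x ^ p = 1} := fun x hx =>
    Subgroup.subset_closure (hexp x hx)
  have hmul : ∀ x y : R, (x * y) ^ p = x ^ p * y ^ p :=
    Cfsg.Agent.S0123.result hR (Or.inr ⟨hp3, hcl⟩) hderΩ
  -- `p`-th powers are central
  have hpc : ∀ x y : R, y * x ^ p = x ^ p * y := by
    intro x y
    have hc : ⁅x⁻¹, y⁻¹⁆ ∈ commutator R := by
      rw [commutator_def]
      exact Subgroup.commutator_mem_commutator (Subgroup.mem_top _) (Subgroup.mem_top _)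
    have e1 : y⁻¹ * x * y = x * ⁅x⁻¹, y⁻¹⁆ := by rw [commutatorElement_def]; group
    have e2 : (y⁻¹ * x * y) ^ p = y⁻¹ * x ^ p * y := by
      have := conj_pow (a := y⁻¹) (b := x) (i := p)
      simpa using this
    rw [e1, hmul, hexp _ hc, mul_one] at e2
    calc y * x ^ p = y * (y⁻¹ * x ^ p * y) := by rw [← e2]
      _ = x ^ p * y := by group
  set P : Subgroup R := Subgroup.closure {y : R | ∃ x : R, y = x ^ p} with hP
  have hPc : P ≤ Subgroup.center R := by
    rw [hP, Subgroup.closure_le]
    rintro y ⟨x, rfl⟩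
    rw [SetLike.mem_coe, Subgroup.mem_center_iff]
    intro g
    exact hpc x g
  have hPn : P.Normal := normal_of_le_center' P hPc
  have hPidx : P.index ∣ p ^ 2 :=
    index_dvd_sq_of_HP hp3 hR h P (fun x => Subgroup.subset_closure ⟨x, rfl⟩)
  have hderP : commutator R ≤ P :=
    commutator_le_of_quotient_comm P
      (mul_comm_of_card_dvd_sq (by rw [← Subgroup.index_eq_card]; exact hPidx))
  have hderZ : commutator R ≤ Subgroup.center R := hderP.trans hPc
  have hZidx : (Subgroup.center R).index ∣ p ^ 2 := (Subgroup.index_dvd_of_le hPc).trans hPidx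
  by_cases hab : ∀ a b : R, a * b = b * a
  · -- abelian: any subgroup of order `p`
    have hcen : Subgroup.center R = ⊤ := by
      rw [eq_top_iff]
      intro x _
      rw [Subgroup.mem_center_iff]
      intro g
      exact hab g x
    obtain ⟨z, -, -, hzo⟩ := exists_central_orderOf_eq_prime hR (⊤ : Subgroup R)
      (by
        intro htb
        obtain ⟨x, hx⟩ := exists_ne (1 : R)
        have hx' : x ∈ (⊤ : Subgroup R) := trivial
        rw [htb, Subgroup.mem_bot] at hx'
        exact hx hx')
    refine ⟨Subgroup.zpowers z, by rw [hcen]; exact le_top, by rw [Nat.card_zpowers, hzo], ?_⟩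
    have : commutator R = ⊥ := by
      rw [commutator_def, Subgroup.commutator_eq_bot_iff_le_centralizer, Subgroup.coe_top,
        Subgroup.centralizer_univ, hcen]
    rw [this]
    exact bot_le
  · push Not at hab
    obtain ⟨a, b, habne⟩ := hab
    set c : R := ⁅a, b⁆ with hc
    have hcne : c ≠ 1 := fun h1 => habne (commutatorElement_eq_one_iff_mul_comm.mp h1)
    have hcder : c ∈ commutator R := by
      rw [commutator_def]
      exact Subgroup.commutator_mem_commutator (Subgroup.mem_top _) (Subgroup.mem_top _)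
    have hcZ : c ∈ Subgroup.center R := hderZ hcder
    have hcp : c ^ p = 1 := hexp c hcder
    have hco : orderOf c = p := orderOf_eq_prime hcp hcne
    -- generation
    set Z := Subgroup.center R with hZ
    have haZ : a ∉ Z := by
      intro haZ
      exact habne ((Subgroup.mem_center_iff.mp haZ b).symm)
    set M₁ := Subgroup.closure ((Z : Set R) ∪ {a}) with hM₁
    have hM₁cent : M₁ ≤ Subgroup.centralizer ({a} : Set R) := by
      rw [hM₁, Subgroup.closure_le]
      rintro x (hx | hx)
      · rw [SetLike.mem_coe, Subgroup.mem_centralizer_singleton_iff]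
        exact (Subgroup.mem_center_iff.mp hx a).symm
      · rw [Set.mem_singleton_iff] at hx
        rw [hx, SetLike.mem_coe, Subgroup.mem_centralizer_singleton_iff]
    have hbM₁ : b ∉ M₁ := by
      intro hb
      have := hM₁cent hb
      rw [Subgroup.mem_centralizer_singleton_iff] at this
      exact habne this.symm
    set M₂ := Subgroup.closure ((M₁ : Set R) ∪ {b}) with hM₂
    have hlt1 : Nat.card Z < Nat.card M₁ := card_lt_card_adjoin Z a haZ
    have hlt2 : Nat.card M₁ < Nat.card M₂ := card_lt_card_adjoin M₁ b hbM₁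
    obtain ⟨e0, he0⟩ := (hR.to_subgroup Z).exists_card_eq
    obtain ⟨e1, he1⟩ := (hR.to_subgroup M₁).exists_card_eq
    obtain ⟨e2, he2⟩ := (hR.to_subgroup M₂).exists_card_eq
    obtain ⟨e3, he3⟩ := hR.exists_card_eq
    obtain ⟨i, hi, hidx⟩ := (Nat.dvd_prime_pow hp.out).mp hZidx
    have hmulZ := Z.card_mul_index
    rw [he0, hidx, he3, ← pow_add] at hmulZ
    have h03 : e0 + i = e3 := Nat.pow_right_injective hp.out.two_le hmulZ
    rw [he0, he1] at hlt1
    rw [he1, he2] at hlt2
    have h01 : e0 < e1 := (Nat.pow_lt_pow_iff_right hp.out.one_lt).mp hlt1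
    have h12 : e1 < e2 := (Nat.pow_lt_pow_iff_right hp.out.one_lt).mp hlt2
    have h23 : e2 ≤ e3 := by
      have := Subgroup.card_le_card_group M₂
      rw [he2, he3] at this
      exact (Nat.pow_le_pow_iff_right hp.out.one_lt).mp this
    have hM₂top : M₂ = ⊤ := by
      apply Subgroup.eq_top_of_card_eq
      rw [he2, he3]
      congr 1
      omega
    set S : Set R := ((Z : Set R) ∪ {a}) ∪ {b} with hS
    have hStop : Subgroup.closure S = ⊤ := by
      rw [eq_top_iff, ← hM₂top, hM₂, Subgroup.closure_le]
      rintro x (hx | hx)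
      · have hle : M₁ ≤ Subgroup.closure S := by
          rw [hM₁]
          exact Subgroup.closure_mono Set.subset_union_left
        exact hle hx
      · exact Subgroup.subset_closure (Or.inr hx)
    have hcinv : ⁅b, a⁆ = c⁻¹ := by rw [hc, commutatorElement_inv]
    have hSZ : ∀ s ∈ (Z : Set R), ∀ t : R, ⁅s, t⁆ = 1 ∧ ⁅t, s⁆ = 1 := by
      intro s hs t
      have := Subgroup.mem_center_iff.mp hs t
      exact ⟨commutatorElement_eq_one_iff_mul_comm.mpr this.symm,
        commutatorElement_eq_one_iff_mul_comm.mpr this⟩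
    have hcomm : ∀ s ∈ S, ∀ t ∈ S, ⁅s, t⁆ ∈ Subgroup.zpowers c := by
      rintro s ((hs | hs) | hs) t ((ht | ht) | ht)
      · rw [(hSZ s hs t).1]; exact Subgroup.one_mem _
      · rw [(hSZ s hs t).1]; exact Subgroup.one_mem _
      · rw [(hSZ s hs t).1]; exact Subgroup.one_mem _
      · rw [(hSZ t ht s).2]; exact Subgroup.one_mem _
      · rw [Set.mem_singleton_iff] at hs ht
        rw [hs, ht, commutatorElement_self]; exact Subgroup.one_mem _
      · rw [Set.mem_singleton_iff] at hs ht
        rw [hs, ht]; exact Subgroup.mem_zpowers c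
      · rw [(hSZ t ht s).2]; exact Subgroup.one_mem _
      · rw [Set.mem_singleton_iff] at hs ht
        rw [hs, ht, hcinv]; exact Subgroup.inv_mem _ (Subgroup.mem_zpowers c)
      · rw [Set.mem_singleton_iff] at hs ht
        rw [hs, ht, commutatorElement_self]; exact Subgroup.one_mem _
    have hcen : ∀ z ∈ Subgroup.zpowers c, ∀ f ∈ Subgroup.closure S, z * f = f * z := by
      intro z hz f _
      have hzZ : z ∈ Subgroup.center R := (Subgroup.zpowers_le.mpr hcZ) hz
      exact (Subgroup.mem_center_iff.mp hzZ f).symm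
    have hall := comm_mem_of_closure (Subgroup.zpowers c) S hcomm hcen
    refine ⟨Subgroup.zpowers c, Subgroup.zpowers_le.mpr hcZ, by rw [Nat.card_zpowers, hco], ?_⟩
    rw [commutator_def, Subgroup.commutator_le]
    intro f _ g _
    exact hall f (by rw [hStop]; trivial) g (by rw [hStop]; trivial)

/-- **Main theorem.** For `p > 3`, a finite `p`-group all of whose subgroups of exponent `p` have
order at most `p ^ 2` is metacyclic. -/
theorem metacyclic_of_HP_aux {p : ℕ} [hp : Fact p.Prime] (hp3 : 3 < p) :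
    ∀ (n : ℕ) (R : Type u) [Group R] [Finite R], Nat.card R ≤ n → IsPGroup p R → HP p R →
      Cfsg.IsMetacyclic R := by
  have hp2 : p ≠ 2 := by omega
  intro n
  induction n with
  | zero =>
    intro R _ _ hc
    have := Nat.card_pos (α := R)
    omega
  | succ n ih =>
    intro R _ _ hc hR h
    rcases subsingleton_or_nontrivial R with hs | hnt
    · refine ⟨⊥, inferInstance, ?_, ?_⟩
      · exact isCyclic_of_subsingleton
      · exact isCyclic_of_subsingleton
    by_cases hexp : ∀ x ∈ commutator R, x ^ p = 1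
    · obtain ⟨N₀, hN₀c, hN₀card, hder⟩ := exists_central_of_commutator_exponent hp3 hR h hexp
      exact metacyclic_of_commutator_le_central hp2 hR h N₀ hN₀c hN₀card hder
    · push Not at hexp
      obtain ⟨x₀, hx₀, hx₀p⟩ := hexp
      -- the subgroup generated by the `p`-th powers of elements of the derived subgroup
      set U : Subgroup R := Subgroup.closure {y : R | ∃ x ∈ commutator R, y = x ^ p} with hU
      have hdern : (commutator R).Normal := by rw [commutator_def]; infer_instance
      have hUn : U.Normal := by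
        rw [← Subgroup.normalizer_eq_top_iff, eq_top_iff, hU, Subgroup.le_normalizer_closure_iff]
        rintro r - y ⟨x, hx, rfl⟩
        apply Subgroup.subset_closure
        refine ⟨r * x * r⁻¹, hdern.conj_mem x hx r, ?_⟩
        rw [conj_pow]
      have hUne : U ≠ ⊥ := by
        intro hb
        have : x₀ ^ p ∈ U := Subgroup.subset_closure ⟨x₀, hx₀, rfl⟩
        rw [hb, Subgroup.mem_bot] at this
        exact hx₀p this
      obtain ⟨z, hzU, hzc, hzo⟩ := exists_central_orderOf_eq_prime hR U hUne
      set N := Subgroup.zpowers z with hN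
      have hNc : N ≤ Subgroup.center R := Subgroup.zpowers_le.mpr hzc
      have hNU : N ≤ U := Subgroup.zpowers_le.mpr hzU
      have hNn : N.Normal := normal_of_le_center' N hNc
      have hNcard : Nat.card N = p := by rw [hN, Nat.card_zpowers, hzo]
      have hQ : HP p (R ⧸ N) := HP_quotient hp3 hR h N
      have hQcard : Nat.card (R ⧸ N) ≤ n := by
        have := Subgroup.card_eq_card_quotient_mul_card_subgroup N
        rw [hNcard] at this
        have hp2' := hp.out.two_le
        have hpos : 0 < Nat.card (R ⧸ N) := Nat.card_pos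
        nlinarith
      obtain ⟨Kbar, hKbarn, hKbarc, hKbarq⟩ := ih (R ⧸ N) hQcard (hR.to_quotient N) hQ
      -- the composite onto the cyclic quotient
      let f : R →* (R ⧸ N) ⧸ Kbar := (QuotientGroup.mk' Kbar).comp (QuotientGroup.mk' N)
      have hf : Function.Surjective f :=
        (QuotientGroup.mk'_surjective Kbar).comp (QuotientGroup.mk'_surjective N)
      have hmemK : ∀ y : R, y ∈ f.ker ↔ (QuotientGroup.mk' N) y ∈ Kbar := by
        intro y
        rw [MonoidHom.mem_ker]
        show (QuotientGroup.mk' Kbar) ((QuotientGroup.mk' N) y) = 1 ↔ _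
        rw [QuotientGroup.mk'_apply, QuotientGroup.eq_one_iff]
      have hquot : IsCyclic (R ⧸ f.ker) := by
        have e := QuotientGroup.quotientKerEquivOfSurjective f hf
        exact isCyclic_of_surjective e.symm.toMonoidHom e.symm.surjective
      refine ⟨f.ker, inferInstance, ?_, hquot⟩
      -- the derived subgroup lies in the kernel
      have hderK : commutator R ≤ f.ker := by
        have hcg : ∀ a b : R ⧸ f.ker, a * b = b * a := fun a b =>
          (IsCyclic.commGroup (α := R ⧸ f.ker)).mul_comm a b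
        exact commutator_le_of_quotient_comm f.ker hcg
      have hNK : N ≤ f.ker := by
        intro y hy
        rw [hmemK, QuotientGroup.mk'_apply, (QuotientGroup.eq_one_iff y).mpr hy]
        exact Kbar.one_mem
      -- `U` lies in the Frattini subgroup of the kernel
      have hKp : IsPGroup p f.ker := hR.to_subgroup _
      have hfr := Cfsg.Agent.S0012.result p hKp
      have hUfr : U ≤ (frattini f.ker).map f.ker.subtype := by
        rw [hU, Subgroup.closure_le]
        rintro y ⟨x, hx, rfl⟩
        refine ⟨(⟨x, hderK hx⟩ : f.ker) ^ p, hfr.2 _, ?_⟩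
        simp
      -- generator of `Kbar`
      obtain ⟨kb, hkb⟩ := hKbarc.exists_generator
      obtain ⟨k, hk⟩ := QuotientGroup.mk'_surjective N (kb : R ⧸ N)
      have hkK : k ∈ f.ker := by
        rw [hmemK, hk]
        exact kb.2
      have hgen : Subgroup.zpowers (⟨k, hkK⟩ : f.ker) ⊔ frattini f.ker = ⊤ := by
        rw [eq_top_iff]
        rintro ⟨y, hy⟩ -
        have hyK : (QuotientGroup.mk' N) y ∈ Kbar := (hmemK y).mp hy
        obtain ⟨i, hi⟩ := Subgroup.mem_zpowers_iff.mp (hkb ⟨_, hyK⟩)
        have hi' : (QuotientGroup.mk' N) (k ^ i) = (QuotientGroup.mk' N) y := by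
          rw [map_zpow, hk]
          have := congrArg Subtype.val hi
          simpa using this
        have hmemN : (k ^ i)⁻¹ * y ∈ N := by
          rw [QuotientGroup.mk'_apply, QuotientGroup.mk'_apply, QuotientGroup.eq] at hi'
          exact hi'
        obtain ⟨t, ht, hty⟩ := hUfr (hNU hmemN)
        have hyeq : (⟨y, hy⟩ : f.ker) = (⟨k, hkK⟩ : f.ker) ^ i * t := by
          apply Subtype.ext
          have : (t : R) = (k ^ i)⁻¹ * y := hty
          simp only [Subgroup.coe_mul, Subgroup.coe_zpow, this]
          group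
        rw [hyeq]
        exact Subgroup.mul_mem_sup (Subgroup.zpow_mem_zpowers _ i) ht
      have htop := frattini_nongenerating hgen
      exact isCyclic_iff_exists_zpowers_eq_top.mpr ⟨_, htop⟩

theorem metacyclic_of_HP {R : Type u} [Group R] [Finite R] {p : ℕ} [hp : Fact p.Prime]
    (hp3 : 3 < p) (hR : IsPGroup p R) (h : HP p R) : Cfsg.IsMetacyclic R :=
  metacyclic_of_HP_aux hp3 (Nat.card R) R le_rfl hR h

end Cfsg.Agent.Lib.Helper24
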