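import Mathlib
import Cfsg.Agent.Lib.Helper64.MinSimpleOdd
import Cfsg.Agent.Lib.Helper54.UqCore
import Cfsg.Agent.Lib.Helper54.UqEight
import Cfsg.Agent.S1457
import Cfsg.Agent.S1460

/-!
# Transfer in a minimal simple group of odd order (helper24 library)

`exists_pSubgroup_le_commutator_normalizer`: if `P` is a Sylow `p`-subgroup of a minimal simple group of odd order and
`A` is an abelian normal subgroup of `P`, then there is a `p`-subgroup `R₀ ≥ A` with `A ≤ N_G(R₀)'`.
(`P ≤ N'` for `N = N_G(K_∞(P))` by helper64's transfer theorem; `A ≤ O_{p',p}(N)` by S1457; Frattini and S1460.)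
-/

set_option autoImplicit false

namespace Cfsg.Agent.Lib.Helper24

open Cfsg

universe u

/-- abstract step: in a solvable group `X` of odd order with Sylow `p`-subgroup `S`, an abelian normal subgroup `A` of
`S` lying in `X'` lies in `N_X(T)'` for some `p`-subgroup `T ≥ A`. -/
theorem exists_pSubgroup_le_commutator_normalizer_aux {X : Type*} [Group X] [Finite X]
    [Group.IsSolvable X] (hodd : Odd (Nat.card X)) (p : ℕ) [Fact p.Prime] (S : Sylow p X)
    (A : Subgroup X) (hAS : A ≤ (S : Subgroup X)) (hAc : IsMulCommutative A)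
    (hSA : (S : Subgroup X) ≤ Subgroup.normalizer (A : Set X)) (hA' : A ≤ commutator X) :
    ∃ T : Subgroup X, IsPGroup p T ∧ A ≤ T ∧
      A ≤ ⁅Subgroup.normalizer (T : Set X), Subgroup.normalizer (T : Set X)⁆ := by
  have hA1 : A ≤ pPrimePCore p X := Cfsg.Agent.S1457.result hodd p S A hAS hAc hSA
  have hAp : IsPGroup p A := S.isPGroup'.to_le hAS
  obtain ⟨T, hTp, hAT, hfac⟩ := Cfsg.Agent.Lib.Helper54.exists_factorization A hAp hA1
  refine ⟨T, hTp, hAT, ?_⟩
  have hKU : pPrimeCore p X ⊔ Subgroup.normalizer (T : Set X) = ⊤ := by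
    rw [eq_top_iff]
    intro x _
    obtain ⟨k, hk, n, hn, rfl⟩ := hfac x
    exact Subgroup.mul_mem _ (Subgroup.mem_sup_left hk) (Subgroup.mem_sup_right hn)
  have hAU : A ≤ Subgroup.normalizer (T : Set X) := hAT.trans Subgroup.le_normalizer
  have hcop : (Nat.card A).Coprime (Nat.card (pPrimeCore p X)) := by
    obtain ⟨j, hj⟩ := hAp.exists_card_eq
    rw [hj]
    exact Nat.Coprime.pow_left j (Cfsg.Agent.Lib.Helper54.card_pPrimeCore_coprime p).symm
  have h := (Cfsg.Agent.S1460.result (pPrimeCore p X) (Subgroup.normalizer (T : Set X)) A hKU hAU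
    hcop).1
  have h2 : A ≤ A ⊓ commutator X := le_inf le_rfl hA'
  rw [h] at h2
  exact h2.trans inf_le_right

open scoped commutatorElement in
/-- **Transfer.** In a minimal simple group of odd order, an abelian normal subgroup `A` of a Sylow `p`-subgroup `P`
lies in the derived subgroup of `N_G(R₀)` for some `p`-subgroup `R₀ ≥ A`. -/
theorem exists_pSubgroup_le_commutator_normalizer {G : Type u} [Group G] [Finite G]
    (hG : IsMinSimpleOddOrder G) (p : ℕ) [Fact p.Prime] (P : Sylow p G)
    (hP1 : (P : Subgroup G) ≠ ⊥) (A : Subgroup G) (hAP : A ≤ (P : Subgroup G))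
    (hAc : IsMulCommutative A) (hPA : (P : Subgroup G) ≤ Subgroup.normalizer (A : Set G)) :
    ∃ R₀ : Subgroup G, IsPGroup p R₀ ∧ A ≤ R₀ ∧
      A ≤ ⁅Subgroup.normalizer (R₀ : Set G), Subgroup.normalizer (R₀ : Set G)⁆ := by
  have hG' := hG
  obtain ⟨hodd, hsimple, hna, hsolv⟩ := hG
  have hcf := Cfsg.Agent.Lib.Helper33.isConjugacyFunctor_inducedFunctor Cfsg.kInfLower
    (Cfsg.Agent.Lib.Helper33.isCharPFunctor_kInfLower p) (G := G)
  set W : Subgroup G := Cfsg.inducedFunctor Cfsg.kInfLower (P : Subgroup G) with hW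
  set N : Subgroup G := Subgroup.normalizer (W : Set G) with hN
  have hWP : W ≤ (P : Subgroup G) := (hcf P P.isPGroup').1
  have hW1 : W ≠ ⊥ := (hcf P P.isPGroup').2.1 hP1
  have hWp : IsPGroup p W := P.isPGroup'.to_le hWP
  have hNtop : N ≠ ⊤ :=
    Cfsg.Agent.Lib.Helper54.normalizer_ne_top_of_simple hsimple hW1
      (Cfsg.Agent.Lib.Helper54.ne_top_of_isPGroup hsimple hna hWp)
  have hPN : (P : Subgroup G) ≤ N :=
    Cfsg.Agent.Lib.Helper64.le_normalizer_of_isConjugacyFunctor hcf _ P.isPGroup'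
  have hperf : commutator G = ⊤ := by
    have hn : (commutator G).Normal := inferInstance
    rcases hsimple.eq_bot_or_eq_top_of_normal (commutator G) hn with h | h
    · exfalso
      apply hna
      refine ⟨⟨fun a b => ?_⟩⟩
      have h1 : ⁅a, b⁆ ∈ commutator G := by
        rw [commutator_def]
        exact Subgroup.commutator_mem_commutator (Subgroup.mem_top a) (Subgroup.mem_top b)
      rw [h, Subgroup.mem_bot] at h1
      exact commutatorElement_eq_one_iff_mul_comm.mp h1
    · exact h
  have hPN' : (P : Subgroup G) ≤ ⁅N, N⁆ :=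
    Cfsg.Agent.Lib.Helper64.sylow_le_commutator_normalizer_kInf
      (Cfsg.Agent.Lib.Helper64.secProp_ecn_of_minSimpleOdd hG') hperf P
  -- pass to the group `N`
  have hNs : Group.IsSolvable N := hsolv N hNtop
  have hNodd : Odd (Nat.card N) := Odd.of_dvd_nat hodd (Subgroup.card_subgroup_dvd_card N)
  have hAN : A ≤ N := hAP.trans hPN
  set S : Sylow p N := P.subtype hPN with hS
  have hScoe : (S : Subgroup N) = (P : Subgroup G).subgroupOf N := Sylow.coe_subtype P hPN
  have hAS : A.subgroupOf N ≤ (S : Subgroup N) := by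
    rw [hScoe]
    intro a ha
    rw [Subgroup.mem_subgroupOf] at ha ⊢
    exact hAP ha
  have hAcN : IsMulCommutative (A.subgroupOf N) := by
    refine ⟨⟨fun a b => ?_⟩⟩
    apply Subtype.ext
    apply Subtype.ext
    have h1 := hAc.is_comm.comm ⟨a.1.1, a.2⟩ ⟨b.1.1, b.2⟩
    have h2 := congrArg Subtype.val h1
    simpa using h2
  have hSA : (S : Subgroup N) ≤ Subgroup.normalizer ((A.subgroupOf N : Subgroup N) : Set N) := by
    rw [hScoe]
    intro x hx
    rw [Subgroup.mem_subgroupOf] at hx
    have hx' := hPA hx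
    rw [Subgroup.mem_normalizer_iff] at hx' ⊢
    intro a
    rw [Subgroup.mem_subgroupOf, Subgroup.mem_subgroupOf]
    simpa using hx' a.1
  have hcomm : (commutator N).map N.subtype = ⁅N, N⁆ := by
    rw [commutator_def, Subgroup.map_commutator, ← MonoidHom.range_eq_map, Subgroup.range_subtype]
  have hA' : A.subgroupOf N ≤ commutator N := by
    intro a ha
    rw [Subgroup.mem_subgroupOf] at ha
    have h1 : (a : G) ∈ ⁅N, N⁆ := hPN' (hAP ha)
    rw [← hcomm] at h1
    obtain ⟨c, hc, hca⟩ := h1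
    have : c = a := Subtype.ext hca
    rwa [← this]
  obtain ⟨T, hTp, hAT, hATU⟩ := exists_pSubgroup_le_commutator_normalizer_aux hNodd p S
    (A.subgroupOf N) hAS hAcN hSA hA'
  refine ⟨T.map N.subtype, hTp.map _, ?_, ?_⟩
  · intro a ha
    exact ⟨⟨a, hAN ha⟩, hAT (by rw [Subgroup.mem_subgroupOf]; exact ha), rfl⟩
  · intro a ha
    have h1 : (⟨a, hAN ha⟩ : N) ∈ ⁅Subgroup.normalizer (T : Set N), Subgroup.normalizer (T : Set N)⁆ :=
      hATU (by rw [Subgroup.mem_subgroupOf]; exact ha)
    have h2 : a ∈ (⁅Subgroup.normalizer (T : Set N), Subgroup.normalizer (T : Set N)⁆).map N.subtype :=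
      ⟨⟨a, hAN ha⟩, h1, rfl⟩
    rw [Subgroup.map_commutator] at h2
    have h3 : (Subgroup.normalizer (T : Set N)).map N.subtype ≤
        Subgroup.normalizer ((T.map N.subtype : Subgroup G) : Set G) := by
      rintro _ ⟨x, hx, rfl⟩
      rw [SetLike.mem_coe, Subgroup.mem_normalizer_iff] at hx
      rw [Subgroup.mem_normalizer_iff]
      intro g
      constructor
      · rintro ⟨t, ht, rfl⟩
        exact ⟨x * t * x⁻¹, (hx t).mp ht, by simp⟩
      · rintro ⟨t', ht', h'⟩
        have hgN : g ∈ N := by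
          have h4 : (N.subtype x)⁻¹ * (N.subtype t') * (N.subtype x) = g := by
            rw [h']; group
          rw [← h4]
          exact N.mul_mem (N.mul_mem (N.inv_mem x.2) t'.2) x.2
        refine ⟨⟨g, hgN⟩, ?_, rfl⟩
        rw [SetLike.mem_coe, hx ⟨g, hgN⟩]
        have : x * ⟨g, hgN⟩ * x⁻¹ = t' := by
          apply Subtype.ext
          simpa using h'.symm
        rwa [this]
    exact Subgroup.commutator_mono h3 h3 h2

end Cfsg.Agent.Lib.Helper24
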