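import Mathlib
import Cfsg.Prelude.Def_Solvable
import Cfsg.Prelude.Def_CaseTheorems
import Cfsg.Agent.Lib.Helper1.Fitting
import Cfsg.Agent.Lib.Helper55.Cores
import Cfsg.Agent.S0044

/-!
# Structure of the Fitting subgroup and a criterion for `G' ≤ F(G)`
-/

set_option autoImplicit false
open scoped commutatorElement
open Cfsg

namespace Cfsg.Agent.Lib.Helper24

/-- `O_r(G)` and `O_q(G)` commute elementwise for distinct primes. -/
theorem pCore_commute {G : Type*} [Group G] (r q : ℕ) [hr : Fact r.Prime] [hq : Fact q.Prime]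
    (hne : r ≠ q) : ∀ a ∈ pCore r G, ∀ b ∈ pCore q G, a * b = b * a := by
  intro a ha b hb
  have h1 : ⁅pCore r G, pCore q G⁆ ≤ pCore r G ⊓ pCore q G := Subgroup.commutator_le_inf _ _
  have h2 : Disjoint (pCore r G) (pCore q G) :=
    IsPGroup.disjoint_of_ne r q hne _ _ (Cfsg.Agent.Lib.Helper55.isPGroup_pCore r)
      (Cfsg.Agent.Lib.Helper55.isPGroup_pCore q)
  rw [disjoint_iff] at h2
  rw [h2] at h1
  have h3 : ⁅a, b⁆ ∈ (⊥ : Subgroup G) := h1 (Subgroup.commutator_mem_commutator ha hb)
  rw [Subgroup.mem_bot, commutatorElement_eq_one_iff_mul_comm] at h3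
  exact h3

/-- A finite group all of whose `r'`-elements are central is nilpotent. -/
theorem isNilpotent_of_coprime_central {Y : Type*} [Group Y] [Finite Y] (r : ℕ) [hr : Fact r.Prime]
    (h : ∀ y : Y, (orderOf y).Coprime r → y ∈ Subgroup.center Y) : Group.IsNilpotent Y := by
  have hq : IsPGroup r (Y ⧸ Subgroup.center Y) := by
    intro g
    induction g using QuotientGroup.induction_on with
    | H g =>
      have hn : orderOf g ≠ 0 := (orderOf_pos g).ne'
      obtain ⟨k, m, hm, hnm⟩ := Nat.exists_eq_pow_mul_and_not_dvd hn r hr.out.ne_one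
      refine ⟨k, ?_⟩
      rw [← QuotientGroup.mk_pow, QuotientGroup.eq_one_iff]
      apply h
      have h1 : (g ^ r ^ k) ^ m = 1 := by
        rw [← pow_mul, ← hnm, pow_orderOf_eq_one]
      have h2 : orderOf (g ^ r ^ k) ∣ m := orderOf_dvd_of_pow_eq_one h1
      have h3 : m.Coprime r := ((Nat.Prime.coprime_iff_not_dvd hr.out).mpr hm).symm
      exact Nat.Coprime.coprime_dvd_left h2 h3
  have : Group.IsNilpotent (Y ⧸ Subgroup.center Y) := hq.isNilpotent
  apply Subgroup.isNilpotent_of_ker_le_center (QuotientGroup.mk' (Subgroup.center Y))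
  rw [QuotientGroup.ker_mk']

/-- The join of the `O_q(G)` over the primes `q ≠ r`. -/
def pCoreCompl (r : ℕ) (G : Type*) [Group G] : Subgroup G :=
  ⨆ (q : Nat.Primes) (_ : (q : ℕ) ≠ r), pCore (q : ℕ) G

instance pCoreCompl_normal (r : ℕ) (G : Type*) [Group G] : (pCoreCompl r G).Normal := by
  unfold pCoreCompl
  rw [← sSup_range]
  apply Subgroup.sSup_normal
  rintro N ⟨q, rfl⟩
  by_cases hq : (q : ℕ) ≠ r
  · simp only [hq, ne_eq, not_false_eq_true, iSup_pos]
    infer_instance
  · simp only [hq]
    infer_instance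

theorem pCore_le_pCoreCompl {r q : ℕ} (G : Type*) [Group G] (hq : q.Prime) (hne : q ≠ r) :
    pCore q G ≤ pCoreCompl r G := by
  unfold pCoreCompl
  exact le_iSup₂_of_le (⟨q, hq⟩ : Nat.Primes) hne le_rfl

theorem fittingSubgroup_le_sup {G : Type*} [Group G] [Finite G] (r : ℕ) :
    fittingSubgroup G ≤ pCore r G ⊔ pCoreCompl r G := by
  rw [Cfsg.Agent.Lib.Helper1.fittingSubgroup_eq_iSup_pCore]
  apply iSup_le
  intro q
  by_cases hq : (q : ℕ) = r
  · rw [hq]; exact le_sup_left
  · exact le_trans (pCore_le_pCoreCompl G q.2 hq) le_sup_right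

theorem pCore_le_fittingSubgroup {G : Type*} [Group G] [Finite G] (q : ℕ) [hq : Fact q.Prime] :
    pCore q G ≤ fittingSubgroup G := by
  rw [Cfsg.Agent.Lib.Helper1.fittingSubgroup_eq_iSup_pCore]
  exact le_iSup (fun p : Nat.Primes => pCore (p : ℕ) G) ⟨q, hq.out⟩

theorem pCoreCompl_le_fittingSubgroup {G : Type*} [Group G] [Finite G] (r : ℕ) :
    pCoreCompl r G ≤ fittingSubgroup G := by
  unfold pCoreCompl
  apply iSup₂_le
  intro q _
  have : Fact (q : ℕ).Prime := ⟨q.2⟩
  exact pCore_le_fittingSubgroup (q : ℕ)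

/-- An `r'`-element of the Fitting subgroup lies in the join of the `O_q(G)`, `q ≠ r`. -/
theorem mem_pCoreCompl_of_coprime {G : Type*} [Group G] [Finite G] (r : ℕ) [hr : Fact r.Prime]
    (y : G) (hy : y ∈ fittingSubgroup G) (hcop : (orderOf y).Coprime r) : y ∈ pCoreCompl r G := by
  have h1 := fittingSubgroup_le_sup r hy
  have h2 : y ∈ ((pCore r G ⊔ pCoreCompl r G : Subgroup G) : Set G) := h1
  rw [Subgroup.mul_normal] at h2
  obtain ⟨a, ha, b, hb, rfl⟩ := Set.mem_mul.mp h2
  obtain ⟨j, hj⟩ := (Cfsg.Agent.Lib.Helper55.isPGroup_pCore (G := G) r) ⟨a, ha⟩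
  have hj' : a ^ r ^ j = 1 := by
    have := congrArg Subtype.val hj
    rwa [Subgroup.coe_pow, Subgroup.coe_one] at this
  rw [← QuotientGroup.eq_one_iff]
  have e : ((a * b : G) : G ⧸ pCoreCompl r G) = (a : G ⧸ pCoreCompl r G) := by
    rw [QuotientGroup.mk_mul, (QuotientGroup.eq_one_iff b).mpr hb, mul_one]
  have h3 : ((a * b : G) : G ⧸ pCoreCompl r G) ^ r ^ j = 1 := by
    rw [e, ← QuotientGroup.mk_pow, hj']; rfl
  have h4 : ((a * b : G) : G ⧸ pCoreCompl r G) ^ orderOf (a * b) = 1 := by
    rw [← QuotientGroup.mk_pow, pow_orderOf_eq_one]; rfl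
  have h5 := pow_gcd_eq_one.mpr ⟨h3, h4⟩
  have h6 : (r ^ j).gcd (orderOf (a * b)) = 1 := Nat.Coprime.pow_left j hcop.symm
  rwa [h6, pow_one] at h5


/-- If for every prime `q` the `q'`-elements of `G'` centralize `O_q(G)` (`G` finite solvable), then
`G' ≤ F(G)`. -/
theorem commutator_le_fittingSubgroup_of_centralizes {G : Type*} [Group G] [Finite G]
    [Group.IsSolvable G]
    (hstar : ∀ q : ℕ, q.Prime → ∀ x ∈ commutator G, (orderOf x).Coprime q →
      ∀ y ∈ pCore q G, x * y = y * x) :
    commutator G ≤ fittingSubgroup G := by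
  -- the subgroups Y_r
  have hY : ∀ r : ℕ, r.Prime →
      commutator G ⊓ Subgroup.centralizer (pCoreCompl r G : Set G) ≤ fittingSubgroup G := by
    intro r hr
    have : Fact r.Prime := ⟨hr⟩
    set Y := commutator G ⊓ Subgroup.centralizer (pCoreCompl r G : Set G) with hYdef
    have hYn : Y.Normal := by
      rw [hYdef]; infer_instance
    have hnil : Group.IsNilpotent Y := by
      apply isNilpotent_of_coprime_central r
      intro y hcop
      rw [← Subgroup.orderOf_coe] at hcop
      have hyD : (y : G) ∈ commutator G := (Subgroup.mem_inf.mp y.2).1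
      have hyC : (y : G) ∈ Subgroup.centralizer (pCoreCompl r G : Set G) :=
        (Subgroup.mem_inf.mp y.2).2
      -- y centralizes F
      have hyF : (y : G) ∈ Subgroup.centralizer (fittingSubgroup G : Set G) := by
        rw [Subgroup.mem_centralizer_iff]
        intro f hf
        have h1 := fittingSubgroup_le_sup r hf
        have h2 : pCore r G ⊔ pCoreCompl r G ≤ Subgroup.centralizer ({(y : G)} : Set G) := by
          apply sup_le
          · intro a ha
            rw [Subgroup.mem_centralizer_iff]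
            intro z hz
            rw [Set.mem_singleton_iff] at hz
            subst hz
            exact hstar r hr _ hyD hcop a ha
          · intro a ha
            rw [Subgroup.mem_centralizer_iff]
            intro z hz
            rw [Set.mem_singleton_iff] at hz
            subst hz
            exact ((Subgroup.mem_centralizer_iff.mp hyC) a ha).symm
        have h3 := h2 h1
        rw [Subgroup.mem_centralizer_iff] at h3
        exact (h3 _ rfl).symm
      have hyF' : (y : G) ∈ fittingSubgroup G := Cfsg.Agent.S0044.result hyF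
      have hyc : (y : G) ∈ pCoreCompl r G := mem_pCoreCompl_of_coprime r _ hyF' hcop
      rw [Subgroup.mem_center_iff]
      intro z
      apply Subtype.ext
      have hzC : (z : G) ∈ Subgroup.centralizer (pCoreCompl r G : Set G) :=
        (Subgroup.mem_inf.mp z.2).2
      rw [Subgroup.coe_mul, Subgroup.coe_mul]
      exact ((Subgroup.mem_centralizer_iff.mp hzC) _ hyc).symm
    exact le_sSup ⟨hYn, hnil⟩
  -- every Sylow subgroup of G' lies in F
  let P : ∀ p : Nat.Primes, Sylow (p : ℕ) (commutator G) := fun p => Classical.arbitrary _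
  have htop := Cfsg.Agent.Lib.Helper1.iSup_sylow_eq_top P
  have h1 : commutator G = (⨆ p : Nat.Primes, (P p : Subgroup (commutator G))).map
      (commutator G).subtype := by
    rw [htop, ← MonoidHom.range_eq_map, Subgroup.range_subtype]
  rw [h1, Subgroup.map_iSup]
  apply iSup_le
  intro r
  have : Fact (r : ℕ).Prime := ⟨r.2⟩
  refine le_trans ?_ (hY r r.2)
  rintro _ ⟨x, hx, rfl⟩
  refine Subgroup.mem_inf.mpr ⟨x.2, ?_⟩
  rw [Subgroup.mem_centralizer_iff]
  intro f hf
  -- x is an r-element of G'
  obtain ⟨j, hj⟩ := (P r).isPGroup' ⟨x, hx⟩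
  have hj' : (x : G) ^ (r : ℕ) ^ j = 1 := by
    have := congrArg (fun z : (P r : Subgroup (commutator G)) => ((z : commutator G) : G)) hj
    simpa using this
  have hord : orderOf (x : G) ∣ (r : ℕ) ^ j := orderOf_dvd_of_pow_eq_one hj'
  have hcomm : pCoreCompl (r : ℕ) G ≤ Subgroup.centralizer ({(x : G)} : Set G) := by
    unfold pCoreCompl
    apply iSup₂_le
    intro q hq a ha
    rw [Subgroup.mem_centralizer_iff]
    intro z hz
    rw [Set.mem_singleton_iff] at hz
    subst hz
    have hcop : (orderOf (x : G)).Coprime (q : ℕ) := by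
      apply Nat.Coprime.coprime_dvd_left hord
      apply Nat.Coprime.pow_left
      exact (Nat.coprime_primes r.2 q.2).mpr (fun h => hq h.symm)
    exact hstar q q.2 _ x.2 hcop a ha
  have := hcomm hf
  rw [Subgroup.mem_centralizer_iff] at this
  exact (this _ rfl).symm

end Cfsg.Agent.Lib.Helper24
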