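import Mathlib

set_option autoImplicit false

namespace Cfsg.Agent.Lib.Helper24

open Matrix
open scoped commutatorElement

section vec
variable {K : Type*} [Field K]

/-- the 2×2 "determinant" of two vectors -/
def det2 (v w : Fin 2 → K) : K := v 0 * w 1 - v 1 * w 0

theorem det2_ne_zero_of_not_smul (v w : Fin 2 → K) (hv : v ≠ 0) (hw : ¬ ∃ c : K, w = c • v) :
    det2 v w ≠ 0 := by
  intro hd
  unfold det2 at hd
  apply hw
  by_cases h0 : v 0 = 0
  · have h1 : v 1 ≠ 0 := by
      intro h1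
      apply hv
      ext i; fin_cases i <;> simp [h0, h1]
    refine ⟨w 1 / v 1, ?_⟩
    ext i; fin_cases i
    · simp only [Fin.zero_eta, Pi.smul_apply, smul_eq_mul]
      rw [h0] at hd ⊢
      have : v 1 * w 0 = 0 := by linear_combination -hd
      rcases mul_eq_zero.mp this with h | h
      · exact absurd h h1
      · rw [h]; simp
    · simp only [Fin.mk_one, Pi.smul_apply, smul_eq_mul]
      field_simp
  · refine ⟨w 0 / v 0, ?_⟩
    ext i; fin_cases i
    · simp only [Fin.zero_eta, Pi.smul_apply, smul_eq_mul]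
      field_simp
    · simp only [Fin.mk_one, Pi.smul_apply, smul_eq_mul]
      rw [div_mul_eq_mul_div, eq_div_iff h0]
      linear_combination hd

theorem exists_coords (v w u : Fin 2 → K) (hd : det2 v w ≠ 0) :
    ∃ a b : K, u = a • v + b • w := by
  unfold det2 at hd
  refine ⟨(u 0 * w 1 - u 1 * w 0) / (v 0 * w 1 - v 1 * w 0),
    (v 0 * u 1 - v 1 * u 0) / (v 0 * w 1 - v 1 * w 0), ?_⟩
  ext i; fin_cases i
  · simp only [Fin.zero_eta, Pi.add_apply, Pi.smul_apply, smul_eq_mul]
    rw [div_mul_eq_mul_div, div_mul_eq_mul_div, ← add_div, eq_div_iff hd]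
    ring
  · simp only [Fin.mk_one, Pi.add_apply, Pi.smul_apply, smul_eq_mul]
    rw [div_mul_eq_mul_div, div_mul_eq_mul_div, ← add_div, eq_div_iff hd]
    ring

/-- A matrix acting as the scalar `μ` on two independent vectors is the scalar matrix. -/
theorem eq_smul_one_of_two_eig (g : Matrix (Fin 2) (Fin 2) K) (μ : K) (v w : Fin 2 → K)
    (hd : det2 v w ≠ 0) (hv : g *ᵥ v = μ • v) (hw : g *ᵥ w = μ • w) : g = μ • (1 : Matrix (Fin 2) (Fin 2) K) := by
  have key : ∀ u : Fin 2 → K, g *ᵥ u = μ • u := by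
    intro u
    obtain ⟨a, b, rfl⟩ := exists_coords v w u hd
    rw [Matrix.mulVec_add, Matrix.mulVec_smul, Matrix.mulVec_smul, hv, hw, smul_add, smul_comm a μ,
      smul_comm b μ]
  ext i j
  have := congrFun (key (Pi.single j 1)) i
  simpa [Matrix.mulVec_single, Matrix.one_apply, Pi.single_apply, eq_comm] using this

end vec

theorem coords_zero {K : Type*} [Field K] (v w : Fin 2 → K) (hd : det2 v w ≠ 0) (a b : K)
    (h : a • v + b • w = 0) : a = 0 ∧ b = 0 := by
  unfold det2 at hd
  have h0 := congrFun h 0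
  have h1 := congrFun h 1
  simp only [Pi.add_apply, Pi.smul_apply, smul_eq_mul, Pi.zero_apply] at h0 h1
  constructor
  · have : a * (v 0 * w 1 - v 1 * w 0) = 0 := by linear_combination w 1 * h0 - w 0 * h1
    rcases mul_eq_zero.mp this with h | h
    · exact h
    · exact absurd h hd
  · have : b * (v 0 * w 1 - v 1 * w 0) = 0 := by linear_combination v 0 * h1 - v 1 * h0
    rcases mul_eq_zero.mp this with h | h
    · exact h
    · exact absurd h hd

theorem comm_lt_of_solvable {Γ : Type*} [Group Γ] (G : Subgroup Γ) [Group.IsSolvable G]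
    (hG : G ≠ ⊥) : ⁅G, G⁆ < G := by
  rw [← Subgroup.nontrivial_iff_ne_bot] at hG
  rw [← G.map_subtype_commutator]
  have := Group.IsSolvable.commutator_lt_top_of_nontrivial G
  calc (commutator G).map G.subtype < (⊤ : Subgroup G).map G.subtype :=
        Subgroup.map_subtype_lt_map_subtype.mpr this
    _ = G := by rw [← MonoidHom.range_eq_map, Subgroup.range_subtype]

section
variable {K : Type*} [Field K]

/-- `g` stabilizes the line spanned by `v`. -/
def IsEig (g : GL (Fin 2) K) (v : Fin 2 → K) : Prop :=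
  ∃ c : K, (g : Matrix (Fin 2) (Fin 2) K) *ᵥ v = c • v

theorem isEig_one (v : Fin 2 → K) : IsEig (1 : GL (Fin 2) K) v := ⟨1, by simp⟩

theorem isEig_mul {g h : GL (Fin 2) K} {v : Fin 2 → K} (hg : IsEig g v) (hh : IsEig h v) :
    IsEig (g * h) v := by
  obtain ⟨c, hc⟩ := hg
  obtain ⟨d, hd⟩ := hh
  refine ⟨d * c, ?_⟩
  rw [Matrix.GeneralLinearGroup.coe_mul, ← Matrix.mulVec_mulVec, hd, Matrix.mulVec_smul, hc,
    smul_smul]

theorem mulVec_inv_mulVec (g : GL (Fin 2) K) (v : Fin 2 → K) :
    ((g⁻¹ : GL (Fin 2) K) : Matrix (Fin 2) (Fin 2) K) *ᵥ ((g : Matrix (Fin 2) (Fin 2) K) *ᵥ v) = v := by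
  rw [Matrix.mulVec_mulVec, ← Matrix.GeneralLinearGroup.coe_mul, inv_mul_cancel]
  simp

theorem mulVec_mulVec_inv (g : GL (Fin 2) K) (v : Fin 2 → K) :
    (g : Matrix (Fin 2) (Fin 2) K) *ᵥ (((g⁻¹ : GL (Fin 2) K) : Matrix (Fin 2) (Fin 2) K) *ᵥ v) = v := by
  rw [Matrix.mulVec_mulVec, ← Matrix.GeneralLinearGroup.coe_mul, mul_inv_cancel]
  simp

theorem mulVec_ne_zero (g : GL (Fin 2) K) {v : Fin 2 → K} (hv : v ≠ 0) :
    (g : Matrix (Fin 2) (Fin 2) K) *ᵥ v ≠ 0 := by
  intro h
  apply hv
  rw [← mulVec_inv_mulVec g v, h, Matrix.mulVec_zero]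

theorem isEig_inv {g : GL (Fin 2) K} {v : Fin 2 → K} (hv : v ≠ 0) (hg : IsEig g v) :
    IsEig g⁻¹ v := by
  obtain ⟨c, hc⟩ := hg
  have hc0 : c ≠ 0 := by
    rintro rfl
    rw [zero_smul] at hc
    exact mulVec_ne_zero g hv hc
  refine ⟨c⁻¹, ?_⟩
  have := congrArg (fun u => ((g⁻¹ : GL (Fin 2) K) : Matrix (Fin 2) (Fin 2) K) *ᵥ u) hc
  simp only [mulVec_inv_mulVec, Matrix.mulVec_smul] at this
  rw [← smul_right_inj hc0, smul_smul, mul_inv_cancel₀ hc0, one_smul]
  exact this.symm

end


theorem card_lt_of_lt' {Γ : Type*} [Group Γ] {H G : Subgroup Γ} [Finite G] (hlt : H < G) :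
    Nat.card H < Nat.card G := by
  by_contra h
  exact hlt.ne (Subgroup.eq_of_le_of_card_ge hlt.le (not_lt.mp h))

section main
variable {K : Type*} [Field K]

theorem smul_one_mulVec (c : K) (v : Fin 2 → K) :
    (c • (1 : Matrix (Fin 2) (Fin 2) K)) *ᵥ v = c • v := by
  rw [Matrix.smul_mulVec, Matrix.one_mulVec]

/-- An element of odd order of `GL₂` that is a scalar matrix of determinant one is trivial. -/
theorem eq_one_of_scalar_of_det_of_odd (n : GL (Fin 2) K) (c : K)
    (hc : (n : Matrix (Fin 2) (Fin 2) K) = c • 1) (hdet : Matrix.GeneralLinearGroup.det n = 1)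
    (k : ℕ) (hk : Odd k) (hnk : n ^ k = 1) : n = 1 := by
  have hc2 : c ^ 2 = 1 := by
    have h1 : (n : Matrix (Fin 2) (Fin 2) K).det = 1 := by
      have := congrArg Units.val hdet
      simpa using this
    rw [hc, Matrix.det_smul, Matrix.det_one, Fintype.card_fin, mul_one] at h1
    exact h1
  have hck : c ^ k = 1 := by
    have h1 : ((n ^ k : GL (Fin 2) K) : Matrix (Fin 2) (Fin 2) K) = 1 := by rw [hnk]; rfl
    rw [Units.val_pow_eq_pow_val, hc, smul_pow, one_pow] at h1
    have := congrFun (congrFun h1 0) 0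
    simpa using this
  obtain ⟨m, rfl⟩ := hk
  have hc1 : c = 1 := by
    rw [pow_succ, pow_mul, hc2, one_pow, one_mul] at hck
    exact hck
  apply Units.ext
  rw [hc, hc1, one_smul]; rfl

theorem exists_common_eig_aux [IsAlgClosed K] :
    ∀ (n : ℕ) (G : Subgroup (GL (Fin 2) K)), Nat.card G ≤ n → Odd (Nat.card G) →
      Group.IsSolvable G → ∃ v : Fin 2 → K, v ≠ 0 ∧ ∀ g ∈ G, IsEig g v := by
  intro n
  induction n with
  | zero =>
    intro G hcard hodd
    have : Nat.card G = 0 := by omega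
    rw [this] at hodd
    exact absurd hodd (by decide)
  | succ n ih =>
    intro G hcard hodd hsolv
    have hfin : Finite G := Nat.finite_of_card_ne_zero (fun h => by rw [h] at hodd; exact absurd hodd (by decide))
    have he0 : (Pi.single 0 1 : Fin 2 → K) ≠ 0 := by
      intro h
      have := congrFun h 0
      simp at this
    by_cases hbot : G = ⊥
    · refine ⟨Pi.single 0 1, he0, ?_⟩
      intro g hg
      rw [hbot, Subgroup.mem_bot] at hg
      rw [hg]; exact isEig_one _
    have hNlt : ⁅G, G⁆ < G := comm_lt_of_solvable G hbot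
    have hNcard : Nat.card (⁅G, G⁆ : Subgroup (GL (Fin 2) K)) ≤ n := by
      have := card_lt_of_lt' hNlt
      omega
    have hNodd : Odd (Nat.card (⁅G, G⁆ : Subgroup (GL (Fin 2) K))) :=
      Odd.of_dvd_nat hodd (Subgroup.card_dvd_of_le hNlt.le)
    have hNsolv : Group.IsSolvable (⁅G, G⁆ : Subgroup (GL (Fin 2) K)) :=
      Group.isSolvable_of_isSolvable_injective (Subgroup.inclusion_injective hNlt.le)
    obtain ⟨v, hv0, hNv⟩ := ih _ hNcard hNodd hNsolv
    have hGodd : ∀ g ∈ G, Odd (orderOf g) := fun g hg =>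
      Odd.of_dvd_nat hodd (Subgroup.orderOf_dvd_natCard G hg)
    by_cases hsc : ∀ n ∈ ⁅G, G⁆, ∃ c : K, (n : Matrix (Fin 2) (Fin 2) K) = c • 1
    · -- Case A: the derived subgroup is scalar, hence trivial
      have hdet : ∀ n ∈ ⁅G, G⁆, Matrix.GeneralLinearGroup.det n = 1 := by
        have : ⁅G, G⁆ ≤ (Matrix.GeneralLinearGroup.det (n := Fin 2) (R := K)).ker := by
          rw [Subgroup.commutator_le]
          intro g _ h _
          rw [MonoidHom.mem_ker, map_commutatorElement]
          exact commutatorElement_eq_one_iff_commute.mpr (Commute.all _ _)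
        intro n hn
        exact this hn
      have hN1 : ∀ n ∈ ⁅G, G⁆, n = 1 := by
        intro n hn
        obtain ⟨c, hc⟩ := hsc n hn
        exact eq_one_of_scalar_of_det_of_odd n c hc (hdet n hn) (orderOf n)
          (hGodd n (hNlt.le hn)) (pow_orderOf_eq_one n)
      have hcomm : ∀ g ∈ G, ∀ h ∈ G, g * h = h * g := by
        intro g hg h hh
        have := hN1 _ (Subgroup.commutator_mem_commutator hg hh)
        exact commutatorElement_eq_one_iff_mul_comm.mp this
      by_cases hall : ∀ g ∈ G, ∃ c : K, (g : Matrix (Fin 2) (Fin 2) K) = c • 1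
      · refine ⟨Pi.single 0 1, he0, ?_⟩
        intro g hg
        obtain ⟨c, hc⟩ := hall g hg
        exact ⟨c, by rw [hc, smul_one_mulVec]⟩
      · push Not at hall
        obtain ⟨g₀, hg₀, hg₀ns⟩ := hall
        obtain ⟨μ, hμ⟩ := Module.End.exists_eigenvalue (Matrix.toLin' (g₀ : Matrix (Fin 2) (Fin 2) K))
        obtain ⟨u, hu⟩ := hμ.exists_hasEigenvector
        have hu0 : u ≠ 0 := hu.2
        have hgu : (g₀ : Matrix (Fin 2) (Fin 2) K) *ᵥ u = μ • u := by
          have := hu.apply_eq_smul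
          rwa [Matrix.toLin'_apply] at this
        refine ⟨u, hu0, ?_⟩
        intro h hh
        by_contra hcon
        have hd : det2 u ((h : Matrix (Fin 2) (Fin 2) K) *ᵥ u) ≠ 0 :=
          det2_ne_zero_of_not_smul u _ hu0 (fun ⟨c, hc⟩ => hcon ⟨c, hc⟩)
        have hgw : (g₀ : Matrix (Fin 2) (Fin 2) K) *ᵥ ((h : Matrix (Fin 2) (Fin 2) K) *ᵥ u) =
            μ • ((h : Matrix (Fin 2) (Fin 2) K) *ᵥ u) := by
          rw [Matrix.mulVec_mulVec, ← Matrix.GeneralLinearGroup.coe_mul, hcomm g₀ hg₀ h hh,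
            Matrix.GeneralLinearGroup.coe_mul, ← Matrix.mulVec_mulVec, hgu, Matrix.mulVec_smul]
        exact hg₀ns μ (eq_smul_one_of_two_eig _ μ u _ hd hgu hgw)
    · -- Case B: some element of the derived subgroup is not scalar
      push Not at hsc
      obtain ⟨n₀, hn₀, hn₀ns⟩ := hsc
      refine ⟨v, hv0, ?_⟩
      by_contra hcon
      push Not at hcon
      obtain ⟨g₁, hg₁, hg₁v⟩ := hcon
      set w := (g₁ : Matrix (Fin 2) (Fin 2) K) *ᵥ v with hw
      have hd : det2 v w ≠ 0 :=
        det2_ne_zero_of_not_smul v w hv0 (fun ⟨c, hc⟩ => hg₁v ⟨c, hc⟩)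
      -- `N` is normalized by `G`
      have hnorm : ∀ g ∈ G, ∀ m ∈ ⁅G, G⁆, g⁻¹ * m * g ∈ ⁅G, G⁆ := by
        intro g hg m hm
        have := Subgroup.normalizer_commutator_ge_left G G (G.inv_mem hg)
        have := (Subgroup.mem_normalizer_iff.mp this m).mp hm
        simpa using this
      -- (K1)
      have K1 : ∀ g ∈ G, ∀ m ∈ ⁅G, G⁆, ∃ c : K,
          (m : Matrix (Fin 2) (Fin 2) K) *ᵥ ((g : Matrix (Fin 2) (Fin 2) K) *ᵥ v) =
            c • ((g : Matrix (Fin 2) (Fin 2) K) *ᵥ v) := by
        intro g hg m hm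
        obtain ⟨c, hc⟩ := hNv _ (hnorm g hg m hm)
        refine ⟨c, ?_⟩
        have e : m * g = g * (g⁻¹ * m * g) := by group
        rw [Matrix.mulVec_mulVec, ← Matrix.GeneralLinearGroup.coe_mul, e,
          Matrix.GeneralLinearGroup.coe_mul, ← Matrix.mulVec_mulVec, hc, Matrix.mulVec_smul]
      obtain ⟨c₀, hc₀⟩ := hNv n₀ hn₀
      obtain ⟨c₁, hc₁⟩ := K1 g₁ hg₁ n₀ hn₀
      -- (K2)
      have K2 : ∀ g ∈ G, IsEig g v ∨ ∃ l : K, (g : Matrix (Fin 2) (Fin 2) K) *ᵥ v = l • w := by
        intro g hg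
        obtain ⟨a, b, hab⟩ := exists_coords v w ((g : Matrix (Fin 2) (Fin 2) K) *ᵥ v) hd
        obtain ⟨c, hc⟩ := K1 g hg n₀ hn₀
        rw [hab, Matrix.mulVec_add, Matrix.mulVec_smul, Matrix.mulVec_smul, hc₀, hc₁] at hc
        have hz : (a * (c₀ - c)) • v + (b * (c₁ - c)) • w = 0 := by
          have : a • c₀ • v + b • c₁ • w - c • (a • v + b • w) = 0 := sub_eq_zero.mpr hc
          rw [← this]
          simp only [smul_add, smul_smul, sub_smul, mul_sub]
          module
        obtain ⟨h1, h2⟩ := coords_zero v w hd _ _ hz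
        by_cases ha : a = 0
        · right
          exact ⟨b, by rw [hab, ha, zero_smul, zero_add]⟩
        · by_cases hb : b = 0
          · left
            exact ⟨a, by rw [hab, hb, zero_smul, add_zero]⟩
          · exfalso
            have e0 : c₀ = c := by
              rcases mul_eq_zero.mp h1 with h | h
              · exact absurd h ha
              · exact sub_eq_zero.mp h
            have e1 : c₁ = c := by
              rcases mul_eq_zero.mp h2 with h | h
              · exact absurd h hb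
              · exact sub_eq_zero.mp h
            rw [e0] at hc₀
            rw [e1] at hc₁
            exact hn₀ns c (eq_smul_one_of_two_eig _ c v w hd hc₀ hc₁)
      -- parity argument
      have hstep : ∀ k : ℕ, IsEig (g₁ ^ (k + 1)) v ↔ ¬ IsEig (g₁ ^ k) v := by
        intro k
        constructor
        · rintro ⟨c, hc⟩ ⟨c', hc'⟩
          rw [pow_succ', Matrix.GeneralLinearGroup.coe_mul, ← Matrix.mulVec_mulVec, hc',
            Matrix.mulVec_smul] at hc
          have hc'0 : c' ≠ 0 := by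
            rintro rfl
            rw [zero_smul] at hc'
            exact mulVec_ne_zero _ hv0 hc'
          apply hg₁v
          refine ⟨c'⁻¹ * c, ?_⟩
          rw [← smul_smul, ← hc, smul_smul, inv_mul_cancel₀ hc'0, one_smul]
        · intro hk
          rcases K2 _ (G.pow_mem hg₁ (k + 1)) with h | ⟨l, hl⟩
          · exact h
          · exfalso
            apply hk
            refine ⟨l, ?_⟩
            have := congrArg (fun u => ((g₁⁻¹ : GL (Fin 2) K) : Matrix (Fin 2) (Fin 2) K) *ᵥ u) hl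
            simp only [hw, Matrix.mulVec_smul, mulVec_inv_mulVec] at this
            rw [pow_succ', Matrix.GeneralLinearGroup.coe_mul, ← Matrix.mulVec_mulVec,
              mulVec_inv_mulVec] at this
            exact this
      have hpar : ∀ k : ℕ, IsEig (g₁ ^ k) v ↔ Even k := by
        intro k
        induction k with
        | zero => simp [isEig_one]
        | succ k ihk =>
          rw [hstep, ihk, Nat.even_add_one]
      have h1 := (hpar (orderOf g₁)).mp (by rw [pow_orderOf_eq_one]; exact isEig_one v)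
      exact (Nat.not_even_iff_odd.mpr (hGodd g₁ hg₁)) h1

/-- A finite solvable subgroup of odd order of `GL₂(K)`, `K` algebraically closed, stabilizes a
line. -/
theorem exists_common_eig [IsAlgClosed K] (G : Subgroup (GL (Fin 2) K)) (hodd : Odd (Nat.card G))
    (hsolv : Group.IsSolvable G) : ∃ v : Fin 2 → K, v ≠ 0 ∧ ∀ g ∈ G, IsEig g v :=
  exists_common_eig_aux _ G le_rfl hodd hsolv

end main

section unip
variable {K : Type*} [Field K]

/-- The subgroup of `GL₂(K)` of elements of determinant one fixing the vector `v`. -/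
def fixDetOne (v : Fin 2 → K) : Subgroup (GL (Fin 2) K) where
  carrier := {g | (g : Matrix (Fin 2) (Fin 2) K) *ᵥ v = v ∧ Matrix.GeneralLinearGroup.det g = 1}
  mul_mem' := by
    rintro a b ⟨ha, ha'⟩ ⟨hb, hb'⟩
    refine ⟨?_, ?_⟩
    · rw [Matrix.GeneralLinearGroup.coe_mul, ← Matrix.mulVec_mulVec, hb, ha]
    · rw [map_mul, ha', hb', one_mul]
  one_mem' := ⟨by simp, map_one _⟩
  inv_mem' := by
    rintro a ⟨ha, ha'⟩
    refine ⟨?_, ?_⟩
    · have := mulVec_inv_mulVec a v
      rw [ha] at this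
      exact this
    · rw [map_inv, ha', inv_one]

theorem mem_fixDetOne (v : Fin 2 → K) (g : GL (Fin 2) K) :
    g ∈ fixDetOne v ↔ (g : Matrix (Fin 2) (Fin 2) K) *ᵥ v = v ∧
      Matrix.GeneralLinearGroup.det g = 1 := Iff.rfl

/-- If every element of `G` stabilizes the line `K v`, then `⁅G, G⁆` fixes `v` and has determinant
one. -/
theorem commutator_le_fixDetOne (G : Subgroup (GL (Fin 2) K)) (v : Fin 2 → K) (hv : v ≠ 0)
    (hG : ∀ g ∈ G, IsEig g v) : ⁅G, G⁆ ≤ fixDetOne v := by
  rw [Subgroup.commutator_le]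
  intro g hg h hh
  rw [mem_fixDetOne]
  constructor
  · obtain ⟨a, ha⟩ := hG g hg
    obtain ⟨b, hb⟩ := hG h hh
    have ha0 : a ≠ 0 := by
      rintro rfl
      rw [zero_smul] at ha
      exact mulVec_ne_zero g hv ha
    have hb0 : b ≠ 0 := by
      rintro rfl
      rw [zero_smul] at hb
      exact mulVec_ne_zero h hv hb
    have ha' : ((g⁻¹ : GL (Fin 2) K) : Matrix (Fin 2) (Fin 2) K) *ᵥ v = a⁻¹ • v := by
      have := congrArg (fun u => ((g⁻¹ : GL (Fin 2) K) : Matrix (Fin 2) (Fin 2) K) *ᵥ u) ha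
      simp only [mulVec_inv_mulVec, Matrix.mulVec_smul] at this
      rw [← smul_right_inj ha0, smul_smul, mul_inv_cancel₀ ha0, one_smul]
      exact this.symm
    have hb' : ((h⁻¹ : GL (Fin 2) K) : Matrix (Fin 2) (Fin 2) K) *ᵥ v = b⁻¹ • v := by
      have := congrArg (fun u => ((h⁻¹ : GL (Fin 2) K) : Matrix (Fin 2) (Fin 2) K) *ᵥ u) hb
      simp only [mulVec_inv_mulVec, Matrix.mulVec_smul] at this
      rw [← smul_right_inj hb0, smul_smul, mul_inv_cancel₀ hb0, one_smul]
      exact this.symm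
    have step : ∀ (M : Matrix (Fin 2) (Fin 2) K) (e c : K), M *ᵥ v = e • v →
        M *ᵥ (c • v) = (c * e) • v := by
      intro M e c hM
      rw [Matrix.mulVec_smul, hM, smul_smul]
    rw [commutatorElement_def, Matrix.GeneralLinearGroup.coe_mul, Matrix.GeneralLinearGroup.coe_mul,
      Matrix.GeneralLinearGroup.coe_mul, ← Matrix.mulVec_mulVec, ← Matrix.mulVec_mulVec,
      ← Matrix.mulVec_mulVec, hb', step _ _ _ ha', step _ _ _ hb, step _ _ _ ha]
    have : b⁻¹ * a⁻¹ * b * a = 1 := by field_simp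
    rw [this, one_smul]
  · rw [map_commutatorElement]
    exact commutatorElement_eq_one_iff_commute.mpr (Commute.all _ _)

/-- An element of `GL₂(K)` of determinant one fixing a nonzero vector is unipotent. -/
theorem sub_one_sq_eq_zero (v : Fin 2 → K) (hv : v ≠ 0) (g : GL (Fin 2) K)
    (hg : g ∈ fixDetOne v) :
    ((g : Matrix (Fin 2) (Fin 2) K) - 1) * ((g : Matrix (Fin 2) (Fin 2) K) - 1) = 0 := by
  obtain ⟨hgv, hdet⟩ := hg
  have hdet1 : (g : Matrix (Fin 2) (Fin 2) K).det = 1 := by
    have := congrArg Units.val hdet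
    simpa using this
  have hdet0 : ((g : Matrix (Fin 2) (Fin 2) K) - 1).det = 0 := by
    rw [← Matrix.exists_mulVec_eq_zero_iff]
    refine ⟨v, hv, ?_⟩
    rw [Matrix.sub_mulVec, hgv, Matrix.one_mulVec, sub_self]
  rw [Matrix.det_fin_two] at hdet1 hdet0
  simp only [Matrix.sub_apply, Matrix.one_apply_eq, Matrix.one_apply_ne, ne_eq, Fin.isValue,
    zero_ne_one, one_ne_zero, not_false_eq_true, sub_zero] at hdet0
  have htr : (g : Matrix (Fin 2) (Fin 2) K) 0 0 + (g : Matrix (Fin 2) (Fin 2) K) 1 1 = 2 := by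
    linear_combination hdet1 - hdet0
  ext i j
  fin_cases i <;> fin_cases j <;>
    simp only [Matrix.mul_apply, Fin.sum_univ_two, Matrix.sub_apply, Matrix.one_apply_eq,
      Matrix.one_apply_ne, ne_eq, Fin.isValue, zero_ne_one, one_ne_zero, not_false_eq_true,
      sub_zero, Matrix.zero_apply, Fin.zero_eta, Fin.mk_one]
  · linear_combination ((g : Matrix (Fin 2) (Fin 2) K) 0 0) * htr - hdet1
  · linear_combination ((g : Matrix (Fin 2) (Fin 2) K) 0 1) * htr
  · linear_combination ((g : Matrix (Fin 2) (Fin 2) K) 1 0) * htr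
  · linear_combination ((g : Matrix (Fin 2) (Fin 2) K) 1 1) * htr - hdet1

/-- In characteristic `p`, such an element has order dividing `p`. -/
theorem pow_char_eq_one_of_mem_fixDetOne (p : ℕ) [hp : Fact p.Prime] [CharP K p] (v : Fin 2 → K)
    (hv : v ≠ 0) (g : GL (Fin 2) K) (hg : g ∈ fixDetOne v) : g ^ p = 1 := by
  have h0 := sub_one_sq_eq_zero v hv g hg
  apply Units.ext
  rw [Units.val_pow_eq_pow_val, Units.val_one]
  have e : (g : Matrix (Fin 2) (Fin 2) K) = ((g : Matrix (Fin 2) (Fin 2) K) - 1) + 1 := by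
    rw [sub_add_cancel]
  rw [e, add_pow_char_of_commute p (Commute.one_right _), one_pow]
  have : ((g : Matrix (Fin 2) (Fin 2) K) - 1) ^ p = 0 := by
    obtain ⟨k, hk⟩ := Nat.exists_eq_add_of_le hp.out.two_le
    rw [hk, pow_add, pow_two, h0, zero_mul]
  rw [this, zero_add]

/-- **Odd order subgroups of `GL₂`.** For a finite solvable subgroup `G` of odd order of `GL₂(K)`,
`K` algebraically closed of characteristic `p`, every element of `⁅G, G⁆` has order dividing `p`. -/
theorem pow_char_eq_one_of_mem_commutator [IsAlgClosed K] (p : ℕ) [hp : Fact p.Prime] [CharP K p]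
    (G : Subgroup (GL (Fin 2) K)) (hodd : Odd (Nat.card G)) (hsolv : Group.IsSolvable G) :
    ∀ g ∈ ⁅G, G⁆, g ^ p = 1 := by
  obtain ⟨v, hv, hG⟩ := exists_common_eig G hodd hsolv
  intro g hg
  exact pow_char_eq_one_of_mem_fixDetOne p v hv g (commutator_le_fixDetOne G v hv hG hg)

end unip

/-- **Odd order solvable groups in `GL₂(p)`.** For a representation `ρ` of a finite solvable group
`A` of odd order in `GL₂(𝔽_p)`, every `p'`-element of the derived subgroup acts trivially. -/
theorem map_eq_one_of_mem_commutator_of_coprime (p : ℕ) [hp : Fact p.Prime] {A : Type*} [Group A]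
    [Finite A] (hodd : Odd (Nat.card A)) [hsolv : Group.IsSolvable A]
    (ρ : A →* GL (Fin 2) (ZMod p)) (x : A) (hx : x ∈ commutator A)
    (hcop : (orderOf x).Coprime p) : ρ x = 1 := by
  let K := AlgebraicClosure (ZMod p)
  have hchar : CharP K p := charP_of_injective_algebraMap (algebraMap (ZMod p) K).injective p
  let ι : GL (Fin 2) (ZMod p) →* GL (Fin 2) K :=
    Matrix.GeneralLinearGroup.map (algebraMap (ZMod p) K)
  have hι : Function.Injective ι := by
    intro a b hab
    apply Units.ext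
    have h1 : ((ι a : GL (Fin 2) K) : Matrix (Fin 2) (Fin 2) K) = (ι b : GL (Fin 2) K) := by rw [hab]
    ext i j
    have := congrFun (congrFun h1 i) j
    simp only [ι, Matrix.GeneralLinearGroup.map_apply] at this
    exact (algebraMap (ZMod p) K).injective this
  let ρ' : A →* GL (Fin 2) K := ι.comp ρ
  have hGodd : Odd (Nat.card ρ'.range) := by
    have h1 : Nat.card ρ'.range ∣ Nat.card A := by
      rw [← Subgroup.index_ker]
      exact Subgroup.index_dvd_card _
    exact Odd.of_dvd_nat hodd h1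
  have hGsolv : Group.IsSolvable ρ'.range :=
    Group.isSolvable_of_surjective ρ'.rangeRestrict_surjective
  have hmem : ρ' x ∈ ⁅ρ'.range, ρ'.range⁆ := by
    have h1 : ρ' x ∈ (commutator A).map ρ' := Subgroup.mem_map_of_mem ρ' hx
    rw [commutator_def, Subgroup.map_commutator, ← MonoidHom.range_eq_map] at h1
    exact h1
  have hpow := pow_char_eq_one_of_mem_commutator p ρ'.range hGodd hGsolv _ hmem
  have h1 : orderOf (ρ' x) ∣ p := orderOf_dvd_of_pow_eq_one hpow
  have h2 : orderOf (ρ' x) ∣ orderOf x := orderOf_map_dvd ρ' x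
  have h3 : orderOf (ρ' x) = 1 := Nat.eq_one_of_dvd_coprimes hcop h2 h1
  have h4 : ρ' x = 1 := orderOf_eq_one_iff.mp h3
  apply hι
  rw [map_one]
  exact h4


end Cfsg.Agent.Lib.Helper24
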