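import Mathlib
import Cfsg.Agent.Lib.Helper24.GL2

set_option autoImplicit false
set_option linter.style.haveILetI false

namespace Cfsg.Agent.Lib.Helper24

open Matrix
open scoped commutatorElement

/-- The automorphism group of a group `V` whose additivization is a two-dimensional `𝔽_p`-module
embeds in `GL₂(𝔽_p)`. -/
theorem exists_injective_mulAut_to_GL2_aux (p : ℕ) [hp : Fact p.Prime] {V : Type*} [CommGroup V]
    [Module (ZMod p) (Additive V)] [Module.Finite (ZMod p) (Additive V)]
    (hfr : Module.finrank (ZMod p) (Additive V) = 2) :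
    ∃ ψ : MulAut V →* GL (Fin 2) (ZMod p), Function.Injective ψ := by
  classical
  let b : Module.Basis (Fin 2) (ZMod p) (Additive V) :=
    Module.finBasisOfFinrankEq (ZMod p) (Additive V) hfr
  let ψlin : MulAut V →* Module.End (ZMod p) (Additive V) :=
    { toFun := fun f => (MulEquiv.toAdditive f).toAddMonoidHom.toZModLinearMap p
      map_one' := by
        ext x
        rfl
      map_mul' := by
        intro f g
        ext x
        rfl }
  let ψ₀ : MulAut V →* Matrix (Fin 2) (Fin 2) (ZMod p) :=
    (LinearMap.toMatrixAlgEquiv b).toRingEquiv.toMulEquiv.toMonoidHom.comp ψlin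
  refine ⟨ψ₀.toHomUnits, ?_⟩
  intro f g hfg
  have h1 : ψ₀ f = ψ₀ g := by
    have := congrArg Units.val hfg
    simpa using this
  have h2 : ψlin f = ψlin g := (LinearMap.toMatrixAlgEquiv b).injective h1
  ext v
  have := congrArg (fun (L : Module.End (ZMod p) (Additive V)) => L (Additive.ofMul v)) h2
  exact this

theorem exists_injective_mulAut_to_GL2_comm (p : ℕ) [hp : Fact p.Prime] {V : Type*} [CommGroup V]
    [Finite V] (hexp : ∀ a : V, a ^ p = 1) (hcard : Nat.card V = p ^ 2) :
    ∃ ψ : MulAut V →* GL (Fin 2) (ZMod p), Function.Injective ψ := by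
  classical
  have hnsmul : ∀ x : Additive V, p • x = 0 := by
    intro x
    induction x using Additive.rec with
    | ofMul a =>
      rw [← ofMul_pow, hexp a]; rfl
  letI instMod : Module (ZMod p) (Additive V) := AddCommGroup.zmodModule hnsmul
  haveI hMF : Module.Finite (ZMod p) (Additive V) := Module.Finite.of_finite
  have : Fintype V := Fintype.ofFinite V
  have : Fintype (Additive V) := Fintype.ofFinite _
  have hfr : Module.finrank (ZMod p) (Additive V) = 2 := by
    have h1 := Module.card_eq_pow_finrank (K := ZMod p) (V := Additive V)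
    rw [ZMod.card, ← Nat.card_eq_fintype_card] at h1
    have h2 : Nat.card (Additive V) = Nat.card V := rfl
    rw [h2, hcard] at h1
    exact (Nat.pow_right_injective hp.out.two_le h1).symm
  exact @exists_injective_mulAut_to_GL2_aux p hp V _ instMod hMF hfr

theorem exists_injective_mulAut_to_GL2 (p : ℕ) [hp : Fact p.Prime] {V : Type*} [Group V] [Finite V]
    (hcomm : ∀ a b : V, a * b = b * a) (hexp : ∀ a : V, a ^ p = 1) (hcard : Nat.card V = p ^ 2) :
    ∃ ψ : MulAut V →* GL (Fin 2) (ZMod p), Function.Injective ψ := by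
  letI : CommGroup V := { (inferInstance : Group V) with mul_comm := hcomm }
  exact exists_injective_mulAut_to_GL2_comm p hexp hcard

/-- **Odd order solvable groups acting on `ℤ_p × ℤ_p`.** -/
theorem mulAut_eq_one_of_mem_commutator_of_coprime (p : ℕ) [hp : Fact p.Prime] {V : Type*} [Group V]
    [Finite V] (hcomm : ∀ a b : V, a * b = b * a) (hexp : ∀ a : V, a ^ p = 1)
    (hcard : Nat.card V = p ^ 2) {A : Type*} [Group A] [Finite A] (hodd : Odd (Nat.card A))
    [hsolv : Group.IsSolvable A] (φ : A →* MulAut V) (x : A) (hx : x ∈ commutator A)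
    (hcop : (orderOf x).Coprime p) : φ x = 1 := by
  obtain ⟨ψ, hψ⟩ := exists_injective_mulAut_to_GL2 p hcomm hexp hcard
  have := map_eq_one_of_mem_commutator_of_coprime p hodd (ψ.comp φ) x hx hcop
  apply hψ
  rw [map_one]
  exact this

end Cfsg.Agent.Lib.Helper24
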