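import Mathlib
import Cfsg.Agent.Lib.Helper24.GL2Action
import Cfsg.Agent.Lib.Helper24.Omega
import Cfsg.Agent.Lib.Helper24.Frat
import Cfsg.Agent.Lib.Helper24.ClassTwoExp
import Cfsg.Agent.Lib.Helper24.ElemAb

/-!
# Odd-order solvable groups acting on `p`-groups of rank at most two

Main result `centralizes_of_rankLETwo`: if `A` is a solvable subgroup of odd order of a finite group
normalizing a `p`-subgroup `R` (`p` odd) with no elementary abelian subgroup of order `p ^ 3`,
then every `p'`-element of `⁅A, A⁆` centralizes `R`.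
-/

set_option autoImplicit false
open scoped commutatorElement

namespace Cfsg.Agent.Lib.Helper24

/-- The endomorphism of `P ⧸ N` induced by an automorphism of `P` mapping `N` into itself. -/
def quotAutHom {P : Type*} [Group P] (N : Subgroup P) [N.Normal] (e : MulAut P)
    (h : ∀ n ∈ N, e n ∈ N) : P ⧸ N →* P ⧸ N :=
  QuotientGroup.map N N e.toMonoidHom (fun n hn => h n hn)

theorem quotAutHom_mk {P : Type*} [Group P] (N : Subgroup P) [N.Normal] (e : MulAut P)
    (h : ∀ n ∈ N, e n ∈ N) (x : P) :
    quotAutHom N e h (QuotientGroup.mk x) = QuotientGroup.mk (e x) := rfl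

/-- A group acting on `P` by automorphisms preserving the normal subgroup `N` acts on `P ⧸ N`. -/
def quotAut {P : Type*} [Group P] (N : Subgroup P) [N.Normal] {A : Type*} [Group A]
    (ψ : A →* MulAut P) (h : ∀ a, ∀ n ∈ N, ψ a n ∈ N) : A →* MulAut (P ⧸ N) :=
  MonoidHom.mk'
    (fun a => MonoidHom.toMulEquiv (quotAutHom N (ψ a) (h a)) (quotAutHom N (ψ a⁻¹) (h a⁻¹))
      (by
        ext q
        simp [quotAutHom_mk])
      (by
        ext q
        simp [quotAutHom_mk]))
    (by
      intro a b
      ext q
      induction q using QuotientGroup.induction_on with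
      | H x => simp [quotAutHom_mk])

theorem quotAut_mk {P : Type*} [Group P] (N : Subgroup P) [N.Normal] {A : Type*} [Group A]
    (ψ : A →* MulAut P) (h : ∀ a, ∀ n ∈ N, ψ a n ∈ N) (a : A) (x : P) :
    quotAut N ψ h a (QuotientGroup.mk x) = QuotientGroup.mk (ψ a x) := rfl

/-- Odd-order solvable group acting on an elementary abelian `p`-group of order at most `p ^ 2`:
the `p'`-elements of the derived subgroup act trivially. -/
theorem mulAut_eq_one_of_mem_commutator_of_coprime_of_card_le (p : ℕ) [hp : Fact p.Prime]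
    {V : Type*} [Group V] [Finite V] (hcomm : ∀ a b : V, a * b = b * a)
    (hexp : ∀ a : V, a ^ p = 1) (hcard : Nat.card V ≤ p ^ 2) {A : Type*} [Group A] [Finite A]
    (hodd : Odd (Nat.card A)) [hsolv : Group.IsSolvable A] (φ : A →* MulAut V) (x : A)
    (hx : x ∈ commutator A) (hcop : (orderOf x).Coprime p) : φ x = 1 := by
  have hV : IsPGroup p V := fun g => ⟨1, by simpa using hexp g⟩
  obtain ⟨k, hk⟩ := hV.exists_card_eq
  have hp1 : 1 < p := hp.out.one_lt
  have hk2 : k ≤ 2 := by
    rw [hk] at hcard
    exact (Nat.pow_le_pow_iff_right hp1).mp hcard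
  interval_cases k
  · -- trivial group
    have : Subsingleton V := (Nat.card_eq_one_iff_unique.mp (by simpa using hk)).1
    ext v
    exact Subsingleton.elim _ _
  · -- cyclic of order p
    have hc : IsCyclic V := isCyclic_of_prime_card (p := p) (by simpa using hk)
    let ψ : A →* (ZMod (Nat.card V))ˣ := (IsCyclic.mulAutMulEquiv V).toMonoidHom.comp φ
    have h1 : x ∈ ψ.ker := Abelianization.commutator_subset_ker ψ hx
    have h2 : (IsCyclic.mulAutMulEquiv V) (φ x) = 1 := h1
    exact (MulEquiv.map_eq_one_iff _).mp h2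
  · exact mulAut_eq_one_of_mem_commutator_of_coprime p hcomm hexp hk hodd φ x hx hcop

/-- A finite group of exponent `p` and class at most two in which every elementary abelian subgroup
has order at most `p ^ 2` has order at most `p ^ 3`. -/
theorem card_le_cube_of_exponent_class_two_rank_two {P : Type*} [Group P] [Finite P] (p : ℕ)
    [hp : Fact p.Prime] (hexp : ∀ x : P, x ^ p = 1)
    (hcl : ∀ x y : P, ⁅x, y⁆ ∈ Subgroup.center P)
    (hr : ∀ E : Subgroup P, (∀ a ∈ E, ∀ b ∈ E, a * b = b * a) → (∀ a ∈ E, a ^ p = 1) →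
      Nat.card E ≤ p ^ 2) : Nat.card P ≤ p ^ 3 := by
  have hp1 : 1 < p := hp.out.one_lt
  have hP : IsPGroup p P := fun g => ⟨1, by simpa using hexp g⟩
  set Z := Subgroup.center P with hZdef
  have hZc : IsMulCommutative Z := by rw [hZdef]; infer_instance
  have hZr : Nat.card Z ≤ p ^ 2 :=
    hr Z (fun a ha b _ => (Subgroup.mem_center_iff.mp ha b).symm) (fun a _ => hexp a)
  by_cases hab : ∀ a : P, a ∈ Z
  · have : Z = ⊤ := by rw [eq_top_iff]; intro a _; exact hab a
    have h1 : Nat.card P = Nat.card Z := by rw [this, Subgroup.card_top]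
    rw [h1]
    exact hZr.trans (Nat.pow_le_pow_right hp.out.pos (by norm_num))
  · push Not at hab
    obtain ⟨a, haZ⟩ := hab
    have haC : a ∈ Subgroup.centralizer (Z : Set P) := by
      rw [Subgroup.mem_centralizer_iff]
      intro h hh
      exact (Subgroup.mem_center_iff.mp hh a).symm
    set E := Subgroup.closure ((Z : Set P) ∪ {a}) with hEdef
    have hE := elemAb_adjoin p Z hZc (fun c _ => hexp c) a haC (hexp a)
    have hEc : ∀ u ∈ E, ∀ v ∈ E, u * v = v * u := by
      intro u hu v hv
      have := hE.1
      exact setLike_mul_comm hu hv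
    have hEr : Nat.card E ≤ p ^ 2 := hr E hEc (fun u _ => hexp u)
    have hZE : Nat.card Z < Nat.card E := card_lt_card_adjoin Z a haZ
    -- Z is nontrivial
    have hZ1 : 1 < Nat.card Z := by
      have : ∃ g : P, g * a ≠ a * g := by
        by_contra hcon
        push Not at hcon
        exact haZ (Subgroup.mem_center_iff.mpr hcon)
      obtain ⟨g, hg⟩ := this
      have hne : ⁅g, a⁆ ≠ 1 := by
        intro h1
        apply hg
        rw [commutatorElement_eq_one_iff_mul_comm] at h1
        exact h1
      have hmem : ⁅g, a⁆ ∈ Z := hcl g a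
      have : Nontrivial Z := ⟨⟨⟨⁅g, a⁆, hmem⟩, 1, fun h => hne (by simpa using congrArg Subtype.val h)⟩⟩
      exact Finite.one_lt_card
    set C := Subgroup.centralizer ({a} : Set P) with hCdef
    have hEC : E ≤ C := by
      rw [hEdef, Subgroup.closure_le]
      rintro z (hz | hz)
      · rw [SetLike.mem_coe, hCdef, Subgroup.mem_centralizer_iff]
        intro h hh
        rw [Set.mem_singleton_iff] at hh
        subst hh
        exact (Subgroup.mem_center_iff.mp hz h)
      · rw [Set.mem_singleton_iff] at hz
        subst hz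
        rw [SetLike.mem_coe, hCdef, Subgroup.mem_centralizer_iff]
        intro h hh
        rw [Set.mem_singleton_iff] at hh
        subst hh
        rfl
    obtain ⟨k, hk⟩ := (hP.to_subgroup Z).exists_card_eq
    obtain ⟨l, hl⟩ := (hP.to_subgroup E).exists_card_eq
    have hk1 : 1 ≤ k := by
      rw [hk] at hZ1
      by_contra h0
      have : k = 0 := by omega
      subst this
      simp at hZ1
    have hkl : k < l := by
      rw [hk, hl] at hZE
      exact (Nat.pow_lt_pow_iff_right hp1).mp hZE
    have hl2 : l ≤ 2 := by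
      rw [hl] at hEr
      exact (Nat.pow_le_pow_iff_right hp1).mp hEr
    have hCE : C ≤ E := by
      by_contra hcon
      obtain ⟨b, hbC, hbE⟩ := SetLike.not_le_iff_exists.mp hcon
      have hbcen : b ∈ Subgroup.centralizer ((E : Subgroup P) : Set P) := by
        rw [hEdef, centralizer_adjoin]
        refine Subgroup.mem_inf.mpr ⟨?_, hbC⟩
        rw [Subgroup.mem_centralizer_iff]
        intro h hh
        exact (Subgroup.mem_center_iff.mp hh b).symm
      have hE' := elemAb_adjoin p E hE.1 (fun c _ => hexp c) b hbcen (hexp b)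
      set E' := Subgroup.closure ((E : Set P) ∪ {b}) with hE'def
      have hE'c : ∀ u ∈ E', ∀ v ∈ E', u * v = v * u := by
        intro u hu v hv
        have := hE'.1
        exact setLike_mul_comm hu hv
      have hE'r : Nat.card E' ≤ p ^ 2 := hr E' hE'c (fun u _ => hexp u)
      have hEE' : Nat.card E < Nat.card E' := card_lt_card_adjoin E b hbE
      obtain ⟨m, hm⟩ := (hP.to_subgroup E').exists_card_eq
      have hlm : l < m := by
        rw [hl, hm] at hEE'
        exact (Nat.pow_lt_pow_iff_right hp1).mp hEE'
      have hm2 : m ≤ 2 := by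
        rw [hm] at hE'r
        exact (Nat.pow_le_pow_iff_right hp1).mp hE'r
      omega
    have hCeq : C = E := le_antisymm hCE hEC
    have hdvd := card_dvd_card_centralizer_mul (⊤ : Subgroup P) Z le_rfl a (fun w _ => hcl w a)
    rw [Subgroup.card_top, top_inf_eq, ← hCdef, hCeq, hl, hk, ← pow_add] at hdvd
    have h1 : Nat.card P ≤ p ^ (l + k) := Nat.le_of_dvd (pow_pos hp.out.pos _) hdvd
    exact h1.trans (Nat.pow_le_pow_right hp.out.pos (by omega))

/-- `R` has no elementary abelian subgroup of order greater than `p ^ 2`. -/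
def RankLETwo (p : ℕ) {G : Type*} [Group G] (R : Subgroup G) : Prop :=
  ∀ E : Subgroup G, E ≤ R → (∀ a ∈ E, ∀ b ∈ E, a * b = b * a) → (∀ a ∈ E, a ^ p = 1) →
    Nat.card E ≤ p ^ 2

theorem RankLETwo.mono {p : ℕ} {G : Type*} [Group G] {R L : Subgroup G} (h : RankLETwo p R)
    (hLR : L ≤ R) : RankLETwo p L :=
  fun E hE => h E (hE.trans hLR)

theorem comm_self_le {G : Type*} [Group G] (A : Subgroup G) : ⁅A, A⁆ ≤ A := by
  rw [Subgroup.commutator_le]
  intro x hx y hy
  rw [commutatorElement_def]
  exact A.mul_mem (A.mul_mem (A.mul_mem hx hy) (A.inv_mem hx)) (A.inv_mem hy)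

theorem comm_le_left_of_le_normalizer {G : Type*} [Group G] (R X : Subgroup G)
    (hX : X ≤ Subgroup.normalizer (R : Set G)) : ⁅R, X⁆ ≤ R := by
  rw [Subgroup.commutator_le]
  intro r hr y hy
  have h1 : y * r⁻¹ * y⁻¹ ∈ R := (Subgroup.mem_normalizer_iff.mp (hX hy) r⁻¹).mp (R.inv_mem hr)
  have e : ⁅r, y⁆ = r * (y * r⁻¹ * y⁻¹) := by rw [commutatorElement_def]; group
  rw [e]
  exact R.mul_mem hr h1

theorem le_normalizer_comm_of_le_normalizer {G : Type*} [Group G] (A R X : Subgroup G)
    (hR : A ≤ Subgroup.normalizer (R : Set G)) (hX : A ≤ Subgroup.normalizer (X : Set G)) :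
    A ≤ Subgroup.normalizer ((⁅R, X⁆ : Subgroup G) : Set G) := by
  intro a ha
  have h1 := hR ha
  have h2 := hX ha
  rw [Subgroup.mem_normalizer_iff_map_conj_eq] at h1 h2 ⊢
  rw [Subgroup.map_commutator, h1, h2]

theorem mem_commutator_subtype {G : Type*} [Group G] (A : Subgroup G) (x : G) (hx : x ∈ ⁅A, A⁆)
    (hxA : x ∈ A) : (⟨x, hxA⟩ : A) ∈ commutator A := by
  rw [← Subgroup.map_subtype_commutator] at hx
  obtain ⟨y, hy, hyx⟩ := Subgroup.mem_map.mp hx
  have : y = ⟨x, hxA⟩ := Subtype.ext hyx
  rw [← this]
  exact hy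

theorem centralizes_of_rankLETwo_aux {G : Type*} [Group G] [Finite G] (p : ℕ) [hp : Fact p.Prime]
    (hp2 : p ≠ 2) (A : Subgroup G) [hAs : Group.IsSolvable A] (hAodd : Odd (Nat.card A)) :
    ∀ (n : ℕ) (R : Subgroup G), Nat.card R ≤ n → IsPGroup p R → RankLETwo p R →
      A ≤ Subgroup.normalizer (R : Set G) →
      ∀ x ∈ ⁅A, A⁆, (orderOf x).Coprime p → ∀ r ∈ R, x * r = r * x := by
  intro n
  induction n with
  | zero =>
    intro R hcard
    have := Nat.card_pos (α := R)
    omega
  | succ n ih =>
    intro R hcard hR hrank hAR x hx hcop r hr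
    have hxA : x ∈ A := comm_self_le A hx
    have hxN : x ∈ Subgroup.normalizer (R : Set G) := hAR hxA
    -- the set of p'-elements of A'
    set S : Set G := {y | y ∈ ⁅A, A⁆ ∧ (orderOf y).Coprime p} with hS
    set X := Subgroup.closure S with hX
    have hxS : x ∈ S := ⟨hx, hcop⟩
    have hXA : X ≤ A := by
      rw [hX, Subgroup.closure_le]
      intro y hy
      exact comm_self_le A hy.1
    have hAX : A ≤ Subgroup.normalizer (X : Set G) := by
      rw [hX, Subgroup.le_normalizer_closure_iff]
      intro a ha y hy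
      apply Subgroup.subset_closure
      refine ⟨?_, ?_⟩
      · have h1 : a ∈ Subgroup.normalizer ((⁅A, A⁆ : Subgroup G) : Set G) :=
          normalizer_le_normalizer_comm A (Subgroup.le_normalizer ha)
        exact (Subgroup.mem_normalizer_iff.mp h1 y).mp hy.1
      · have : orderOf (a * y * a⁻¹) = orderOf y := by
          have := MulEquiv.orderOf_eq (MulAut.conj a) y
          rwa [MulAut.conj_apply] at this
        rw [this]
        exact hy.2
    have hXR : X ≤ Subgroup.normalizer (R : Set G) := hXA.trans hAR
    set L := ⁅R, X⁆ with hLdef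
    have hLR : L ≤ R := comm_le_left_of_le_normalizer R X hXR
    have hAL : A ≤ Subgroup.normalizer (L : Set G) :=
      le_normalizer_comm_of_le_normalizer A R X hAR hAX
    by_cases hL : L = R
    · -- L = R
      by_cases hRbot : R = ⊥
      · rw [hRbot, Subgroup.mem_bot] at hr
        subst hr
        simp
      set Φ := frat p R with hΦdef
      have hΦR : Φ ≤ R := frat_le p R
      have hΦne : Φ ≠ R := frat_ne p R hR hRbot
      have hΦcard : Nat.card Φ ≤ n := by
        have := card_lt_of_le_of_ne hΦR hΦne
        omega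
      have hAΦ : A ≤ Subgroup.normalizer (Φ : Set G) :=
        hAR.trans (normalizer_le_normalizer_frat p R)
      have ihΦ := ih Φ hΦcard (hR.to_le hΦR) (hrank.mono hΦR) hAΦ
      have hXΦ : X ≤ Subgroup.centralizer (Φ : Set G) := by
        rw [hX, Subgroup.closure_le]
        intro y hy
        rw [SetLike.mem_coe, Subgroup.mem_centralizer_iff]
        intro c hc
        exact (ihΦ y hy.1 hy.2 c hc).symm
      have hXΦ0 : ⁅X, Φ⁆ = ⊥ := Subgroup.commutator_eq_bot_iff_le_centralizer.mpr hXΦ
      have h1 : ⁅⁅X, Φ⁆, R⁆ = ⊥ := by rw [hXΦ0, Subgroup.commutator_bot_left]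
      have h2 : ⁅⁅Φ, R⁆, X⁆ = ⊥ := by
        have h3 : ⁅Φ, R⁆ ≤ Φ := comm_le_left_of_le_normalizer Φ R (le_normalizer_frat p R)
        have h4 : ⁅⁅Φ, R⁆, X⁆ ≤ ⁅Φ, X⁆ := Subgroup.commutator_mono h3 le_rfl
        rw [Subgroup.commutator_comm Φ X, hXΦ0] at h4
        exact le_bot_iff.mp h4
      have h3 : ⁅⁅R, X⁆, Φ⁆ = ⊥ := Subgroup.commutator_commutator_eq_bot_of_rotate h1 h2
      rw [← hLdef, hL] at h3
      have hRΦ : R ≤ Subgroup.centralizer (Φ : Set G) :=
        Subgroup.commutator_eq_bot_iff_le_centralizer.mp h3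
      have hcen : ∀ r ∈ R, ∀ c ∈ Φ, c * r = r * c := by
        intro r hr c hc
        exact (Subgroup.mem_centralizer_iff.mp (hRΦ hr)) c hc
      -- Ω
      set T : Set G := {y | y ∈ R ∧ y ^ p = 1} with hT
      set Ω := Subgroup.closure T with hΩdef
      have hΩR : Ω ≤ R := by
        rw [hΩdef, Subgroup.closure_le]
        intro y hy
        exact hy.1
      have hAΩ : A ≤ Subgroup.normalizer (Ω : Set G) := by
        rw [hΩdef, Subgroup.le_normalizer_closure_iff]
        intro a ha y hy
        apply Subgroup.subset_closure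
        refine ⟨(Subgroup.mem_normalizer_iff.mp (hAR ha) y).mp hy.1, ?_⟩
        rw [conj_pow, hy.2]
        group
      have hCexp : ∀ c ∈ ⁅R, R⁆, c ^ p = 1 := by
        rw [Subgroup.commutator_def]
        apply (elemAb_closure p _ ?_ ?_).2
        · rintro s ⟨a, ha, b, hb, rfl⟩ t ⟨a', ha', b', hb', rfl⟩
          have ht : ⁅a', b'⁆ ∈ R := comm_self_le R (Subgroup.commutator_mem_commutator ha' hb')
          exact hcen _ ht _ (comm_mem_frat p R ha hb)
        · rintro s ⟨a, ha, b, hb, rfl⟩
          have hzx : Commute ⁅a, b⁆ b := hcen b hb _ (comm_mem_frat p R ha hb)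
          rw [← commutatorElement_pow_right_of_commute b a hzx p,
            commutatorElement_eq_one_iff_mul_comm]
          exact (hcen a ha _ (pow_mem_frat p R hb)).symm
      have hΩexp : ∀ f ∈ Ω, f ^ p = 1 :=
        pow_eq_one_of_closure p hp2 ⁅R, R⁆ T hCexp (fun s hs => hs.2)
          (fun s hs t ht => Subgroup.commutator_mem_commutator hs.1 ht.1)
          (fun c hc f hf => hcen f (hΩR hf) c (comm_le_frat p R hc))
      by_cases hΩ : Ω = R
      · -- exponent p
        have hexpR : ∀ r ∈ R, r ^ p = 1 := by
          intro r hr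
          rw [← hΩ] at hr
          exact hΩexp r hr
        have hcardR3 : Nat.card R ≤ p ^ 3 := by
          apply card_le_cube_of_exponent_class_two_rank_two (P := R) p
          · intro y
            apply Subtype.ext
            rw [Subgroup.coe_pow]
            exact hexpR y y.2
          · intro y z
            rw [Subgroup.mem_center_iff]
            intro g
            apply Subtype.ext
            have := hcen g g.2 ⁅(y : G), (z : G)⁆ (comm_mem_frat p R y.2 z.2)
            have e : ((⁅y, z⁆ : R) : G) = ⁅(y : G), (z : G)⁆ := rfl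
            rw [Subgroup.coe_mul, Subgroup.coe_mul, e]
            exact this.symm
          · intro E hEc hEe
            have h1 : Nat.card (E.map R.subtype) = Nat.card E :=
              Subgroup.card_map_of_injective R.subtype_injective
            rw [← h1]
            apply hrank (E.map R.subtype) (Subgroup.map_subtype_le E)
            · rintro _ ⟨a, ha, rfl⟩ _ ⟨b, hb, rfl⟩
              have := hEc a ha b hb
              simpa using congrArg Subtype.val this
            · rintro _ ⟨a, ha, rfl⟩
              have := hEe a ha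
              simpa using congrArg Subtype.val this
        have hnorm : (Φ.subgroupOf R).Normal :=
          (Subgroup.normal_subgroupOf_iff_le_normalizer hΦR).mpr (le_normalizer_frat p R)
        have hVcomm : ∀ u v : R ⧸ Φ.subgroupOf R, u * v = v * u := by
          intro u v
          induction u using QuotientGroup.induction_on with
          | H a =>
            induction v using QuotientGroup.induction_on with
            | H b =>
              rw [← QuotientGroup.mk_mul, ← QuotientGroup.mk_mul, QuotientGroup.eq,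
                Subgroup.mem_subgroupOf]
              have e : (((a * b)⁻¹ * (b * a) : R) : G) = ⁅(b : G)⁻¹, (a : G)⁻¹⁆ := by
                rw [commutatorElement_def]
                simp
                group
              rw [e]
              exact comm_mem_frat p R (R.inv_mem b.2) (R.inv_mem a.2)
        have hVexp : ∀ u : R ⧸ Φ.subgroupOf R, u ^ p = 1 := by
          intro u
          induction u using QuotientGroup.induction_on with
          | H a =>
            rw [← QuotientGroup.mk_pow]
            have : a ^ p = 1 := by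
              apply Subtype.ext
              rw [Subgroup.coe_pow]
              exact hexpR a a.2
            rw [this]
            rfl
        have hVcard : Nat.card (R ⧸ Φ.subgroupOf R) ≤ p ^ 2 := by
          have hmul := Subgroup.card_eq_card_quotient_mul_card_subgroup (Φ.subgroupOf R)
          by_cases hab : ∀ a ∈ R, ∀ b ∈ R, a * b = b * a
          · have h2 : Nat.card R ≤ p ^ 2 := hrank R le_rfl hab hexpR
            have h3 : 0 < Nat.card (Φ.subgroupOf R) := Nat.card_pos
            nlinarith
          · push Not at hab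
            obtain ⟨a, ha, b, hb, hne⟩ := hab
            have hne1 : ⁅a, b⁆ ≠ 1 := by
              rw [Ne, commutatorElement_eq_one_iff_mul_comm]
              exact hne
            have hmem : ⁅a, b⁆ ∈ Φ := comm_mem_frat p R ha hb
            have hnt : Nontrivial (Φ.subgroupOf R) := by
              refine ⟨⟨⟨⟨⁅a, b⁆, hΦR hmem⟩, ?_⟩, 1, ?_⟩⟩
              · rw [Subgroup.mem_subgroupOf]; exact hmem
              · intro h
                apply hne1
                have := congrArg (fun z : Φ.subgroupOf R => ((z : R) : G)) h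
                simpa using this
            have hΦp : IsPGroup p (Φ.subgroupOf R) := hR.to_subgroup _
            have hdvd : p ∣ Nat.card (Φ.subgroupOf R) := by
              rcases hΦp.card_eq_or_dvd with h | h
              · have := Finite.one_lt_card (α := Φ.subgroupOf R)
                omega
              · exact h
            have hple : p ≤ Nat.card (Φ.subgroupOf R) := Nat.le_of_dvd Nat.card_pos hdvd
            have hp0 : 0 < p := hp.out.pos
            have h5 : Nat.card (R ⧸ Φ.subgroupOf R) * p ≤ p ^ 2 * p := by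
              calc Nat.card (R ⧸ Φ.subgroupOf R) * p
                  ≤ Nat.card (R ⧸ Φ.subgroupOf R) * Nat.card (Φ.subgroupOf R) :=
                    Nat.mul_le_mul_left _ hple
                _ = Nat.card R := hmul.symm
                _ ≤ p ^ 3 := hcardR3
                _ = p ^ 2 * p := by ring
            exact Nat.le_of_mul_le_mul_right h5 hp0
        -- the action of A on R / Φ
        let ψ : A →* MulAut R := R.normalizerMonoidHom.comp (Subgroup.inclusion hAR)
        have hψ : ∀ a : A, ∀ n ∈ Φ.subgroupOf R, ψ a n ∈ Φ.subgroupOf R := by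
          intro a n hn
          rw [Subgroup.mem_subgroupOf] at hn ⊢
          have h1 : ((ψ a n : R) : G) = (a : G) * (n : G) * (a : G)⁻¹ := rfl
          rw [h1]
          exact (Subgroup.mem_normalizer_iff.mp (hAΦ a.2) n).mp hn
        let φ := quotAut (Φ.subgroupOf R) ψ hψ
        have hφ : φ ⟨x, hxA⟩ = 1 :=
          mulAut_eq_one_of_mem_commutator_of_coprime_of_card_le p hVcomm hVexp hVcard hAodd φ
            ⟨x, hxA⟩ (mem_commutator_subtype A x hx hxA)
            (by rw [Subgroup.orderOf_mk]; exact hcop)
        have h6 : φ ⟨x, hxA⟩ (QuotientGroup.mk ⟨r, hr⟩) = QuotientGroup.mk ⟨r, hr⟩ := by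
          rw [hφ]; rfl
        rw [quotAut_mk, QuotientGroup.eq, Subgroup.mem_subgroupOf] at h6
        have h7 : (((ψ ⟨x, hxA⟩ ⟨r, hr⟩)⁻¹ * ⟨r, hr⟩ : R) : G) = (x * r * x⁻¹)⁻¹ * r := rfl
        rw [h7] at h6
        have h8 : r⁻¹ * (x * r * x⁻¹) ∈ Φ := by
          have := Φ.inv_mem h6
          rwa [mul_inv_rev, inv_inv] at this
        exact commute_of_comm_commute_pgroup p x hcop R hR hxN r hr (ihΦ x hx hcop _ h8)
      · -- Ω ≠ R
        have hΩcard : Nat.card Ω ≤ n := by
          have := card_lt_of_le_of_ne hΩR hΩ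
          omega
        have ihΩ := ih Ω hΩcard (hR.to_le hΩR) (hrank.mono hΩR) hAΩ
        exact centralizes_of_centralizes_omega p hp2 x hcop R hR hxN
          (fun y hy hyp => ihΩ x hx hcop y (Subgroup.subset_closure ⟨hy, hyp⟩)) r hr
    · -- L ≠ R
      have hLcard : Nat.card L ≤ n := by
        have := card_lt_of_le_of_ne hLR hL
        omega
      have ihL := ih L hLcard (hR.to_le hLR) (hrank.mono hLR) hAL
      apply commute_of_comm_commute_pgroup p x hcop R hR hxN r hr
      apply ihL x hx hcop
      have e : r⁻¹ * (x * r * x⁻¹) = ⁅r⁻¹, x⁆ := by rw [commutatorElement_def]; group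
      rw [e]
      exact Subgroup.commutator_mem_commutator (R.inv_mem hr) (Subgroup.subset_closure hxS)

/-- **Rank two lemma.** `A` solvable of odd order normalizing the `p`-subgroup `R` (`p` odd) of
rank at most two: every `p'`-element of `⁅A, A⁆` centralizes `R`. -/
theorem centralizes_of_rankLETwo {G : Type*} [Group G] [Finite G] (p : ℕ) [hp : Fact p.Prime]
    (hp2 : p ≠ 2) (A : Subgroup G) [hAs : Group.IsSolvable A] (hAodd : Odd (Nat.card A))
    (R : Subgroup G) (hR : IsPGroup p R) (hrank : RankLETwo p R)
    (hAR : A ≤ Subgroup.normalizer (R : Set G)) (x : G) (hx : x ∈ ⁅A, A⁆)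
    (hcop : (orderOf x).Coprime p) (r : G) (hr : r ∈ R) : x * r = r * x :=
  centralizes_of_rankLETwo_aux p hp2 A hAodd _ R le_rfl hR hrank hAR x hx hcop r hr

/-- A subgroup of a finite group all of whose `p'`-elements are trivial is a `p`-group. -/
theorem isPGroup_of_forall_coprime_eq_one {G : Type*} [Group G] [Finite G] (p : ℕ)
    [hp : Fact p.Prime] (H : Subgroup G) (h : ∀ y ∈ H, (orderOf y).Coprime p → y = 1) :
    IsPGroup p H := by
  intro g
  have hn : orderOf (g : G) ≠ 0 := (orderOf_pos (g : G)).ne'
  obtain ⟨k, m, hm, hnm⟩ := Nat.exists_eq_pow_mul_and_not_dvd hn p hp.out.ne_one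
  refine ⟨k, ?_⟩
  apply Subtype.ext
  rw [Subgroup.coe_pow, Subgroup.coe_one]
  apply h _ (H.pow_mem g.2 _)
  have h1 : ((g : G) ^ p ^ k) ^ m = 1 := by
    rw [← pow_mul, ← hnm, pow_orderOf_eq_one]
  have h2 : orderOf ((g : G) ^ p ^ k) ∣ m := orderOf_dvd_of_pow_eq_one h1
  have h3 : m.Coprime p := ((Nat.Prime.coprime_iff_not_dvd hp.out).mpr hm).symm
  exact Nat.Coprime.coprime_dvd_left h2 h3

end Cfsg.Agent.Lib.Helper24
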