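import Mathlib
import Cfsg.Prelude.Def_Local
import Cfsg.Prelude.Def_OddOrderLocal
import Cfsg.Agent.Lib.Helper55.Cores
import Cfsg.Agent.Lib.Helper24.RankTwo
import Cfsg.Agent.Lib.Helper24.ElemAb

/-!
# Structure of solvable groups of odd order from the action on `O_p(G / O_{p'}(G))`

* `pRankLE_quotient`: the `p`-rank does not grow modulo a normal `p'`-subgroup.
* `hasNormalPComplement_of_normal_of_coprime_of_index`.
* `odd_solvable_structure`: the five conclusions of BG Theorem 4.18 / 5.5-type results, from the two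
  hypotheses that `p'`-elements of the derived subgroup of `G / O_{p'}(G)` and elements of prime order
  `> p` centralize `O_p(G / O_{p'}(G))`.
-/

set_option autoImplicit false
open scoped commutatorElement
open Cfsg

namespace Cfsg.Agent.Lib.Helper24

/-- An element of `p`-power order lying in a subgroup of order prime to `p` is trivial. -/
theorem eq_one_of_pow_eq_one_of_mem_of_coprime {G : Type*} [Group G] (p : ℕ)
    (K : Subgroup G) [Finite K] (hK : (Nat.card K).Coprime p) (s : G) (j : ℕ) (hs : s ^ p ^ j = 1)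
    (hsK : s ∈ K) : s = 1 := by
  have h1 : s ^ Nat.card K = 1 := by
    have h := congrArg Subtype.val (pow_card_eq_one' (G := K) (x := ⟨s, hsK⟩))
    rw [Subgroup.coe_pow, Subgroup.coe_one] at h
    exact h
  have h2 := pow_gcd_eq_one.mpr ⟨hs, h1⟩
  have h3 : (p ^ j).gcd (Nat.card K) = 1 := (Nat.Coprime.pow_left j hK.symm)
  rwa [h3, pow_one] at h2

/-- The `p`-rank does not grow on passing to the quotient by a normal `p'`-subgroup. -/
theorem pRankLE_quotient {G : Type*} [Group G] [Finite G] (p k : ℕ) [hp : Fact p.Prime]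
    (K : Subgroup G) [K.Normal] (hK : (Nat.card K).Coprime p) (hr : Cfsg.PRankLE p k G) :
    Cfsg.PRankLE p k (G ⧸ K) := by
  intro E hEc hEe
  have hEp : IsPGroup p E := fun g => ⟨1, by
    apply Subtype.ext
    simpa using hEe g g.2⟩
  set H := E.comap (QuotientGroup.mk' K) with hH
  let f' : H →* E := (QuotientGroup.mk' K).subgroupComap E
  have hf' : Function.Surjective f' :=
    MonoidHom.subgroupComap_surjective_of_surjective _ _ (QuotientGroup.mk'_surjective K)
  let T₀ : Sylow p H := default
  have hidx : ((T₀ : Subgroup H).map f').index ∣ (T₀ : Subgroup H).index :=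
    Subgroup.index_map_dvd _ hf'
  obtain ⟨n, hn⟩ := hEp.index ((T₀ : Subgroup H).map f')
  have hn0 : n = 0 := by
    by_contra h0
    apply T₀.not_dvd_index
    apply dvd_trans _ hidx
    rw [hn]
    exact dvd_pow_self p h0
  rw [hn0, pow_zero, Subgroup.index_eq_one] at hn
  -- injectivity on T₀
  have hinj : ∀ s : H, s ∈ T₀ → f' s = 1 → s = 1 := by
    intro s hs hfs
    obtain ⟨j, hj⟩ := T₀.isPGroup' ⟨s, hs⟩
    have hj' : (s : G) ^ p ^ j = 1 := by
      have := congrArg (fun z : (T₀ : Subgroup H) => ((z : H) : G)) hj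
      simpa using this
    have hsK : (s : G) ∈ K := by
      have : ((f' s : E) : G ⧸ K) = 1 := by rw [hfs]; rfl
      exact (QuotientGroup.eq_one_iff (s : G)).mp this
    apply Subtype.ext
    exact eq_one_of_pow_eq_one_of_mem_of_coprime p K hK _ j hj' hsK
  set T := (T₀ : Subgroup H).map H.subtype with hT
  have hTcard : Nat.card T = Nat.card (T₀ : Subgroup H) :=
    Subgroup.card_map_of_injective H.subtype_injective
  have hEcard : Nat.card E ≤ Nat.card (T₀ : Subgroup H) := by
    have h1 : Nat.card E = Nat.card ((T₀ : Subgroup H).map f') := by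
      rw [hn, Subgroup.card_top]
    rw [h1]
    exact Nat.card_le_card_of_surjective _ (f'.subgroupMap_surjective (T₀ : Subgroup H))
  have hcommE : ∀ a b : E, a * b = b * a := fun a b => hEc.is_comm.comm a b
  have key : Nat.card T ≤ p ^ k := by
    apply hr T
    · refine ⟨⟨?_⟩⟩
      rintro ⟨_, s₁, hs₁, rfl⟩ ⟨_, s₂, hs₂, rfl⟩
      apply Subtype.ext
      change (H.subtype s₁) * (H.subtype s₂) = (H.subtype s₂) * (H.subtype s₁)
      have h1 : s₁ * s₂ * (s₂ * s₁)⁻¹ = 1 := by
        apply hinj
        · exact T₀.mul_mem (T₀.mul_mem hs₁ hs₂) (T₀.inv_mem (T₀.mul_mem hs₂ hs₁))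
        · rw [map_mul, map_inv, map_mul, map_mul, hcommE (f' s₁) (f' s₂), mul_inv_cancel]
      have h2 : s₁ * s₂ = s₂ * s₁ := mul_inv_eq_one.mp h1
      rw [← map_mul, ← map_mul, h2]
    · rintro _ ⟨s, hs, rfl⟩
      have h1 : s ^ p = 1 := by
        apply hinj
        · exact T₀.pow_mem hs p
        · rw [map_pow]
          apply Subtype.ext
          simpa using hEe (f' s) (f' s).2
      rw [← map_pow, h1, map_one]
  omega

/-- A normal subgroup of order prime to `p` and index a power of `p` is a normal `p`-complement. -/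
theorem hasNormalPComplement_of_normal_of_coprime_of_index {G : Type*} [Group G] [Finite G] (p : ℕ)
    [hp : Fact p.Prime] (N : Subgroup G) [hN : N.Normal] (hNc : (Nat.card N).Coprime p)
    (hidx : ∃ k, N.index = p ^ k) : Cfsg.HasNormalPComplement p G := by
  let P : Sylow p G := default
  refine ⟨P, N, hN, ?_⟩
  obtain ⟨k, hk⟩ := hidx
  obtain ⟨a, ha⟩ := IsPGroup.iff_card.mp P.isPGroup'
  have h1 : Nat.card N * N.index = Nat.card G := N.card_mul_index
  have h2 : Nat.card P * (P : Subgroup G).index = Nat.card G := (P : Subgroup G).card_mul_index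
  have hPi : (p ^ k).Coprime (P : Subgroup G).index := by
    apply Nat.Coprime.pow_left
    exact (Nat.Prime.coprime_iff_not_dvd hp.out).mpr P.not_dvd_index
  have hcop : (Nat.card N).Coprime (Nat.card P) := by
    rw [ha]; exact Nat.Coprime.pow_right a hNc
  have hd1 : p ^ a ∣ p ^ k := by
    have : p ^ a ∣ Nat.card N * p ^ k := by
      rw [← hk, h1, ← h2, ha]; exact Dvd.intro _ rfl
    exact (Nat.Coprime.dvd_mul_left (by rw [← ha]; exact hcop.symm)).mp this
  have hd2 : p ^ k ∣ p ^ a := by
    have : p ^ k ∣ p ^ a * (P : Subgroup G).index := by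
      rw [← ha, h2, ← h1, hk]; exact Dvd.intro_left _ rfl
    exact (Nat.Coprime.dvd_mul_right hPi).mp this
  have heq : p ^ a = p ^ k := Nat.dvd_antisymm hd1 hd2
  apply Subgroup.isComplement'_of_coprime
  · rw [ha, heq, ← hk, h1]
  · exact hcop


/-- A prime `q > p` (both odd) is coprime to `#GL₂(p)`. -/
theorem coprime_card_GL2_of_lt (p q : ℕ) (hp : p.Prime) (hq : q.Prime) (hp2 : p ≠ 2) (hq2 : q ≠ 2)
    (hlt : p < q) : q.Coprime ((p ^ 2 - 1) * (p ^ 2 - p)) := by
  rw [Nat.Prime.coprime_iff_not_dvd hq]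
  intro hd
  have hp1 : 1 ≤ p := hp.pos
  have e1 : p ^ 2 - 1 = (p - 1) * (p + 1) := by
    obtain ⟨k, rfl⟩ : ∃ k, p = k + 1 := ⟨p - 1, by omega⟩
    apply Nat.sub_eq_of_eq_add
    simp
    ring
  have e2 : p ^ 2 - p = p * (p - 1) := by
    rw [Nat.mul_sub, mul_one, sq]
  rw [e1, e2] at hd
  have hpodd : Odd p := hp.odd_of_ne_two hp2
  have hcases : q ∣ p - 1 ∨ q ∣ p + 1 ∨ q ∣ p := by
    rcases (Nat.Prime.dvd_mul hq).mp hd with h | h
    · rcases (Nat.Prime.dvd_mul hq).mp h with h | h
      · exact Or.inl h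
      · exact Or.inr (Or.inl h)
    · rcases (Nat.Prime.dvd_mul hq).mp h with h | h
      · exact Or.inr (Or.inr h)
      · exact Or.inl h
  rcases hcases with h | h | h
  · have hpos : 0 < p - 1 := by have := hp.two_le; omega
    have := Nat.le_of_dvd hpos h
    omega
  · have := Nat.le_of_dvd (by omega) h
    have hq' : q = p + 1 := by omega
    have hev : Even (p + 1) := hpodd.add_one
    rw [← hq'] at hev
    exact hq2 ((Nat.Prime.even_iff hq).mp hev)
  · have := Nat.le_of_dvd hp.pos h
    omega

/-- A subgroup containing the derived subgroup is normal. -/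
theorem normal_of_commutator_le {G : Type*} [Group G] (H : Subgroup G) (h : commutator G ≤ H) :
    H.Normal := by
  refine ⟨fun n hn g => ?_⟩
  have h1 : ⁅g, n⁆ ∈ H := h (by
    rw [commutator_def]
    exact Subgroup.commutator_mem_commutator (Subgroup.mem_top g) (Subgroup.mem_top n))
  have e : g * n * g⁻¹ = ⁅g, n⁆ * n := by rw [commutatorElement_def]; group
  rw [e]
  exact H.mul_mem h1 hn

/-- A `p'`-element of a `p`-group is trivial. -/
theorem eq_one_of_mem_of_isPGroup_of_coprime {G : Type*} [Group G] (p : ℕ) (P : Subgroup G)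
    (hP : IsPGroup p P) (y : G) (hy : y ∈ P) (hcop : (orderOf y).Coprime p) : y = 1 := by
  obtain ⟨j, hj⟩ := hP ⟨y, hy⟩
  have hj' : y ^ p ^ j = 1 := by
    have := congrArg Subtype.val hj
    rwa [Subgroup.coe_pow, Subgroup.coe_one] at this
  have h1 : orderOf y ∣ p ^ j := orderOf_dvd_of_pow_eq_one hj'
  have h2 : (orderOf y).Coprime (p ^ j) := Nat.Coprime.pow_right j hcop
  have h3 : orderOf y = 1 := Nat.Coprime.eq_one_of_dvd h2 h1
  exact orderOf_eq_one_iff.mp h3


/-- **Structure of `G / O_{p'}(G)` from centralizing hypotheses.** -/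
theorem odd_solvable_structure {G : Type*} [Group G] [Finite G] [Group.IsSolvable G] (p : ℕ)
    [hp : Fact p.Prime] (hodd : Odd (Nat.card G))
    (H1 : ∀ x : G ⧸ pPrimeCore p G, x ∈ commutator (G ⧸ pPrimeCore p G) → (orderOf x).Coprime p →
      ∀ r ∈ pCore p (G ⧸ pPrimeCore p G), x * r = r * x)
    (H2 : ∀ x : G ⧸ pPrimeCore p G, (orderOf x).Prime → p < orderOf x →
      ∀ r ∈ pCore p (G ⧸ pPrimeCore p G), x * r = r * x) :
    (∀ q : ℕ, q.Prime → q ∣ (Cfsg.pPrimeCore p G).index → q ≤ p) ∧
      ((p = 3 ∨ ∀ q : ℕ, q.Prime → q ∣ Nat.card G → p ≤ q) → Cfsg.HasNormalPComplement p G) ∧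
      Cfsg.HasNormalPComplement p ↥(commutator G) ∧
      (∀ L : Subgroup ↥(commutator G), (Nat.card L).Coprime p →
        L ≤ Cfsg.pPrimeCore p ↥(commutator G)) ∧
      commutator G ≤ Cfsg.pPrimePCore p G ∧ ((Cfsg.pPrimePCore p G).index).Coprime p := by
  set K := pPrimeCore p G with hKdef
  have hK : (Nat.card K).Coprime p := Cfsg.Agent.Lib.Helper55.card_pPrimeCore_coprime p
  have hcore : pPrimeCore p (G ⧸ K) = ⊥ :=
    Cfsg.Agent.Lib.Helper55.pPrimeCore_quotient_pPrimeCore p
  set Pb := pCore p (G ⧸ K) with hPb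
  have hHH : Subgroup.centralizer (Pb : Set (G ⧸ K)) ≤ Pb :=
    Cfsg.Agent.Lib.Helper55.centralizer_pCore_le p hcore
  have hPbp : IsPGroup p Pb := Cfsg.Agent.Lib.Helper55.isPGroup_pCore p
  -- Step A: the derived subgroup of G/K is a p-group
  have hA : IsPGroup p (commutator (G ⧸ K)) := by
    apply isPGroup_of_forall_coprime_eq_one
    intro y hy hcop
    have hyC : y ∈ Subgroup.centralizer (Pb : Set (G ⧸ K)) := by
      rw [Subgroup.mem_centralizer_iff]
      intro r hr
      exact (H1 y hy hcop r hr).symm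
    exact eq_one_of_mem_of_isPGroup_of_coprime p Pb hPbp y (hHH hyC) hcop
  -- Step B
  have hB : commutator (G ⧸ K) ≤ Pb :=
    Cfsg.Agent.Lib.Helper55.le_pCore (inferInstance : (commutator (G ⧸ K)).Normal) hA
  have hmk : ∀ g ∈ commutator G, (QuotientGroup.mk' K g) ∈ commutator (G ⧸ K) := by
    intro g hg
    have h1 : (commutator G).map (QuotientGroup.mk' K) ≤ commutator (G ⧸ K) := by
      rw [commutator_def, commutator_def, Subgroup.map_commutator]
      exact Subgroup.commutator_mono le_top le_top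
    exact h1 (Subgroup.mem_map_of_mem _ hg)
  -- Step C
  have hC : commutator G ≤ pPrimePCore p G := by
    intro g hg
    change g ∈ (pCore p (G ⧸ pPrimeCore p G)).comap (QuotientGroup.mk' (pPrimeCore p G))
    rw [Subgroup.mem_comap]
    exact hB (hmk g hg)
  -- Step D
  have hD : ((pPrimePCore p G).index).Coprime p := by
    have h1 : (pPrimePCore p G).index = Pb.index := by
      change ((pCore p (G ⧸ pPrimeCore p G)).comap (QuotientGroup.mk' (pPrimeCore p G))).index = _
      exact Subgroup.index_comap_of_surjective _ (QuotientGroup.mk'_surjective _)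
    rw [h1]
    let Sb : Sylow p (G ⧸ K) := default
    have hle : Pb ≤ Sb := Cfsg.Agent.Lib.Helper55.pCore_le_sylow Sb
    have hn : (Sb : Subgroup (G ⧸ K)).Normal := normal_of_commutator_le _ (hB.trans hle)
    have hle' : (Sb : Subgroup (G ⧸ K)) ≤ Pb := Cfsg.Agent.Lib.Helper55.le_pCore hn Sb.isPGroup'
    have heq : Pb = Sb := le_antisymm hle hle'
    rw [heq]
    exact ((Nat.Prime.coprime_iff_not_dvd hp.out).mpr Sb.not_dvd_index).symm
  -- Step E
  have hE : ∀ q : ℕ, q.Prime → q ∣ K.index → q ≤ p := by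
    intro q hq hqd
    by_contra hlt
    rw [not_le] at hlt
    have : Fact q.Prime := ⟨hq⟩
    rw [Subgroup.index_eq_card] at hqd
    obtain ⟨x, hx⟩ := exists_prime_orderOf_dvd_card' q hqd
    have hxC : x ∈ Subgroup.centralizer (Pb : Set (G ⧸ K)) := by
      rw [Subgroup.mem_centralizer_iff]
      intro r hr
      exact (H2 x (by rw [hx]; exact hq) (by rw [hx]; exact hlt) r hr).symm
    have hcop : (orderOf x).Coprime p := by
      rw [hx]
      exact (Nat.coprime_primes hq hp.out).mpr (by omega)
    have := eq_one_of_mem_of_isPGroup_of_coprime p Pb hPbp x (hHH hxC) hcop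
    rw [this, orderOf_one] at hx
    exact hq.one_lt.ne hx
  refine ⟨hE, ?_, ?_, ?_, hC, hD⟩
  · -- Step F
    intro hsm
    apply hasNormalPComplement_of_normal_of_coprime_of_index p K hK
    refine ⟨_, Nat.eq_prime_pow_of_unique_prime_dvd ?_ ?_⟩
    · exact (Subgroup.index_ne_zero_of_finite)
    · intro q hq hqd
      have h1 : q ≤ p := hE q hq hqd
      have hqG : q ∣ Nat.card G := dvd_trans hqd (Subgroup.index_dvd_card K)
      have h2 : p ≤ q := by
        rcases hsm with h3 | hmin
        · have hq2 : q ≠ 2 := by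
            rintro rfl
            exact (Nat.not_even_iff_odd.mpr hodd) (even_iff_two_dvd.mpr hqG)
          have := hq.two_le
          omega
        · exact hmin q hq hqG
      omega
  · -- Step G
    set N := K.subgroupOf (commutator G) with hN
    have hNc : (Nat.card N).Coprime p := by
      rw [hN, card_subgroupOf_eq_card_inf]
      exact Nat.Coprime.coprime_dvd_left (Subgroup.card_dvd_of_le inf_le_left) hK
    apply hasNormalPComplement_of_normal_of_coprime_of_index p N hNc
    have hq : IsPGroup p ((commutator G) ⧸ N) := by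
      intro y
      induction y using QuotientGroup.induction_on with
      | H g =>
        obtain ⟨j, hj⟩ := hA ⟨_, hmk g g.2⟩
        refine ⟨j, ?_⟩
        rw [← QuotientGroup.mk_pow, QuotientGroup.eq_one_iff, hN, Subgroup.mem_subgroupOf,
          Subgroup.coe_pow]
        have := congrArg Subtype.val hj
        rw [Subgroup.coe_pow, Subgroup.coe_one, ← map_pow] at this
        exact (QuotientGroup.eq_one_iff _).mp this
    obtain ⟨k, hk⟩ := IsPGroup.iff_card.mp hq
    exact ⟨k, by rw [Subgroup.index_eq_card]; exact hk⟩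
  · -- Step H
    intro L hL
    set N := K.subgroupOf (commutator G) with hN
    have hNc : (Nat.card N).Coprime p := by
      rw [hN, card_subgroupOf_eq_card_inf]
      exact Nat.Coprime.coprime_dvd_left (Subgroup.card_dvd_of_le inf_le_left) hK
    have hNle : N ≤ pPrimeCore p (commutator G) :=
      Cfsg.Agent.Lib.Helper55.le_pPrimeCore (inferInstance : N.Normal) hNc
    refine le_trans ?_ hNle
    intro l hl
    rw [hN, Subgroup.mem_subgroupOf]
    obtain ⟨j, hj⟩ := hA ⟨_, hmk l l.2⟩
    have hj' : (QuotientGroup.mk' K (l : G)) ^ p ^ j = 1 := by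
      have := congrArg Subtype.val hj
      rwa [Subgroup.coe_pow, Subgroup.coe_one] at this
    have h1 : l ^ Nat.card L = 1 := by
      have h := congrArg Subtype.val (pow_card_eq_one' (G := L) (x := ⟨l, hl⟩))
      rw [Subgroup.coe_pow, Subgroup.coe_one] at h
      exact h
    have h2 : (QuotientGroup.mk' K (l : G)) ^ Nat.card L = 1 := by
      rw [← map_pow, ← Subgroup.coe_pow, h1, Subgroup.coe_one, map_one]
    have h3 := pow_gcd_eq_one.mpr ⟨hj', h2⟩
    have h4 : (p ^ j).gcd (Nat.card L) = 1 := Nat.Coprime.pow_left j hL.symm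
    rw [h4, pow_one] at h3
    exact (QuotientGroup.eq_one_iff _).mp h3

end Cfsg.Agent.Lib.Helper24
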