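import Mathlib
import Cfsg.Agent.Lib.Helper24.FittingStructure
import Cfsg.Agent.Lib.Helper24.OddSolvableStructure

set_option autoImplicit false
open scoped commutatorElement
open Cfsg

namespace Cfsg.Agent.Lib.Helper24

theorem pCoreCompl_eq_sSup (r : ℕ) (G : Type*) [Group G] :
    pCoreCompl r G = sSup {N : Subgroup G | ∃ q : Nat.Primes, (q : ℕ) ≠ r ∧ N = pCore (q : ℕ) G} := by
  apply le_antisymm
  · unfold pCoreCompl
    apply iSup₂_le
    intro q hq
    exact le_sSup ⟨q, hq, rfl⟩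
  · apply sSup_le
    rintro N ⟨q, hq, rfl⟩
    exact pCore_le_pCoreCompl G q.2 hq

theorem card_pCoreCompl_coprime {G : Type*} [Group G] [Finite G] (r : ℕ) [hr : Fact r.Prime] :
    (Nat.card (pCoreCompl r G)).Coprime r := by
  rw [pCoreCompl_eq_sSup]
  refine (Cfsg.Agent.Lib.Helper1.normal_and_coprime_card_sSup r _ ?_).2
  rintro N ⟨q, hq, rfl⟩
  refine ⟨inferInstance, ?_⟩
  have : Fact (q : ℕ).Prime := ⟨q.2⟩
  obtain ⟨k, hk⟩ := IsPGroup.iff_card.mp (Cfsg.Agent.Lib.Helper55.isPGroup_pCore (G := G) (q : ℕ))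
  rw [hk]
  apply Nat.Coprime.pow_left
  exact (Nat.coprime_primes q.2 hr.out).mpr hq

/-- A `q`-subgroup of the Fitting subgroup lies in `O_q(G)`. -/
theorem le_pCore_of_le_fittingSubgroup {G : Type*} [Group G] [Finite G] (q : ℕ) [hq : Fact q.Prime]
    (Q : Subgroup G) (hQ : IsPGroup q Q) (hQF : Q ≤ fittingSubgroup G) : Q ≤ pCore q G := by
  intro x hx
  have h1 := fittingSubgroup_le_sup q (hQF hx)
  rw [sup_comm] at h1
  have h2 : x ∈ ((pCoreCompl q G ⊔ pCore q G : Subgroup G) : Set G) := h1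
  rw [Subgroup.mul_normal] at h2
  obtain ⟨b, hb, a, ha, rfl⟩ := Set.mem_mul.mp h2
  obtain ⟨j, hj⟩ := hQ ⟨b * a, hx⟩
  have hj' : (b * a) ^ q ^ j = 1 := by
    have := congrArg Subtype.val hj
    rwa [Subgroup.coe_pow, Subgroup.coe_one] at this
  rw [← QuotientGroup.eq_one_iff]
  have e : ((b * a : G) : G ⧸ pCore q G) = (b : G ⧸ pCore q G) := by
    rw [QuotientGroup.mk_mul, (QuotientGroup.eq_one_iff a).mpr ha, mul_one]
  have h3 : ((b * a : G) : G ⧸ pCore q G) ^ q ^ j = 1 := by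
    rw [← QuotientGroup.mk_pow, hj']; rfl
  have hb1 : b ^ Nat.card (pCoreCompl q G) = 1 := by
    have h := congrArg Subtype.val (pow_card_eq_one' (G := pCoreCompl q G) (x := ⟨b, hb⟩))
    rw [Subgroup.coe_pow, Subgroup.coe_one] at h
    exact h
  have h4 : ((b * a : G) : G ⧸ pCore q G) ^ Nat.card (pCoreCompl q G) = 1 := by
    rw [e, ← QuotientGroup.mk_pow, hb1]; rfl
  have h5 := pow_gcd_eq_one.mpr ⟨h3, h4⟩
  have h6 : (q ^ j).gcd (Nat.card (pCoreCompl q G)) = 1 :=
    Nat.Coprime.pow_left j (card_pCoreCompl_coprime q).symm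
  rwa [h6, pow_one] at h5

/-- `O_q(G)` commutes elementwise with the join of the other `O_r(G)`. -/
theorem pCoreCompl_le_centralizer_pCore {G : Type*} [Group G] (q : ℕ) [hq : Fact q.Prime] :
    pCoreCompl q G ≤ Subgroup.centralizer (pCore q G : Set G) := by
  unfold pCoreCompl
  apply iSup₂_le
  intro r hr a ha
  have : Fact (r : ℕ).Prime := ⟨r.2⟩
  rw [Subgroup.mem_centralizer_iff]
  intro b hb
  exact pCore_commute q (r : ℕ) (fun h => hr h.symm) b hb a ha

/-- An element of the normalizer of `H` whose order is coprime to the index of `H` lies in `H`. -/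
theorem mem_of_mem_normalizer_of_coprime_index {G : Type*} [Group G] [Finite G] (H : Subgroup G)
    (g : G) (hg : g ∈ Subgroup.normalizer (H : Set G)) (hcop : (orderOf g).Coprime H.index) :
    g ∈ H := by
  set N := Subgroup.normalizer (H : Set G) with hN
  have hnorm : (H.subgroupOf N).Normal := Subgroup.normal_in_normalizer
  let g' : N := ⟨g, hg⟩
  have h1 : orderOf (QuotientGroup.mk g' : N ⧸ H.subgroupOf N) ∣ orderOf g := by
    have : orderOf (QuotientGroup.mk g' : N ⧸ H.subgroupOf N) ∣ orderOf g' :=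
      orderOf_dvd_of_pow_eq_one (by rw [← QuotientGroup.mk_pow, pow_orderOf_eq_one]; rfl)
    rwa [Subgroup.orderOf_mk] at this
  have h2 : orderOf (QuotientGroup.mk g' : N ⧸ H.subgroupOf N) ∣ H.index := by
    have h3 : orderOf (QuotientGroup.mk g' : N ⧸ H.subgroupOf N) ∣ Nat.card (N ⧸ H.subgroupOf N) :=
      orderOf_dvd_natCard _
    have h4 : Nat.card (N ⧸ H.subgroupOf N) = H.relIndex N := rfl
    rw [h4] at h3
    exact h3.trans (Subgroup.relIndex_dvd_index_of_le H.le_normalizer)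
  have h5 : orderOf (QuotientGroup.mk g' : N ⧸ H.subgroupOf N) = 1 :=
    Nat.eq_one_of_dvd_coprimes hcop h1 h2
  have h6 := orderOf_eq_one_iff.mp h5
  have h7 : g' ∈ H.subgroupOf N := (QuotientGroup.eq_one_iff g').mp h6
  exact Subgroup.mem_subgroupOf.mp h7

end Cfsg.Agent.Lib.Helper24
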