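import Mathlib
import Cfsg.Agent.Lib.Helper24.PGroupBasic
import Cfsg.Agent.Lib.Helper24.RankTwo
import Cfsg.Agent.Lib.Helper88.CoprimeAbelian

/-!
# Coprime action on two-generated class-two `p`-groups (`p` odd)

Core of the theorem that `[K, A]` is abelian for a metacyclic `p`-group `K`, `p` odd, and a `p'`-group
`A` of automorphisms.
-/

set_option autoImplicit false
open scoped commutatorElement

namespace Cfsg.Agent.Lib.Helper24

/-- In a group in which all commutators are central, `k ↦ ⁅k, v⁆` is a homomorphism. -/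
def commR {K : Type*} [Group K] (hcen : ∀ x y z : K, Commute ⁅x, y⁆ z) (v : K) : K →* K where
  toFun k := ⁅k, v⁆
  map_one' := commutatorElement_one_left v
  map_mul' a b := by
    have h : ⁅a * b, v⁆ = a * ⁅b, v⁆ * a⁻¹ * ⁅a, v⁆ := by
      simp only [commutatorElement_def]; group
    have h2 : a * ⁅b, v⁆ = ⁅b, v⁆ * a := ((hcen b v a).eq).symm
    have h3 : ⁅b, v⁆ * ⁅a, v⁆ = ⁅a, v⁆ * ⁅b, v⁆ := (hcen b v ⁅a, v⁆).eq
    rw [h, h2, mul_inv_cancel_right, h3]

@[simp] theorem commR_apply {K : Type*} [Group K] (hcen : ∀ x y z : K, Commute ⁅x, y⁆ z) (v k : K) :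
    commR hcen v k = ⁅k, v⁆ := rfl

theorem dvd_choose_two_prime_pow {p : ℕ} (hp : p.Prime) (hp2 : p ≠ 2) (j : ℕ) (hj : 1 ≤ j) :
    p ∣ (p ^ j).choose 2 := by
  have h : (p ^ j).choose 2 * 2 = p ^ j * (p ^ j - 1) := by
    rw [Nat.choose_two_right]
    exact Nat.div_mul_cancel (even_iff_two_dvd.mp (Nat.even_mul_pred_self _))
  have h1 : p ∣ (p ^ j).choose 2 * 2 := by
    rw [h]
    exact dvd_mul_of_dvd_left (dvd_pow_self p (by omega)) _
  have hcop : Nat.Coprime p 2 := (Nat.coprime_primes hp Nat.prime_two).mpr hp2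
  exact hcop.dvd_of_dvd_mul_right h1

theorem mul_pow_of_class_two {K : Type*} [Group K] (hcen : ∀ x y z : K, Commute ⁅x, y⁆ z) (p : ℕ)
    (hexp : ∀ x y : K, ⁅x, y⁆ ^ p = 1) (m : ℕ) (hm : p ∣ m.choose 2) (x y : K) :
    (x * y) ^ m = x ^ m * y ^ m := by
  have h1 : y * x = ⁅y, x⁆ * x * y := by rw [commutatorElement_def]; group
  have h2 := mul_pow_of_central_comm x y ⁅y, x⁆ h1 (hcen y x x) (hcen y x y) m
  obtain ⟨k, hk⟩ := hm
  rw [h2, hk, pow_mul, hexp, one_pow, mul_one]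

/-- The `m`-th power map as a homomorphism (class two, commutators of exponent `p`,
`p ∣ m.choose 2`). -/
def powHom {K : Type*} [Group K] (hcen : ∀ x y z : K, Commute ⁅x, y⁆ z) (p : ℕ)
    (hexp : ∀ x y : K, ⁅x, y⁆ ^ p = 1) (m : ℕ) (hm : p ∣ m.choose 2) : K →* K where
  toFun x := x ^ m
  map_one' := one_pow m
  map_mul' := mul_pow_of_class_two hcen p hexp m hm

@[simp] theorem powHom_apply {K : Type*} [Group K] (hcen : ∀ x y z : K, Commute ⁅x, y⁆ z) (p : ℕ)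
    (hexp : ∀ x y : K, ⁅x, y⁆ ^ p = 1) (m : ℕ) (hm : p ∣ m.choose 2) (x : K) :
    powHom hcen p hexp m hm x = x ^ m := rfl


/-- Arithmetic elimination used for the two-dimensionality of `K / Z(K)`. -/
theorem dvd_of_det_not_dvd {p : ℕ} (hp : p.Prime) (α β γ δ ε ζ : ℤ)
    (hdet : ¬ (p : ℤ) ∣ α * δ - β * γ) (h1 : (p : ℤ) ∣ ε * β - ζ * α)
    (h2 : (p : ℤ) ∣ ε * δ - ζ * γ) : (p : ℤ) ∣ ε ∧ (p : ℤ) ∣ ζ := by
  have hpi : Prime (p : ℤ) := Nat.prime_iff_prime_int.mp hp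
  constructor
  · have h : (p : ℤ) ∣ ε * (α * δ - β * γ) := by
      have : ε * (α * δ - β * γ) = α * (ε * δ - ζ * γ) - γ * (ε * β - ζ * α) := by ring
      rw [this]
      exact dvd_sub (dvd_mul_of_dvd_right h2 _) (dvd_mul_of_dvd_right h1 _)
    rcases hpi.dvd_or_dvd h with h | h
    · exact h
    · exact absurd h hdet
  · have h : (p : ℤ) ∣ ζ * (α * δ - β * γ) := by
      have : ζ * (α * δ - β * γ) = β * (ε * δ - ζ * γ) - δ * (ε * β - ζ * α) := by ring
      rw [this]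
      exact dvd_sub (dvd_mul_of_dvd_right h2 _) (dvd_mul_of_dvd_right h1 _)
    rcases hpi.dvd_or_dvd h with h | h
    · exact h
    · exact absurd h hdet


/-- **Core lemma.** Let `K` be a finite `p`-group (`p` odd) which is the product of two cyclic
subgroups `⟨g⟩⟨n⟩`, with all commutators central of exponent `p`. If a `p'`-group `A` acts on `K`
with `[K, A] = K`, then `K` is abelian. -/
theorem comm_of_class_two_two_gen (p : ℕ) [hp : Fact p.Prime] (hp2 : p ≠ 2) {K : Type*} [Group K]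
    [Finite K] (hK : IsPGroup p K) (g n : K) (hgen : ∀ k : K, ∃ i l : ℤ, k = g ^ i * n ^ l)
    (hcen : ∀ x y z : K, Commute ⁅x, y⁆ z) (hexp : ∀ x y : K, ⁅x, y⁆ ^ p = 1)
    {A : Type*} [Group A] [Finite A] (φ : A →* MulAut K) (hcop : (Nat.card A).Coprime p)
    (hgenA : Subgroup.closure {k : K | ∃ a y, k = φ a y * y⁻¹} = ⊤) :
    ∀ x y : K, x * y = y * x := by
  classical
  by_contra hnc
  have hpp : p.Prime := hp.out
  set c : K := ⁅g, n⁆ with hc
  have hinvc : ⁅n, g⁆ = c⁻¹ := by rw [hc, commutatorElement_inv]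
  -- the commutator formula
  have L1 : ∀ γ δ : ℤ, ⁅g ^ γ * n ^ δ, g⁆ = (c ^ δ)⁻¹ := by
    intro γ δ
    have h := map_mul (commR hcen g) (g ^ γ) (n ^ δ)
    rw [map_zpow, map_zpow] at h
    simp only [commR_apply] at h
    rw [h, commutatorElement_self, one_zpow, one_mul, hinvc, inv_zpow]
  have L2 : ∀ γ δ : ℤ, ⁅g ^ γ * n ^ δ, n⁆ = c ^ γ := by
    intro γ δ
    have h := map_mul (commR hcen n) (g ^ γ) (n ^ δ)
    rw [map_zpow, map_zpow] at h
    simp only [commR_apply] at h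
    rw [h, commutatorElement_self, one_zpow, mul_one]
  have L3 : ∀ α β γ δ : ℤ, ⁅g ^ α * n ^ β, g ^ γ * n ^ δ⁆ = c ^ (α * δ - β * γ) := by
    intro α β γ δ
    have h := map_mul (commR hcen (g ^ γ * n ^ δ)) (g ^ α) (n ^ β)
    rw [map_zpow, map_zpow] at h
    simp only [commR_apply] at h
    have h1 : ⁅g, g ^ γ * n ^ δ⁆ = c ^ δ := by
      rw [← commutatorElement_inv, L1, inv_inv]
    have h2 : ⁅n, g ^ γ * n ^ δ⁆ = (c ^ γ)⁻¹ := by
      rw [← commutatorElement_inv, L2]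
    rw [h, h1, h2, ← zpow_mul, inv_zpow, ← zpow_mul, ← zpow_neg, ← zpow_add]
    congr 1
    ring
  have hRmul : ∀ v a b : K, ⁅a * b, v⁆ = ⁅a, v⁆ * ⁅b, v⁆ := fun v a b => map_mul (commR hcen v) a b
  have hRinv : ∀ v a : K, ⁅a⁻¹, v⁆ = ⁅a, v⁆⁻¹ := fun v a => map_inv (commR hcen v) a
  have hRzpow : ∀ (v a : K) (i : ℤ), ⁅a ^ i, v⁆ = ⁅a, v⁆ ^ i := fun v a i => map_zpow (commR hcen v) a i
  have hcne : c ≠ 1 := by
    intro h1
    apply hnc
    intro x y
    obtain ⟨α, β, rfl⟩ := hgen x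
    obtain ⟨γ, δ, rfl⟩ := hgen y
    have := L3 α β γ δ
    rw [h1, one_zpow, commutatorElement_eq_one_iff_commute] at this
    exact this.eq
  have hord : orderOf c = p := orderOf_eq_prime (hexp g n) hcne
  have hpow1 : ∀ m : ℤ, c ^ m = 1 ↔ (p : ℤ) ∣ m := by
    intro m
    rw [← hord]
    exact orderOf_dvd_iff_zpow_eq_one.symm
  have hcp : c ^ (p : ℤ) = 1 := (hpow1 _).mpr dvd_rfl
  have hcomm_mem : ∀ x y : K, ∃ m : ℤ, ⁅x, y⁆ = c ^ m := by
    intro x y
    obtain ⟨α, β, rfl⟩ := hgen x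
    obtain ⟨γ, δ, rfl⟩ := hgen y
    exact ⟨_, L3 α β γ δ⟩
  have hdvdp : p ∣ (p ^ 1).choose 2 := dvd_choose_two_prime_pow hpp hp2 1 le_rfl
  -- central elements are `p`-th powers
  have hroot : ∀ z : K, (∀ w : K, ⁅z, w⁆ = 1) → ∃ w : K, w ^ p = z := by
    intro z hz
    obtain ⟨ε, ζ, rfl⟩ := hgen z
    have h1 := hz n
    rw [L2, hpow1] at h1
    have h2 := hz g
    rw [L1, inv_eq_one, hpow1] at h2
    obtain ⟨ε', rfl⟩ := h1
    obtain ⟨ζ', rfl⟩ := h2
    refine ⟨g ^ ε' * n ^ ζ', ?_⟩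
    have h3 := mul_pow_of_class_two hcen p hexp (p ^ 1) hdvdp (g ^ ε') (n ^ ζ')
    rw [pow_one] at h3
    rw [h3, ← zpow_natCast, ← zpow_natCast, ← zpow_mul, ← zpow_mul, mul_comm ε', mul_comm ζ']
  -- two-dimensionality
  have h2D : ∀ u v k : K, ⁅u, v⁆ ≠ 1 → ⁅k, u⁆ = 1 → ⁅k, v⁆ = 1 → ∀ w : K, ⁅k, w⁆ = 1 := by
    intro u v k huv hku hkv w
    obtain ⟨α, β, rfl⟩ := hgen u
    obtain ⟨γ, δ, rfl⟩ := hgen v
    obtain ⟨ε, ζ, rfl⟩ := hgen k
    obtain ⟨η, θ, rfl⟩ := hgen w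
    rw [L3, Ne, hpow1] at huv
    rw [L3, hpow1] at hku hkv
    obtain ⟨⟨ε', rfl⟩, ⟨ζ', rfl⟩⟩ := dvd_of_det_not_dvd hpp α β γ δ ε ζ huv hku hkv
    rw [L3, hpow1]
    exact ⟨ε' * θ - ζ' * η, by ring⟩
  -- nontrivial elements of `⟨c⟩` generate it
  have hgenD : ∀ e : K, (∃ m : ℤ, e = c ^ m) → e ≠ 1 → ∀ m' : ℤ, ∃ i : ℤ, c ^ m' = e ^ i := by
    rintro e ⟨m, rfl⟩ he m'
    rw [Ne, hpow1] at he
    have hco : IsCoprime (p : ℤ) m := (Nat.prime_iff_prime_int.mp hpp).coprime_iff_not_dvd.mpr he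
    obtain ⟨a, b, hab⟩ := hco
    refine ⟨b * m', ?_⟩
    rw [← zpow_mul]
    have : m * (b * m') = m' - (p : ℤ) * (a * m') := by linear_combination m' * hab
    rw [this, zpow_sub, zpow_mul, hcp, one_zpow, inv_one, mul_one]
  -- the maximal `j`
  have hccen : ∀ w : K, ⁅c, w⁆ = 1 := fun w => commutatorElement_eq_one_iff_commute.mpr (hcen g n w)
  obtain ⟨e, he⟩ := hK.exists_card_eq
  have hbound : ∀ j', e ≤ j' → ∀ x' : K, x' ^ (p ^ j') ≠ c := by
    intro j' hj' x' hx'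
    apply hcne
    rw [← hx']
    obtain ⟨d, rfl⟩ := Nat.exists_eq_add_of_le hj'
    rw [pow_add, pow_mul, ← he, pow_card_eq_one', one_pow]
  let P : ℕ → Prop := fun j => 1 ≤ j ∧ ∃ x : K, x ^ (p ^ j) = c
  have hP1 : P 1 := by
    obtain ⟨w, hw⟩ := hroot c hccen
    exact ⟨le_rfl, w, by rw [pow_one]; exact hw⟩
  have he1 : 1 ≤ e := by
    by_contra h
    push Not at h
    exact hbound 1 (by omega) _ hP1.2.choose_spec
  obtain ⟨⟨hj1, x, hx⟩, hmax⟩ : P (Nat.findGreatest P e) ∧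
      ∀ j', Nat.findGreatest P e < j' → ∀ x' : K, x' ^ (p ^ j') ≠ c := by
    refine ⟨Nat.findGreatest_spec he1 hP1, ?_⟩
    intro j' hj' x' hx'
    by_cases hle : j' ≤ e
    · have hj'1 : 1 ≤ j' := by omega
      exact Nat.findGreatest_is_greatest hj' hle ⟨hj'1, x', hx'⟩
    · exact hbound j' (by omega) x' hx'
  set j := Nat.findGreatest P e with hjdef
  have hdvdj : p ∣ (p ^ j).choose 2 := dvd_choose_two_prime_pow hpp hp2 j hj1
  let π : K →* K := powHom hcen p hexp (p ^ j) hdvdj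
  have hπ : ∀ k, π k = k ^ (p ^ j) := fun k => rfl
  have hmaxc : ∀ x' : K, (∀ w : K, ⁅x', w⁆ = 1) → x' ^ (p ^ j) = c → False := by
    intro x' hx'c hx'
    obtain ⟨w, hw⟩ := hroot x' hx'c
    apply hmax (j + 1) (Nat.lt_succ_self j) w
    rw [pow_succ', pow_mul, hw, hx']
  -- invariance
  have hinv_c : ∀ a : A, ∃ m : ℤ, φ a c = c ^ m := by
    intro a
    rw [hc, map_commutatorElement]
    exact hcomm_mem _ _
  have hTinv : ∀ (a : A) (t : K), (∃ i : ℤ, t ^ (p ^ j) = c ^ i) → ∃ i : ℤ, (φ a t) ^ (p ^ j) = c ^ i := by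
    rintro a t ⟨i, hi⟩
    obtain ⟨m, hm⟩ := hinv_c a
    refine ⟨m * i, ?_⟩
    rw [← map_pow, hi, map_zpow, hm, zpow_mul]
  -- proportionality of homomorphisms on `T`
  have HP : ∀ f : K →* K, (∀ t₀ : K, t₀ ^ (p ^ j) = 1 → f t₀ = 1) → ∀ m : ℤ, f x = c ^ m →
      ∀ (t : K) (i : ℤ), t ^ (p ^ j) = c ^ i → f t = (t ^ (p ^ j)) ^ m := by
    intro f hf m hm t i hi
    have h1 : (t * (x ^ i)⁻¹) ^ (p ^ j) = 1 := by
      rw [← hπ, map_mul, map_inv, map_zpow, hπ, hπ, hx, hi, mul_inv_cancel]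
    have h2 := hf _ h1
    rw [map_mul, map_inv, map_zpow, mul_inv_eq_one] at h2
    rw [h2, hm, hi, ← zpow_mul, ← zpow_mul, mul_comm]
  have EQV : ∀ y : K, (∀ t₀ : K, t₀ ^ (p ^ j) = 1 → ⁅t₀, y⁆ = 1) → ∀ (a : A) (t : K),
      (∃ i : ℤ, t ^ (p ^ j) = c ^ i) → ⁅φ a y * y⁻¹, t⁆ = 1 := by
    intro y hy a t ht
    obtain ⟨m, hm⟩ := hcomm_mem x y
    have hstar : ∀ t : K, (∃ i : ℤ, t ^ (p ^ j) = c ^ i) → ⁅t, y⁆ = (t ^ (p ^ j)) ^ m := by
      rintro t ⟨i, hi⟩
      exact HP (commR hcen y) hy m hm t i hi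
    have ht' := hTinv a⁻¹ t ht
    have h1 := hstar _ ht'
    have h2 := congrArg (φ a) h1
    rw [map_commutatorElement, map_zpow, map_pow] at h2
    have h3 : φ a (φ a⁻¹ t) = t := by
      rw [map_inv]; exact MulAut.apply_inv_self K (φ a) t
    rw [h3, ← hstar t ht] at h2
    -- h2 : ⁅t, φ a y⁆ = ⁅t, y⁆
    rw [hRmul, hRinv, ← commutatorElement_inv t (φ a y), ← commutatorElement_inv t y, h2, inv_inv,
      inv_mul_cancel]
  have hTx : ∃ i : ℤ, x ^ (p ^ j) = c ^ i := ⟨1, by rw [hx, zpow_one]⟩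
  by_cases hcase : ∀ t₀ : K, t₀ ^ (p ^ j) = 1 → ∀ w : K, ⁅t₀, w⁆ = 1
  · -- Case 1
    have hker : (⊤ : Subgroup K) ≤ (commR hcen x).ker := by
      rw [← hgenA, Subgroup.closure_le]
      rintro _ ⟨a, y, rfl⟩
      exact EQV y (fun t₀ h0 => hcase t₀ h0 y) a x hTx
    apply hmaxc x _ hx
    intro w
    have : ⁅w, x⁆ = 1 := hker (Subgroup.mem_top w)
    rw [← commutatorElement_inv, this, inv_one]
  · -- Case 2
    push Not at hcase
    obtain ⟨y, hy0, w, hyw⟩ := hcase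
    have hπy : ∀ i : ℤ, ((y ^ i)⁻¹) ^ (p ^ j) = 1 := by
      intro i
      rw [← hπ, map_inv, map_zpow, hπ, hy0, one_zpow, inv_one]
    have hxy : ⁅x, y⁆ ≠ 1 := by
      intro h
      obtain ⟨mx, hmx⟩ := hcomm_mem x w
      obtain ⟨i, hi⟩ := hgenD ⁅y, w⁆ (hcomm_mem y w) hyw mx
      have h1 : ⁅x * (y ^ i)⁻¹, w⁆ = 1 := by
        rw [hRmul, hRinv, hRzpow, hmx, hi, mul_inv_cancel]
      have h2 : ⁅x * (y ^ i)⁻¹, y⁆ = 1 := by
        rw [hRmul, hRinv, hRzpow, h, commutatorElement_self, one_zpow, inv_one, mul_one]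
      apply hmaxc (x * (y ^ i)⁻¹) (h2D y w _ hyw h2 h1)
      rw [← hπ, map_mul, hπ, hπ, hπy, hx, mul_one]
    have hT0 : ∀ y' : K, y' ^ (p ^ j) = 1 → ⁅y', y⁆ = 1 := by
      intro y' hy'0
      by_contra hne
      have hne' : ⁅y, y'⁆ ≠ 1 := by
        intro h
        apply hne
        rw [← commutatorElement_inv, h, inv_one]
      obtain ⟨m1, hm1⟩ := hcomm_mem x y
      obtain ⟨l, hl⟩ := hgenD ⁅y', y⁆ (hcomm_mem y' y) hne m1
      obtain ⟨m2, hm2⟩ := hcomm_mem x y'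
      obtain ⟨i, hi⟩ := hgenD ⁅y, y'⁆ (hcomm_mem y y') hne' m2
      have hπy' : ((y' ^ l)⁻¹) ^ (p ^ j) = 1 := by
        rw [← hπ, map_inv, map_zpow, hπ, hy'0, one_zpow, inv_one]
      have h1 : ⁅x * (y ^ i)⁻¹ * (y' ^ l)⁻¹, y⁆ = 1 := by
        rw [hRmul, hRmul, hRinv, hRinv, hRzpow, hRzpow, hm1, hl, commutatorElement_self, one_zpow,
          inv_one, mul_one, mul_inv_cancel]
      have h2 : ⁅x * (y ^ i)⁻¹ * (y' ^ l)⁻¹, y'⁆ = 1 := by
        rw [hRmul, hRmul, hRinv, hRinv, hRzpow, hRzpow, hm2, hi, commutatorElement_self, one_zpow,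
          inv_one, mul_one, mul_inv_cancel]
      apply hmaxc _ (h2D y' y _ hne h2 h1)
      rw [← hπ, map_mul, map_mul, hπ, hπ, hπ, hπy, hπy', hx, mul_one, mul_one]
    have hTy : ∃ i : ℤ, y ^ (p ^ j) = c ^ i := ⟨0, by rw [hy0, zpow_zero]⟩
    have hfix : ∀ a : A, φ a y * y⁻¹ ∈ Subgroup.center K := by
      intro a
      have h1 := EQV y hT0 a x hTx
      have h2 := EQV y hT0 a y hTy
      have h3 := h2D x y _ hxy h1 h2
      rw [Subgroup.mem_center_iff]
      intro k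
      exact ((commutatorElement_eq_one_iff_commute.mp (h3 k)).eq).symm
    -- pass to the quotient by the centre
    have hinvZ : ∀ a : A, ∀ z ∈ Subgroup.center K, φ a z ∈ Subgroup.center K := by
      intro a z hz
      have hchar : (Subgroup.center K).Characteristic := inferInstance
      have := Subgroup.characteristic_iff_map_le.mp hchar (φ a)
      exact this (Subgroup.mem_map_of_mem _ hz)
    let ψ : A →* MulAut (K ⧸ Subgroup.center K) := quotAut (Subgroup.center K) φ hinvZ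
    let B : Subgroup (MulAut (K ⧸ Subgroup.center K)) := ψ.range
    have hcommV : ∀ q₁ q₂ : K ⧸ Subgroup.center K, q₁ * q₂ = q₂ * q₁ := by
      intro q₁ q₂
      induction q₁ using QuotientGroup.induction_on with
      | H a =>
        induction q₂ using QuotientGroup.induction_on with
        | H b =>
          rw [← QuotientGroup.mk_mul, ← QuotientGroup.mk_mul, QuotientGroup.eq, Subgroup.mem_center_iff]
          intro k
          have : (a * b)⁻¹ * (b * a) = ⁅b⁻¹, a⁻¹⁆ := by rw [commutatorElement_def]; group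
          rw [this]
          exact ((hcen b⁻¹ a⁻¹ k).eq).symm
    have hcopB : (Nat.card B).Coprime (Nat.card (K ⧸ Subgroup.center K)) := by
      have h1 : Nat.card B ∣ Nat.card A := Subgroup.card_range_dvd ψ
      obtain ⟨e', he'⟩ := (hK.to_quotient (Subgroup.center K)).exists_card_eq
      rw [he']
      exact Nat.Coprime.pow_right _ (Nat.Coprime.coprime_dvd_left h1 hcop)
    obtain ⟨hdec, -⟩ := Cfsg.Agent.Lib.Helper88.coprime_abelian_decomp hcommV B hcopB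
    have hyfix : (QuotientGroup.mk y : K ⧸ Subgroup.center K) ∈ Cfsg.Agent.Lib.Helper88.fixedSub B := by
      rintro b ⟨a, rfl⟩
      show ψ a (QuotientGroup.mk y) = QuotientGroup.mk y
      rw [quotAut_mk, eq_comm, QuotientGroup.eq]
      have hz := hfix a
      have h := (Subgroup.mem_center_iff.mp hz) y
      have : y⁻¹ * φ a y = φ a y * y⁻¹ := by
        calc y⁻¹ * φ a y = y⁻¹ * ((φ a y * y⁻¹) * y) := by group
          _ = y⁻¹ * (y * (φ a y * y⁻¹)) := by rw [h]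
          _ = φ a y * y⁻¹ := by group
      rw [this]
      exact hz
    have hcommTop : Cfsg.Agent.Lib.Helper88.commSub B = ⊤ := by
      rw [eq_top_iff]
      have h1 : (⊤ : Subgroup (K ⧸ Subgroup.center K)) =
          (Subgroup.closure {k : K | ∃ a y, k = φ a y * y⁻¹}).map (QuotientGroup.mk' _) := by
        rw [hgenA, Subgroup.map_top_of_surjective _ (QuotientGroup.mk'_surjective _)]
      rw [h1, MonoidHom.map_closure, Subgroup.closure_le]
      rintro _ ⟨_, ⟨a, y', rfl⟩, rfl⟩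
      apply Subgroup.subset_closure
      refine ⟨ψ a, ⟨a, rfl⟩, QuotientGroup.mk y', ?_⟩
      show QuotientGroup.mk (φ a y' * y'⁻¹) = _
      rw [hcommV, quotAut_mk]
      rfl
    have hy1 : (QuotientGroup.mk y : K ⧸ Subgroup.center K) = 1 := by
      have : (QuotientGroup.mk y : K ⧸ Subgroup.center K) ∈
          Cfsg.Agent.Lib.Helper88.fixedSub B ⊓ Cfsg.Agent.Lib.Helper88.commSub B := by
        rw [hcommTop]
        exact ⟨hyfix, Subgroup.mem_top _⟩
      rw [hdec] at this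
      exact this
    rw [QuotientGroup.eq_one_iff, Subgroup.mem_center_iff] at hy1
    apply hyw
    rw [commutatorElement_eq_one_iff_commute]
    exact (hy1 w).symm

end Cfsg.Agent.Lib.Helper24
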