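import Mathlib
import Cfsg.Prelude.Def_OddOrderLocal
import Cfsg.Agent.Lib.Helper24.MetaCore
import Cfsg.Agent.Lib.Helper24.Frat

/-!
# Coprime action on metacyclic `p`-groups, `p` odd

`comm_of_metacyclic_of_coprime_action`: if a `p'`-group `A` acts on the metacyclic `p`-group `K`
(`p` odd) with `[K, A] = K`, then `K` is abelian.
-/

set_option autoImplicit false
open scoped commutatorElement

namespace Cfsg.Agent.Lib.Helper24

/-- A group embedding into a metacyclic group is metacyclic. -/
theorem isMetacyclic_of_injective {H R : Type*} [Group H] [Group R] (f : H →* R)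
    (hf : Function.Injective f) (hR : Cfsg.IsMetacyclic R) : Cfsg.IsMetacyclic H := by
  obtain ⟨N, hN, hNc, hQc⟩ := hR
  let ψ : H →* R ⧸ N := (QuotientGroup.mk' N).comp f
  refine ⟨ψ.ker, inferInstance, ?_, ?_⟩
  · let θ : ψ.ker →* N := (f.comp ψ.ker.subtype).codRestrict N (fun x => by
      have h := x.2
      rw [MonoidHom.mem_ker] at h
      exact (QuotientGroup.eq_one_iff _).mp h)
    have hθ : Function.Injective θ := by
      intro a b hab
      apply Subtype.ext
      apply hf
      exact congrArg Subtype.val hab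
    exact isCyclic_of_injective θ hθ
  · exact isCyclic_of_injective (QuotientGroup.kerLift ψ) (QuotientGroup.kerLift_injective ψ)

/-- If `[K, A] = K`, then every cyclic normal `A`-invariant subgroup of `K` is central. -/
theorem le_center_of_cyclic_of_invariant {K : Type*} [Group K] {A : Type*} [Group A]
    (φ : A →* MulAut K) (hgenA : Subgroup.closure {k : K | ∃ a y, k = φ a y * y⁻¹} = ⊤)
    (D : Subgroup K) [hDn : D.Normal] (hD : IsCyclic D) (hinv : ∀ a, ∀ d ∈ D, φ a d ∈ D) :
    D ≤ Subgroup.center K := by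
  obtain ⟨d₀, hd₀⟩ := hD.exists_generator
  have hgen : ∀ d ∈ D, ∃ i : ℤ, d = (d₀ : K) ^ i := by
    intro d hd
    obtain ⟨i, hi⟩ := Subgroup.mem_zpowers_iff.mp (hd₀ ⟨d, hd⟩)
    refine ⟨i, ?_⟩
    have := congrArg Subtype.val hi
    simpa using this.symm
  -- conjugation by `k` is a power map on `D`
  have hconj : ∀ k : K, ∃ r : ℤ, ∀ d ∈ D, k * d * k⁻¹ = d ^ r := by
    intro k
    obtain ⟨r, hr⟩ := hgen _ (hDn.conj_mem _ d₀.2 k)
    refine ⟨r, ?_⟩
    intro d hd
    obtain ⟨i, rfl⟩ := hgen d hd
    rw [← zpow_mul, mul_comm, zpow_mul, ← hr, conj_zpow]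
  have hle : (⊤ : Subgroup K) ≤ Subgroup.centralizer (D : Set K) := by
    rw [← hgenA, Subgroup.closure_le]
    rintro _ ⟨a, y, rfl⟩
    rw [SetLike.mem_coe, Subgroup.mem_centralizer_iff]
    intro d hd
    obtain ⟨r, hr⟩ := hconj y
    -- conjugation by `φ a y` is the same power map
    have h1 : ∀ d ∈ D, φ a y * d * (φ a y)⁻¹ = d ^ r := by
      intro d hd
      have hd' : φ a⁻¹ d ∈ D := hinv a⁻¹ d hd
      have h3 : φ a (φ a⁻¹ d) = d := by
        rw [map_inv]; exact MulAut.apply_inv_self K (φ a) d
      have h := congrArg (φ a) (hr _ hd')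
      rw [map_mul, map_mul, map_zpow, h3, map_inv (φ a) y] at h
      exact h
    have hd1 : y⁻¹ * d * y ∈ D := by
      have := hDn.conj_mem d hd y⁻¹
      rwa [inv_inv] at this
    have h2 := h1 _ hd1
    have h3 := hr _ hd1
    have h4 : φ a y * (y⁻¹ * d * y) * (φ a y)⁻¹ = d := by
      rw [h2, ← h3]; group
    calc d * (φ a y * y⁻¹) = (φ a y * (y⁻¹ * d * y) * (φ a y)⁻¹) * (φ a y * y⁻¹) := by rw [h4]
      _ = φ a y * y⁻¹ * d := by group
  intro d hd
  rw [Subgroup.mem_center_iff]
  intro k
  have := Subgroup.mem_centralizer_iff.mp (hle (Subgroup.mem_top k)) d hd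
  exact this.symm

/-- Automorphisms preserving `D` preserve `frat p D`. -/
theorem map_mem_frat {K : Type*} [Group K] (p : ℕ) (D : Subgroup K) (e : MulAut K)
    (h : ∀ d ∈ D, e d ∈ D) : ∀ x ∈ frat p D, e x ∈ frat p D := by
  have hle : frat p D ≤ (frat p D).comap e.toMonoidHom := by
    apply frat_le_of
    · intro x hx y hy
      show e ⁅x, y⁆ ∈ frat p D
      rw [map_commutatorElement]
      exact comm_mem_frat p D (h x hx) (h y hy)
    · intro x hx
      show e (x ^ p) ∈ frat p D
      rw [map_pow]
      exact pow_mem_frat p D (h x hx)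
  exact fun x hx => hle hx

/-- **Coprime action on metacyclic groups.** Let `K` be a metacyclic `p`-group, `p` odd, and `A` a
`p'`-group acting on `K` with `[K, A] = K`. Then `K` is abelian. -/
theorem comm_of_metacyclic_of_coprime_action (p : ℕ) [hp : Fact p.Prime] (hp2 : p ≠ 2)
    {K : Type*} [Group K] [Finite K] (hK : IsPGroup p K) (hm : Cfsg.IsMetacyclic K)
    {A : Type*} [Group A] [Finite A] (φ : A →* MulAut K) (hcop : (Nat.card A).Coprime p)
    (hgenA : Subgroup.closure {k : K | ∃ a y, k = φ a y * y⁻¹} = ⊤) :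
    ∀ x y : K, x * y = y * x := by
  obtain ⟨N, hNn, hNc, hQc⟩ := hm
  obtain ⟨n', hn'⟩ := hNc.exists_generator
  obtain ⟨q, hq⟩ := hQc.exists_generator
  obtain ⟨g, rfl⟩ := QuotientGroup.mk_surjective q
  -- `K = ⟨g⟩⟨n⟩`
  have F1 : ∀ k : K, ∃ i l : ℤ, k = g ^ i * (n' : K) ^ l := by
    intro k
    obtain ⟨i, hi⟩ := Subgroup.mem_zpowers_iff.mp (hq (QuotientGroup.mk k))
    have h1 : (g ^ i)⁻¹ * k ∈ N := by
      rw [← QuotientGroup.eq, QuotientGroup.mk_zpow]
      exact hi
    obtain ⟨l, hl⟩ := Subgroup.mem_zpowers_iff.mp (hn' ⟨_, h1⟩)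
    refine ⟨i, l, ?_⟩
    have h2 := congrArg Subtype.val hl
    rw [Subgroup.coe_zpow] at h2
    rw [h2]; group
  -- the commutator subgroup is contained in `N`, hence cyclic
  have hQcomm : ∀ a b : K ⧸ N, a * b = b * a := by
    intro a b
    obtain ⟨i, rfl⟩ := Subgroup.mem_zpowers_iff.mp (hq a)
    obtain ⟨j, rfl⟩ := Subgroup.mem_zpowers_iff.mp (hq b)
    exact ((Commute.refl _).zpow_zpow i j).eq
  have hDN : commutator K ≤ N := by
    rw [commutator_def, Subgroup.commutator_le]
    intro x _ y _
    rw [← QuotientGroup.eq_one_iff]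
    have : ((⁅x, y⁆ : K) : K ⧸ N) = ⁅(x : K ⧸ N), (y : K ⧸ N)⁆ := by
      simp [commutatorElement_def]
    rw [this, commutatorElement_eq_one_iff_commute]
    exact hQcomm _ _
  have hDc : IsCyclic (commutator K) := Subgroup.isCyclic_of_le hDN
  have hDchar : (commutator K).Characteristic := inferInstance
  have hDinv : ∀ a : A, ∀ d ∈ commutator K, φ a d ∈ commutator K := by
    intro a d hd
    exact Subgroup.characteristic_iff_map_le.mp hDchar (φ a) (Subgroup.mem_map_of_mem _ hd)
  have hDcen : commutator K ≤ Subgroup.center K :=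
    le_center_of_cyclic_of_invariant φ hgenA (commutator K) hDc hDinv
  have hmemD : ∀ x y : K, ⁅x, y⁆ ∈ commutator K := fun x y => by
    rw [commutator_def]
    exact Subgroup.commutator_mem_commutator (Subgroup.mem_top x) (Subgroup.mem_top y)
  -- the quotient by `frat p D`
  have hD₁le : frat p (commutator K) ≤ commutator K := frat_le p _
  have hD₁n : (frat p (commutator K)).Normal := by
    constructor
    intro d hd k
    have := Subgroup.mem_center_iff.mp (hDcen (hD₁le hd)) k
    rw [this, mul_inv_cancel_right]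
    exact hd
  have hD₁inv : ∀ a : A, ∀ d ∈ frat p (commutator K), φ a d ∈ frat p (commutator K) :=
    fun a => map_mem_frat p (commutator K) (φ a) (hDinv a)
  let φ' : A →* MulAut (K ⧸ frat p (commutator K)) := quotAut (frat p (commutator K)) φ hD₁inv
  have hcomm' : ∀ x y : K ⧸ frat p (commutator K), x * y = y * x := by
    apply comm_of_class_two_two_gen p hp2 (hK.to_quotient _) (QuotientGroup.mk g)
      (QuotientGroup.mk (n' : K)) _ _ _ φ' hcop
    · -- generation
      rw [eq_top_iff]
      have h1 : (⊤ : Subgroup (K ⧸ frat p (commutator K))) =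
          (Subgroup.closure {k : K | ∃ a y, k = φ a y * y⁻¹}).map (QuotientGroup.mk' _) := by
        rw [hgenA, Subgroup.map_top_of_surjective _ (QuotientGroup.mk'_surjective _)]
      rw [h1, MonoidHom.map_closure, Subgroup.closure_le]
      rintro _ ⟨_, ⟨a, y', rfl⟩, rfl⟩
      apply Subgroup.subset_closure
      exact ⟨a, QuotientGroup.mk y', rfl⟩
    · intro k
      induction k using QuotientGroup.induction_on with
      | H k =>
        obtain ⟨i, l, hk⟩ := F1 k
        refine ⟨i, l, ?_⟩
        rw [hk, QuotientGroup.mk_mul, QuotientGroup.mk_zpow, QuotientGroup.mk_zpow]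
    · intro x y z
      induction x using QuotientGroup.induction_on with
      | H x =>
        induction y using QuotientGroup.induction_on with
        | H y =>
          induction z using QuotientGroup.induction_on with
          | H z =>
            have h1 : ⁅(QuotientGroup.mk x : K ⧸ frat p (commutator K)), (QuotientGroup.mk y : K ⧸ frat p (commutator K))⁆ =
                QuotientGroup.mk ⁅x, y⁆ := by
              simp [commutatorElement_def]
            show _ * _ = _ * _
            rw [h1, ← QuotientGroup.mk_mul, ← QuotientGroup.mk_mul,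
              Subgroup.mem_center_iff.mp (hDcen (hmemD x y)) z]
    · intro x y
      induction x using QuotientGroup.induction_on with
      | H x =>
        induction y using QuotientGroup.induction_on with
        | H y =>
          have h1 : ⁅(QuotientGroup.mk x : K ⧸ frat p (commutator K)), (QuotientGroup.mk y : K ⧸ frat p (commutator K))⁆ =
              QuotientGroup.mk ⁅x, y⁆ := by
            simp [commutatorElement_def]
          rw [h1, ← QuotientGroup.mk_pow, QuotientGroup.eq_one_iff]
          exact pow_mem_frat p _ (hmemD x y)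
  -- hence `D ≤ frat p D`, so `D = ⊥`
  have hDle : commutator K ≤ frat p (commutator K) := by
    have h : ∀ x y : K, ⁅x, y⁆ ∈ frat p (commutator K) := by
      intro x y
      rw [← QuotientGroup.eq_one_iff]
      have h1 : (QuotientGroup.mk ⁅x, y⁆ : K ⧸ frat p (commutator K)) =
          ⁅(QuotientGroup.mk x : K ⧸ frat p (commutator K)), (QuotientGroup.mk y : K ⧸ frat p (commutator K))⁆ := by
        simp [commutatorElement_def]
      rw [h1, commutatorElement_eq_one_iff_commute]
      exact hcomm' _ _
    have h2 : ⁅(⊤ : Subgroup K), ⊤⁆ ≤ frat p (commutator K) :=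
      Subgroup.commutator_le.mpr (fun x _ y _ => h x y)
    exact le_trans (le_of_eq (commutator_def K)) h2
  have hDbot : commutator K = ⊥ := by
    by_contra hne
    exact frat_ne p (commutator K) (hK.to_subgroup _) hne (le_antisymm hD₁le hDle)
  intro x y
  have h := hmemD x y
  rw [hDbot, Subgroup.mem_bot, commutatorElement_eq_one_iff_commute] at h
  exact h.eq

end Cfsg.Agent.Lib.Helper24
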