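import Mathlib
import Cfsg.Agent.Lib.Helper24.RankTwo

/-!
# Generic reduction for automorphisms of `p`-groups of rank at most two

`centralizes_of_rankLETwo_gen`: if a conjugation-invariant set `S` of `p'`-elements of `A` acts
trivially (through every action of `A`) on every elementary abelian `p`-group of order at most `p ^ 2`,
then `S` centralizes every `A`-invariant `p`-subgroup of rank at most two (`p` odd).
-/

set_option autoImplicit false
open scoped commutatorElement

universe u

namespace Cfsg.Agent.Lib.Helper24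

theorem card_GL2_zmod (p : ℕ) [hp : Fact p.Prime] :
    Nat.card (GL (Fin 2) (ZMod p)) = (p ^ 2 - 1) * (p ^ 2 - p) := by
  rw [Matrix.card_GL_field, Fin.prod_univ_two, ZMod.card]
  simp

theorem sub_one_dvd_card_GL2 (p : ℕ) (hp : 0 < p) : (p - 1) ∣ (p ^ 2 - 1) * (p ^ 2 - p) := by
  obtain ⟨k, rfl⟩ : ∃ k, p = k + 1 := ⟨p - 1, by omega⟩
  have h1 : (k + 1) ^ 2 - 1 = (k + 1 - 1) * (k + 2) := by
    apply Nat.sub_eq_of_eq_add
    simp
    ring
  rw [h1]
  exact Dvd.dvd.mul_right (Dvd.intro _ rfl) _

/-- Every automorphism of an elementary abelian `p`-group of order at most `p ^ 2` has order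
dividing `#GL₂(p) = (p ^ 2 - 1) * (p ^ 2 - p)`. -/
theorem mulAut_pow_card_GL2_eq_one (p : ℕ) [hp : Fact p.Prime]
    {V : Type*} [Group V] [Finite V] (hcomm : ∀ a b : V, a * b = b * a)
    (hexp : ∀ a : V, a ^ p = 1) (hcard : Nat.card V ≤ p ^ 2) (f : MulAut V) :
    f ^ ((p ^ 2 - 1) * (p ^ 2 - p)) = 1 := by
  have hV : IsPGroup p V := fun g => ⟨1, by simpa using hexp g⟩
  obtain ⟨k, hk⟩ := hV.exists_card_eq
  have hp1 : 1 < p := hp.out.one_lt
  have hk2 : k ≤ 2 := by
    rw [hk] at hcard
    exact (Nat.pow_le_pow_iff_right hp1).mp hcard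
  interval_cases k
  · have : Subsingleton V := (Nat.card_eq_one_iff_unique.mp (by simpa using hk)).1
    ext v
    exact Subsingleton.elim _ _
  · have hc : IsCyclic V := isCyclic_of_prime_card (p := p) (by simpa using hk)
    have h1 : Nat.card (MulAut V) = p - 1 := by
      rw [IsCyclic.card_mulAut, hk, pow_one, Nat.totient_prime hp.out]
    obtain ⟨m, hm⟩ := sub_one_dvd_card_GL2 p hp.out.pos
    have hfin : Finite (MulAut V) := Nat.finite_of_card_ne_zero (by rw [h1]; omega)
    rw [hm, pow_mul, ← h1, pow_card_eq_one', one_pow]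
  · obtain ⟨ψ, hψ⟩ := exists_injective_mulAut_to_GL2 p hcomm hexp hk
    apply hψ
    rw [map_pow, map_one, ← card_GL2_zmod, pow_card_eq_one']

theorem centralizes_of_rankLETwo_gen_aux {G : Type u} [Group G] [Finite G] (p : ℕ)
    [hp : Fact p.Prime] (hp2 : p ≠ 2) (A : Subgroup G) (S : Set G) (hSA : S ⊆ (A : Set G))
    (hScop : ∀ y ∈ S, (orderOf y).Coprime p) (hSconj : ∀ a ∈ A, ∀ y ∈ S, a * y * a⁻¹ ∈ S)
    (hterm : ∀ (V : Type u) [Group V] [Finite V], (∀ a b : V, a * b = b * a) →
      (∀ a : V, a ^ p = 1) → Nat.card V ≤ p ^ 2 → ∀ (φ : A →* MulAut V) (y : G) (hy : y ∈ S),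
      φ ⟨y, hSA hy⟩ = 1) :
    ∀ (n : ℕ) (R : Subgroup G), Nat.card R ≤ n → IsPGroup p R → RankLETwo p R →
      A ≤ Subgroup.normalizer (R : Set G) →
      ∀ x ∈ S, ∀ r ∈ R, x * r = r * x := by
  intro n
  induction n with
  | zero =>
    intro R hcard
    have := Nat.card_pos (α := R)
    omega
  | succ n ih =>
    intro R hcard hR hrank hAR x hxS r hr
    have hxA : x ∈ A := hSA hxS
    have hcop : (orderOf x).Coprime p := hScop x hxS
    have hxN : x ∈ Subgroup.normalizer (R : Set G) := hAR hxA
    -- the set of p'-elements of A'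
    set X := Subgroup.closure S with hX
    have hXA : X ≤ A := by
      rw [hX, Subgroup.closure_le]
      exact hSA
    have hAX : A ≤ Subgroup.normalizer (X : Set G) := by
      rw [hX, Subgroup.le_normalizer_closure_iff]
      intro a ha y hy
      exact Subgroup.subset_closure (hSconj a ha y hy)
    have hXR : X ≤ Subgroup.normalizer (R : Set G) := hXA.trans hAR
    set L := ⁅R, X⁆ with hLdef
    have hLR : L ≤ R := comm_le_left_of_le_normalizer R X hXR
    have hAL : A ≤ Subgroup.normalizer (L : Set G) :=
      le_normalizer_comm_of_le_normalizer A R X hAR hAX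
    by_cases hL : L = R
    · -- L = R
      by_cases hRbot : R = ⊥
      · rw [hRbot, Subgroup.mem_bot] at hr
        subst hr
        simp
      set Φ := frat p R with hΦdef
      have hΦR : Φ ≤ R := frat_le p R
      have hΦne : Φ ≠ R := frat_ne p R hR hRbot
      have hΦcard : Nat.card Φ ≤ n := by
        have := card_lt_of_le_of_ne hΦR hΦne
        omega
      have hAΦ : A ≤ Subgroup.normalizer (Φ : Set G) :=
        hAR.trans (normalizer_le_normalizer_frat p R)
      have ihΦ := ih Φ hΦcard (hR.to_le hΦR) (hrank.mono hΦR) hAΦ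
      have hXΦ : X ≤ Subgroup.centralizer (Φ : Set G) := by
        rw [hX, Subgroup.closure_le]
        intro y hy
        rw [SetLike.mem_coe, Subgroup.mem_centralizer_iff]
        intro c hc
        exact (ihΦ y hy c hc).symm
      have hXΦ0 : ⁅X, Φ⁆ = ⊥ := Subgroup.commutator_eq_bot_iff_le_centralizer.mpr hXΦ
      have h1 : ⁅⁅X, Φ⁆, R⁆ = ⊥ := by rw [hXΦ0, Subgroup.commutator_bot_left]
      have h2 : ⁅⁅Φ, R⁆, X⁆ = ⊥ := by
        have h3 : ⁅Φ, R⁆ ≤ Φ := comm_le_left_of_le_normalizer Φ R (le_normalizer_frat p R)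
        have h4 : ⁅⁅Φ, R⁆, X⁆ ≤ ⁅Φ, X⁆ := Subgroup.commutator_mono h3 le_rfl
        rw [Subgroup.commutator_comm Φ X, hXΦ0] at h4
        exact le_bot_iff.mp h4
      have h3 : ⁅⁅R, X⁆, Φ⁆ = ⊥ := Subgroup.commutator_commutator_eq_bot_of_rotate h1 h2
      rw [← hLdef, hL] at h3
      have hRΦ : R ≤ Subgroup.centralizer (Φ : Set G) :=
        Subgroup.commutator_eq_bot_iff_le_centralizer.mp h3
      have hcen : ∀ r ∈ R, ∀ c ∈ Φ, c * r = r * c := by
        intro r hr c hc
        exact (Subgroup.mem_centralizer_iff.mp (hRΦ hr)) c hc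
      -- Ω
      set T : Set G := {y | y ∈ R ∧ y ^ p = 1} with hT
      set Ω := Subgroup.closure T with hΩdef
      have hΩR : Ω ≤ R := by
        rw [hΩdef, Subgroup.closure_le]
        intro y hy
        exact hy.1
      have hAΩ : A ≤ Subgroup.normalizer (Ω : Set G) := by
        rw [hΩdef, Subgroup.le_normalizer_closure_iff]
        intro a ha y hy
        apply Subgroup.subset_closure
        refine ⟨(Subgroup.mem_normalizer_iff.mp (hAR ha) y).mp hy.1, ?_⟩
        rw [conj_pow, hy.2]
        group
      have hCexp : ∀ c ∈ ⁅R, R⁆, c ^ p = 1 := by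
        rw [Subgroup.commutator_def]
        apply (elemAb_closure p _ ?_ ?_).2
        · rintro s ⟨a, ha, b, hb, rfl⟩ t ⟨a', ha', b', hb', rfl⟩
          have ht : ⁅a', b'⁆ ∈ R := comm_self_le R (Subgroup.commutator_mem_commutator ha' hb')
          exact hcen _ ht _ (comm_mem_frat p R ha hb)
        · rintro s ⟨a, ha, b, hb, rfl⟩
          have hzx : Commute ⁅a, b⁆ b := hcen b hb _ (comm_mem_frat p R ha hb)
          rw [← commutatorElement_pow_right_of_commute b a hzx p,
            commutatorElement_eq_one_iff_mul_comm]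
          exact (hcen a ha _ (pow_mem_frat p R hb)).symm
      have hΩexp : ∀ f ∈ Ω, f ^ p = 1 :=
        pow_eq_one_of_closure p hp2 ⁅R, R⁆ T hCexp (fun s hs => hs.2)
          (fun s hs t ht => Subgroup.commutator_mem_commutator hs.1 ht.1)
          (fun c hc f hf => hcen f (hΩR hf) c (comm_le_frat p R hc))
      by_cases hΩ : Ω = R
      · -- exponent p
        have hexpR : ∀ r ∈ R, r ^ p = 1 := by
          intro r hr
          rw [← hΩ] at hr
          exact hΩexp r hr
        have hcardR3 : Nat.card R ≤ p ^ 3 := by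
          apply card_le_cube_of_exponent_class_two_rank_two (P := R) p
          · intro y
            apply Subtype.ext
            rw [Subgroup.coe_pow]
            exact hexpR y y.2
          · intro y z
            rw [Subgroup.mem_center_iff]
            intro g
            apply Subtype.ext
            have := hcen g g.2 ⁅(y : G), (z : G)⁆ (comm_mem_frat p R y.2 z.2)
            have e : ((⁅y, z⁆ : R) : G) = ⁅(y : G), (z : G)⁆ := rfl
            rw [Subgroup.coe_mul, Subgroup.coe_mul, e]
            exact this.symm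
          · intro E hEc hEe
            have h1 : Nat.card (E.map R.subtype) = Nat.card E :=
              Subgroup.card_map_of_injective R.subtype_injective
            rw [← h1]
            apply hrank (E.map R.subtype) (Subgroup.map_subtype_le E)
            · rintro _ ⟨a, ha, rfl⟩ _ ⟨b, hb, rfl⟩
              have := hEc a ha b hb
              simpa using congrArg Subtype.val this
            · rintro _ ⟨a, ha, rfl⟩
              have := hEe a ha
              simpa using congrArg Subtype.val this
        have hnorm : (Φ.subgroupOf R).Normal :=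
          (Subgroup.normal_subgroupOf_iff_le_normalizer hΦR).mpr (le_normalizer_frat p R)
        have hVcomm : ∀ u v : R ⧸ Φ.subgroupOf R, u * v = v * u := by
          intro u v
          induction u using QuotientGroup.induction_on with
          | H a =>
            induction v using QuotientGroup.induction_on with
            | H b =>
              rw [← QuotientGroup.mk_mul, ← QuotientGroup.mk_mul, QuotientGroup.eq,
                Subgroup.mem_subgroupOf]
              have e : (((a * b)⁻¹ * (b * a) : R) : G) = ⁅(b : G)⁻¹, (a : G)⁻¹⁆ := by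
                rw [commutatorElement_def]
                simp
                group
              rw [e]
              exact comm_mem_frat p R (R.inv_mem b.2) (R.inv_mem a.2)
        have hVexp : ∀ u : R ⧸ Φ.subgroupOf R, u ^ p = 1 := by
          intro u
          induction u using QuotientGroup.induction_on with
          | H a =>
            rw [← QuotientGroup.mk_pow]
            have : a ^ p = 1 := by
              apply Subtype.ext
              rw [Subgroup.coe_pow]
              exact hexpR a a.2
            rw [this]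
            rfl
        have hVcard : Nat.card (R ⧸ Φ.subgroupOf R) ≤ p ^ 2 := by
          have hmul := Subgroup.card_eq_card_quotient_mul_card_subgroup (Φ.subgroupOf R)
          by_cases hab : ∀ a ∈ R, ∀ b ∈ R, a * b = b * a
          · have h2 : Nat.card R ≤ p ^ 2 := hrank R le_rfl hab hexpR
            have h3 : 0 < Nat.card (Φ.subgroupOf R) := Nat.card_pos
            nlinarith
          · push Not at hab
            obtain ⟨a, ha, b, hb, hne⟩ := hab
            have hne1 : ⁅a, b⁆ ≠ 1 := by
              rw [Ne, commutatorElement_eq_one_iff_mul_comm]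
              exact hne
            have hmem : ⁅a, b⁆ ∈ Φ := comm_mem_frat p R ha hb
            have hnt : Nontrivial (Φ.subgroupOf R) := by
              refine ⟨⟨⟨⟨⁅a, b⁆, hΦR hmem⟩, ?_⟩, 1, ?_⟩⟩
              · rw [Subgroup.mem_subgroupOf]; exact hmem
              · intro h
                apply hne1
                have := congrArg (fun z : Φ.subgroupOf R => ((z : R) : G)) h
                simpa using this
            have hΦp : IsPGroup p (Φ.subgroupOf R) := hR.to_subgroup _
            have hdvd : p ∣ Nat.card (Φ.subgroupOf R) := by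
              rcases hΦp.card_eq_or_dvd with h | h
              · have := Finite.one_lt_card (α := Φ.subgroupOf R)
                omega
              · exact h
            have hple : p ≤ Nat.card (Φ.subgroupOf R) := Nat.le_of_dvd Nat.card_pos hdvd
            have hp0 : 0 < p := hp.out.pos
            have h5 : Nat.card (R ⧸ Φ.subgroupOf R) * p ≤ p ^ 2 * p := by
              calc Nat.card (R ⧸ Φ.subgroupOf R) * p
                  ≤ Nat.card (R ⧸ Φ.subgroupOf R) * Nat.card (Φ.subgroupOf R) :=
                    Nat.mul_le_mul_left _ hple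
                _ = Nat.card R := hmul.symm
                _ ≤ p ^ 3 := hcardR3
                _ = p ^ 2 * p := by ring
            exact Nat.le_of_mul_le_mul_right h5 hp0
        -- the action of A on R / Φ
        let ψ : A →* MulAut R := R.normalizerMonoidHom.comp (Subgroup.inclusion hAR)
        have hψ : ∀ a : A, ∀ n ∈ Φ.subgroupOf R, ψ a n ∈ Φ.subgroupOf R := by
          intro a n hn
          rw [Subgroup.mem_subgroupOf] at hn ⊢
          have h1 : ((ψ a n : R) : G) = (a : G) * (n : G) * (a : G)⁻¹ := rfl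
          rw [h1]
          exact (Subgroup.mem_normalizer_iff.mp (hAΦ a.2) n).mp hn
        let φ := quotAut (Φ.subgroupOf R) ψ hψ
        have hφ : φ ⟨x, hxA⟩ = 1 := hterm _ hVcomm hVexp hVcard φ x hxS
        have h6 : φ ⟨x, hxA⟩ (QuotientGroup.mk ⟨r, hr⟩) = QuotientGroup.mk ⟨r, hr⟩ := by
          rw [hφ]; rfl
        rw [quotAut_mk, QuotientGroup.eq, Subgroup.mem_subgroupOf] at h6
        have h7 : (((ψ ⟨x, hxA⟩ ⟨r, hr⟩)⁻¹ * ⟨r, hr⟩ : R) : G) = (x * r * x⁻¹)⁻¹ * r := rfl
        rw [h7] at h6
        have h8 : r⁻¹ * (x * r * x⁻¹) ∈ Φ := by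
          have := Φ.inv_mem h6
          rwa [mul_inv_rev, inv_inv] at this
        exact commute_of_comm_commute_pgroup p x hcop R hR hxN r hr (ihΦ x hxS _ h8)
      · -- Ω ≠ R
        have hΩcard : Nat.card Ω ≤ n := by
          have := card_lt_of_le_of_ne hΩR hΩ
          omega
        have ihΩ := ih Ω hΩcard (hR.to_le hΩR) (hrank.mono hΩR) hAΩ
        exact centralizes_of_centralizes_omega p hp2 x hcop R hR hxN
          (fun y hy hyp => ihΩ x hxS y (Subgroup.subset_closure ⟨hy, hyp⟩)) r hr
    · -- L ≠ R
      have hLcard : Nat.card L ≤ n := by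
        have := card_lt_of_le_of_ne hLR hL
        omega
      have ihL := ih L hLcard (hR.to_le hLR) (hrank.mono hLR) hAL
      apply commute_of_comm_commute_pgroup p x hcop R hR hxN r hr
      apply ihL x hxS
      have e : r⁻¹ * (x * r * x⁻¹) = ⁅r⁻¹, x⁆ := by rw [commutatorElement_def]; group
      rw [e]
      exact Subgroup.commutator_mem_commutator (R.inv_mem hr) (Subgroup.subset_closure hxS)


/-- **Generic rank two reduction.** -/
theorem centralizes_of_rankLETwo_gen {G : Type u} [Group G] [Finite G] (p : ℕ)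
    [hp : Fact p.Prime] (hp2 : p ≠ 2) (A : Subgroup G) (S : Set G) (hSA : S ⊆ (A : Set G))
    (hScop : ∀ y ∈ S, (orderOf y).Coprime p) (hSconj : ∀ a ∈ A, ∀ y ∈ S, a * y * a⁻¹ ∈ S)
    (hterm : ∀ (V : Type u) [Group V] [Finite V], (∀ a b : V, a * b = b * a) →
      (∀ a : V, a ^ p = 1) → Nat.card V ≤ p ^ 2 → ∀ (φ : A →* MulAut V) (y : G) (hy : y ∈ S),
      φ ⟨y, hSA hy⟩ = 1)
    (R : Subgroup G) (hR : IsPGroup p R) (hrank : RankLETwo p R)
    (hAR : A ≤ Subgroup.normalizer (R : Set G)) (x : G) (hx : x ∈ S) (r : G) (hr : r ∈ R) :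
    x * r = r * x :=
  centralizes_of_rankLETwo_gen_aux p hp2 A S hSA hScop hSconj hterm _ R le_rfl hR hrank hAR x hx
    r hr

/-- An element whose order is coprime to `#GL₂(p)` and which normalizes a `p`-subgroup `R` of rank
at most two (`p` odd) centralizes `R`. -/
theorem centralizes_of_rankLETwo_of_coprime_card_GL2 {G : Type u} [Group G] [Finite G] (p : ℕ)
    [hp : Fact p.Prime] (hp2 : p ≠ 2) (x : G)
    (hx : (orderOf x).Coprime ((p ^ 2 - 1) * (p ^ 2 - p)))
    (R : Subgroup G) (hR : IsPGroup p R) (hrank : RankLETwo p R)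
    (hxR : x ∈ Subgroup.normalizer (R : Set G)) (r : G) (hr : r ∈ R) : x * r = r * x := by
  have hpdvd : p ∣ (p ^ 2 - 1) * (p ^ 2 - p) := by
    apply Dvd.dvd.mul_left
    have : p ^ 2 - p = p * (p - 1) := by
      rw [Nat.mul_sub, mul_one, sq]
    rw [this]
    exact Dvd.intro _ rfl
  refine centralizes_of_rankLETwo_gen p hp2 (Subgroup.zpowers x) {x} ?_ ?_ ?_ ?_ R hR hrank ?_ x
    rfl r hr
  · intro y hy
    rw [Set.mem_singleton_iff] at hy
    subst hy
    exact Subgroup.mem_zpowers y
  · intro y hy
    rw [Set.mem_singleton_iff] at hy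
    subst hy
    exact Nat.Coprime.coprime_dvd_right hpdvd hx
  · intro a ha y hy
    rw [Set.mem_singleton_iff] at hy
    subst hy
    rw [Set.mem_singleton_iff]
    obtain ⟨k, rfl⟩ := Subgroup.mem_zpowers_iff.mp ha
    have : Commute (y ^ k) y := (Commute.refl y).zpow_left k
    rw [this.eq, mul_inv_cancel_right]
  · intro V _ _ hVc hVe hVcard φ y hy
    rw [Set.mem_singleton_iff] at hy
    subst hy
    have h1 := mulAut_pow_card_GL2_eq_one p hVc hVe hVcard (φ ⟨y, Subgroup.mem_zpowers y⟩)
    have h2 : (φ ⟨y, Subgroup.mem_zpowers y⟩) ^ orderOf y = 1 := by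
      rw [← map_pow]
      have : (⟨y, Subgroup.mem_zpowers y⟩ : Subgroup.zpowers y) ^ orderOf y = 1 := by
        apply Subtype.ext
        rw [Subgroup.coe_pow]
        exact pow_orderOf_eq_one y
      rw [this, map_one]
    have h3 := orderOf_dvd_of_pow_eq_one h1
    have h4 := orderOf_dvd_of_pow_eq_one h2
    have h5 : orderOf (φ ⟨y, Subgroup.mem_zpowers y⟩) = 1 :=
      Nat.eq_one_of_dvd_coprimes hx h4 h3
    exact orderOf_eq_one_iff.mp h5
  · rw [Subgroup.zpowers_le]
    exact hxR

end Cfsg.Agent.Lib.Helper24
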