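import Mathlib
import Cfsg.Prelude.Def_CaseTheorems
import Cfsg.Agent.Lib.Helper24.RankTwo

/-!
Conversions between `Cfsg.PRankLE p 2 ↥R` and `RankLETwo p R`.
-/

set_option autoImplicit false

namespace Cfsg.Agent.Lib.Helper24

theorem rankLETwo_of_pRankLE {G : Type*} [Group G] (p : ℕ) (R : Subgroup G)
    (hr : Cfsg.PRankLE p 2 R) : RankLETwo p R := by
  intro E hER hEc hEe
  have h1 : Nat.card (E.subgroupOf R) = Nat.card E :=
    Nat.card_congr (Subgroup.subgroupOfEquivOfLe hER).toEquiv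
  rw [← h1]
  apply hr (E.subgroupOf R)
  · refine ⟨⟨?_⟩⟩
    rintro ⟨a, ha⟩ ⟨b, hb⟩
    apply Subtype.ext
    apply Subtype.ext
    rw [Subgroup.mem_subgroupOf] at ha hb
    exact hEc _ ha _ hb
  · intro a ha
    rw [Subgroup.mem_subgroupOf] at ha
    apply Subtype.ext
    rw [Subgroup.coe_pow]
    exact hEe _ ha

theorem rankLETwo_top_of_pRankLE {G : Type*} [Group G] (p : ℕ) (hr : Cfsg.PRankLE p 2 G) :
    RankLETwo p (⊤ : Subgroup G) := by
  intro E _ hEc hEe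
  apply hr E
  · refine ⟨⟨?_⟩⟩
    rintro ⟨a, ha⟩ ⟨b, hb⟩
    apply Subtype.ext
    exact hEc _ ha _ hb
  · exact hEe

end Cfsg.Agent.Lib.Helper24
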