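import Mathlib
import Cfsg.Prelude.Def_OddOrderLocal
import Cfsg.Agent.Lib.Helper54.BGTransitivity

/-!
# Normal Hall `β`-subgroups from normal `q`-complements of a normal subgroup

Abstract core of Bender–Glauberman 10.9/10.10: let `D ⊴ X` (think `D = X'`) be such that for every
prime `q ∉ β` the `q'`-elements of `D` lie in a normal subgroup of `X` of order prime to `q`
(i.e. `D` has a normal `q`-complement), and no prime of `β` divides `|X : D|`.  Then `O_β(X)` is a
Hall `β`-subgroup of `X`, and every `S` with `O_β(X) ≤ S ≤ D` has a nilpotent Hall `β'`-subgroup.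
-/

set_option autoImplicit false

namespace Cfsg.Agent.Lib.Helper24

open Cfsg

universe u

/-- An element whose order is coprime to the index of a normal subgroup lies in it. -/
theorem mem_of_coprime_index {X : Type u} [Group X] [Finite X] (D : Subgroup X) [D.Normal]
    (x : X) (h : (orderOf x).Coprime D.index) : x ∈ D := by
  have h2 : orderOf (QuotientGroup.mk x : X ⧸ D) ∣ orderOf x :=
    orderOf_map_dvd (QuotientGroup.mk' D) x
  have h1 : orderOf (QuotientGroup.mk x : X ⧸ D) ∣ D.index := by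
    rw [Subgroup.index_eq_card]; exact orderOf_dvd_natCard _
  have h4 := Nat.eq_one_of_dvd_coprimes h h2 h1
  rw [orderOf_eq_one_iff, QuotientGroup.eq_one_iff] at h4
  exact h4

/-- A natural number all of whose prime divisors equal `p` is a power of `p`. -/
theorem isPGroup_of_forall_prime_dvd {X : Type u} [Group X] [Finite X] (p : ℕ) [Fact p.Prime]
    (h : ∀ r : ℕ, r.Prime → r ∣ Nat.card X → r = p) : IsPGroup p X := by
  have h0 : Nat.card X ≠ 0 := Nat.card_pos.ne'
  have := Nat.eq_prime_pow_of_unique_prime_dvd h0 (fun {d} hd hdvd => h d hd hdvd)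
  exact IsPGroup.of_card this

theorem hall_structure {X : Type u} [Group X] [Finite X] (β : Set ℕ) (D : Subgroup X) [D.Normal]
    (hN : ∀ q : ℕ, q.Prime → q ∉ β → ∃ N : Subgroup X, N.Normal ∧ (Nat.card N).Coprime q ∧
      ∀ x ∈ D, (orderOf x).Coprime q → x ∈ N)
    (hidx : ∀ p : ℕ, p.Prime → p ∈ β → ¬ p ∣ D.index) :
    (∀ p : ℕ, p.Prime → p ∈ β → ¬ p ∣ (piCore β X).index) ∧
    ∀ S : Subgroup X, piCore β X ≤ S → S ≤ D →
      ∃ H : Subgroup X, H ≤ S ∧ (∀ q : ℕ, q.Prime → q ∣ Nat.card H → q ∉ β) ∧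
        (∀ q : ℕ, q.Prime → q ∉ β → ¬ q ∣ H.relIndex S) ∧ Group.IsNilpotent H := by
  classical
  choose N hNn hNc hNm using hN
  -- intersection of the normal `q`-complements, `q ∉ β`, `q ≠ p`
  let L : ℕ → Subgroup X := fun p => ⨅ (q : ℕ) (hq : q.Prime) (hqβ : q ∉ β) (_ : q ≠ p), N q hq hqβ
  have hLn : ∀ p, (L p).Normal := by
    intro p
    refine Subgroup.normal_iInf_normal fun q => ?_
    refine Subgroup.normal_iInf_normal fun hq => ?_
    refine Subgroup.normal_iInf_normal fun hqβ => ?_
    refine Subgroup.normal_iInf_normal fun _ => ?_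
    exact hNn q hq hqβ
  have hLle : ∀ p q (hq : q.Prime) (hqβ : q ∉ β), q ≠ p → L p ≤ N q hq hqβ := by
    intro p q hq hqβ hqp
    exact iInf_le_of_le q (iInf_le_of_le hq (iInf_le_of_le hqβ (iInf_le _ hqp)))
  have hF2 : ∀ p r : ℕ, r.Prime → r ∉ β → r ≠ p → ∀ K : Subgroup X, K ≤ L p → ¬ r ∣ Nat.card K := by
    intro p r hr hrβ hrp K hK hdvd
    have h1 : Nat.card K ∣ Nat.card (N r hr hrβ) :=
      Subgroup.card_dvd_of_le (hK.trans (hLle p r hr hrβ hrp))
    have h2 := hNc r hr hrβ
    have := Nat.eq_one_of_dvd_coprimes h2 (hdvd.trans h1) dvd_rfl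
    exact hr.ne_one this
  have hF3 : ∀ p : ℕ, ∀ x ∈ D, (∀ q : ℕ, q.Prime → q ∉ β → q ≠ p → (orderOf x).Coprime q) →
      x ∈ L p := by
    intro p x hx h
    simp only [L, Subgroup.mem_iInf]
    intro q hq hqβ hqp
    exact hNm q hq hqβ x hx (h q hq hqβ hqp)
  -- elements of prime power order `p ^ k`
  have hcop : ∀ (p : ℕ) (x : X), p.Prime → (∃ k, orderOf x = p ^ k) →
      ∀ q : ℕ, q.Prime → q ≠ p → (orderOf x).Coprime q := by
    intro p x hp ⟨k, hk⟩ q hq hqp
    rw [hk]
    exact Nat.Coprime.pow_left k ((Nat.coprime_primes hp hq).mpr (Ne.symm hqp))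
  -- Hall property
  have hB'le : L 0 ≤ piCore β X := by
    apply Cfsg.Agent.Lib.Helper54.le_piCore β (hLn 0)
    intro r hr hrd
    by_contra hrβ
    exact hF2 0 r hr hrβ hr.ne_zero (L 0) le_rfl hrd
  have hHall : ∀ p : ℕ, p.Prime → p ∈ β → ¬ p ∣ (piCore β X).index := by
    intro p hp hpβ hdvd
    have : Fact p.Prime := ⟨hp⟩
    let P : Sylow p X := default
    have hPo : ∀ x ∈ (P : Subgroup X), ∃ k, orderOf x = p ^ k := by
      intro x hx
      obtain ⟨k, hk⟩ := (IsPGroup.iff_orderOf.mp P.isPGroup') ⟨x, hx⟩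
      exact ⟨k, by rw [← hk, Subgroup.orderOf_mk]⟩
    have hPD : (P : Subgroup X) ≤ D := by
      intro x hx
      apply mem_of_coprime_index D x
      obtain ⟨k, hk⟩ := hPo x hx
      rw [hk]
      exact Nat.Coprime.pow_left k ((Nat.Prime.coprime_iff_not_dvd hp).mpr (hidx p hp hpβ))
    have hPL : (P : Subgroup X) ≤ L 0 := by
      intro x hx
      apply hF3 0 x (hPD hx)
      intro q hq hqβ _
      exact hcop p x hp (hPo x hx) q hq (fun h => hqβ (h ▸ hpβ))
    have h1 : (piCore β X).index ∣ (P : Subgroup X).index :=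
      Subgroup.index_dvd_of_le (hPL.trans hB'le)
    exact P.not_dvd_index (hdvd.trans h1)
  refine ⟨hHall, ?_⟩
  intro S hBS hSD
  set B := piCore β X with hB
  have hBpi := Cfsg.Agent.Lib.Helper54.piCore_isPi (H := X) β
  have hrel : B.relIndex S ∣ B.index := ⟨S.index, (Subgroup.relIndex_mul_index hBS).symm⟩
  have hcardN : Nat.card (B.subgroupOf S) = Nat.card B :=
    Nat.card_congr (Subgroup.subgroupOfEquivOfLe hBS).toEquiv
  have hcopB : (Nat.card (B.subgroupOf S)).Coprime (B.subgroupOf S).index := by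
    rw [hcardN]
    apply Nat.coprime_of_dvd
    intro r hr hrd hri
    exact hHall r hr (hBpi r hr hrd) (hri.trans hrel)
  obtain ⟨H', hH'⟩ := Subgroup.exists_right_complement'_of_coprime hcopB
  have hcardH' : Nat.card H' = B.relIndex S := (hH'.symm.index_eq_card).symm
  have hidxH' : H'.index = Nat.card B := by rw [hH'.index_eq_card, hcardN]
  refine ⟨H'.map S.subtype, Subgroup.map_subtype_le _, ?_, ?_, ?_⟩
  · intro q hq hqd hqβ
    rw [Subgroup.card_map_of_injective S.subtype_injective, hcardH'] at hqd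
    exact hHall q hq hqβ (hqd.trans hrel)
  · intro q hq hqβ hqd
    have h1 : (H'.map S.subtype).relIndex S = H'.index := by
      unfold Subgroup.relIndex Subgroup.subgroupOf
      rw [Subgroup.comap_map_eq_self_of_injective S.subtype_injective]
    rw [h1, hidxH'] at hqd
    exact hqβ (hBpi q hq hqd)
  · -- nilpotency: every Sylow subgroup is normal
    set H := H'.map S.subtype with hH
    have hHS : H ≤ S := Subgroup.map_subtype_le _
    have hHpi : ∀ q : ℕ, q.Prime → q ∣ Nat.card H → q ∉ β := by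
      intro q hq hqd hqβ
      rw [Subgroup.card_map_of_injective S.subtype_injective, hcardH'] at hqd
      exact hHall q hq hqβ (hqd.trans hrel)
    apply ((Group.isNilpotent_of_finite_tfae (G := ↥H)).out 0 3).mpr
    intro p hp P
    have hpp : p.Prime := hp.out
    have : ((L p).subgroupOf H).Normal := Subgroup.Normal.subgroupOf (hLn p) H
    have hLp : IsPGroup p ((L p).subgroupOf H) := by
      apply isPGroup_of_forall_prime_dvd p
      intro r hr hrd
      by_contra hrp
      have hrH : r ∣ Nat.card H := hrd.trans (Subgroup.card_subgroup_dvd_card _)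
      have hrβ : r ∉ β := hHpi r hr hrH
      have hc : Nat.card ((L p).subgroupOf H) = Nat.card ↥(((L p).subgroupOf H).map H.subtype) :=
        (Subgroup.card_map_of_injective H.subtype_injective).symm
      rw [hc] at hrd
      refine hF2 p r hr hrβ hrp _ ?_ hrd
      rintro _ ⟨y, hy, rfl⟩
      exact hy
    have hPle : (P : Subgroup ↥H) ≤ (L p).subgroupOf H := by
      intro x hx
      rw [Subgroup.mem_subgroupOf]
      apply hF3 p (x : X) (hSD (hHS x.2))
      intro q hq hqβ hqp
      obtain ⟨k, hk⟩ := (IsPGroup.iff_orderOf.mp P.isPGroup') ⟨x, hx⟩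
      have hk' : orderOf (x : X) = p ^ k := by
        rw [← hk, Subgroup.orderOf_mk, Subgroup.orderOf_coe]
      exact hcop p (x : X) hpp ⟨k, hk'⟩ q hq hqp
    have heq := P.is_maximal' hLp hPle
    rw [← heq]
    infer_instance

end Cfsg.Agent.Lib.Helper24
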