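import Mathlib
import Cfsg.Prelude.Def_OddOrderLocal
import Cfsg.Agent.Lib.Helper24.FittingStructure
import Cfsg.Agent.Lib.Helper24.OddSolvableStructure
import Cfsg.Agent.Lib.Helper1.HallDom
import Cfsg.Agent.Lib.Helper24.FittingStructure2

/-!
# Consequences of `G' ≤ F(G)`: normality of characteristic subgroups of Sylow subgroups inside their
derived subgroups, and characteristic Hall subgroups for the primes `> p` (Sylow tower).
-/

set_option autoImplicit false
open scoped commutatorElement
open Cfsg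

universe u

namespace Cfsg.Agent.Lib.Helper24

/-- Split a positive integer into its part with prime factors `> p` and its part with prime factors
`≤ p`. -/
theorem exists_pi_split (N p : ℕ) (hN : 0 < N) : ∃ m n : ℕ, N = m * n ∧ m.Coprime n ∧
    (∀ q : ℕ, q.Prime → q ∣ m → p < q) ∧ (∀ q : ℕ, q.Prime → q ∣ n → q ≤ p) := by
  classical
  set D := N.divisors.filter (fun d => ∀ q : ℕ, q.Prime → q ∣ d → p < q) with hD
  have h1 : (1 : ℕ) ∈ D := by
    rw [hD, Finset.mem_filter]
    refine ⟨Nat.one_mem_divisors.mpr hN.ne', ?_⟩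
    intro q hq hq1
    exact absurd (Nat.dvd_one.mp hq1) hq.ne_one
  set m := D.max' ⟨1, h1⟩ with hm
  have hmD : m ∈ D := Finset.max'_mem D ⟨1, h1⟩
  rw [hD, Finset.mem_filter] at hmD
  obtain ⟨hmN, hmp⟩ := hmD
  have hmdvd : m ∣ N := (Nat.mem_divisors.mp hmN).1
  have hmpos : 0 < m := Nat.pos_of_dvd_of_pos hmdvd hN
  obtain ⟨n, hn⟩ := hmdvd
  have hnp : ∀ q : ℕ, q.Prime → q ∣ n → q ≤ p := by
    intro q hq hqn
    by_contra hlt
    rw [not_le] at hlt
    have hqm : q * m ∈ D := by
      rw [hD, Finset.mem_filter]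
      refine ⟨Nat.mem_divisors.mpr ⟨?_, hN.ne'⟩, ?_⟩
      · obtain ⟨n', rfl⟩ := hqn
        rw [hn]
        exact ⟨n', by ring⟩
      · intro s hs hsd
        rcases (Nat.Prime.dvd_mul hs).mp hsd with h | h
        · rw [(Nat.prime_dvd_prime_iff_eq hs hq).mp h]; exact hlt
        · exact hmp s hs h
    have hle : q * m ≤ m := Finset.le_max' D _ hqm
    have := hq.two_le
    nlinarith
  refine ⟨m, n, hn, ?_, hmp, hnp⟩
  apply Nat.coprime_of_dvd
  intro k hk hkm hkn
  have h2 := hmp k hk hkm
  have h3 := hnp k hk hkn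
  omega


/-- If `G' ≤ F(G)`, characteristic subgroups of a Sylow subgroup `S` inside `⁅S, S⁆` are normal. -/
theorem normal_of_characteristic_of_le_comm_sylow {G : Type*} [Group G] [Finite G]
    (hGF : commutator G ≤ fittingSubgroup G) (q : ℕ) [hq : Fact q.Prime] (S : Sylow q G)
    (T : Subgroup ↥(S : Subgroup G)) (hT : T.Characteristic)
    (hTS : T.map (S : Subgroup G).subtype ≤ ⁅(S : Subgroup G), (S : Subgroup G)⁆) :
    (T.map (S : Subgroup G).subtype).Normal := by
  set T₁ := T.map (S : Subgroup G).subtype with hT₁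
  have hT₁S : T₁ ≤ S := Subgroup.map_subtype_le T
  have hSS : ⁅(S : Subgroup G), (S : Subgroup G)⁆ ≤ commutator G := by
    rw [commutator_def]; exact Subgroup.commutator_mono le_top le_top
  have hT₁q : T₁ ≤ pCore q G :=
    le_pCore_of_le_fittingSubgroup q T₁ (S.isPGroup'.to_le hT₁S) ((hTS.trans hSS).trans hGF)
  set N := (S : Subgroup G) ⊔ fittingSubgroup G with hN
  have hNn : N.Normal := normal_of_commutator_le _ (hGF.trans le_sup_right)
  have hfr : Subgroup.normalizer ((S : Subgroup G) : Set G) ⊔ N = ⊤ :=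
    Sylow.normalizer_sup_eq_top' S le_sup_left
  have h1 : Subgroup.normalizer ((S : Subgroup G) : Set G) ≤ Subgroup.normalizer (T₁ : Set G) := by
    rw [Subgroup.le_normalizer_iff]
    rintro h hh _ ⟨t, ht, rfl⟩
    let φ : MulAut (S : Subgroup G) := (S : Subgroup G).normalizerMonoidHom ⟨h, hh⟩
    have hφ : T.map φ.toMonoidHom = T := Subgroup.characteristic_iff_map_eq.mp hT φ
    have h2 : φ t ∈ T := by
      rw [← hφ]
      exact Subgroup.mem_map_of_mem _ ht
    have h3 : h * (S : Subgroup G).subtype t * h⁻¹ = (S : Subgroup G).subtype (φ t) := rfl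
    rw [h3]
    exact Subgroup.mem_map_of_mem _ h2
  have h2 : fittingSubgroup G ≤ Subgroup.normalizer (T₁ : Set G) := by
    refine le_trans (fittingSubgroup_le_sup q) (sup_le ?_ ?_)
    · exact ((Cfsg.Agent.Lib.Helper55.pCore_le_sylow S).trans Subgroup.le_normalizer).trans h1
    · refine le_trans (pCoreCompl_le_centralizer_pCore q) ?_
      refine le_trans (Subgroup.centralizer_le ?_) (Subgroup.centralizer_le_normalizer _)
      exact hT₁q
  have h3 : (⊤ : Subgroup G) ≤ Subgroup.normalizer (T₁ : Set G) := by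
    rw [← hfr]
    exact sup_le h1 (sup_le (Subgroup.le_normalizer.trans h1) h2)
  exact Subgroup.normalizer_eq_top_iff.mp (top_le_iff.mp h3)

/-- Characteristic Hall subgroup for the primes `> p`, from centralizing hypotheses. -/
theorem exists_characteristic_hall {G : Type u} [Group G] [Finite G] [Group.IsSolvable G] (p : ℕ)
    (hGF : commutator G ≤ fittingSubgroup G)
    (hcent : ∀ r : ℕ, r.Prime → r ≤ p → ∀ x : G, (∀ s : ℕ, s.Prime → s ∣ orderOf x → p < s) →
      ∀ y ∈ pCore r G, x * y = y * x) :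
    ∃ N : Subgroup G, N.Characteristic ∧ IsPiHall {q | q.Prime ∧ p < q} N := by
  obtain ⟨m, n, hG, hmn, hmp, hnp⟩ := exists_pi_split (Nat.card G) p Nat.card_pos
  obtain ⟨M, hMc, -⟩ := Cfsg.Agent.Lib.Helper1.hall_dom m n hG hmn ⊥ (by simp)
  have hmpos : 0 < m := by
    rw [← hMc]; exact Nat.card_pos
  have hidx : M.index = n := by
    have h1 : Nat.card M * M.index = Nat.card G := M.card_mul_index
    rw [hMc, hG] at h1
    exact Nat.eq_of_mul_eq_mul_left hmpos h1
  -- elements of M are π-elements
  have helem : ∀ x ∈ M, ∀ s : ℕ, s.Prime → s ∣ orderOf x → p < s := by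
    intro x hx s hs hsd
    apply hmp s hs
    rw [← hMc]
    have h1 : orderOf (⟨x, hx⟩ : M) ∣ Nat.card M := orderOf_dvd_natCard _
    rw [Subgroup.orderOf_mk] at h1
    exact hsd.trans h1
  -- π-elements of the normalizer of M lie in M
  have hMall : ∀ x : G, (∀ s : ℕ, s.Prime → s ∣ orderOf x → p < s) →
      x ∈ Subgroup.normalizer (M : Set G) → x ∈ M := by
    intro x hx hxN
    apply mem_of_mem_normalizer_of_coprime_index M x hxN
    rw [hidx]
    apply Nat.coprime_of_dvd
    intro k hk hk1 hk2
    have := hx k hk hk1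
    have := hnp k hk hk2
    omega
  have hbig : ∀ r : ℕ, r.Prime → p < r → pCore r G ≤ M := by
    intro r hr hpr
    have : Fact r.Prime := ⟨hr⟩
    set K := pCore r G ⊔ M with hK
    have hd1 : Nat.card K ∣ Nat.card (pCore r G) * Nat.card M :=
      Cfsg.Agent.Lib.Helper1.card_sup_dvd_mul_of_normal_left _ _
    obtain ⟨k, hk⟩ := IsPGroup.iff_card.mp (Cfsg.Agent.Lib.Helper55.isPGroup_pCore (G := G) r)
    rw [hk, hMc] at hd1
    have hd2 : Nat.card K ∣ m * n := by
      rw [← hG]; exact Subgroup.card_subgroup_dvd_card K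
    have hcop : (Nat.card K).Coprime n := by
      apply Nat.coprime_of_dvd
      intro s hs hs1 hs2
      have h3 : s ∣ r ^ k * m := hs1.trans hd1
      have h4 : p < s := by
        rcases (Nat.Prime.dvd_mul hs).mp h3 with h | h
        · have := (Nat.prime_dvd_prime_iff_eq hs hr).mp (hs.dvd_of_dvd_pow h)
          omega
        · exact hmp s hs h
      have := hnp s hs hs2
      omega
    have hd3 : Nat.card K ∣ m := hcop.dvd_of_dvd_mul_right hd2
    have hle : Nat.card K ≤ Nat.card M := by
      rw [hMc]; exact Nat.le_of_dvd hmpos hd3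
    have hMK : M = K := Subgroup.eq_of_le_of_card_ge le_sup_right hle
    rw [hMK]
    exact le_sup_left
  have hFnorm : fittingSubgroup G ≤ Subgroup.normalizer (M : Set G) := by
    rw [Cfsg.Agent.Lib.Helper1.fittingSubgroup_eq_iSup_pCore]
    apply iSup_le
    intro r
    by_cases hrp : (r : ℕ) ≤ p
    · refine le_trans ?_ (Subgroup.centralizer_le_normalizer _)
      intro y hy
      rw [Subgroup.mem_centralizer_iff]
      intro x hx
      exact hcent r r.2 hrp x (helem x hx) y hy
    · rw [not_le] at hrp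
      exact (hbig r r.2 hrp).trans Subgroup.le_normalizer
  set N := M ⊔ fittingSubgroup G with hN
  have hNn : N.Normal := normal_of_commutator_le _ (hGF.trans le_sup_right)
  have hNM : N ≤ Subgroup.normalizer (M : Set G) := sup_le Subgroup.le_normalizer hFnorm
  have hMn : M.Normal := by
    refine ⟨fun x hx g => ?_⟩
    apply hMall
    · intro s hs hsd
      have : orderOf (g * x * g⁻¹) = orderOf x := by
        have := MulEquiv.orderOf_eq (MulAut.conj g) x
        rwa [MulAut.conj_apply] at this
      rw [this] at hsd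
      exact helem x hx s hs hsd
    · exact hNM (hNn.conj_mem x (le_sup_left (a := M) hx) g)
  refine ⟨M, ?_, ?_, ?_⟩
  · rw [Subgroup.characteristic_iff_map_le]
    rintro φ _ ⟨x, hx, rfl⟩
    apply hMall
    · intro s hs hsd
      have : orderOf (φ.toMonoidHom x) = orderOf x := MulEquiv.orderOf_eq φ x
      rw [this] at hsd
      exact helem x hx s hs hsd
    · rw [Subgroup.normalizer_eq_top_iff.mpr hMn]
      exact Subgroup.mem_top _
  · intro q hq hqd
    rw [hMc] at hqd
    exact ⟨hq, hmp q hq hqd⟩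
  · intro q hq hqπ hqd
    rw [hidx] at hqd
    have := hnp q hq hqd
    have := hqπ.2
    omega

end Cfsg.Agent.Lib.Helper24
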