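import Mathlib

/-!
# Conjugation action of a normalizing subgroup, as a homomorphism into `MulAut`
-/

set_option autoImplicit false

namespace Cfsg.Agent.Lib.Helper24

/-- The action of a subgroup `G` normalizing `V` on `V` by conjugation. -/
def conjOn {X : Type*} [Group X] (G V : Subgroup X)
    (hGV : G ≤ Subgroup.normalizer (V : Set X)) : ↥G →* MulAut ↥V where
  toFun g :=
    { toFun := fun v => ⟨(g : X) * v * (g : X)⁻¹,
        (Subgroup.mem_normalizer_iff.mp (hGV g.2) v).mp v.2⟩
      invFun := fun v => ⟨(g : X)⁻¹ * v * (g : X), by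
        have h := (Subgroup.mem_normalizer_iff.mp (hGV g.2) ((g : X)⁻¹ * v * (g : X))).mpr
        apply h
        have : (g : X) * ((g : X)⁻¹ * v * (g : X)) * (g : X)⁻¹ = v := by group
        rw [this]
        exact v.2⟩
      left_inv := fun v => Subtype.ext (by
        show (g : X)⁻¹ * ((g : X) * v * (g : X)⁻¹) * (g : X) = v
        group)
      right_inv := fun v => Subtype.ext (by
        show (g : X) * ((g : X)⁻¹ * v * (g : X)) * (g : X)⁻¹ = v
        group)
      map_mul' := fun a b => Subtype.ext (by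
        show (g : X) * ((a : X) * (b : X)) * (g : X)⁻¹ =
          ((g : X) * a * (g : X)⁻¹) * ((g : X) * b * (g : X)⁻¹)
        group) }
  map_one' := by
    ext v
    show ((1 : ↥G) : X) * v * ((1 : ↥G) : X)⁻¹ = v
    simp
  map_mul' a b := by
    ext v
    show ((a * b : ↥G) : X) * v * ((a * b : ↥G) : X)⁻¹ =
      (a : X) * ((b : X) * v * (b : X)⁻¹) * (a : X)⁻¹
    rw [Subgroup.coe_mul]
    group

@[simp]
theorem conjOn_apply {X : Type*} [Group X] (G V : Subgroup X)
    (hGV : G ≤ Subgroup.normalizer (V : Set X)) (g : ↥G) (v : ↥V) :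
    ((conjOn G V hGV g v : ↥V) : X) = (g : X) * v * (g : X)⁻¹ := rfl

end Cfsg.Agent.Lib.Helper24
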