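import Mathlib
import Cfsg.Prelude.Def_OddOrderLocal
import Cfsg.Agent.Lib.Helper30.CycSylBasic
import Cfsg.Agent.Lib.Helper2.Burnside
import Cfsg.Agent.Lib.Helper34.NormalPComplement
import Cfsg.Agent.Lib.Helper24.HallCore

/-!
# Cyclic Sylow subgroups and the derived subgroup; Hall subgroups of nilpotent normal subgroups

* `cyclic_sylow_le_commutator_or_npc`: a cyclic Sylow `p`-subgroup either lies in the derived
  subgroup or the group has a normal `p`-complement.
* `not_dvd_card_commutator_of_npc`: with a normal `p`-complement and abelian Sylow `p`-subgroups,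
  `p` does not divide the order of the derived subgroup.
* `normal_of_hall_le_nilpotent`: a Hall subgroup of a nilpotent normal subgroup is normal.
* `isCyclic_of_nilpotent_of_sylow_cyclic`: a nilpotent group with cyclic Sylow subgroups is cyclic.
-/

set_option autoImplicit false

namespace Cfsg.Agent.Lib.Helper24

open Cfsg
open scoped commutatorElement

universe u

theorem cyclic_sylow_le_commutator_or_npc {X : Type u} [Group X] [Finite X] (p : ℕ)
    [hp : Fact p.Prime] (P : Sylow p X) (hcyc : IsCyclic (P : Subgroup X)) :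
    HasNormalPComplement p X ∨ (P : Subgroup X) ≤ commutator X := by
  by_cases h : Subgroup.normalizer ((P : Subgroup X) : Set X) ≤
      Subgroup.centralizer ((P : Subgroup X) : Set X)
  · left
    exact Cfsg.Agent.Lib.Helper2.hasNormalPComplement_of_normalizer_le_centralizer P h
  · right
    obtain ⟨n, hnN, hnC⟩ := SetLike.not_le_iff_exists.mp h
    obtain ⟨u, v, huv, hu, hv, ⟨k, huk⟩, hvcop⟩ := Cfsg.Agent.Lib.Helper30.CycSyl.exists_parts p n
    have hPab : ∀ a ∈ (P : Subgroup X), ∀ b ∈ (P : Subgroup X), a * b = b * a := by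
      intro a ha b hb
      have hcm : IsMulCommutative (P : Subgroup X) := hcyc.isMulCommutative
      exact setLike_mul_comm ha hb
    have hzN : Subgroup.zpowers n ≤ Subgroup.normalizer ((P : Subgroup X) : Set X) :=
      Subgroup.zpowers_le.mpr hnN
    have huP : u ∈ (P : Subgroup X) := by
      have hup : IsPGroup p (Subgroup.zpowers u) := by
        apply IsPGroup.of_card (n := (Nat.factorization (orderOf u)) p)
        rw [Nat.card_zpowers]
        have h1 : orderOf u ∣ p ^ k := orderOf_dvd_of_pow_eq_one huk
        obtain ⟨j, _, hj⟩ := (Nat.dvd_prime_pow hp.out).mp h1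
        rw [hj, Nat.Prime.factorization_pow hp.out]
        simp
      have h1 := IsPGroup.inf_normalizer_sylow hup P
      have h2 : u ∈ Subgroup.zpowers u ⊓ Subgroup.normalizer (SetLike.coe P) :=
        ⟨Subgroup.mem_zpowers u, hzN hu⟩
      rw [h1] at h2
      exact h2.2
    have hvN : v ∈ Subgroup.normalizer ((P : Subgroup X) : Set X) := hzN hv
    have hvC : v ∉ Subgroup.centralizer ((P : Subgroup X) : Set X) := by
      intro hv'
      apply hnC
      rw [← huv]
      refine Subgroup.mul_mem _ ?_ hv'
      rw [Subgroup.mem_centralizer_iff]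
      intro b hb
      exact hPab b hb u huP
    have hfpf := Cfsg.Agent.Lib.Helper30.CycSyl.fpf_of_cyclic (P : Subgroup X) hcyc P.isPGroup' v
      hvN hvcop hvC
    -- the map `x ↦ [v, x]` on `P` is injective, hence surjective
    have hconj : ∀ x ∈ (P : Subgroup X), v * x * v⁻¹ ∈ (P : Subgroup X) := fun x hx =>
      (Subgroup.mem_normalizer_iff.mp hvN x).mp hx
    let θ : ↥(P : Subgroup X) → ↥(P : Subgroup X) := fun x =>
      ⟨v * x * v⁻¹ * (x : X)⁻¹, Subgroup.mul_mem _ (hconj x x.2) (Subgroup.inv_mem _ x.2)⟩
    have hinj : Function.Injective θ := by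
      intro x y hxy
      have h1 : v * x * v⁻¹ * (x : X)⁻¹ = v * y * v⁻¹ * (y : X)⁻¹ := congrArg Subtype.val hxy
      have hyx : (y : X)⁻¹ * x ∈ (P : Subgroup X) :=
        Subgroup.mul_mem _ (Subgroup.inv_mem _ y.2) x.2
      have h2 : v * ((y : X)⁻¹ * x) * v⁻¹ = (y : X)⁻¹ * x := by
        have e1 : v * ((y : X)⁻¹ * x) * v⁻¹ = (v * y * v⁻¹)⁻¹ * (v * x * v⁻¹) := by group
        have e2 : v * x * v⁻¹ = v * y * v⁻¹ * (y : X)⁻¹ * x := by
          have := congrArg (fun t => t * (x : X)) h1
          simpa [mul_assoc] using this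
        rw [e1, e2]
        group
      have h3 := hfpf _ hyx h2
      apply Subtype.ext
      have : (x : X) = y * ((y : X)⁻¹ * x) := by group
      rw [this, h3, mul_one]
    have hsurj : Function.Surjective θ := Finite.surjective_of_injective hinj
    intro x hx
    obtain ⟨y, hy⟩ := hsurj ⟨x, hx⟩
    have h1 : v * y * v⁻¹ * (y : X)⁻¹ = x := congrArg Subtype.val hy
    rw [← h1]
    exact Subgroup.commutator_mem_commutator (Subgroup.mem_top v) (Subgroup.mem_top (y : X))

theorem not_dvd_card_commutator_of_npc {X : Type u} [Group X] [Finite X] (p : ℕ)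
    [hp : Fact p.Prime] (P : Sylow p X) (hPab : IsMulCommutative (P : Subgroup X))
    (h : HasNormalPComplement p X) : ¬ p ∣ Nat.card (commutator X) := by
  obtain ⟨N, hNn, hN⟩ := Cfsg.Agent.Lib.Helper2.exists_normal_complement_of_hasNormalPComplement h P
  have hcop := Cfsg.Agent.Lib.Helper34.card_coprime_of_isComplement' P N hN
  have hle : commutator X ≤ N := by
    rw [commutator_def, Subgroup.commutator_le]
    intro a _ b _
    obtain ⟨⟨n₁, u₁⟩, h1⟩ := hN.2 a
    obtain ⟨⟨n₂, u₂⟩, h2⟩ := hN.2 b
    simp only at h1 h2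
    rw [← QuotientGroup.eq_one_iff, ← QuotientGroup.mk'_apply, map_commutatorElement, ← h1, ← h2,
      map_mul, map_mul]
    have e1 : QuotientGroup.mk' N (n₁ : X) = 1 := (QuotientGroup.eq_one_iff _).mpr n₁.2
    have e2 : QuotientGroup.mk' N (n₂ : X) = 1 := (QuotientGroup.eq_one_iff _).mpr n₂.2
    rw [e1, e2, one_mul, one_mul, ← map_commutatorElement]
    have : ⁅(u₁ : X), (u₂ : X)⁆ = 1 := by
      rw [commutatorElement_eq_one_iff_mul_comm]
      exact setLike_mul_comm u₁.2 u₂.2
    rw [this, map_one]
  intro hdvd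
  have h1 : p ∣ Nat.card N := hdvd.trans (Subgroup.card_dvd_of_le hle)
  exact (Nat.Prime.coprime_iff_not_dvd hp.out).mp hcop.symm h1

/-- A Hall subgroup of a nilpotent normal subgroup is normal in the whole group. -/
theorem normal_of_hall_le_nilpotent {X : Type u} [Group X] [Finite X] (D H : Subgroup X)
    [hDn : D.Normal] (hD : Group.IsNilpotent D) (hHD : H ≤ D)
    (hcop : (Nat.card H).Coprime (H.relIndex D)) : H.Normal := by
  set H' : Subgroup ↥D := H.subgroupOf D with hH'
  have hcardH' : Nat.card H' = Nat.card H :=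
    Nat.card_congr (Subgroup.subgroupOfEquivOfLe hHD).toEquiv
  have hidxH' : H'.index = H.relIndex D := rfl
  -- `H'` is normal in `D` by the normalizer condition
  have hH'n : H'.Normal := by
    rw [← Subgroup.normalizer_eq_top_iff]
    set K : Subgroup ↥D := Subgroup.normalizer (H' : Set ↥D) with hK
    apply normalizerCondition_iff_only_full_group_self_normalizing.mp
      Group.normalizerCondition_of_isNilpotent K
    apply le_antisymm _ Subgroup.le_normalizer
    intro g hg
    rw [hK]
    apply Cfsg.Agent.Lib.Helper30.CycSyl.mem_normalizer_of_conj_mem H' g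
    intro x hx
    have hxK : x ∈ K := Subgroup.le_normalizer hx
    have hgxK : g * x * g⁻¹ ∈ K := (Subgroup.mem_normalizer_iff.mp hg x).mp hxK
    have hn : (H'.subgroupOf K).Normal := by
      rw [hK]; exact Subgroup.normal_in_normalizer
    have hmem : (⟨g * x * g⁻¹, hgxK⟩ : ↥K) ∈ H'.subgroupOf K := by
      apply mem_of_coprime_index (H'.subgroupOf K)
      have h1 : orderOf (⟨g * x * g⁻¹, hgxK⟩ : ↥K) = orderOf x := by
        rw [Subgroup.orderOf_mk]
        exact (MulAut.conj g).orderOf_eq x
      have h2 : orderOf x ∣ Nat.card H := by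
        rw [← hcardH']
        have := orderOf_dvd_natCard (⟨x, hx⟩ : H')
        rwa [Subgroup.orderOf_mk] at this
      have h3 : (H'.subgroupOf K).index ∣ H.relIndex D := by
        rw [← hidxH']
        exact Subgroup.relIndex_dvd_index_of_le (Subgroup.le_normalizer)
      rw [h1]
      exact Nat.Coprime.coprime_dvd_left h2 (Nat.Coprime.coprime_dvd_right h3 hcop)
    exact Subgroup.mem_subgroupOf.mp hmem
  -- `H` consists of the elements of `D` of order prime to `|D : H|`
  have hmem : ∀ x ∈ D, (orderOf x).Coprime (H.relIndex D) → x ∈ H := by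
    intro x hx hc
    have : (⟨x, hx⟩ : ↥D) ∈ H' := by
      apply mem_of_coprime_index H'
      rw [Subgroup.orderOf_mk, hidxH']
      exact hc
    exact Subgroup.mem_subgroupOf.mp this
  refine ⟨fun h hh g => ?_⟩
  apply hmem _ (hDn.conj_mem h (hHD hh) g)
  have h1 : orderOf (g * h * g⁻¹) = orderOf h := (MulAut.conj g).orderOf_eq h
  have h2 : orderOf h ∣ Nat.card H := by
    have := orderOf_dvd_natCard (⟨h, hh⟩ : H)
    rwa [Subgroup.orderOf_mk] at this
  rw [h1]
  exact Nat.Coprime.coprime_dvd_left h2 hcop

/-- A finite nilpotent group all of whose Sylow subgroups are cyclic is cyclic. -/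
theorem isCyclic_of_nilpotent_of_sylow_cyclic {A : Type u} [Group A] [Finite A]
    [hA : Group.IsNilpotent A]
    (h : ∀ (p : ℕ) [Fact p.Prime] (P : Sylow p A), IsCyclic (P : Subgroup A)) : IsCyclic A := by
  classical
  -- commutativity from the direct product decomposition
  have hcomm : ∀ a b : A, a * b = b * a := by
    obtain ⟨e⟩ := ((Group.isNilpotent_of_finite_tfae (G := A)).out 0 4).mp hA
    intro a b
    have key : e.symm a * e.symm b = e.symm b * e.symm a := by
      funext p
      funext P
      have hp : Fact (p : ℕ).Prime := ⟨Nat.prime_of_mem_primeFactors p.2⟩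
      have hc := h (p : ℕ) P
      have := hc.isMulCommutative
      exact mul_comm' _ _
    have := congrArg e key
    simpa using this
  let _ : CommGroup A := { (inferInstance : Group A) with mul_comm := hcomm }
  apply IsCyclic.of_exponent_eq_card
  apply Nat.dvd_antisymm Group.exponent_dvd_nat_card
  rw [Nat.dvd_iff_prime_pow_dvd_dvd]
  intro p k hp hpk
  have : Fact p.Prime := ⟨hp⟩
  let P : Sylow p A := default
  have hcardP : Nat.card P = p ^ (Nat.card A).factorization p := P.card_eq_multiplicity
  have hk : k ≤ (Nat.card A).factorization p :=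
    (hp.pow_dvd_iff_le_factorization Nat.card_pos.ne').mp hpk
  have hc := h p P
  obtain ⟨g, hg⟩ := hc.exists_generator
  have h1 : orderOf g = Nat.card P := orderOf_eq_card_of_forall_mem_zpowers hg
  have h2 : orderOf (g : A) = Nat.card P := by rw [← h1, Subgroup.orderOf_coe]
  have h3 : orderOf (g : A) ∣ Monoid.exponent A := Monoid.order_dvd_exponent _
  rw [h2, hcardP] at h3
  exact (pow_dvd_pow p hk).trans h3

end Cfsg.Agent.Lib.Helper24
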