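import Mathlib
import Cfsg.Agent.S0126
import Cfsg.Agent.Lib.Helper24.SCN
import Cfsg.Agent.Lib.Helper24.ElemAb
import Cfsg.Agent.Lib.Helper24.SectionRank

/-!
# Auxiliary facts on `p`-groups of rank two and groups of order `p ^ 3` (helper24)
-/

set_option autoImplicit false

open scoped commutatorElement

namespace Cfsg.Agent.Lib.Helper24

universe u

/-- The centralizer of a normal subgroup of order `p ^ 2` of a finite `p`-group has index dividing
`p`. -/
theorem index_centralizer_dvd_prime {K : Type*} [Group K] [Finite K] {p : ℕ} [hp : Fact p.Prime]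
    (hK : IsPGroup p K) (Z : Subgroup K) [hZn : Z.Normal] (hZc : Nat.card Z = p ^ 2) :
    (Subgroup.centralizer (Z : Set K)).index ∣ p := by
  by_cases hZcen : Z ≤ Subgroup.center K
  · have : Subgroup.centralizer (Z : Set K) = ⊤ := by
      rw [eq_top_iff]
      intro g _
      rw [Subgroup.mem_centralizer_iff]
      intro z hz
      exact ((Subgroup.mem_center_iff.mp (hZcen hz)) g).symm
    rw [this, Subgroup.index_top]
    exact one_dvd p
  · obtain ⟨z, e, hzZ, hzc, hzp, heZ, hez, hcomm, hZeq⟩ :=
      exists_central_decomp p hK Z hZc hZcen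
    have hTe : Subgroup.centralizer (Z : Set K) = Subgroup.centralizer ({e} : Set K) := by
      have hz' : Subgroup.centralizer ((Subgroup.zpowers z : Subgroup K) : Set K) = ⊤ := by
        rw [eq_top_iff]
        intro g _
        rw [Subgroup.mem_centralizer_iff]
        intro w hw
        have hwc : w ∈ Subgroup.center K := (Subgroup.zpowers_le.mpr hzc) hw
        exact ((Subgroup.mem_center_iff.mp hwc) g).symm
      conv_lhs => rw [hZeq]
      rw [centralizer_adjoin, hz', top_inf_eq]
    have h1 := card_dvd_card_centralizer_mul (⊤ : Subgroup K) (Subgroup.zpowers z)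
      (Subgroup.zpowers_le.mpr hzc) e (fun w _ => by
        have := hcomm w
        rw [← commutatorElement_inv]
        exact Subgroup.inv_mem _ this)
    rw [top_inf_eq, ← hTe, hzp, Subgroup.card_top,
      ← (Subgroup.centralizer (Z : Set K)).card_mul_index] at h1
    exact Nat.dvd_of_mul_dvd_mul_left Nat.card_pos h1

/-- In a group of rank at most two, an element of order dividing `p` centralizing an elementary
abelian subgroup `Z` of order `p ^ 2` lies in `Z`. -/
theorem mem_of_mem_centralizer_of_rank {K : Type*} [Group K] [Finite K] {p : ℕ}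
    (hrk : ∀ E : Subgroup K, IsMulCommutative E → (∀ x ∈ E, x ^ p = 1) → Nat.card E ≤ p ^ 2)
    (Z : Subgroup K) (hZcomm : IsMulCommutative Z) (hZexp : ∀ x ∈ Z, x ^ p = 1)
    (hZc : Nat.card Z = p ^ 2) (t : K) (ht : t ∈ Subgroup.centralizer (Z : Set K))
    (htp : t ^ p = 1) : t ∈ Z := by
  by_contra htZ
  have h1 := elemAb_adjoin p Z hZcomm hZexp t ht htp
  have h2 := hrk _ h1.1 h1.2
  have h3 := card_lt_card_adjoin Z t htZ
  omega

/-- A group of exponent `p` (`p` odd) and rank at most two has order dividing `p ^ 3`. -/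
theorem card_dvd_cube_of_exponent_of_rank {E : Type u} [Group E] [Finite E] {p : ℕ}
    [hp : Fact p.Prime] (hp2 : p ≠ 2) (hexp : ∀ x : E, x ^ p = 1)
    (hrk : ∀ B : Subgroup E, IsMulCommutative B → (∀ x ∈ B, x ^ p = 1) → Nat.card B ≤ p ^ 2) :
    Nat.card E ∣ p ^ 3 := by
  have hE : IsPGroup p E := fun g => ⟨1, by simpa using hexp g⟩
  by_cases hcyc : IsCyclic E
  · -- commutative of exponent `p` and rank two
    have hc : IsMulCommutative (⊤ : Subgroup E) := by
      constructor
      constructor
      intro a b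
      apply Subtype.ext
      exact (IsCyclic.commGroup (α := E)).mul_comm _ _
    have h1 := hrk ⊤ hc (fun x _ => hexp x)
    rw [Subgroup.card_top] at h1
    obtain ⟨k, hk⟩ := hE.exists_card_eq
    rw [hk] at h1 ⊢
    exact pow_dvd_pow p (((Nat.pow_le_pow_iff_right hp.out.one_lt).mp h1).trans (by norm_num))
  · obtain ⟨Z, hZn, hZe, hZc⟩ := Cfsg.Agent.S0126.result hp2 hE hcyc
    have hidx := index_centralizer_dvd_prime hE Z hZc
    have hle : Subgroup.centralizer (Z : Set E) ≤ Z := fun t ht =>
      mem_of_mem_centralizer_of_rank hrk Z hZe.1 hZe.2 hZc t ht (hexp t)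
    have hZle : Z ≤ Subgroup.centralizer (Z : Set E) := by
      intro x hx
      rw [Subgroup.mem_centralizer_iff]
      intro y hy
      have := hZe.1
      exact (setLike_mul_comm hx hy).symm
    have heq : Subgroup.centralizer (Z : Set E) = Z := le_antisymm hle hZle
    rw [heq] at hidx
    rw [← Z.card_mul_index, hZc]
    have : p ^ 3 = p ^ 2 * p := by ring
    rw [this]
    exact Nat.mul_dvd_mul_left _ hidx

/-- In a non-commutative group of order `p ^ 3`, the centre has order `p` and contains all
commutators. -/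
theorem center_of_card_cube {H : Type*} [Group H] [Finite H] {p : ℕ} [hp : Fact p.Prime]
    (hcard : Nat.card H = p ^ 3) (hnc : ¬ ∀ a b : H, a * b = b * a) :
    Nat.card (Subgroup.center H) = p ∧ ∀ x y : H, ⁅x, y⁆ ∈ Subgroup.center H := by
  have hH : IsPGroup p H := IsPGroup.of_card hcard
  have hnt : Nontrivial H := by
    rw [← Finite.one_lt_card_iff_nontrivial, hcard]
    exact Nat.one_lt_pow (by norm_num) hp.out.one_lt
  have hZnt : Nontrivial (Subgroup.center H) := hH.center_nontrivial
  have hmul := (Subgroup.center H).card_mul_index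
  obtain ⟨a, ha, hcardZ⟩ := (Nat.dvd_prime_pow hp.out).mp
    ((Subgroup.card_subgroup_dvd_card (Subgroup.center H)).trans (dvd_of_eq hcard))
  obtain ⟨b, hb, hidx⟩ := (Nat.dvd_prime_pow hp.out).mp
    ((Subgroup.index_dvd_card (Subgroup.center H)).trans (dvd_of_eq hcard))
  have ha0 : a ≠ 0 := by
    intro h0
    rw [h0, pow_zero] at hcardZ
    have := (Nat.card_eq_one_iff_unique.mp hcardZ).1
    exact not_subsingleton _ this
  rw [hcardZ, hidx, hcard, ← pow_add] at hmul
  have hab : a + b = 3 := Nat.pow_right_injective hp.out.two_le hmul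
  -- `b = 0` and `b = 1` are impossible
  have hb2 : b = 2 := by
    by_contra hne
    have hb1 : b ≤ 1 := by omega
    apply hnc
    have hcyc : IsCyclic (H ⧸ Subgroup.center H) := by
      rcases Nat.le_one_iff_eq_zero_or_eq_one.mp hb1 with h0 | h1
      · have : Nat.card (H ⧸ Subgroup.center H) = 1 := by
          rw [← Subgroup.index_eq_card, hidx, h0, pow_zero]
        have := (Nat.card_eq_one_iff_unique.mp this).1
        exact isCyclic_of_subsingleton
      · exact isCyclic_of_prime_card (p := p) (by rw [← Subgroup.index_eq_card, hidx, h1, pow_one])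
    have := MonoidHom.isMulCommutative_of_isCyclic_of_ker_le_center
      (QuotientGroup.mk' (Subgroup.center H)) (by rw [QuotientGroup.ker_mk'])
    exact fun a b => mul_comm' a b
  have ha1 : a = 1 := by omega
  refine ⟨by rw [hcardZ, ha1, pow_one], ?_⟩
  have hQ : Nat.card (H ⧸ Subgroup.center H) ∣ p ^ 2 := by
    rw [← Subgroup.index_eq_card, hidx, hb2]
  have hder := commutator_le_of_quotient_comm (Subgroup.center H) (mul_comm_of_card_dvd_sq hQ)
  intro x y
  apply hder
  rw [commutator_def]
  exact Subgroup.commutator_mem_commutator (Subgroup.mem_top x) (Subgroup.mem_top y)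

/-- If `x ^ p = 1` and `x ∉ H` then `x ^ m ∈ H` iff `p ∣ m`. -/
theorem pow_mem_iff_dvd {K : Type*} [Group K] {p : ℕ} [hp : Fact p.Prime] (H : Subgroup K)
    (x : K) (hxp : x ^ p = 1) (hx : x ∉ H) (m : ℕ) : x ^ m ∈ H ↔ p ∣ m := by
  constructor
  · intro hm
    by_contra hpm
    have hcop : Nat.Coprime m p := ((Nat.Prime.coprime_iff_not_dvd hp.out).mpr hpm).symm
    obtain ⟨n, hn⟩ := Nat.exists_mul_mod_eq_one_of_coprime hcop hp.out.one_lt
    apply hx
    have h1 : x = (x ^ m) ^ n := by
      rw [← pow_mul]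
      have h2 : x ^ (m * n) = x ^ (m * n % p) := by
        conv_lhs => rw [← Nat.div_add_mod (m * n) p, pow_add, pow_mul, hxp, one_pow, one_mul]
      rw [h2, hn.2, pow_one]
    rw [h1]
    exact H.pow_mem hm n
  · rintro ⟨k, rfl⟩
    rw [pow_mul, hxp, one_pow]
    exact H.one_mem

/-- Decomposition modulo a normal subgroup of prime index. -/
theorem exists_pow_mul_of_index_prime {K : Type*} [Group K] {p : ℕ} [hp : Fact p.Prime]
    (H : Subgroup K) [hHn : H.Normal] (hidx : H.index = p) (x : K) (hx : x ∉ H) (g : K) :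
    ∃ i : ℕ, ∃ h ∈ H, g = x ^ i * h := by
  have hcard : Nat.card (K ⧸ H) = p := by rw [← Subgroup.index_eq_card]; exact hidx
  have hx1 : (QuotientGroup.mk x : K ⧸ H) ≠ 1 := by
    intro h
    exact hx ((QuotientGroup.eq_one_iff x).mp h)
  have hmem := mem_powers_of_prime_card hcard hx1 (g' := (QuotientGroup.mk g : K ⧸ H))
  obtain ⟨i, hi⟩ := hmem
  refine ⟨i, (x ^ i)⁻¹ * g, ?_, by group⟩
  rw [← QuotientGroup.eq]
  rw [← hi]
  simp

end Cfsg.Agent.Lib.Helper24
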