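import Mathlib
import Cfsg.Agent.Lib.Helper24.CyclicSylow
import Cfsg.Agent.Lib.Helper76.PCore
import Cfsg.Agent.Lib.Helper54.BGElevenB
import Cfsg.Agent.Lib.Helper50.Thm131
import Cfsg.Agent.Lib.Helper97.BGTwelveCor
import Cfsg.Agent.Lib.Helper58.Fpf4Aux
import Cfsg.Agent.S3745

/-!
# Bender–Glauberman: `σ(M)`-subgroups are conjugate into `M_σ` (statement S1425)

`s1425_of` proves the conclusion of S1425 from the Uniqueness Theorem (`UniquenessThm G`), the first clause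
of Proposition 12.4 (`CentSqLE G`, S1416), clause (a) of S1417 (`M_σ` nilpotent when `τ₂(M) ≠ ∅`) and the
first clause of S1418 (`E ≤ N_G(A)`).
-/

set_option autoImplicit false

namespace Cfsg.Agent.Lib.Helper24

open Cfsg
open scoped Pointwise
open Cfsg.Agent.Lib.Helper34 (UniquenessThm)

universe u

/-- Frattini argument: if `P` is a Sylow `q`-subgroup of `X` lying in `X'`, and `(X/N)'` is nilpotent,
then `X = N_X(P) N`. -/
theorem normalizer_sup_eq_top_of_nilpotent_commutator_quotient {X : Type u} [Group X] [Finite X]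
    (N : Subgroup X) [N.Normal] (q : ℕ) [Fact q.Prime] (P : Sylow q X)
    (hP : (P : Subgroup X) ≤ commutator X)
    (hnil : Group.IsNilpotent ↥(commutator (X ⧸ N))) :
    Subgroup.normalizer ((P : Subgroup X) : Set X) ⊔ N = ⊤ := by
  have hsurj : Function.Surjective (QuotientGroup.mk' N) := QuotientGroup.mk'_surjective N
  set Pb : Subgroup (X ⧸ N) := (P : Subgroup X).map (QuotientGroup.mk' N) with hPb
  have hPbq : IsPGroup q Pb := P.2.map _
  have hPbC : Pb ≤ commutator (X ⧸ N) := by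
    refine (Subgroup.map_mono hP).trans ?_
    rw [commutator_def, Subgroup.map_commutator, commutator_def]
    exact Subgroup.commutator_mono le_top le_top
  have hidx : ¬ q ∣ Pb.index := fun h =>
    P.not_dvd_index (h.trans (Subgroup.index_map_dvd _ hsurj))
  have hPbn : Pb.Normal := by
    apply normal_of_hall_le_nilpotent (commutator (X ⧸ N)) Pb hnil hPbC
    obtain ⟨k, hk⟩ := IsPGroup.iff_card.mp hPbq
    rw [hk]
    apply Nat.Coprime.pow_left
    rw [Nat.Prime.coprime_iff_not_dvd Fact.out]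
    intro h
    exact hidx (h.trans (Subgroup.relIndex_dvd_index_of_le hPbC))
  set K : Subgroup X := Pb.comap (QuotientGroup.mk' N) with hK
  have hKn : K.Normal := hPbn.comap _
  have hPK : (P : Subgroup X) ≤ K := Subgroup.le_comap_map _ _
  have hKeq : K = (P : Subgroup X) ⊔ N := by
    rw [hK, hPb, Subgroup.comap_map_eq, QuotientGroup.ker_mk']
  have hfr := Sylow.normalizer_sup_eq_top (P.subtype hPK)
  rw [Sylow.coe_subtype, Subgroup.map_subgroupOf_eq_of_le hPK, hKeq, ← sup_assoc,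
    sup_eq_left.mpr (Subgroup.le_normalizer : (P : Subgroup X) ≤ _)] at hfr
  exact hfr

/-- If `D N = X` with `N` normal, then `|X : D|` divides `|N|`. -/
theorem index_dvd_card_of_sup_eq_top {X : Type u} [Group X] [Finite X] (D N : Subgroup X)
    [N.Normal] (h : D ⊔ N = ⊤) : D.index ∣ Nat.card N := by
  have h1 := Cfsg.Agent.Lib.Helper76.card_sup_dvd_of_normal D N
  rw [h, Subgroup.card_top, ← Subgroup.card_mul_index D] at h1
  exact Nat.dvd_of_mul_dvd_mul_left Nat.card_pos h1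

variable {G : Type u} [Group G]

/-- Hall's theorem in the form used below: if `F ≤ L` is a Hall `π`-subgroup of the solvable group `L`
and `Y ≤ L` is a `π`-subgroup, then some `L`-conjugate of `Y` lies in `F`. -/
theorem exists_conj_le_of_isPiHallOf [Finite G] {π : Set ℕ} {F L Y : Subgroup G}
    (hLs : Group.IsSolvable L) (hF : IsPiHallOf π F L) (hYL : Y ≤ L)
    (hY : ∀ p : ℕ, p.Prime → p ∣ Nat.card Y → p ∈ π) :
    ∃ c ∈ L, Y.map (MulAut.conj c).toMonoidHom ≤ F := by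
  have h := Cfsg.Agent.S3745.result (⊥ : Subgroup G) L bot_le
    (by rw [Subgroup.card_bot]; exact Nat.coprime_one_left _) hLs π
  obtain ⟨H, hH, -, hYH⟩ := h.2.2 Y hYL bot_le hY
  obtain ⟨c, hc, hHc⟩ := h.2.1 F H hF bot_le hH bot_le
  refine ⟨c⁻¹, inv_mem hc.1, ?_⟩
  rw [hHc] at hYH
  have := Subgroup.map_mono (f := (MulAut.conj c⁻¹).toMonoidHom) hYH
  rwa [Cfsg.Agent.Lib.Helper34.map_conj_inv_map_conj] at this

/-- Case `q ∈ σ(L)` of the conjugation theorem. -/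
theorem sigmaConj_caseA [Finite G] (hG : IsMinSimpleOddOrder G) (hU : UniquenessThm G)
    (M L : Subgroup G) (hM : IsCoatom M) (hL : IsCoatom L)
    (hnc : ∀ g : G, MulAut.conj g • L ≠ M) (q : ℕ) [Fact q.Prime] (hqL : q ∈ sigma L)
    (S : Subgroup G) (hSq : IsPGroup q S) (hSL : S ≤ L)
    (hSidx : ¬ q ∣ S.relIndex L) (hNS : Subgroup.normalizer (S : Set G) ≤ M)
    (Y : Subgroup G) (hYL : Y ≤ L)
    (hY : ∀ p : ℕ, p.Prime → p ∣ Nat.card Y → p ∈ sigma M) :
    ∃ c : G, Y.map (MulAut.conj c).toMonoidHom ≤ M := by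
  have hU3 := Cfsg.Agent.Lib.Helper54.uniqThree_of_uniquenessThm hU
  have hSq' : IsPGroup q (S.subgroupOf L) := hSq.comap_subtype
  have hSidx' : ¬ q ∣ (S.subgroupOf L).index := hSidx
  obtain ⟨P, hP⟩ : ∃ P : Sylow q ↥L, (P : Subgroup L) = S.subgroupOf L :=
    ⟨hSq'.toSylow hSidx', IsPGroup.toSylow_coe _ _⟩
  have hPS : (P : Subgroup L).map L.subtype = S := by
    rw [hP, Subgroup.map_subgroupOf_eq_of_le hSL]
  have hPcomm : (P : Subgroup L) ≤ commutator ↥L := by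
    have h1 := Cfsg.Agent.Lib.Helper50.sylow_le_commutator_of_mem_sigma hG hU3 L hL q hqL P
    intro x hx
    have hx' : (x : G) ∈ ⁅L, L⁆ := h1 ⟨x, hx, rfl⟩
    rw [← Subgroup.map_subtype_commutator] at hx'
    obtain ⟨y, hy, hyx⟩ := hx'
    have : y = x := Subtype.ext hyx
    rwa [← this]
  have hnil := Cfsg.Agent.Lib.Helper50.isNilpotent_commutator_quotient hG L hL
  have hfr := normalizer_sup_eq_top_of_nilpotent_commutator_quotient (piCore (alpha L) ↥L) q P
    hPcomm hnil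
  have hND : Subgroup.normalizer ((P : Subgroup L) : Set L) ≤ M.subgroupOf L := by
    intro x hx
    rw [Subgroup.mem_subgroupOf]
    apply hNS
    have h2 := Subgroup.le_normalizer_map (H := (P : Subgroup L)) L.subtype ⟨x, hx, rfl⟩
    rw [hPS] at h2
    exact h2
  have htop : M.subgroupOf L ⊔ piCore (alpha L) ↥L = ⊤ := by
    rw [eq_top_iff, ← hfr]
    exact sup_le_sup_right hND _
  have hdvd := index_dvd_card_of_sup_eq_top _ _ htop
  have hα : ∀ r : ℕ, r.Prime → r ∣ M.relIndex L → r ∈ alpha L := fun r hr hrd =>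
    Cfsg.Agent.Lib.Helper54.piCore_isPi (alpha L) r hr (hrd.trans hdvd)
  -- Hall subgroups
  have hLs : Group.IsSolvable L := hG.2.2.2 L hL.1
  have hMLtop : M ⊓ L ≠ ⊤ := fun h => hL.1 (top_le_iff.mp (h ▸ inf_le_right))
  have hMLs : Group.IsSolvable ↥(M ⊓ L) := hG.2.2.2 _ hMLtop
  obtain ⟨F, hF⟩ := (Cfsg.Agent.S3745.result (⊥ : Subgroup G) (M ⊓ L) bot_le
    (by rw [Subgroup.card_bot]; exact Nat.coprime_one_left _) hMLs {r | r ∉ alpha L}).1
  have hFL : IsPiHallOf {r | r ∉ alpha L} F L := by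
    refine ⟨hF.1.1.trans inf_le_right, hF.1.2.1, ?_⟩
    intro p hp hpπ hpd
    rw [← Subgroup.relIndex_mul_relIndex F (M ⊓ L) L hF.1.1 inf_le_right,
      Subgroup.inf_relIndex_right] at hpd
    rcases (Nat.Prime.dvd_mul hp).mp hpd with h | h
    · exact hF.1.2.2 p hp hpπ h
    · exact hpπ (hα p hp h)
  have hdis := (Cfsg.Agent.Lib.Helper54.sigma_disjoint hG hU L M hL hM hnc).1.1
  have hYπ : ∀ p : ℕ, p.Prime → p ∣ Nat.card Y → p ∈ {r | r ∉ alpha L} := by
    intro p hp hpd hpα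
    exact hdis p hpα (hY p hp hpd)
  obtain ⟨c, -, hc⟩ := exists_conj_le_of_isPiHallOf hLs hFL hYL hYπ
  exact ⟨c, hc.trans (hF.1.1.trans inf_le_left)⟩

/-- Case `q ∈ τ₂(L)` of the conjugation theorem. -/
theorem sigmaConj_caseB [Finite G] (hG : IsMinSimpleOddOrder G) (hU : UniquenessThm G)
    (hC : Cfsg.Agent.Lib.Helper50.CentSqLE G)
    (h1417 : ∀ M : Subgroup G, IsCoatom M → ∀ (p : ℕ) [Fact p.Prime], p ∈ tau2 M →
      ∀ A : Subgroup G, A ≤ M → IsElementaryAbelian p A → Nat.card A = p ^ 2 →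
        Group.IsNilpotent (sigmaCore M))
    (h1418 : ∀ M : Subgroup G, IsCoatom M → ∀ E : Subgroup G, IsComplIn E (sigmaCore M) M →
      ∀ (p : ℕ) [Fact p.Prime], p ∈ tau2 M → ∀ A : Subgroup G, A ≤ E →
        IsElementaryAbelian p A → Nat.card A = p ^ 2 → E ≤ Subgroup.normalizer (A : Set G))
    (M L : Subgroup G) (hM : IsCoatom M) (hL : IsCoatom L)
    (hnc : ∀ g : G, MulAut.conj g • L ≠ M) (q : ℕ) [Fact q.Prime] (hqM : q ∈ sigma M)
    (hqL : q ∈ tau2 L)
    (S : Subgroup G) (hSq : IsPGroup q S) (hSM : S ≤ M) (hSL : S ≤ L)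
    (hSidx : ¬ q ∣ S.relIndex L)
    (Y : Subgroup G) (hYL : Y ≤ L)
    (hY : ∀ p : ℕ, p.Prime → p ∣ Nat.card Y → p ∈ sigma M) :
    ∃ c : G, Y.map (MulAut.conj c).toMonoidHom ≤ M := by
  have hSq' : IsPGroup q (S.subgroupOf L) := hSq.comap_subtype
  have hSidx' : ¬ q ∣ (S.subgroupOf L).index := hSidx
  obtain ⟨P, hP⟩ : ∃ P : Sylow q ↥L, (P : Subgroup L) = S.subgroupOf L :=
    ⟨hSq'.toSylow hSidx', IsPGroup.toSylow_coe _ _⟩
  have hPS : (P : Subgroup L).map L.subtype = S := by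
    rw [hP, Subgroup.map_subgroupOf_eq_of_le hSL]
  have hSr : ¬ PRankLE q 1 ↥S := by
    intro h
    apply hqL.2.2.2
    apply Cfsg.Agent.Lib.Helper54.pRankLE_of_sylow_rel L P
    rw [hPS]
    exact h
  obtain ⟨A, hAS, hAe, hAc⟩ :=
    Cfsg.Agent.Lib.Helper97.BGTwelve.exists_elemAb_sq_of_not_pRankLE_one S hSr
  have hAL := hAS.trans hSL
  have hAM := hAS.trans hSM
  have hnil := h1417 L hL q hqL A hAL hAe hAc
  have hdis := ((Cfsg.Agent.Lib.Helper54.sigma_disjoint hG hU L M hL hM hnc).2 hnil).1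
  have hHall := (Cfsg.Agent.Lib.Helper54.sigmaCore_hall_of hG hU L hL).1
  have hLs : Group.IsSolvable L := hG.2.2.2 L hL.1
  have hAq : IsPGroup q A := hSq.to_le hAS
  obtain ⟨E₁, hE₁, hAE₁⟩ := Cfsg.Agent.Lib.Helper97.BGTwelve.exists_complIn_ge hLs hHall hAL (by
    intro p hp hpd hpσ
    rw [hAc] at hpd
    have := (Nat.prime_dvd_prime_iff_eq hp Fact.out).mp (hp.dvd_of_dvd_pow hpd)
    rw [this] at hpσ
    exact hqL.2.1 hpσ)
  have hE₁N := h1418 L hL E₁ hE₁ q hqL A hAE₁ hAe hAc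
  have hNA : Subgroup.normalizer (A : Set G) ≤ M := by
    rw [(Cfsg.Agent.Lib.Helper54.sigma_ctrl hG hU M hM q hqM A hAq hAM).2]
    exact sup_le inf_le_left (hC M hM q A hAM hAe hAc)
  have hE₁H : IsPiHallOf {r | r ∉ sigma L} E₁ L := by
    refine ⟨hE₁.1, ?_, ?_⟩
    · intro p hp hpd hpσ
      exact Cfsg.Agent.Lib.Helper97.BGTwelve.not_dvd_card_of_isComplIn hE₁ hHall hp hpσ hpd
    · intro p hp hpπ hpd
      have h1 := Cfsg.Agent.Lib.Helper23.card_of_isComplIn hE₁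
      have h2 := Cfsg.Agent.Lib.Helper54.card_mul_relIndex hE₁.1
      have h3 : E₁.relIndex L = Nat.card (sigmaCore L) := by
        have : Nat.card E₁ * E₁.relIndex L = Nat.card E₁ * Nat.card (sigmaCore L) := by
          rw [h2, h1]
        exact Nat.eq_of_mul_eq_mul_left Nat.card_pos this
      rw [h3] at hpd
      exact hpπ (Cfsg.Agent.Lib.Helper54.sigmaCore_isPi L p hp hpd)
  have hYπ : ∀ p : ℕ, p.Prime → p ∣ Nat.card Y → p ∈ {r | r ∉ sigma L} := by
    intro p hp hpd hpσ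
    exact hdis p hpσ (hY p hp hpd)
  obtain ⟨c, -, hc⟩ := exists_conj_le_of_isPiHallOf hLs hE₁H hYL hYπ
  exact ⟨c, hc.trans (hE₁N.trans hNA)⟩

/-- A `σ(M)`-subgroup normalizing a nontrivial `q`-subgroup of `M` is conjugate into `M`. -/
theorem sigmaConj_of_normal [Finite G] (hG : IsMinSimpleOddOrder G) (hU : UniquenessThm G)
    (hC : Cfsg.Agent.Lib.Helper50.CentSqLE G)
    (h1417 : ∀ M : Subgroup G, IsCoatom M → ∀ (p : ℕ) [Fact p.Prime], p ∈ tau2 M →
      ∀ A : Subgroup G, A ≤ M → IsElementaryAbelian p A → Nat.card A = p ^ 2 →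
        Group.IsNilpotent (sigmaCore M))
    (h1418 : ∀ M : Subgroup G, IsCoatom M → ∀ E : Subgroup G, IsComplIn E (sigmaCore M) M →
      ∀ (p : ℕ) [Fact p.Prime], p ∈ tau2 M → ∀ A : Subgroup G, A ≤ E →
        IsElementaryAbelian p A → Nat.card A = p ^ 2 → E ≤ Subgroup.normalizer (A : Set G))
    (M : Subgroup G) (hM : IsCoatom M) (q : ℕ) [Fact q.Prime] (hqM : q ∈ sigma M)
    (N : Subgroup G) (hNq : IsPGroup q N) (hN1 : N ≠ ⊥) (hNM : N ≤ M)
    (Y : Subgroup G) (hYN : Y ≤ Subgroup.normalizer (N : Set G))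
    (hY : ∀ p : ℕ, p.Prime → p ∣ Nat.card Y → p ∈ sigma M) :
    ∃ c : G, Y.map (MulAut.conj c).toMonoidHom ≤ M := by
  have hU3 := Cfsg.Agent.Lib.Helper54.uniqThree_of_uniquenessThm hU
  by_cases hNNM : Subgroup.normalizer (N : Set G) ≤ M
  · refine ⟨1, ?_⟩
    rintro _ ⟨y, hy, rfl⟩
    have : (MulAut.conj (1 : G)).toMonoidHom y = y := by simp
    rw [this]
    exact hNNM (hYN hy)
  · have hs : IsSimpleGroup G := hG.2.1
    have hNtop : N ≠ ⊤ := Cfsg.Agent.Lib.Helper54.ne_top_of_isPGroup hG.2.1 hG.2.2.1 hNq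
    have hNNtop : Subgroup.normalizer (N : Set G) ≠ ⊤ := by
      intro h
      have hn : N.Normal := Subgroup.normalizer_eq_top_iff.mp h
      rcases hn.eq_bot_or_eq_top with h' | h'
      · exact hN1 h'
      · exact hNtop h'
    obtain ⟨L, hL, hNL⟩ := (eq_top_or_exists_le_coatom _).resolve_left hNNtop
    have hLM : L ≠ M := by
      rintro rfl
      exact hNNM hNL
    have hNL' : N ≤ L := Subgroup.le_normalizer.trans hNL
    obtain ⟨S, hNS⟩ := Cfsg.Agent.Lib.Helper34.exists_sylow_map_ge hNq (le_inf hNM hNL')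
    have h1424 := Cfsg.Agent.Lib.Helper50.s1424_of hG hU3 hC M hM q hqM N hNq hNM L hLM hNL S hNS
    have hnc : ∀ g : G, MulAut.conj g • L ≠ M := by
      intro g hg
      apply h1424.1 g⁻¹
      rw [← hg]
      ext x
      rw [Cfsg.Agent.Lib.Helper34.mem_map_conj_iff, Cfsg.Agent.Lib.Helper54.mem_conj_smul_iff]
      have : g⁻¹ * (g⁻¹⁻¹ * x * g⁻¹) * g = x := by group
      rw [this]
    have hSq : IsPGroup q ((S : Subgroup ↥(M ⊓ L)).map (M ⊓ L).subtype) := S.2.map _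
    have hSML : (S : Subgroup ↥(M ⊓ L)).map (M ⊓ L).subtype ≤ M ⊓ L := Subgroup.map_subtype_le _
    have hYL : Y ≤ L := hYN.trans hNL
    rcases Cfsg.Agent.Lib.Helper54.mem_sigma_or_tau2_of_normalizer_le hG hU L hL q N hNq hN1 hNL
      with hqL | hqL
    · exact sigmaConj_caseA hG hU M L hM hL hnc q hqL _ hSq (hSML.trans inf_le_right)
        h1424.2.2 h1424.2.1 Y hYL hY
    · exact sigmaConj_caseB hG hU hC h1417 h1418 M L hM hL hnc q hqM hqL _ hSq
        (hSML.trans inf_le_left) (hSML.trans inf_le_right) h1424.2.2 Y hYL hY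

/-- **Bender–Glauberman: a nontrivial `σ(M)`-subgroup is conjugate into `M_σ`** (statement S1425),
conditional on the Uniqueness Theorem and on S1416(a), S1417(a), S1418(a). -/
theorem s1425_of [Finite G] (hG : IsMinSimpleOddOrder G) (hU : UniquenessThm G)
    (hC : Cfsg.Agent.Lib.Helper50.CentSqLE G)
    (h1417 : ∀ M : Subgroup G, IsCoatom M → ∀ (p : ℕ) [Fact p.Prime], p ∈ tau2 M →
      ∀ A : Subgroup G, A ≤ M → IsElementaryAbelian p A → Nat.card A = p ^ 2 →
        Group.IsNilpotent (sigmaCore M))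
    (h1418 : ∀ M : Subgroup G, IsCoatom M → ∀ E : Subgroup G, IsComplIn E (sigmaCore M) M →
      ∀ (p : ℕ) [Fact p.Prime], p ∈ tau2 M → ∀ A : Subgroup G, A ≤ E →
        IsElementaryAbelian p A → Nat.card A = p ^ 2 → E ≤ Subgroup.normalizer (A : Set G))
    (M : Subgroup G) (hM : IsCoatom M) (Y : Subgroup G) (hY1 : Y ≠ ⊥)
    (hY : ∀ p : ℕ, p.Prime → p ∣ Nat.card Y → p ∈ sigma M) :
    ∃ g : G, Y.map (MulAut.conj g).toMonoidHom ≤ sigmaCore M := by
  suffices h : ∃ g : G, Y.map (MulAut.conj g).toMonoidHom ≤ M by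
    obtain ⟨g, hg⟩ := h
    refine ⟨g, Cfsg.Agent.Lib.Helper54.le_sigmaCore_of_isPi hG hU M hM hg ?_⟩
    intro r hr hrd
    rw [Cfsg.Agent.Lib.Helper34.card_map_conj] at hrd
    exact hY r hr hrd
  have hYtop : Y ≠ ⊤ := by
    rintro rfl
    have hidx : M.index ≠ 1 := fun h => hM.1 (Subgroup.index_eq_one.mp h)
    obtain ⟨p, hp, hpd⟩ := Nat.exists_prime_and_dvd hidx
    have hpG : p ∣ Nat.card (⊤ : Subgroup G) := by
      rw [Subgroup.card_top]
      exact hpd.trans (Subgroup.index_dvd_card M)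
    exact Cfsg.Agent.Lib.Helper50.not_dvd_index_of_mem_sigma M p (hY p hp hpG) hpd
  have hYs : Group.IsSolvable Y := hG.2.2.2 Y hYtop
  have hYnt : Nontrivial Y := (Subgroup.nontrivial_iff_ne_bot Y).mpr hY1
  obtain ⟨q, hq, hcore⟩ := Cfsg.Agent.Lib.Helper58.Fpf4.exists_pCore_ne_bot (G := Y)
  have hqf : Fact q.Prime := ⟨hq⟩
  have hN₀q : IsPGroup q ((pCore q Y).map Y.subtype) :=
    (Cfsg.Agent.Lib.Helper76.pCore_isPGroup q).map _
  have hN₀1 : (pCore q Y).map Y.subtype ≠ ⊥ := by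
    rw [Ne, Subgroup.map_eq_bot_iff_of_injective _ Y.subtype_injective]
    exact hcore
  have hN₀Y : (pCore q Y).map Y.subtype ≤ Y := Subgroup.map_subtype_le _
  have hYN₀ : Y ≤ Subgroup.normalizer (((pCore q Y).map Y.subtype : Subgroup G) : Set G) :=
    Cfsg.Agent.Lib.Helper54.le_normalizer_map_subtype Y (pCore q Y)
  have hqY : q ∣ Nat.card Y :=
    (Cfsg.Agent.Lib.Helper34.dvd_card_of_isPGroup_ne_bot hN₀q hN₀1).trans
      (Subgroup.card_dvd_of_le hN₀Y)
  have hqM : q ∈ sigma M := hY q hq hqY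
  -- conjugate `N₀` into `M`
  obtain ⟨-, -, P₀, h0⟩ := id hqM
  obtain ⟨Q, hQ⟩ := Cfsg.Agent.Lib.Helper34.exists_sylow_eq_map_of_normalizer_le P₀ h0
  have hQM : (Q : Subgroup G) ≤ M := by
    rw [hQ]
    exact Subgroup.map_subtype_le _
  obtain ⟨Q', hQ'⟩ := hN₀q.exists_le_sylow
  obtain ⟨g, hg⟩ := MulAction.exists_smul_eq G Q' Q
  have hNg : ((pCore q Y).map Y.subtype).map (MulAut.conj g).toMonoidHom ≤ M := by
    refine le_trans ?_ hQM
    rw [← hg, Cfsg.Agent.Lib.Helper34.sylow_smul_eq_map_conj]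
    exact Subgroup.map_mono hQ'
  have hYg : Y.map (MulAut.conj g).toMonoidHom ≤ Subgroup.normalizer
      ((((pCore q Y).map Y.subtype).map (MulAut.conj g).toMonoidHom : Subgroup G) : Set G) := by
    rw [← Cfsg.Agent.Lib.Helper34.map_conj_normalizer]
    exact Subgroup.map_mono hYN₀
  have hN₁1 : ((pCore q Y).map Y.subtype).map (MulAut.conj g).toMonoidHom ≠ ⊥ := by
    rw [Ne, Subgroup.map_eq_bot_iff_of_injective _ (MulAut.conj g).injective]
    exact hN₀1
  obtain ⟨c, hc⟩ := sigmaConj_of_normal hG hU hC h1417 h1418 M hM q hqM _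
    (hN₀q.map _) hN₁1 hNg (Y.map (MulAut.conj g).toMonoidHom) hYg (by
      intro r hr hrd
      rw [Cfsg.Agent.Lib.Helper34.card_map_conj] at hrd
      exact hY r hr hrd)
  refine ⟨c * g, ?_⟩
  rw [Cfsg.Agent.Lib.Helper34.map_conj_mul]
  exact hc

end Cfsg.Agent.Lib.Helper24
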