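import Mathlib
import Cfsg.Agent.Lib.Helper24.SigmaConj
import Cfsg.Agent.Lib.Helper24.FittingStructure2
import Cfsg.Agent.Lib.Helper22.Solvable

/-!
# Bender–Glauberman §13: prime action of cyclic Sylow subgroups of `E` on `M_σ` (statement S1427)

Key tool (`le_centralizer_of_le_commutator`): if `H` is a maximal subgroup not conjugate to `M`, `R ≤ H'` is an
`r`-subgroup with `r ∉ σ(M)`, and `R` normalizes `Y ≤ M_σ ∩ H`, then `R` centralizes `Y`.  (Reason: the image of
`[Y, R]` in `H / H_α` lies in `O_r((H / H_α)')`, `(H / H_α)'` being nilpotent, and `H_α ∩ M_σ = 1`.)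

`s1427_of` proves the conclusion of S1427 from the Uniqueness Theorem, S1417(a) and two clauses of S1418.
-/

set_option autoImplicit false

namespace Cfsg.Agent.Lib.Helper24

open Cfsg
open scoped Pointwise commutatorElement
open Cfsg.Agent.Lib.Helper34 (UniquenessThm)

universe u

/-- A cyclic group has `p`-rank at most one. -/
theorem pRankLE_one_of_isCyclic {X : Type u} [Group X] [Finite X] (p : ℕ) (hp : 0 < p)
    (hX : IsCyclic X) : PRankLE p 1 X := by
  intro A _ hA
  have hAc : IsCyclic A := Subgroup.isCyclic A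
  obtain ⟨g, hg⟩ := hAc.exists_generator
  have h1 : Nat.card A = orderOf g := by
    rw [← Nat.card_zpowers g]
    exact (Nat.card_congr (Equiv.subtypeUnivEquiv hg)).symm
  have h2 : g ^ p = 1 := by
    apply Subtype.ext
    rw [Subgroup.coe_pow, Subgroup.coe_one]
    exact hA g.1 g.2
  rw [h1, pow_one]
  exact Nat.le_of_dvd hp (orderOf_dvd_of_pow_eq_one h2)

/-- Let `(X/N)'` be nilpotent, `R ≤ X'` an `r`-subgroup normalizing the `r'`-subgroup `Y`. Then
`[Y, R] ≤ N`. -/
theorem commutator_le_of_le_commutator_of_coprime {X : Type u} [Group X] [Finite X]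
    (N : Subgroup X) [N.Normal] (hnil : Group.IsNilpotent ↥(commutator (X ⧸ N)))
    (r : ℕ) [Fact r.Prime] (R : Subgroup X) (hRr : IsPGroup r R) (hRc : R ≤ commutator X)
    (Y : Subgroup X) (hRY : R ≤ Subgroup.normalizer (Y : Set X))
    (hYr : (Nat.card Y).Coprime r) : ⁅Y, R⁆ ≤ N := by
  have hT : R.map (QuotientGroup.mk' N) ≤ pCore r (X ⧸ N) := by
    apply le_pCore_of_le_fittingSubgroup r _ (hRr.map _)
    refine le_trans ?_ (le_sSup ⟨inferInstance, hnil⟩ :
      commutator (X ⧸ N) ≤ fittingSubgroup (X ⧸ N))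
    refine (Subgroup.map_mono hRc).trans ?_
    rw [commutator_def, Subgroup.map_commutator, commutator_def]
    exact Subgroup.commutator_mono le_top le_top
  have hTn : (pCore r (X ⧸ N)).Normal := inferInstance
  have hTr : IsPGroup r (pCore r (X ⧸ N)) := Cfsg.Agent.Lib.Helper76.pCore_isPGroup r
  rw [Subgroup.commutator_le]
  intro y hy s hs
  have hw : ⁅y, s⁆ ∈ Y := by
    rw [commutatorElement_def]
    have h1 : s * y⁻¹ * s⁻¹ ∈ Y :=
      (Subgroup.mem_normalizer_iff.mp (hRY hs) y⁻¹).mp (inv_mem hy)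
    have : y * s * y⁻¹ * s⁻¹ = y * (s * y⁻¹ * s⁻¹) := by group
    rw [this]
    exact mul_mem hy h1
  have hπs : QuotientGroup.mk' N s ∈ pCore r (X ⧸ N) := hT ⟨s, hs, rfl⟩
  have hπw : QuotientGroup.mk' N ⁅y, s⁆ ∈ pCore r (X ⧸ N) := by
    rw [map_commutatorElement, commutatorElement_def]
    exact mul_mem (hTn.conj_mem _ hπs _) (inv_mem hπs)
  obtain ⟨k, hk⟩ := hTr ⟨_, hπw⟩
  have hk' : (QuotientGroup.mk' N ⁅y, s⁆) ^ r ^ k = 1 := by
    have := congrArg Subtype.val hk
    rwa [Subgroup.coe_pow, Subgroup.coe_one] at this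
  have hY' : (QuotientGroup.mk' N ⁅y, s⁆) ^ Nat.card Y = 1 := by
    rw [← map_pow]
    have h2 : (⟨⁅y, s⁆, hw⟩ : Y) ^ Nat.card Y = 1 := pow_card_eq_one'
    have h3 := congrArg Subtype.val h2
    rw [Subgroup.coe_pow, Subgroup.coe_one] at h3
    rw [h3, map_one]
  have h4 := pow_gcd_eq_one.mpr ⟨hk', hY'⟩
  have h5 : (r ^ k).gcd (Nat.card Y) = 1 := Nat.Coprime.pow_left k hYr.symm
  rw [h5, pow_one] at h4
  exact (QuotientGroup.eq_one_iff _).mp h4

variable {G : Type u} [Group G]

/-- If `R` normalizes `Y` then `[Y, R] ≤ Y`. -/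
theorem commutator_le_of_le_normalizer {R Y : Subgroup G}
    (hRY : R ≤ Subgroup.normalizer (Y : Set G)) : ⁅Y, R⁆ ≤ Y := by
  rw [Subgroup.commutator_le]
  intro y hy s hs
  rw [commutatorElement_def]
  have h1 : s * y⁻¹ * s⁻¹ ∈ Y :=
    (Subgroup.mem_normalizer_iff.mp (hRY hs) y⁻¹).mp (inv_mem hy)
  have : y * s * y⁻¹ * s⁻¹ = y * (s * y⁻¹ * s⁻¹) := by group
  rw [this]
  exact mul_mem hy h1

/-- For a maximal subgroup `H`, an `r`-subgroup `R ≤ H'` normalizing an `r'`-subgroup `Y ≤ H` satisfies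
`[Y, R] ≤ H_α`. -/
theorem commutator_le_alphaCore [Finite G] (hG : IsMinSimpleOddOrder G) (H : Subgroup G)
    (hH : IsCoatom H) (r : ℕ) [Fact r.Prime] (R : Subgroup G) (hRr : IsPGroup r R)
    (hRc : R ≤ ⁅H, H⁆) (Y : Subgroup G) (hYH : Y ≤ H)
    (hRY : R ≤ Subgroup.normalizer (Y : Set G)) (hYr : (Nat.card Y).Coprime r) :
    ⁅Y, R⁆ ≤ alphaCore H := by
  have hHH : ⁅H, H⁆ ≤ H := Subgroup.commutator_le.mpr (fun a ha b hb => by
    rw [commutatorElement_def]
    exact H.mul_mem (H.mul_mem (H.mul_mem ha hb) (inv_mem ha)) (inv_mem hb))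
  have hRH : R ≤ H := hRc.trans hHH
  have hnil := Cfsg.Agent.Lib.Helper50.isNilpotent_commutator_quotient hG H hH
  have hRc' : R.subgroupOf H ≤ commutator ↥H := by
    intro x hx
    have hx' : (x : G) ∈ ⁅H, H⁆ := hRc (Subgroup.mem_subgroupOf.mp hx)
    rw [← Subgroup.map_subtype_commutator] at hx'
    obtain ⟨y, hy, hyx⟩ := hx'
    have : y = x := Subtype.ext hyx
    rwa [← this]
  have hRY' : R.subgroupOf H ≤
      Subgroup.normalizer ((Y.subgroupOf H : Subgroup H) : Set H) := by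
    intro x hx
    rw [Subgroup.mem_normalizer_iff]
    intro h
    rw [Subgroup.mem_subgroupOf, Subgroup.mem_subgroupOf]
    have := Subgroup.mem_normalizer_iff.mp (hRY (Subgroup.mem_subgroupOf.mp hx)) (h : G)
    simpa using this
  have hYr' : (Nat.card (Y.subgroupOf H)).Coprime r := by
    rw [Nat.card_congr (Subgroup.subgroupOfEquivOfLe hYH).toEquiv]
    exact hYr
  have key := commutator_le_of_le_commutator_of_coprime (piCore (alpha H) ↥H) hnil r
    (R.subgroupOf H) hRr.comap_subtype hRc' (Y.subgroupOf H) hRY' hYr'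
  have := Subgroup.map_mono (f := H.subtype) key
  rw [Subgroup.map_commutator, Subgroup.map_subgroupOf_eq_of_le hYH,
    Subgroup.map_subgroupOf_eq_of_le hRH] at this
  exact this

/-- **Key lemma.** `H` a maximal subgroup not conjugate to `M`, `R ≤ H'` an `r`-subgroup with `r ∉ σ(M)`
normalizing `Y ≤ M_σ ∩ H`. Then `R` centralizes `Y`. -/
theorem le_centralizer_of_le_commutator [Finite G] (hG : IsMinSimpleOddOrder G)
    (hU : UniquenessThm G) (M H : Subgroup G) (hM : IsCoatom M) (hH : IsCoatom H)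
    (hnc : ∀ g : G, MulAut.conj g • H ≠ M) (r : ℕ) [Fact r.Prime] (hrM : r ∉ sigma M)
    (R : Subgroup G) (hRr : IsPGroup r R) (hRc : R ≤ ⁅H, H⁆) (Y : Subgroup G)
    (hYM : Y ≤ sigmaCore M) (hYH : Y ≤ H) (hRY : R ≤ Subgroup.normalizer (Y : Set G)) :
    Y ≤ Subgroup.centralizer (R : Set G) := by
  have hr : r.Prime := Fact.out
  have hYr : (Nat.card Y).Coprime r := by
    rw [Nat.coprime_comm, Nat.Prime.coprime_iff_not_dvd hr]
    intro h
    exact hrM (Cfsg.Agent.Lib.Helper54.sigmaCore_isPi M r hr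
      (h.trans (Subgroup.card_dvd_of_le hYM)))
  have h1 := commutator_le_alphaCore hG H hH r R hRr hRc Y hYH hRY hYr
  have h2 : ⁅Y, R⁆ ≤ Y := commutator_le_of_le_normalizer hRY
  have h3 := (Cfsg.Agent.Lib.Helper54.sigma_disjoint hG hU H M hH hM hnc).1.2
  have h4 : ⁅Y, R⁆ = ⊥ := by
    rw [eq_bot_iff, ← h3]
    exact le_inf h1 (h2.trans hYM)
  exact Subgroup.commutator_eq_bot_iff_le_centralizer.mp h4

/-- `σ(M)` is invariant under conjugation of `M`. -/
theorem mem_sigma_conj_smul [Finite G] {M : Subgroup G} {p : ℕ} (hp : p ∈ sigma M) (g : G) :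
    p ∈ sigma (MulAut.conj g • M) := by
  obtain ⟨hpp, hpd, P₀, h0⟩ := hp
  have : Fact p.Prime := ⟨hpp⟩
  obtain ⟨Q, hQ⟩ := Cfsg.Agent.Lib.Helper34.exists_sylow_eq_map_of_normalizer_le P₀ h0
  have hQM : (Q : Subgroup G) ≤ M := by
    rw [hQ]
    exact Subgroup.map_subtype_le _
  have hQg : ((g • Q : Sylow p G) : Subgroup G) ≤ MulAut.conj g • M := by
    rw [Sylow.coe_subgroup_smul]
    exact Cfsg.Agent.Lib.Helper54.conj_smul_le_conj_smul hQM
  refine ⟨hpp, by rw [Cfsg.Agent.Lib.Helper54.card_conj_smul]; exact hpd,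
    (g • Q).subtype hQg, ?_⟩
  rw [Sylow.coe_subtype, Subgroup.map_subgroupOf_eq_of_le hQg, Sylow.coe_subgroup_smul,
    Cfsg.Agent.Lib.Helper54.normalizer_conj_smul]
  apply Cfsg.Agent.Lib.Helper54.conj_smul_le_conj_smul
  rw [hQ]
  exact h0

/-- the normalizer of a nontrivial `p`-subgroup of a nonabelian simple group is proper -/
theorem normalizer_ne_top_of_isPGroup [Finite G] (hG : IsMinSimpleOddOrder G) {p : ℕ}
    [Fact p.Prime] {P : Subgroup G} (hPp : IsPGroup p P) (hP1 : P ≠ ⊥) :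
    Subgroup.normalizer (P : Set G) ≠ ⊤ := by
  have hs : IsSimpleGroup G := hG.2.1
  have hPtop : P ≠ ⊤ := Cfsg.Agent.Lib.Helper54.ne_top_of_isPGroup hG.2.1 hG.2.2.1 hPp
  intro h
  have hn : P.Normal := Subgroup.normalizer_eq_top_iff.mp h
  rcases hn.eq_bot_or_eq_top with h' | h'
  · exact hP1 h'
  · exact hPtop h'

/-- a `p`-subgroup of `H` lies in `H'` when `p ∈ σ(H)` -/
theorem le_commutator_of_mem_sigma [Finite G] (hG : IsMinSimpleOddOrder G)
    (hU : UniquenessThm G) (H : Subgroup G) (hH : IsCoatom H) (p : ℕ) [Fact p.Prime]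
    (hp : p ∈ sigma H) {S : Subgroup G} (hSp : IsPGroup p S) (hSH : S ≤ H) : S ≤ ⁅H, H⁆ := by
  obtain ⟨T, hT⟩ := Cfsg.Agent.Lib.Helper34.exists_sylow_map_ge hSp hSH
  exact hT.trans (Cfsg.Agent.Lib.Helper50.sylow_le_commutator_of_mem_sigma hG
    (Cfsg.Agent.Lib.Helper54.uniqThree_of_uniquenessThm hU) H hH p hp T)

/-- **Bender–Glauberman Corollary 13.3(a)** (statement S1427), conditional on the Uniqueness Theorem,
S1417(a) and two clauses of S1418. -/
theorem s1427_of [Finite G] (hG : IsMinSimpleOddOrder G) (hU : UniquenessThm G)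
    (h1417 : ∀ M : Subgroup G, IsCoatom M → ∀ (p : ℕ) [Fact p.Prime], p ∈ tau2 M →
      ∀ A : Subgroup G, A ≤ M → IsElementaryAbelian p A → Nat.card A = p ^ 2 →
        Group.IsNilpotent (sigmaCore M))
    (h1418 : ∀ M : Subgroup G, IsCoatom M → ∀ E : Subgroup G, IsComplIn E (sigmaCore M) M →
      ∀ (p : ℕ) [Fact p.Prime], p ∈ tau2 M → ∀ A : Subgroup G, A ≤ E →
        IsElementaryAbelian p A → Nat.card A = p ^ 2 →
          E ≤ Subgroup.normalizer (A : Set G) ∧ ¬ Subgroup.normalizer (A : Set G) ≤ M)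
    (M : Subgroup G) (hM : IsCoatom M) (E : Subgroup G) (hE : IsComplIn E (sigmaCore M) M)
    (p : ℕ) [Fact p.Prime] (S : Sylow p E) (hS1 : (S : Subgroup E) ≠ ⊥)
    (hSc : IsCyclic (S : Subgroup E)) :
    ∀ x ∈ (S : Subgroup E).map E.subtype, x ≠ 1 →
      sigmaCore M ⊓ Subgroup.centralizer ({x} : Set G) =
        sigmaCore M ⊓ Subgroup.centralizer
          (((S : Subgroup E).map E.subtype : Subgroup G) : Set G) := by
  have hpp : p.Prime := Fact.out
  obtain ⟨S', hS'⟩ : ∃ S' : Subgroup G, S' = (S : Subgroup E).map E.subtype := ⟨_, rfl⟩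
  rw [← hS']
  have hS'E : S' ≤ E := by rw [hS']; exact Subgroup.map_subtype_le _
  have hEM : E ≤ M := hE.1
  have hS'M : S' ≤ M := hS'E.trans hEM
  have hS'p : IsPGroup p S' := by rw [hS']; exact S.2.map _
  have hS'c : IsCyclic S' := by
    have e := Subgroup.equivMapOfInjective (S : Subgroup E) E.subtype E.subtype_injective
    rw [hS']
    exact isCyclic_of_surjective e e.surjective
  have hS'1 : S' ≠ ⊥ := by
    rw [hS', Ne, Subgroup.map_eq_bot_iff_of_injective _ E.subtype_injective]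
    exact hS1
  have hHall := (Cfsg.Agent.Lib.Helper54.sigmaCore_hall_of hG hU M hM).1
  have hpS' : p ∣ Nat.card S' := Cfsg.Agent.Lib.Helper34.dvd_card_of_isPGroup_ne_bot hS'p hS'1
  have hpE : p ∣ Nat.card E := hpS'.trans (Subgroup.card_dvd_of_le hS'E)
  have hpσ : p ∉ sigma M := fun h =>
    Cfsg.Agent.Lib.Helper97.BGTwelve.not_dvd_card_of_isComplIn hE hHall hpp h hpE
  -- `S'` is a Sylow `p`-subgroup of `M`
  have hidx : ¬ p ∣ S'.relIndex M := by
    have h1 := Cfsg.Agent.Lib.Helper23.card_of_isComplIn hE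
    have h2 := Cfsg.Agent.Lib.Helper54.card_mul_relIndex hS'M
    have h3 : Nat.card S' = Nat.card (S : Subgroup E) := by
      rw [hS']
      exact Subgroup.card_map_of_injective E.subtype_injective
    have h4 := (S : Subgroup E).card_mul_index
    have h5 : S'.relIndex M = (S : Subgroup E).index * Nat.card (sigmaCore M) := by
      apply Nat.eq_of_mul_eq_mul_left (Nat.card_pos (α := S'))
      rw [h2, h1, ← h4, h3, mul_assoc]
    rw [h5]
    intro h
    rcases (Nat.Prime.dvd_mul hpp).mp h with h | h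
    · exact S.not_dvd_index h
    · exact hpσ (Cfsg.Agent.Lib.Helper54.sigmaCore_isPi M p hpp h)
  have hS'q' : IsPGroup p (S'.subgroupOf M) := hS'p.comap_subtype
  have hidx' : ¬ p ∣ (S'.subgroupOf M).index := hidx
  obtain ⟨P₁, hP₁⟩ : ∃ P₁ : Sylow p ↥M, (P₁ : Subgroup M) = S'.subgroupOf M :=
    ⟨hS'q'.toSylow hidx', IsPGroup.toSylow_coe _ _⟩
  have hP₁S : (P₁ : Subgroup M).map M.subtype = S' := by
    rw [hP₁, Subgroup.map_subgroupOf_eq_of_le hS'M]
  have hr1 : PRankLE p 1 ↥M := by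
    apply Cfsg.Agent.Lib.Helper54.pRankLE_of_sylow_rel M P₁
    rw [hP₁S]
    exact pRankLE_one_of_isCyclic p hpp.pos hS'c
  have hpM : p ∣ Nat.card M := hpS'.trans (Subgroup.card_dvd_of_le hS'M)
  have hτ : p ∈ tau1 M ∨ p ∈ tau3 M := by
    by_cases h : p ∣ Nat.card ↥⁅M, M⁆
    · exact Or.inr ⟨hpp, hpσ, h, hr1⟩
    · exact Or.inl ⟨hpp, hpσ, hpM, h, hr1⟩
  have hS'comm : ∀ a ∈ S', ∀ b ∈ S', a * b = b * a := by
    intro a ha b hb
    have h := (hS'c.isMulCommutative).is_comm.comm ⟨a, ha⟩ ⟨b, hb⟩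
    exact congrArg Subtype.val h
  -- main claim
  have main : ∀ P : Subgroup G, P ≤ S' → Nat.card P = p →
      sigmaCore M ⊓ Subgroup.centralizer (P : Set G) ≤ Subgroup.centralizer (S' : Set G) := by
    intro P hPS hPc
    have hPp : IsPGroup p P := hS'p.to_le hPS
    have hP1 : P ≠ ⊥ := by
      intro h
      rw [h, Subgroup.card_bot] at hPc
      exact hpp.one_lt.ne hPc
    have hPM : P ≤ M := hPS.trans hS'M
    obtain ⟨H, hH, hNH⟩ :=
      (eq_top_or_exists_le_coatom _).resolve_left (normalizer_ne_top_of_isPGroup hG hPp hP1)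
    have hnc : ∀ g : G, MulAut.conj g • M ≠ H :=
      Cfsg.Agent.Lib.Helper54.not_conj_of_normalizer_le hG hU M H hM p P hPp hP1 hPM hNH
        (Or.inr hτ)
    have hnc' : ∀ g : G, MulAut.conj g • H ≠ M := by
      intro g hg
      apply hnc g⁻¹
      rw [← hg, ← mul_smul, ← map_mul, inv_mul_cancel, map_one, one_smul]
    have hCP_H : Subgroup.centralizer (P : Set G) ≤ H :=
      (Subgroup.centralizer_le_normalizer _).trans hNH
    have hS'CP : S' ≤ Subgroup.centralizer (P : Set G) := by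
      intro s hs
      rw [Subgroup.mem_centralizer_iff]
      intro h hh
      exact hS'comm h (hPS hh) s hs
    have hS'H : S' ≤ H := hS'CP.trans hCP_H
    have hY₀H : sigmaCore M ⊓ Subgroup.centralizer (P : Set G) ≤ H := inf_le_right.trans hCP_H
    have hS'Y₀ : S' ≤ Subgroup.normalizer
        ((sigmaCore M ⊓ Subgroup.centralizer (P : Set G) : Subgroup G) : Set G) := by
      intro s hs
      rw [Subgroup.mem_normalizer_iff]
      intro y
      have hsN := Cfsg.Agent.Lib.Helper54.le_normalizer_sigmaCore M (hS'M hs)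
      have hsC : s ∈ Subgroup.normalizer
          ((Subgroup.centralizer (P : Set G) : Subgroup G) : Set G) :=
        Subgroup.le_normalizer (hS'CP hs)
      rw [Subgroup.mem_inf, Subgroup.mem_inf, ← Subgroup.mem_normalizer_iff.mp hsN y,
        ← Subgroup.mem_normalizer_iff.mp hsC y]
    rcases Cfsg.Agent.Lib.Helper54.mem_sigma_or_tau2_of_normalizer_le hG hU H hH p P hPp hP1 hNH
      with hpH | hp2
    · -- `p ∈ σ(H)`
      exact le_centralizer_of_le_commutator hG hU M H hM hH hnc' p hpσ S' hS'p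
        (le_commutator_of_mem_sigma hG hU H hH p hpH hS'p hS'H) _ inf_le_left hY₀H hS'Y₀
    · -- `p ∈ τ₂(H)`
      obtain ⟨A₀, hA₀H, hA₀e, hA₀c⟩ :=
        Cfsg.Agent.Lib.Helper97.BGTwelve.exists_elemAb_sq_of_not_pRankLE_one H hp2.2.2.2
      have hnilH := h1417 H hH p hp2 A₀ hA₀H hA₀e hA₀c
      have hdisH := ((Cfsg.Agent.Lib.Helper54.sigma_disjoint hG hU H M hH hM hnc').2 hnilH).1
      have hHallH := (Cfsg.Agent.Lib.Helper54.sigmaCore_hall_of hG hU H hH).1
      have hHs : Group.IsSolvable H := hG.2.2.2 H hH.1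
      have hKH : (sigmaCore M ⊓ Subgroup.centralizer (P : Set G)) ⊔ S' ≤ H := sup_le hY₀H hS'H
      have hKσ : ∀ q : ℕ, q.Prime → q ∣ Nat.card
          ((sigmaCore M ⊓ Subgroup.centralizer (P : Set G)) ⊔ S' : Subgroup G) →
          q ∉ sigma H := by
        intro q hq hqd hqH
        have h1 := hqd.trans (Cfsg.Agent.Lib.Helper22.card_sup_dvd_mul_of_le_normalizer hS'Y₀)
        rcases (Nat.Prime.dvd_mul hq).mp h1 with h | h
        · exact hdisH q hqH (Cfsg.Agent.Lib.Helper54.sigmaCore_isPi M q hq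
            (h.trans (Subgroup.card_dvd_of_le inf_le_left)))
        · obtain ⟨k, hk⟩ := IsPGroup.iff_card.mp hS'p
          rw [hk] at h
          have := (Nat.prime_dvd_prime_iff_eq hq hpp).mp (hq.dvd_of_dvd_pow h)
          rw [this] at hqH
          exact hp2.2.1 hqH
      obtain ⟨EH, hEH, hKEH⟩ :=
        Cfsg.Agent.Lib.Helper97.BGTwelve.exists_complIn_ge hHs hHallH hKH hKσ
      have hr1EH : ¬ PRankLE p 1 ↥EH :=
        Cfsg.Agent.Lib.Helper97.BGTwelve.not_pRankLE_complement hEH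
          (Cfsg.Agent.Lib.Helper54.sigmaCore_isPi H) hp2.2.1 hp2.2.2.2
      obtain ⟨A, hAEH, hAe, hAc⟩ :=
        Cfsg.Agent.Lib.Helper97.BGTwelve.exists_elemAb_sq_of_not_pRankLE_one EH hr1EH
      have h18 := h1418 H hH EH hEH p hp2 A hAEH hAe hAc
      have hAp : IsPGroup p A := Cfsg.Agent.Lib.Helper34.isPGroup_of_isElementaryAbelian hAe
      have hA1 : A ≠ ⊥ := by
        intro h
        rw [h, Subgroup.card_bot] at hAc
        have : 1 < p ^ 2 := Nat.one_lt_pow (by norm_num) hpp.one_lt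
        omega
      obtain ⟨L, hL, hNAL⟩ :=
        (eq_top_or_exists_le_coatom _).resolve_left (normalizer_ne_top_of_isPGroup hG hAp hA1)
      have hpL : p ∈ sigma L := by
        rcases Cfsg.Agent.Lib.Helper54.mem_sigma_or_tau2_of_normalizer_le hG hU L hL p A hAp hA1
          hNAL with h | h
        · exact h
        · exfalso
          have hAL : A ≤ L := Subgroup.le_normalizer.trans hNAL
          obtain ⟨EL, hEL, hAEL⟩ := Cfsg.Agent.Lib.Helper97.BGTwelve.exists_complIn_ge
            (hG.2.2.2 L hL.1) (Cfsg.Agent.Lib.Helper54.sigmaCore_hall_of hG hU L hL).1 hAL (by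
              intro q hq hqd hqL
              rw [hAc] at hqd
              have := (Nat.prime_dvd_prime_iff_eq hq hpp).mp (hq.dvd_of_dvd_pow hqd)
              rw [this] at hqL
              exact h.2.1 hqL)
          exact (h1418 L hL EL hEL p h A hAEL hAe hAc).2 hNAL
      have hncL : ∀ g : G, MulAut.conj g • L ≠ M := by
        intro g hg
        apply hpσ
        rw [← hg]
        exact mem_sigma_conj_smul hpL g
      have hEHL : EH ≤ L := h18.1.trans hNAL
      have hS'L : S' ≤ L := (le_sup_right.trans hKEH).trans hEHL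
      have hY₀L : sigmaCore M ⊓ Subgroup.centralizer (P : Set G) ≤ L :=
        (le_sup_left.trans hKEH).trans hEHL
      exact le_centralizer_of_le_commutator hG hU M L hM hL hncL p hpσ S' hS'p
        (le_commutator_of_mem_sigma hG hU L hL p hpL hS'p hS'L) _ inf_le_left hY₀L hS'Y₀
  -- conclusion
  intro x hx hx1
  apply le_antisymm
  · have hxo : p ∣ orderOf x := by
      obtain ⟨k, hk⟩ := hS'p ⟨x, hx⟩
      have hk' : x ^ p ^ k = 1 := by
        have := congrArg Subtype.val hk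
        rwa [Subgroup.coe_pow, Subgroup.coe_one] at this
      obtain ⟨j, -, hj⟩ := (Nat.dvd_prime_pow hpp).mp (orderOf_dvd_of_pow_eq_one hk')
      rw [hj]
      apply dvd_pow_self
      rintro rfl
      rw [pow_zero, orderOf_eq_one_iff] at hj
      exact hx1 hj
    have hy : orderOf (x ^ (orderOf x / p)) = p :=
      orderOf_pow_orderOf_div (orderOf_pos x).ne' hxo
    have hPc : Nat.card (Subgroup.zpowers (x ^ (orderOf x / p))) = p := by
      rw [Nat.card_zpowers, hy]
    have hPS : Subgroup.zpowers (x ^ (orderOf x / p)) ≤ S' := by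
      rw [Subgroup.zpowers_le]
      exact pow_mem hx _
    have h1 := main _ hPS hPc
    refine le_inf inf_le_left (le_trans (le_inf inf_le_left ?_) h1)
    intro z hz
    have hc : Commute x z :=
      Subgroup.mem_centralizer_iff.mp hz.2 x (Set.mem_singleton x)
    rw [Subgroup.mem_centralizer_iff]
    intro h hh
    obtain ⟨k, rfl⟩ := Subgroup.mem_zpowers_iff.mp hh
    exact ((hc.pow_left _).zpow_left k).eq
  · exact inf_le_inf_left _ (Subgroup.centralizer_le (Set.singleton_subset_iff.mpr hx))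

end Cfsg.Agent.Lib.Helper24
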