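import Mathlib
import Cfsg.Agent.Lib.Helper24.PFCycCtx
import Cfsg.Agent.Lib.Helper3.Dade
import Cfsg.Agent.Lib.Helper74.PFTwelveA
import Cfsg.Agent.Lib.Helper73.PF127Rho
import Cfsg.Agent.S1500
import Cfsg.Agent.S1501

/-!
# Peterfalvi section 10, M-side: small API for the Dade map `tauM M` (helper24)
-/

set_option autoImplicit false

namespace Cfsg.Agent.Lib.Helper24.PFCyc

open Cfsg Cfsg.Agent.Lib.Helper4.PF Cfsg.Agent.Lib.Helper74.PF127

universe u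

section Generic

variable {G : Type u} [Group G] (M : Subgroup G)

theorem tauM_add (α β : ↥M → ℂ) : tauM M (α + β) = tauM M α + tauM M β :=
  Cfsg.Agent.Lib.Helper74.PF12.dade_add _ _ _ α β

theorem tauM_sub (α β : ↥M → ℂ) : tauM M (α - β) = tauM M α - tauM M β :=
  Cfsg.Agent.Lib.Helper74.PF12.dade_sub _ _ _ α β

theorem tauM_zsmul (n : ℤ) (α : ↥M → ℂ) : tauM M (n • α) = n • tauM M α :=
  Cfsg.Agent.Lib.Helper74.PF12.dade_zsmul _ _ _ n α

theorem tauM_smul (c : ℂ) (α : ↥M → ℂ) : tauM M (c • α) = c • tauM M α := by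
  funext g
  unfold tauM dadeIsometry
  simp only [Pi.smul_apply]
  split_ifs <;> simp

theorem tauM_galois (σ : ℂ ≃+* ℂ) (α : ↥M → ℂ) :
    tauM M (fun m => σ (α m)) = fun g => σ (tauM M α g) := by
  funext g
  unfold tauM dadeIsometry
  beta_reduce
  split_ifs <;> simp

theorem tauM_conj (α : ↥M → ℂ) : tauM M (conjFun α) = conjFun (tauM M α) := by
  funext g
  unfold tauM dadeIsometry conjFun
  beta_reduce
  split_ifs <;> simp

/-- `tauM M α` vanishes off the Dade support of any set `A'` off which `α` vanishes. -/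
theorem tauM_zero_off_supp (α : ↥M → ℂ) (A' : Set G) (hα : ∀ m : ↥M, (m : G) ∉ A' → α m = 0)
    (g : G) (hg : g ∉ dadeSupp A' (supportR M)) : tauM M α g = 0 := by
  unfold tauM dadeIsometry
  beta_reduce
  split_ifs with hex
  · by_contra hne
    apply hg
    have hA' : ((Classical.choose hex : ↥M) : G) ∈ A' := by
      by_contra hn
      exact hne (hα _ hn)
    obtain ⟨-, x, u, hu, hx⟩ := Classical.choose_spec hex
    exact ⟨_, hA', u, hu, x, hx⟩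
  · rfl

end Generic

section Ctx

variable {G : Type u} [Group G] [Fintype G] {M W₁ U W₂ : Subgroup G} [Fintype M]
  {mu : WChar W₁ W₂ → (↥M → ℂ)} {dl : WChar W₁ W₂ → ℂ} {η : WChar W₁ W₂ → (G → ℂ)}
  {τ₁ : (↥M → ℂ) → (G → ℂ)} {ζ : ↥M → ℂ}

/-- a function vanishing off `M'` and at `1` vanishes off `A₀(M)` -/
theorem off_litA0 (h : MCtx M W₁ U W₂ mu dl η τ₁ ζ) (α : ↥M → ℂ)
    (hαK : ∀ m : ↥M, (m : G) ∉ ⁅M, M⁆ → α m = 0) (hα1 : α 1 = 0) :
    ∀ m : ↥M, (m : G) ∉ litA0 M → α m = 0 := by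
  intro m hm
  by_cases hmK : (m : G) ∈ ⁅M, M⁆
  · by_cases hm1 : m = 1
    · rw [hm1, hα1]
    · exfalso
      apply hm
      left
      rw [h.hA]
      exact ⟨hmK, fun hc => hm1 (Subtype.ext hc)⟩
  · exact hαK m hmK

/-- a function vanishing off `M'` and at `1` vanishes off `A(M)` -/
theorem off_litA (h : MCtx M W₁ U W₂ mu dl η τ₁ ζ) (α : ↥M → ℂ)
    (hαK : ∀ m : ↥M, (m : G) ∉ ⁅M, M⁆ → α m = 0) (hα1 : α 1 = 0) :
    ∀ m : ↥M, (m : G) ∉ litA M → α m = 0 := by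
  intro m hm
  by_cases hmK : (m : G) ∈ ⁅M, M⁆
  · by_cases hm1 : m = 1
    · rw [hm1, hα1]
    · exfalso
      apply hm
      rw [h.hA]
      exact ⟨hmK, fun hc => hm1 (Subtype.ext hc)⟩
  · exact hαK m hmK

theorem tauM_isClassFunction (h : MCtx M W₁ U W₂ mu dl η τ₁ ζ) {α : ↥M → ℂ}
    (hα : IsClassFunction ↥M α) : IsClassFunction G (tauM M α) :=
  Cfsg.Agent.Lib.Helper3.Dade.dade_isClassFunction h.hD hα

/-- S1500 (i) -/
theorem tauM_inner (h : MCtx M W₁ U W₂ mu dl η τ₁ ζ) {α β : ↥M → ℂ}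
    (hα : IsClassFunction ↥M α) (hαA : ∀ m : ↥M, (m : G) ∉ litA0 M → α m = 0)
    (hβ : IsClassFunction ↥M β) (hβA : ∀ m : ↥M, (m : G) ∉ litA0 M → β m = 0) :
    classInner (tauM M α) (tauM M β) = classInner α β :=
  (Cfsg.Agent.S1500.result (litA0 M) M (supportR M) h.hD α hα hαA).1 β hβ hβA

/-- S1500 (ii) -/
theorem tauM_adjoint (h : MCtx M W₁ U W₂ mu dl η τ₁ ζ) {α : ↥M → ℂ}
    (hα : IsClassFunction ↥M α) (hαA : ∀ m : ↥M, (m : G) ∉ litA0 M → α m = 0)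
    {ν : G → ℂ} (hν : IsClassFunction G ν) :
    classInner (tauM M α) ν = classInner α (dadeRes (litA0 M) M (supportR M) ν) :=
  (Cfsg.Agent.S1500.result (litA0 M) M (supportR M) h.hD α hα hαA).2 ν
    (dadeRes (litA0 M) M (supportR M) ν) hν
    (fun a ha => by rw [dadeRes_of_mem _ _ _ _ _ ha]; rfl)

theorem tauM_inner_one (h : MCtx M W₁ U W₂ mu dl η τ₁ ζ) {α : ↥M → ℂ}
    (hα : IsClassFunction ↥M α) (hαA : ∀ m : ↥M, (m : G) ∉ litA0 M → α m = 0) :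
    classInner (tauM M α) (fun _ => 1) = classInner α (fun _ => 1) := by
  have h1 : IsClassFunction G (fun _ : G => (1 : ℂ)) := fun _ _ => rfl
  rw [tauM_adjoint h hα hαA h1]
  unfold classInner
  congr 1
  apply Finset.sum_congr rfl
  intro m _
  by_cases hm : (m : G) ∈ litA0 M
  · rw [dadeRes_of_mem _ _ _ _ _ hm]
    congr 2
    unfold dadeAvg
    rw [finsum_mem_eq_finite_toFinset_sum _ (Set.toFinite _)]
    simp only [Finset.sum_const, nsmul_eq_mul, mul_one]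
    have : (Set.toFinite ((supportR M (m : G) : Subgroup G) : Set G)).toFinset.card =
        Nat.card (supportR M (m : G)) := by
      rw [← Set.ncard_eq_toFinset_card _ (Set.toFinite _)]
      rfl
    rw [this]
    have hne : (Nat.card (supportR M (m : G)) : ℂ) ≠ 0 := by
      exact_mod_cast (Nat.card_pos (α := supportR M (m : G))).ne'
    field_simp
  · rw [hαA m hm, zero_mul, zero_mul]

/-- S1501 -/
theorem tauM_genChar (h : MCtx M W₁ U W₂ mu dl η τ₁ ζ) {α : ↥M → ℂ}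
    (hα : IsGeneralizedCharacter ↥M α) (hαA : ∀ m : ↥M, (m : G) ∉ litA0 M → α m = 0) :
    IsGeneralizedCharacter G (tauM M α) :=
  Cfsg.Agent.S1501.result (litA0 M) M (supportR M) h.hD α hα hαA

/-- an element of `W ∖ (W₁ ∪ W₂)` is not in `M'` -/
theorem not_mem_der_of_mem_W (h : MCtx M W₁ U W₂ mu dl η τ₁ ζ) {w : G} (hw : w ∈ W₁ ⊔ W₂)
    (hw₂ : w ∉ W₂) : w ∉ ⁅M, M⁆ := by
  intro hwK
  have hW := h.hW
  have hcomm := hW.2.2.2.1
  have hW₂K : W₂ ≤ ⁅M, M⁆ := (h.hP.W₂_le.trans inf_le_left).trans h.hP.U_compl.1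
  obtain ⟨a, ha, b, hb, rfl⟩ : ∃ a ∈ W₁, ∃ b ∈ W₂, w = a * b := by
    refine Cfsg.Agent.Lib.Helper3.Dade.mem_sup_decomp W₂ W₁ ?_ (by rwa [sup_comm])
    intro k hk u hu
    rw [hcomm k hk u hu, mul_inv_cancel_right]
    exact hu
  have haK : a ∈ ⁅M, M⁆ := by
    have : a = a * b * b⁻¹ := by group
    rw [this]
    exact Subgroup.mul_mem _ hwK (Subgroup.inv_mem _ (hW₂K hb))
  have ha1 : a = 1 := by
    have : a ∈ ⁅M, M⁆ ⊓ W₁ := ⟨haK, ha⟩
    rw [h.hP.W₁_compl.2.2.1] at this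
    exact Subgroup.mem_bot.mp this
  apply hw₂
  rw [ha1, one_mul]
  exact hb

/-- the Dade image of a class function vanishing off `M'` vanishes on `W ∖ (W₁ ∪ W₂)` -/
theorem tauM_vanish_W (h : MCtx M W₁ U W₂ mu dl η τ₁ ζ) (hf : MFacts M W₁ W₂ mu dl η)
    (α : ↥M → ℂ) (hα : IsClassFunction ↥M α)
    (hαK : ∀ m : ↥M, (m : G) ∉ ⁅M, M⁆ → α m = 0)
    (w : ↥(W₁ ⊔ W₂)) (hw₁ : (w : G) ∉ W₁) (hw₂ : (w : G) ∉ W₂) : tauM M α (w : G) = 0 := by
  have hlit := hf.litA0 (w : G) w.2 hw₁ hw₂ 1 (Subgroup.one_mem M)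
  rw [one_mul, inv_one, mul_one] at hlit
  have hWM : W₁ ⊔ W₂ ≤ M :=
    sup_le h.hP.W₁_compl.2.1
      (((h.hP.W₂_le.trans inf_le_left).trans h.hP.U_compl.1).trans h.hP.W₁_compl.1)
  have hwM : (w : G) ∈ M := hWM w.2
  have hrel : Cfsg.Agent.Lib.Helper3.Dade.Rel (litA0 M) M (supportR M) (w : G) ⟨(w : G), hwM⟩ :=
    ⟨hlit.1, 1, 1, Subgroup.one_mem _, by simp⟩
  have := Cfsg.Agent.Lib.Helper3.Dade.dade_eq h.hD hα hrel
  unfold tauM
  rw [this]
  exact hαK _ (not_mem_der_of_mem_W h w.2 hw₂)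

end Ctx

end Cfsg.Agent.Lib.Helper24.PFCyc
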