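import Mathlib
import Cfsg.Prelude.Def_GeometricClasses
import Cfsg.Agent.Lib.Helper99.AschDefs
import Cfsg.Agent.Lib.Helper99.AschDefsR

/-!
# BHR-[C3DIV] (helper24): the degree of a field subalgebra of `M_n(F)` divides `n`
-/

set_option autoImplicit false
set_option linter.style.haveILetI false

namespace Cfsg.Agent.Lib.Helper99.Asch

open Cfsg Cfsg.Geo
open scoped MatrixGroups Matrix Kronecker

variable {n : ℕ} {F : Type*} [Field F] [Fintype F]

/-- BHR-[C3DIV]. -/
theorem dvd_of_isFieldSubalgebra (r : ℕ) (K : Subalgebra F (Matrix (Fin n) (Fin n) F))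
    (hK : IsFieldSubalgebra r K) : r ∣ n := by
  classical
  rcases Nat.eq_zero_or_pos n with rfl | hn
  · exact dvd_zero r
  haveI : Nonempty (Fin n) := ⟨⟨0, hn⟩⟩
  haveI : Nontrivial (Matrix (Fin n) (Fin n) F) := inferInstance
  have hfield : IsField ↥K :=
    { exists_pair_ne := ⟨0, 1, fun h => zero_ne_one (congrArg Subtype.val h)⟩
      mul_comm := fun a b => Subtype.ext (hK.comm a.1 a.2 b.1 b.2)
      mul_inv_cancel := fun {a} ha => by
        obtain ⟨y, hyK, hy⟩ := hK.inv a.1 a.2 (fun h => ha (Subtype.ext h))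
        exact ⟨⟨y, hyK⟩, Subtype.ext hy⟩ }
  -- the module structure of F^n over K
  let φ : ↥K →+* Module.End F (Fin n → F) :=
    (Matrix.toLinAlgEquiv' : Matrix (Fin n) (Fin n) F ≃ₐ[F] Module.End F (Fin n → F)).toAlgHom.toRingHom.comp
      K.val.toRingHom
  letI instMod : Module ↥K (Fin n → F) := Module.compHom (Fin n → F) φ
  haveI hTower : IsScalarTower F ↥K (Fin n → F) := ⟨fun c k v => by
    show φ (c • k) v = c • φ k v
    simp [φ]⟩
  haveI hSRC : StrongRankCondition ↥K := by
    letI instFld : Field ↥K := hfield.toField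
    exact (inferInstance : StrongRankCondition ↥K)
  haveI hfree : Module.Free ↥K (Fin n → F) := by
    letI instFld : Field ↥K := hfield.toField
    exact @Module.Free.of_divisionRing ↥K (Fin n → F) _ _ instMod
  have key := @Module.finrank_mul_finrank F ↥K (Fin n → F) _ _ _ _ instMod _ hTower _ hSRC _ hfree
  rw [Module.finrank_fin_fun] at key
  rw [← hK.finrank_eq]
  exact Dvd.intro _ key

end Cfsg.Agent.Lib.Helper99.Asch
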