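import Mathlib

/-!
# Maschke's theorem for elementary abelian `p`-groups, in multiplicative form

`exists_invariant_compl`: if a finite group `A` of order prime to `p` acts on the finite elementary
abelian `p`-group `V`, every `A`-invariant subgroup of `V` has an `A`-invariant complement.
-/

set_option autoImplicit false

namespace Cfsg.Agent.Lib.Helper24

/-- A subgroup of an elementary abelian `p`-group is the image of an idempotent endomorphism. -/
theorem exists_hom_proj {V : Type*} [CommGroup V] (p : ℕ) [hp : Fact p.Prime]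
    (hexp : ∀ x : V, x ^ p = 1) (U : Subgroup V) :
    ∃ π : V →* V, (∀ v, π v ∈ U) ∧ ∀ u ∈ U, π u = u := by
  have hexp' : ∀ x : Additive V, p • x = 0 := fun x => by
    induction x using Additive.rec with
    | ofMul v => rw [← ofMul_pow, hexp, ofMul_one]
  obtain ⟨inst⟩ : Nonempty (Module (ZMod p) (Additive V)) := ⟨AddCommGroup.zmodModule hexp'⟩
  let US : Submodule (ZMod p) (Additive V) := AddSubgroup.toZModSubmodule p (Subgroup.toAddSubgroup U)
  have hmemUS : ∀ x : Additive V, x ∈ US ↔ Additive.toMul x ∈ U := by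
    intro x
    rw [← SetLike.mem_coe, AddSubgroup.coe_toZModSubmodule]
    rfl
  obtain ⟨US', hcompl⟩ := Submodule.exists_isCompl US
  let f : Additive V →ₗ[ZMod p] US := US.projectionOnto US' hcompl
  refine ⟨{ toFun := fun v => Additive.toMul ((f (Additive.ofMul v) : US) : Additive V)
            map_one' := by simp
            map_mul' := fun x y => by simp [map_add] }, ?_, ?_⟩
  · intro v
    exact (hmemUS _).mp (f (Additive.ofMul v)).2
  · intro u hu
    have h1 : Additive.ofMul u ∈ US := (hmemUS _).mpr hu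
    have h2 := Submodule.projectionOnto_apply_of_mem_left hcompl h1
    show Additive.toMul ((f (Additive.ofMul u) : US) : Additive V) = u
    rw [h2]
    rfl

/-- **Maschke's theorem** for a coprime action on an elementary abelian `p`-group. -/
theorem exists_invariant_compl {V : Type*} [Group V] (p : ℕ) [hp : Fact p.Prime]
    (hcomm : ∀ x y : V, x * y = y * x) (hexp : ∀ x : V, x ^ p = 1)
    {A : Type*} [Group A] [Finite A] (ψ : A →* MulAut V) (hcop : (Nat.card A).Coprime p)
    (U : Subgroup V) (hU : ∀ a, ∀ u ∈ U, ψ a u ∈ U) :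
    ∃ U' : Subgroup V, (∀ a, ∀ u ∈ U', ψ a u ∈ U') ∧ U ⊓ U' = ⊥ ∧ U ⊔ U' = ⊤ := by
  classical
  letI : CommGroup V := { (inferInstance : Group V) with mul_comm := hcomm }
  letI : Fintype A := Fintype.ofFinite A
  obtain ⟨π₀, hπ₀U, hπ₀id⟩ := exists_hom_proj p hexp U
  obtain ⟨m, -, hm⟩ := Nat.exists_mul_mod_eq_one_of_coprime hcop hp.out.one_lt
  -- the averaged projection
  let σ : V →* V := ∏ a : A, ((ψ a).toMonoidHom.comp (π₀.comp (ψ a⁻¹).toMonoidHom))
  have hσ : ∀ v, σ v = ∏ a : A, ψ a (π₀ (ψ a⁻¹ v)) := by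
    intro v
    simp [σ]
  let π : V →* V := σ ^ m
  have hπ : ∀ v, π v = (σ v) ^ m := fun v => rfl
  have hσU : ∀ v, σ v ∈ U := by
    intro v
    rw [hσ]
    exact Subgroup.prod_mem _ (fun a _ => hU a _ (hπ₀U _))
  have hπU : ∀ v, π v ∈ U := fun v => by rw [hπ]; exact Subgroup.pow_mem _ (hσU v) m
  have hpow : ∀ u : V, u ^ (Nat.card A * m) = u := by
    intro u
    have h1 : Nat.card A * m = p * (Nat.card A * m / p) + 1 := by
      have := Nat.div_add_mod (Nat.card A * m) p
      rw [hm] at this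
      exact this.symm
    rw [h1, pow_add, pow_mul, hexp, one_pow, one_mul, pow_one]
  have hπid : ∀ u ∈ U, π u = u := by
    intro u hu
    rw [hπ, hσ]
    have h1 : ∀ a : A, ψ a (π₀ (ψ a⁻¹ u)) = u := by
      intro a
      rw [hπ₀id _ (hU a⁻¹ u hu), map_inv]
      exact MulAut.apply_inv_self V (ψ a) u
    simp only [h1, Finset.prod_const, Finset.card_univ]
    rw [← Nat.card_eq_fintype_card, ← pow_mul]
    exact hpow u
  have hσeq : ∀ (b : A) (v : V), σ (ψ b v) = ψ b (σ v) := by
    intro b v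
    rw [hσ, hσ, map_prod]
    refine Fintype.prod_equiv (Equiv.mulLeft b⁻¹) _ _ ?_
    intro a
    simp only [Equiv.coe_mulLeft]
    have e1 : ψ a⁻¹ (ψ b v) = ψ (a⁻¹ * b) v := by rw [map_mul, MulAut.mul_apply]
    have e3 : (b⁻¹ * a)⁻¹ = a⁻¹ * b := by rw [mul_inv_rev, inv_inv]
    have e2 : ∀ Y : V, ψ b (ψ (b⁻¹ * a) Y) = ψ a Y := by
      intro Y
      rw [← MulAut.mul_apply, ← map_mul, mul_inv_cancel_left]
    rw [e1, e3, e2]
  have hπeq : ∀ (b : A) (v : V), π (ψ b v) = ψ b (π v) := by
    intro b v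
    rw [hπ, hπ, hσeq, map_pow]
  refine ⟨π.ker, ?_, ?_, ?_⟩
  · intro a u hu
    rw [MonoidHom.mem_ker] at hu ⊢
    rw [hπeq, hu, map_one]
  · rw [eq_bot_iff]
    rintro u ⟨hu1, hu2⟩
    rw [Subgroup.mem_bot, ← hπid u hu1]
    exact hu2
  · rw [eq_top_iff]
    intro v _
    have h1 : v = π v * ((π v)⁻¹ * v) := by rw [mul_inv_cancel_left]
    rw [h1]
    apply Subgroup.mul_mem_sup (hπU v)
    rw [MonoidHom.mem_ker, map_mul, map_inv, hπid _ (hπU v), inv_mul_cancel]

end Cfsg.Agent.Lib.Helper24
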