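import Mathlib
import Cfsg.Prelude.Def_OddOrderLocal
import Cfsg.Agent.Lib.Helper4.PFTypes
import Cfsg.Agent.Lib.Helper26.BGTypesA
import Cfsg.Agent.Lib.Helper26.BGTypesE

/-!
# B&G Theorem I in book form: the fields `types`, `pair`, `w2prime` of `BookBGData`

Pure glue.  Every hypothesis is the literal conclusion of a summary row of B&G sections 14-16
(`S1351`, `S1352`, `S1354`, `S1365`, `S1366`, `S1368`, `S1369`, `S1370`, `S1373`) or one of the three
type translations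

* `hI`  : `K = 1` gives (book) Type I,
* `hII` : `K ≠ 1`, `U ≠ 1` gives Type II,
* `hP`  : `K ≠ 1` gives one of the Types II-V,

for a standard factorisation `M = K U M_σ`.
-/

set_option autoImplicit false

namespace Cfsg.Agent.Lib.Helper24.BGBook

open Cfsg Cfsg.Agent.Lib.Helper4.PF Cfsg.Agent.Lib.Helper26

universe u

variable {G : Type u} [Group G]

/-- A Hall `κ(M)`-subgroup is nontrivial as soon as `κ(M)` is nonempty. -/
theorem ne_bot_of_kappa_nonempty {M K : Subgroup G} (hK : IsPiHallOf (kappa M) K M)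
    (hne : (kappa M).Nonempty) : K ≠ ⊥ := by
  obtain ⟨p, hp⟩ := hne
  intro h
  have hpM : p ∣ Nat.card M := hp.2.1
  have h1 := Cfsg.Agent.Lib.Helper23.card_mul_relIndex_of_le hK.1
  rw [h, Subgroup.card_bot, one_mul] at h1
  rw [← h1] at hpM
  exact hK.2.2 p hp.1 hp (h ▸ hpM)

/-- The `types` field: every maximal subgroup is of (book) Type I or of one of the Types II-V. -/
theorem types_of
    (h51 : ∀ M : Subgroup G, IsCoatom M →
      (∃ K : Subgroup G, IsPiHallOf (kappa M) K M) ∧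
        ∀ K : Subgroup G, IsPiHallOf (kappa M) K M → IsCyclic K)
    (h52 : ∀ M : Subgroup G, IsCoatom M → ∀ K : Subgroup G, IsCyclic K →
      IsPiHallOf (kappa M) K M → ∃ U : Subgroup G, IsSigmaDecomposition M K U)
    (hI : ∀ M : Subgroup G, IsCoatom M → ∀ K U : Subgroup G, IsSigmaDecomposition M K U →
      K = ⊥ → LitTypeI M)
    (hP : ∀ M : Subgroup G, IsCoatom M → ∀ K U : Subgroup G, IsSigmaDecomposition M K U →
      K ≠ ⊥ → IsTypeIItoV M) :
    ∀ M : Subgroup G, IsCoatom M → LitTypeI M ∨ IsTypeIItoV M := by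
  intro M hM
  obtain ⟨⟨K, hK⟩, hcyc⟩ := h51 M hM
  obtain ⟨U, hKU⟩ := h52 M hM K (hcyc K hK) hK
  by_cases hK1 : K = ⊥
  · exact Or.inl (hI M hM K U hKU hK1)
  · exact Or.inr (hP M hM K U hKU hK1)

/-- The `pair` field of `BookBGData` (B&G Theorem I, second half). -/
theorem pair_of [Finite G]
    (h51 : ∀ M : Subgroup G, IsCoatom M →
      (∃ K : Subgroup G, IsPiHallOf (kappa M) K M) ∧
        ∀ K : Subgroup G, IsPiHallOf (kappa M) K M → IsCyclic K)
    (h52 : ∀ M : Subgroup G, IsCoatom M → ∀ K : Subgroup G, IsCyclic K →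
      IsPiHallOf (kappa M) K M → ∃ U : Subgroup G, IsSigmaDecomposition M K U)
    (h54 : ∀ M : Subgroup G, IsCoatom M → ∀ K : Subgroup G, IsCyclic K →
      IsPiHallOf (kappa M) K M →
      sigmaCore M ⊓ Subgroup.centralizer (K : Set G) ≠ ⊥)
    (h65 : ∀ M : Subgroup G, IsCoatom M → ∀ K U : Subgroup G, IsSigmaDecomposition M K U →
      K ≠ ⊥ → ⁅M, M⁆ = U ⊔ sigmaCore M)
    (h66 : ∀ M : Subgroup G, IsCoatom M → ∀ K U : Subgroup G, IsSigmaDecomposition M K U →
      K ≠ ⊥ → ∃ Mstar : Subgroup G, IsCoatom Mstar ∧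
        K = sigmaCore Mstar ⊓ Subgroup.centralizer
          ((sigmaCore M ⊓ Subgroup.centralizer (K : Set G) : Subgroup G) : Set G) ∧
        IsPiHallOf (kappa Mstar) (sigmaCore M ⊓ Subgroup.centralizer (K : Set G)) Mstar)
    (h68 : ∀ M : Subgroup G, IsCoatom M → ∀ K U : Subgroup G, IsSigmaDecomposition M K U →
      K ≠ ⊥ → ∀ Mstar : Subgroup G, IsCoatom Mstar →
      K = sigmaCore Mstar ⊓ Subgroup.centralizer
          ((sigmaCore M ⊓ Subgroup.centralizer (K : Set G) : Subgroup G) : Set G) →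
      IsPiHallOf (kappa Mstar) (sigmaCore M ⊓ Subgroup.centralizer (K : Set G)) Mstar →
      M ⊓ Mstar = K ⊔ (sigmaCore M ⊓ Subgroup.centralizer (K : Set G)) ∧
        IsCyclic ↥(K ⊔ (sigmaCore M ⊓ Subgroup.centralizer (K : Set G))))
    (h69 : ∀ M : Subgroup G, IsCoatom M → ∀ K U : Subgroup G, IsSigmaDecomposition M K U →
      K ≠ ⊥ → ∀ Mstar : Subgroup G, IsCoatom Mstar →
      K = sigmaCore Mstar ⊓ Subgroup.centralizer
          ((sigmaCore M ⊓ Subgroup.centralizer (K : Set G) : Subgroup G) : Set G) →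
      IsPiHallOf (kappa Mstar) (sigmaCore M ⊓ Subgroup.centralizer (K : Set G)) Mstar →
      (U ≠ ⊥ ∨ ∀ Ustar : Subgroup G,
          IsSigmaDecomposition Mstar (sigmaCore M ⊓ Subgroup.centralizer (K : Set G)) Ustar →
          Ustar ≠ ⊥) ∧
        ∀ H : Subgroup G, IsCoatom H → (kappa H).Nonempty →
          ∃ g : G, H = M.map (MulAut.conj g).toMonoidHom ∨
            H = Mstar.map (MulAut.conj g).toMonoidHom)
    (h70 : ∀ M : Subgroup G, IsCoatom M → ∀ K U : Subgroup G, IsSigmaDecomposition M K U →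
      K ≠ ⊥ →
      IsTISubset ((↑(K ⊔ (sigmaCore M ⊓ Subgroup.centralizer (K : Set G))) : Set G) \
          ((K : Set G) ∪ ↑(sigmaCore M ⊓ Subgroup.centralizer (K : Set G)))) ∧
        Subgroup.normalizer ((↑(K ⊔ (sigmaCore M ⊓ Subgroup.centralizer (K : Set G))) : Set G) \
          ((K : Set G) ∪ ↑(sigmaCore M ⊓ Subgroup.centralizer (K : Set G)))) =
          K ⊔ (sigmaCore M ⊓ Subgroup.centralizer (K : Set G)))
    (hI : ∀ M : Subgroup G, IsCoatom M → ∀ K U : Subgroup G, IsSigmaDecomposition M K U →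
      K = ⊥ → LitTypeI M)
    (hII : ∀ M : Subgroup G, IsCoatom M → ∀ K U : Subgroup G, IsSigmaDecomposition M K U →
      K ≠ ⊥ → U ≠ ⊥ → IsOfTypeII M)
    (hP : ∀ M : Subgroup G, IsCoatom M → ∀ K U : Subgroup G, IsSigmaDecomposition M K U →
      K ≠ ⊥ → IsTypeIItoV M) :
    (∀ M : Subgroup G, IsCoatom M → LitTypeI M) ∨
      ∃ W₁ W₂ S T : Subgroup G, IsSelfNormalizingCyclic W₁ W₂ ∧ IsCoatom S ∧ IsCoatom T ∧
        IsComplIn ⁅S, S⁆ W₁ S ∧ IsComplIn ⁅T, T⁆ W₂ T ∧ S ⊓ T = W₁ ⊔ W₂ ∧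
        (IsOfTypeII S ∨ IsOfTypeII T) ∧ IsTypeIItoV S ∧ IsTypeIItoV T ∧
        ∀ M : Subgroup G, IsCoatom M → LitTypeI M ∨ ∃ g : G, M = conjSub g S ∨ M = conjSub g T := by
  -- the Type I alternative for a maximal subgroup with `κ` empty
  have hempty : ∀ H : Subgroup G, IsCoatom H → ¬ (kappa H).Nonempty → LitTypeI H := by
    intro H hH hne
    obtain ⟨⟨K, hK⟩, hcyc⟩ := h51 H hH
    obtain ⟨U, hKU⟩ := h52 H hH K (hcyc K hK) hK
    refine hI H hH K U hKU ?_
    by_contra hK1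
    exact hne (BGTypes.kappa_nonempty_of_ne_bot hK hK1)
  by_cases hall : ∀ M : Subgroup G, IsCoatom M → ¬ (kappa M).Nonempty
  · exact Or.inl (fun M hM => hempty M hM (hall M hM))
  · right
    push Not at hall
    obtain ⟨M, hM, hne⟩ := hall
    obtain ⟨⟨K, hK⟩, hcyc⟩ := h51 M hM
    obtain ⟨U, hKU⟩ := h52 M hM K (hcyc K hK) hK
    have hK1 : K ≠ ⊥ := ne_bot_of_kappa_nonempty hK hne
    obtain ⟨Ms, hMs, hKst, hKstH⟩ := h66 M hM K U hKU hK1
    set Ks : Subgroup G := sigmaCore M ⊓ Subgroup.centralizer (K : Set G) with hKsdef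
    have hKs1 : Ks ≠ ⊥ := h54 M hM K (hcyc K hK) hK
    have hKscyc : IsCyclic Ks := (h51 Ms hMs).2 Ks hKstH
    obtain ⟨Us, hKUs⟩ := h52 Ms hMs Ks hKscyc hKstH
    obtain ⟨hinf, hZcyc⟩ := h68 M hM K U hKU hK1 Ms hMs hKst hKstH
    obtain ⟨hUU, hconj⟩ := h69 M hM K U hKU hK1 Ms hMs hKst hKstH
    refine ⟨K, Ks, M, Ms, ?_, hM, hMs, ?_, ?_, hinf, ?_, hP M hM K U hKU hK1,
      hP Ms hMs Ks Us hKUs hKs1, ?_⟩
    · exact BGTypes.isSelfNormalizingCyclic_of hK hK1 hKs1 hZcyc (h70 M hM K U hKU hK1)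
    · exact BGTypes.isComplIn_commutator hKU (h65 M hM K U hKU hK1)
    · exact BGTypes.isComplIn_commutator hKUs (h65 Ms hMs Ks Us hKUs hKs1)
    · rcases hUU with hU | hU
      · exact Or.inl (hII M hM K U hKU hK1 hU)
      · exact Or.inr (hII Ms hMs Ks Us hKUs hKs1 (hU Us hKUs))
    · intro H hH
      by_cases hHne : (kappa H).Nonempty
      · exact Or.inr (hconj H hH hHne)
      · exact Or.inl (hempty H hH hHne)

/-- Conjugating `C_{M'}(x)` by `c ∈ M`. -/
theorem commutator_inf_centralizer_conj {M : Subgroup G} {c x : G} (hc : c ∈ M) :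
    ⁅M, M⁆ ⊓ Subgroup.centralizer ({c * x * c⁻¹} : Set G) =
      (⁅M, M⁆ ⊓ Subgroup.centralizer ({x} : Set G)).map (MulAut.conj c).toMonoidHom := by
  have hn : ∀ m ∈ M, ∀ y ∈ ⁅M, M⁆, m * y * m⁻¹ ∈ ⁅M, M⁆ := by
    intro m hm y hy
    have hnorm : (⁅M, M⁆.subgroupOf M).Normal := by
      rw [Subgroup.normal_subgroupOf_iff_le_normalizer (Subgroup.commutator_le_self M)]
      intro g hg
      rw [Subgroup.mem_normalizer_iff]
      intro h
      constructor
      · intro hh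
        have : ⁅M, M⁆.map (MulAut.conj g).toMonoidHom = ⁅M, M⁆ := by
          rw [Subgroup.map_commutator]
          have hM' : M.map (MulAut.conj g).toMonoidHom = M := by
            ext z
            rw [Subgroup.mem_map]
            constructor
            · rintro ⟨w, hw, rfl⟩
              exact M.mul_mem (M.mul_mem hg hw) (M.inv_mem hg)
            · intro hz
              exact ⟨g⁻¹ * z * g, M.mul_mem (M.mul_mem (M.inv_mem hg) hz) hg, by
                simp [MulAut.conj_apply, mul_assoc]⟩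
          rw [hM']
        rw [← this]
        exact ⟨h, hh, rfl⟩
      · intro hh
        have : ⁅M, M⁆.map (MulAut.conj g⁻¹).toMonoidHom = ⁅M, M⁆ := by
          rw [Subgroup.map_commutator]
          have hM' : M.map (MulAut.conj g⁻¹).toMonoidHom = M := by
            ext z
            rw [Subgroup.mem_map]
            constructor
            · rintro ⟨w, hw, rfl⟩
              exact M.mul_mem (M.mul_mem (M.inv_mem hg) hw) (M.inv_mem (M.inv_mem hg))
            · intro hz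
              exact ⟨g * z * g⁻¹, M.mul_mem (M.mul_mem hg hz) (M.inv_mem hg), by
                simp [mul_assoc]⟩
          rw [hM']
        have h2 : (MulAut.conj g⁻¹).toMonoidHom (g * h * g⁻¹) ∈ ⁅M, M⁆ := by
          rw [← this]
          exact ⟨_, hh, rfl⟩
        simpa [MulAut.conj_apply, mul_assoc] using h2
    have := hnorm.conj_mem ⟨y, Subgroup.commutator_le_self M hy⟩
      (Subgroup.mem_subgroupOf.2 hy) ⟨m, hm⟩
    exact Subgroup.mem_subgroupOf.1 this
  ext y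
  rw [Subgroup.mem_map]
  constructor
  · rintro ⟨hy1, hy2⟩
    refine ⟨c⁻¹ * y * c, ⟨?_, ?_⟩, by simp [MulAut.conj_apply, mul_assoc]⟩
    · have := hn c⁻¹ (M.inv_mem hc) y hy1
      simpa using this
    · show c⁻¹ * y * c ∈ Subgroup.centralizer ({x} : Set G)
      rw [Subgroup.mem_centralizer_iff]
      intro z hz
      rw [Set.mem_singleton_iff] at hz
      subst hz
      have h1 := (Subgroup.mem_centralizer_iff.1 hy2) (c * z * c⁻¹) rfl
      have e1 : z * (c⁻¹ * y * c) = c⁻¹ * ((c * z * c⁻¹) * y) * c := by group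
      have e2 : (c⁻¹ * y * c) * z = c⁻¹ * (y * (c * z * c⁻¹)) * c := by group
      rw [e1, e2, h1]
  · rintro ⟨w, ⟨hw1, hw2⟩, rfl⟩
    refine ⟨?_, ?_⟩
    · exact hn c hc w hw1
    · show (MulAut.conj c).toMonoidHom w ∈ Subgroup.centralizer ({c * x * c⁻¹} : Set G)
      rw [Subgroup.mem_centralizer_iff]
      intro z hz
      rw [Set.mem_singleton_iff] at hz
      subst hz
      have h1 := (Subgroup.mem_centralizer_iff.1 hw2) x rfl
      show c * x * c⁻¹ * (c * w * c⁻¹) = c * w * c⁻¹ * (c * x * c⁻¹)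
      have e1 : c * x * c⁻¹ * (c * w * c⁻¹) = c * (x * w) * c⁻¹ := by group
      have e2 : c * w * c⁻¹ * (c * x * c⁻¹) = c * (w * x) * c⁻¹ := by group
      rw [e1, e2, h1]

/-- The `w2prime` field of `BookBGData`: for a maximal subgroup with type-P data `(W₁, U, W₂)` which
is not of Type II, `W₂` has prime order. -/
theorem w2prime_of [Finite G] (hG : IsMinSimpleOddOrder G)
    (h51 : ∀ M : Subgroup G, IsCoatom M →
      (∃ K : Subgroup G, IsPiHallOf (kappa M) K M) ∧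
        ∀ K : Subgroup G, IsPiHallOf (kappa M) K M → IsCyclic K)
    (h52 : ∀ M : Subgroup G, IsCoatom M → ∀ K : Subgroup G, IsCyclic K →
      IsPiHallOf (kappa M) K M → ∃ U : Subgroup G, IsSigmaDecomposition M K U)
    (h54 : ∀ M : Subgroup G, IsCoatom M → ∀ K : Subgroup G, IsCyclic K →
      IsPiHallOf (kappa M) K M → K ≠ ⊥ → ∀ k ∈ K, k ≠ 1 →
        M ⊓ Subgroup.centralizer ({k} : Set G) =
          K ⊔ (sigmaCore M ⊓ Subgroup.centralizer (K : Set G)))
    (h65 : ∀ M : Subgroup G, IsCoatom M → ∀ K U : Subgroup G, IsSigmaDecomposition M K U →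
      K ≠ ⊥ → ⁅M, M⁆ = U ⊔ sigmaCore M)
    (h73 : ∀ M : Subgroup G, IsCoatom M → ∀ K U : Subgroup G, IsSigmaDecomposition M K U →
      K ≠ ⊥ → U = ⊥ → (Nat.card ↥(sigmaCore M ⊓ Subgroup.centralizer (K : Set G))).Prime)
    (hI : ∀ M : Subgroup G, IsCoatom M → ∀ K U : Subgroup G, IsSigmaDecomposition M K U →
      K = ⊥ → LitTypeI M)
    (hII : ∀ M : Subgroup G, IsCoatom M → ∀ K U : Subgroup G, IsSigmaDecomposition M K U →
      K ≠ ⊥ → U ≠ ⊥ → IsOfTypeII M) :
    ∀ M W₁ U W₂ : Subgroup G, IsCoatom M → IsTypePWith M W₁ U W₂ → ¬ IsOfTypeII M →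
      (Nat.card W₂).Prime := by
  intro M W₁ U' W₂ hM hP hnII
  obtain ⟨⟨K, hK⟩, hcyc⟩ := h51 M hM
  obtain ⟨U, hKU⟩ := h52 M hM K (hcyc K hK) hK
  have hK1 : K ≠ ⊥ := by
    intro hK1
    exact PFEight.not_typeF_of_typeP (hI M hM K U hKU hK1).1 hP
  have hU1 : U = ⊥ := by
    by_contra hU1
    exact hnII (hII M hM K U hKU hK1 hU1)
  have hprime := h73 M hM K U hKU hK1 hU1
  have hD := h65 M hM K U hKU hK1
  have hc1 : IsComplIn ⁅M, M⁆ K M := BGTypes.isComplIn_commutator hKU hD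
  have hc2 : IsComplIn ⁅M, M⁆ W₁ M := hP.W₁_compl
  have hsolv : Group.IsSolvable ↥M := by
    apply hG.2.2.2
    exact hM.1
  have hcop : (Nat.card ↥⁅M, M⁆).Coprime (Nat.card ↥W₁) := by
    have h1 := hP.W₁_hall
    rw [PFEight.relIndex_of_isComplIn hc2] at h1
    exact h1.symm
  obtain ⟨c, hcM, hcK⟩ := BGTypes.exists_conj_of_isComplIn hsolv hc2 hc1 hcop
  -- a non-identity element of `W₁`
  obtain ⟨x, hxW, hx1⟩ : ∃ x ∈ W₁, x ≠ 1 := by
    by_contra h
    push Not at h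
    exact hP.W₁_ne ((Subgroup.eq_bot_iff_forall _).2 h)
  have hkK : c * x * c⁻¹ ∈ K := by
    rw [hcK]
    exact ⟨x, hxW, rfl⟩
  have hk1 : c * x * c⁻¹ ≠ 1 := by
    intro h
    apply hx1
    have : x = c⁻¹ * (c * x * c⁻¹) * c := by group
    rw [this, h]; group
  have hSM : sigmaCore M ≤ ⁅M, M⁆ := hD ▸ le_sup_right
  have e1 := BGTypes.commutator_inf_centralizer_eq hc1.2.2.1 hSM
    (h54 M hM K (hcyc K hK) hK hK1) (c * x * c⁻¹) hkK hk1
  have e2 := hP.W₂_centralizer x hxW hx1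
  rw [commutator_inf_centralizer_conj hcM, e2] at e1
  have hcard : Nat.card ↥W₂ =
      Nat.card ↥(sigmaCore M ⊓ Subgroup.centralizer (K : Set G)) := by
    rw [← e1]
    exact (Nat.card_congr
      (W₂.equivMapOfInjective (MulAut.conj c).toMonoidHom (MulAut.conj c).injective).toEquiv)
  rw [hcard]
  exact hprime

end Cfsg.Agent.Lib.Helper24.BGBook
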