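import Mathlib
import Cfsg.Agent.Lib.Helper4.PFTypes
import Cfsg.Agent.Lib.Helper26.BGBookTypes
import Cfsg.Agent.Lib.Helper24.BGBookPair

/-!
# `BookBGData G` from the literal summary rows of B&G sections 14-16

Final glue for the interface between the local analysis and the character theory: every field of
`Cfsg.Agent.Lib.Helper4.PF.BookBGData` from the literal bodies `StmtNNNN G` of the summary rows
(`Lib/Helper4/PFInterface.lean`), the two section 15 rows `BGTypes.Stmt1437`, `BGTypes.Stmt1440w`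
(helper26, `Lib/Helper26/BGTypesF/G.lean`) and the `tame` field (B&G Theorem II in book form) as an
explicit hypothesis.
-/

set_option autoImplicit false

namespace Cfsg.Agent.Lib.Helper24.BGBook

open Cfsg Cfsg.Agent.Lib.Helper4.PF Cfsg.Agent.Lib.Helper26 Cfsg.Agent.Lib.Helper26.BGTypes

universe u

variable {G : Type u} [Group G] [Finite G]

/-- `K ≠ 1`, `U ≠ 1` gives Type II (from the literal rows). -/
theorem typeII_of_rows (hG : IsMinSimpleOddOrder G)
    (h54 : Stmt1354 G) (h55 : Stmt1355 G) (h56 : Stmt1356 G) (h57 : Stmt1357 G)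
    (h59 : Stmt1359 G) (h60 : Stmt1360 G) (h63 : Stmt1363 G) (h64 : Stmt1364 G)
    (h65 : Stmt1365 G) (h66 : Stmt1366 G) (h68 : Stmt1368 G) (h70 : Stmt1370 G)
    (h72 : Stmt1372 G) :
    ∀ M : Subgroup G, IsCoatom M → ∀ K U : Subgroup G, IsSigmaDecomposition M K U →
      K ≠ ⊥ → U ≠ ⊥ → IsOfTypeII M := by
  intro M hM K U hKU hK1 hU1
  exact (s1381_of hG h54 h55 h56 h57 h59 h60 h63 h64 h65 h66 h68 h70 h72
    M hM K U hKU).2 ⟨hK1, hU1⟩

/-- `K ≠ 1` gives one of the Types II-V (from the literal rows). -/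
theorem typeIItoV_of_rows (hG : IsMinSimpleOddOrder G)
    (h54 : Stmt1354 G) (h55 : Stmt1355 G) (h56 : Stmt1356 G) (h57 : Stmt1357 G)
    (h59 : Stmt1359 G) (h60 : Stmt1360 G) (h63 : Stmt1363 G) (h64 : Stmt1364 G)
    (h65 : Stmt1365 G) (h66 : Stmt1366 G) (h68 : Stmt1368 G) (h70 : Stmt1370 G)
    (h72 : Stmt1372 G) (h37 : Stmt1437 G) (h40 : Stmt1440w G) :
    ∀ M : Subgroup G, IsCoatom M → ∀ K U : Subgroup G, IsSigmaDecomposition M K U →
      K ≠ ⊥ → IsTypeIItoV M := by
  intro M hM K U hKU hK1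
  by_cases hU1 : U = ⊥
  · by_cases hFS : fittingHallOf M = sigmaCore M
    · right; right; right
      exact (s1383_of' hG h54 h55 h56 h57 h59 h60 h64 h65 h66 h68 h70 h40 M hM K U hKU).2
        ⟨hK1, hU1, hFS⟩
    · rcases (s1382_of hG h54 h55 h56 h57 h59 h60 h63 h64 h65 h66 h68 h70 h37
        M hM K U hKU).2 ⟨hK1, hU1, hFS⟩ with h | h
      · exact Or.inr (Or.inl h)
      · exact Or.inr (Or.inr (Or.inl h))
  · left
    exact typeII_of_rows hG h54 h55 h56 h57 h59 h60 h63 h64 h65 h66 h68 h70 h72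
      M hM K U hKU hK1 hU1

/-- **`BookBGData G` from the literal summary rows** and the `tame` field. -/
theorem bookBGData_of (hG : IsMinSimpleOddOrder G)
    (h50 : Stmt1350 G) (h51 : Stmt1351 G) (h52 : Stmt1352 G) (h54 : Stmt1354 G)
    (h55 : Stmt1355 G) (h56 : Stmt1356 G) (h57 : Stmt1357 G) (h58 : Stmt1358 G)
    (h59 : Stmt1359 G) (h60 : Stmt1360 G) (h61 : Stmt1361 G) (h62 : Stmt1362 G)
    (h63 : Stmt1363 G) (h64 : Stmt1364 G) (h65 : Stmt1365 G) (h66 : Stmt1366 G)
    (h68 : Stmt1368 G) (h69 : Stmt1369 G) (h70 : Stmt1370 G) (h72 : Stmt1372 G)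
    (h73 : Stmt1373 G) (h78 : Stmt1378 G) (h79 : Stmt1379 G) (h84 : Stmt1384 G)
    (h37 : Stmt1437 G) (h40 : Stmt1440w G)
    (htame : ∀ (M : Subgroup G), IsCoatom M → ∀ X : Set G, (X = litA M ∨ X = litA0 M) →
      (∀ x ∈ X, ∀ g : G, g * x * g⁻¹ ∈ X → ∃ m ∈ M, m * x * m⁻¹ = g * x * g⁻¹) ∧
      (∀ x ∈ X, ¬ Subgroup.centralizer ({x} : Set G) ≤ M →
        x ∈ typeA1 M ∧ ∃! L : Subgroup G, IsCoatom L ∧ Subgroup.centralizer ({x} : Set G) ≤ L) ∧
      ∀ x ∈ X, ¬ Subgroup.centralizer ({x} : Set G) ≤ M → ∀ L : Subgroup G, IsCoatom L →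
        Subgroup.centralizer ({x} : Set G) ≤ L →
        IsComplIn (fittingHallOf L) (M ⊓ L) L ∧
        Subgroup.centralizer ({x} : Set G) ≤ Subgroup.normalizer
          ((fittingHallOf L ⊓ Subgroup.centralizer ({x} : Set G) : Subgroup G) : Set G) ∧
        IsComplIn (fittingHallOf L ⊓ Subgroup.centralizer ({x} : Set G))
          (M ⊓ Subgroup.centralizer ({x} : Set G)) (Subgroup.centralizer ({x} : Set G)) ∧
        (∀ y ∈ X, (Nat.card (fittingHallOf L)).Coprime
          (Nat.card ↥(M ⊓ Subgroup.centralizer ({y} : Set G)))) ∧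
        (x ∈ litA L ∧ x ∉ typeA1 L) ∧
        (LitTypeI L ∨ IsOfTypeII L) ∧
        (IsOfTypeII L → IsFrobWithFittingHall M)) :
    BookBGData G := by
  have hI := Cfsg.Agent.Lib.Helper26.BGBook.litTypeI_of_kappa_empty hG h55 h57 h59 h60 h40
  have hII := typeII_of_rows hG h54 h55 h56 h57 h59 h60 h63 h64 h65 h66 h68 h70 h72
  have hP := typeIItoV_of_rows hG h54 h55 h56 h57 h59 h60 h63 h64 h65 h66 h68 h70 h72 h37 h40
  have h52' : ∀ M : Subgroup G, IsCoatom M → ∀ K : Subgroup G, IsCyclic K →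
      IsPiHallOf (kappa M) K M → ∃ U : Subgroup G, IsSigmaDecomposition M K U :=
    fun M hM K hKc hK => (h52 M hM K hKc hK).1
  exact
    { types := Cfsg.Agent.Lib.Helper26.BGBook.types_of hG h51 h52 h54 h55 h56 h57 h59 h60 h63
        h64 h65 h66 h68 h70 h72 h37 h40
      pair := pair_of h51 h52'
        (fun M hM K hKc hK => (h54 M hM K hKc hK).1)
        (fun M hM K U hKU hK1 => (h65 M hM K U hKU hK1).1)
        (fun M hM K U hKU hK1 => (h66 M hM K U hKU hK1).exists)
        h68 h69 h70 hI hII hP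
      w2prime := w2prime_of hG h51 h52'
        (fun M hM K hKc hK => (h54 M hM K hKc hK).2)
        (fun M hM K U hKU hK1 => (h65 M hM K U hKU hK1).1)
        h73 hI hII
      tame := htame
      core := h55
      sigmaPrimes := h78
      partition := h79
      hallFusion := h84
      sylowNormalizers := s1389_of hG h50 h51 h52 h55 h57 h59 h60 h63 h65
      compl := Cfsg.Agent.Lib.Helper26.BGBook.compl_of hG h51 h52 h55 h57 h58 h59 h60 h61 h62
        h64 h65 }

end Cfsg.Agent.Lib.Helper24.BGBook
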