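import Mathlib
import Cfsg.Agent.Lib.Helper24.BGBookData
import Cfsg.Agent.Lib.Helper10.BGTameH

/-!
# `BookBGData G` from the literal summary rows only (the `tame` field from helper10's `tame_of`)
-/

set_option autoImplicit false

namespace Cfsg.Agent.Lib.Helper24.BGBook

open Cfsg Cfsg.Agent.Lib.Helper4.PF Cfsg.Agent.Lib.Helper26 Cfsg.Agent.Lib.Helper26.BGTypes
  Cfsg.Agent.Lib.Helper10.BGTame

universe u

variable {G : Type u} [Group G] [Finite G]

/-- **`BookBGData G` from the literal summary rows** of B&G sections 14-16, with section 15 entering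
through `Stmt1437` (15.2) and `Stmt1440w` (15.7, book form). -/
theorem bookBGData_of_rows (hG : IsMinSimpleOddOrder G)
    (h50 : Stmt1350 G) (h51 : Stmt1351 G) (h52 : Stmt1352 G) (h54 : Stmt1354 G)
    (h55 : Stmt1355 G) (h56 : Stmt1356 G) (h57 : Stmt1357 G) (h58 : Stmt1358 G)
    (h59 : Stmt1359 G) (h60 : Stmt1360 G) (h61 : Stmt1361 G) (h62 : Stmt1362 G)
    (h63 : Stmt1363 G) (h64 : Stmt1364 G) (h65 : Stmt1365 G) (h66 : Stmt1366 G)
    (h68 : Stmt1368 G) (h69 : Stmt1369 G) (h70 : Stmt1370 G) (h72 : Stmt1372 G)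
    (h73 : Stmt1373 G) (h74 : Stmt1374 G) (h75 : Stmt1375 G) (h76 : Stmt1376 G)
    (h78 : Stmt1378 G) (h79 : Stmt1379 G) (h84 : Stmt1384 G)
    (h32 : H1432 G) (h36 : H1436 G)
    (h37 : Stmt1437 G) (h40 : Stmt1440w G) :
    BookBGData G := by
  have h81 : Stmt1381 G :=
    s1381_of hG h54 h55 h56 h57 h59 h60 h63 h64 h65 h66 h68 h70 h72
  have h82 : Stmt1382 G :=
    s1382_of hG h54 h55 h56 h57 h59 h60 h63 h64 h65 h66 h68 h70 h37
  have h83 : Stmt1383 G :=
    s1383_of' hG h54 h55 h56 h57 h59 h60 h64 h65 h66 h68 h70 h40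
  have htypes := Cfsg.Agent.Lib.Helper26.BGBook.types_of hG h51 h52 h54 h55 h56 h57 h59 h60 h63
    h64 h65 h66 h68 h70 h72 h37 h40
  exact bookBGData_of hG h50 h51 h52 h54 h55 h56 h57 h58 h59 h60 h61 h62 h63 h64 h65 h66 h68 h69
    h70 h72 h73 h78 h79 h84 h37 h40
    (tame_of hG h50 h51 h52 h55 h57 h65 h74 h75 h76 h78 h81 h82 h83 h32 h36 htypes)

end Cfsg.Agent.Lib.Helper24.BGBook
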