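import Mathlib
import Cfsg.Agent.S0128
import Cfsg.Agent.Lib.Helper24.ExtraSp
import Cfsg.Agent.Lib.Helper24.MetaOfHP

/-!
# Extraspecial `Ω₁` in a rank two `p`-group: the configuration (helper24)

`ESConfig p K`: `E` is the set of elements of order dividing `p` of `K`, a normal non-abelian
subgroup of order `p ^ 3`, with centre `Z₁` of order `p` central in `K`.
-/

set_option autoImplicit false

open scoped commutatorElement

namespace Cfsg.Agent.Lib.Helper24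

universe u

structure ESConfig (p : ℕ) (K : Type u) [Group K] where
  E : Subgroup K
  Z₁ : Subgroup K
  hEn : E.Normal
  hEmem : ∀ x, x ∈ E ↔ x ^ p = 1
  hEcard : Nat.card E = p ^ 3
  hZ₁mem : ∀ x, x ∈ Z₁ ↔ x ∈ E ∧ ∀ y ∈ E, y * x = x * y
  hZ₁card : Nat.card Z₁ = p
  hZ₁cen : Z₁ ≤ Subgroup.center K
  hEcomm : ∀ x ∈ E, ∀ y ∈ E, ⁅x, y⁆ ∈ Z₁

namespace ESConfig

variable {p : ℕ} {K : Type u} [Group K] (c : ESConfig p K)

theorem z_comm {z : K} (hz : z ∈ c.Z₁) (g : K) : g * z = z * g :=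
  Subgroup.mem_center_iff.mp (c.hZ₁cen hz) g

theorem Z₁_le_E : c.Z₁ ≤ c.E := fun x hx => ((c.hZ₁mem x).mp hx).1

theorem Z₁_normal : c.Z₁.Normal := normal_of_le_center' c.Z₁ c.hZ₁cen

/-- The elements acting trivially on `E / Z₁`. -/
def D : Subgroup K where
  carrier := {g | ∀ x ∈ c.E, ⁅x, g⁆ ∈ c.Z₁}
  one_mem' := by
    intro x _
    rw [commutatorElement_one_right]
    exact c.Z₁.one_mem
  mul_mem' := by
    intro g h hg hh x hx
    rw [commutatorElement_mul_right_eq_mul_conj]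
    have h1 := hg x hx
    have h2 := hh x hx
    have e : ⁅x, g⁆ * g * ⁅x, h⁆ * g⁻¹ = ⁅x, g⁆ * ⁅x, h⁆ := by
      rw [mul_assoc ⁅x, g⁆, c.z_comm h2 g]
      group
    rw [e]
    exact c.Z₁.mul_mem h1 h2
  inv_mem' := by
    intro g hg x hx
    rw [commutatorElement_inv_right]
    have h1 : ⁅g, x⁆ ∈ c.Z₁ := by
      rw [← commutatorElement_inv]
      exact c.Z₁.inv_mem (hg x hx)
    have e : g⁻¹ * ⁅g, x⁆ * g = ⁅g, x⁆ := by
      rw [mul_assoc, ← c.z_comm h1 g]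
      group
    rw [e]
    exact h1

theorem mem_D {g : K} : g ∈ c.D ↔ ∀ x ∈ c.E, ⁅x, g⁆ ∈ c.Z₁ := Iff.rfl

/-- The preimage in `E` of the fixed points of `K` on `E / Z₁`. -/
def ZL : Subgroup K where
  carrier := {x | x ∈ c.E ∧ ∀ g : K, ⁅x, g⁆ ∈ c.Z₁}
  one_mem' := by
    refine ⟨c.E.one_mem, fun g => ?_⟩
    rw [commutatorElement_one_left]
    exact c.Z₁.one_mem
  mul_mem' := by
    rintro x y ⟨hx, hx'⟩ ⟨hy, hy'⟩
    refine ⟨c.E.mul_mem hx hy, fun g => ?_⟩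
    rw [commutatorElement_mul_left_eq_conj_mul]
    have e : x * ⁅y, g⁆ * x⁻¹ = ⁅y, g⁆ := by
      rw [c.z_comm (hy' g) x]
      group
    rw [e]
    exact c.Z₁.mul_mem (hy' g) (hx' g)
  inv_mem' := by
    rintro x ⟨hx, hx'⟩
    refine ⟨c.E.inv_mem hx, fun g => ?_⟩
    rw [commutatorElement_inv_left]
    have h1 : ⁅g, x⁆ ∈ c.Z₁ := by
      rw [← commutatorElement_inv]
      exact c.Z₁.inv_mem (hx' g)
    have e : x⁻¹ * ⁅g, x⁆ * x = ⁅g, x⁆ := by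
      rw [mul_assoc, ← c.z_comm h1 x]
      group
    rw [e]
    exact h1

theorem mem_ZL {x : K} : x ∈ c.ZL ↔ x ∈ c.E ∧ ∀ g : K, ⁅x, g⁆ ∈ c.Z₁ := Iff.rfl

theorem ZL_le_E : c.ZL ≤ c.E := fun _ hx => hx.1

theorem Z₁_le_ZL : c.Z₁ ≤ c.ZL := by
  intro z hz
  refine ⟨c.Z₁_le_E hz, fun g => ?_⟩
  have : ⁅z, g⁆ = 1 := commutatorElement_eq_one_iff_mul_comm.mpr (c.z_comm hz g).symm
  rw [this]
  exact c.Z₁.one_mem

theorem E_le_D : c.E ≤ c.D := fun g hg x hx => c.hEcomm x hx g hg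

theorem ZL_normal : c.ZL.Normal := by
  have := c.hEn
  constructor
  rintro x ⟨hx, hx'⟩ g
  refine ⟨c.hEn.conj_mem x hx g, fun h => ?_⟩
  -- `⁅g x g⁻¹, h⁆ = g ⁅x, g⁻¹ h g⁆ g⁻¹`
  have e : ⁅g * x * g⁻¹, h⁆ = g * ⁅x, g⁻¹ * h * g⁆ * g⁻¹ := by
    simp only [commutatorElement_def]; group
  rw [e]
  exact c.Z₁_normal.conj_mem _ (hx' _) g

/-- `C = C_K(E)`. -/
def C : Subgroup K := Subgroup.centralizer (c.E : Set K)

theorem C_le_D : c.C ≤ c.D := by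
  intro g hg x hx
  have : ⁅x, g⁆ = 1 := by
    rw [commutatorElement_eq_one_iff_mul_comm]
    exact (Subgroup.mem_centralizer_iff.mp hg x hx)
  rw [this]
  exact c.Z₁.one_mem

theorem C_normal : c.C.Normal := by
  have := c.hEn
  exact Subgroup.normal_centralizer

theorem E_inf_C : c.E ⊓ c.C = c.Z₁ := by
  ext x
  rw [Subgroup.mem_inf, c.hZ₁mem]
  constructor
  · rintro ⟨hx, hx'⟩
    exact ⟨hx, fun y hy => Subgroup.mem_centralizer_iff.mp hx' y hy⟩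
  · rintro ⟨hx, hx'⟩
    exact ⟨hx, Subgroup.mem_centralizer_iff.mpr hx'⟩

theorem pow_eq_one_of_mem_E {x : K} (hx : x ∈ c.E) : x ^ p = 1 := (c.hEmem x).mp hx

end ESConfig

end Cfsg.Agent.Lib.Helper24
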