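import Mathlib
import Cfsg.Agent.Lib.Helper24.Blackburn1

/-!
# Extraspecial `Ω₁` in a rank two `p`-group: `D = E C` and the subgroup `Z_L` (helper24)
-/

set_option autoImplicit false

open scoped commutatorElement

namespace Cfsg.Agent.Lib.Helper24

universe u

theorem card_subgroupOf_of_le {K : Type*} [Group K] {H L : Subgroup K} (h : H ≤ L) :
    Nat.card (H.subgroupOf L) = Nat.card H := by
  rw [card_subgroupOf_eq_card_inf, inf_of_le_left h]

theorem card_eq_mul_relIndex {K : Type*} [Group K] {H L : Subgroup K} (h : H ≤ L) :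
    Nat.card L = Nat.card H * H.relIndex L := by
  rw [Subgroup.relIndex, ← card_subgroupOf_of_le h, Subgroup.card_mul_index]

namespace ESConfig

variable {p : ℕ} [hp : Fact p.Prime] {K : Type u} [Group K] [Finite K] (c : ESConfig p K)

include hp

theorem E_not_le_Z₁ : ¬ c.E ≤ c.Z₁ := by
  intro h
  have h1 := Subgroup.card_le_of_le h
  rw [c.hEcard, c.hZ₁card] at h1
  have h2 : p ^ 1 < p ^ 3 := Nat.pow_lt_pow_right hp.out.one_lt (by norm_num)
  rw [pow_one] at h2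
  omega

theorem E_not_comm : ¬ ∀ x ∈ c.E, ∀ y ∈ c.E, x * y = y * x := by
  intro h
  apply c.E_not_le_Z₁
  intro x hx
  rw [c.hZ₁mem]
  exact ⟨hx, fun y hy => h y hy x hx⟩

/-- `D = E C`. -/
theorem D_eq (hK : IsPGroup p K) : c.D = c.E ⊔ c.C := by
  have hle : c.E ⊔ c.C ≤ c.D := sup_le c.E_le_D c.C_le_D
  symm
  apply Subgroup.eq_of_le_of_card_ge hle
  -- generators of `E`
  obtain ⟨e₁, he₁E, he₁Z⟩ : ∃ e₁ ∈ c.E, e₁ ∉ c.Z₁ := by
    by_contra hcon
    push Not at hcon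
    exact c.E_not_le_Z₁ hcon
  set Y₁ := Subgroup.closure ((c.Z₁ : Set K) ∪ {e₁}) with hY₁
  have hY₁E : Y₁ ≤ c.E := by
    rw [hY₁, Subgroup.closure_le]
    rintro x (hx | hx)
    · exact c.Z₁_le_E hx
    · rw [Set.mem_singleton_iff] at hx; rw [hx]; exact he₁E
  have hY₁comm : ∀ x ∈ Y₁, ∀ y ∈ Y₁, x * y = y * x := by
    have hgen : ∀ s ∈ ((c.Z₁ : Set K) ∪ {e₁}), ∀ t ∈ ((c.Z₁ : Set K) ∪ {e₁}), s * t = t * s := by
      rintro s (hs | hs) t (ht | ht)
      · exact (c.z_comm ht s)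
      · exact (c.z_comm hs t).symm
      · exact (c.z_comm ht s)
      · rw [Set.mem_singleton_iff] at hs ht; rw [hs, ht]
    have := Subgroup.isMulCommutative_closure hgen
    intro x hx y hy
    exact setLike_mul_comm hx hy
  have hY₁ne : ¬ c.E ≤ Y₁ := by
    intro h
    exact c.E_not_comm (fun x hx y hy => hY₁comm x (h hx) y (h hy))
  obtain ⟨e₂, he₂E, he₂Y⟩ : ∃ e₂ ∈ c.E, e₂ ∉ Y₁ := by
    by_contra hcon
    push Not at hcon
    exact hY₁ne hcon
  set Y₂ := Subgroup.closure ((Y₁ : Set K) ∪ {e₂}) with hY₂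
  have hY₂E : Y₂ ≤ c.E := by
    rw [hY₂, Subgroup.closure_le]
    rintro x (hx | hx)
    · exact hY₁E hx
    · rw [Set.mem_singleton_iff] at hx; rw [hx]; exact he₂E
  have hlt1 : Nat.card c.Z₁ < Nat.card Y₁ := card_lt_card_adjoin c.Z₁ e₁ he₁Z
  have hlt2 : Nat.card Y₁ < Nat.card Y₂ := card_lt_card_adjoin Y₁ e₂ he₂Y
  have hY₂eq : Y₂ = c.E := by
    apply Subgroup.eq_of_le_of_card_ge hY₂E
    obtain ⟨k1, hk1⟩ := (hK.to_subgroup Y₁).exists_card_eq
    obtain ⟨k2, hk2⟩ := (hK.to_subgroup Y₂).exists_card_eq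
    rw [c.hZ₁card, hk1] at hlt1
    rw [hk1, hk2] at hlt2
    have h1 : 1 < k1 := by
      have : p ^ 1 < p ^ k1 := by simpa using hlt1
      exact (Nat.pow_lt_pow_iff_right hp.out.one_lt).mp this
    have h2 : k1 < k2 := (Nat.pow_lt_pow_iff_right hp.out.one_lt).mp hlt2
    rw [c.hEcard, hk2]
    exact Nat.pow_le_pow_right hp.out.pos (by omega)
  -- centralizer of `E`
  have hCeq : c.C = Subgroup.centralizer ({e₁} : Set K) ⊓ Subgroup.centralizer ({e₂} : Set K) := by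
    have hZtop : Subgroup.centralizer ((c.Z₁ : Subgroup K) : Set K) = ⊤ := by
      rw [eq_top_iff]
      intro g _
      rw [Subgroup.mem_centralizer_iff]
      intro z hz
      exact (c.z_comm hz g).symm
    unfold ESConfig.C
    conv_lhs => rw [← hY₂eq, hY₂, centralizer_adjoin, hY₁, centralizer_adjoin, hZtop, top_inf_eq]
  -- counting
  have h1 := card_dvd_card_centralizer_mul c.D c.Z₁ c.hZ₁cen e₁ (fun w hw => by
    rw [← commutatorElement_inv]
    exact c.Z₁.inv_mem (hw e₁ he₁E))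
  have h2 := card_dvd_card_centralizer_mul (c.D ⊓ Subgroup.centralizer ({e₁} : Set K)) c.Z₁
    c.hZ₁cen e₂ (fun w hw => by
      rw [← commutatorElement_inv]
      exact c.Z₁.inv_mem (hw.1 e₂ he₂E))
  have h3 : Nat.card (c.D ⊓ Subgroup.centralizer ({e₁} : Set K) ⊓
      Subgroup.centralizer ({e₂} : Set K) : Subgroup K) ∣ Nat.card c.C := by
    apply Subgroup.card_dvd_of_le
    rw [hCeq, inf_assoc]
    exact inf_le_right
  rw [c.hZ₁card] at h1 h2
  have h4 : Nat.card c.D ∣ Nat.card c.C * p * p :=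
    h1.trans (Nat.mul_dvd_mul_right (h2.trans (Nat.mul_dvd_mul_right h3 p)) p)
  -- order of `E C`
  have hCn := c.C_normal
  have h5 : Nat.card (c.C ⊔ c.E : Subgroup K) = Nat.card c.C * c.C.relIndex (c.C ⊔ c.E) :=
    card_eq_mul_relIndex le_sup_left
  rw [Subgroup.relIndex_sup_left] at h5
  have h6 : c.C.relIndex c.E = p ^ 2 := by
    have h7 : Nat.card (c.C.subgroupOf c.E) = p := by
      rw [card_subgroupOf_eq_card_inf, inf_comm, c.E_inf_C, c.hZ₁card]
    have h8 := (c.C.subgroupOf c.E).card_mul_index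
    rw [h7, c.hEcard] at h8
    have h9 : p * (c.C.subgroupOf c.E).index = p * p ^ 2 := by rw [h8]; ring
    exact Nat.eq_of_mul_eq_mul_left hp.out.pos h9
  rw [h6] at h5
  rw [sup_comm, h5]
  apply Nat.le_of_dvd (Nat.mul_pos Nat.card_pos (pow_pos hp.out.pos 2))
  have : Nat.card c.C * p ^ 2 = Nat.card c.C * p * p := by ring
  rw [this]
  exact h4

/-- All commutators of elements of `E` with elements of `K` lie in `Z_L`. -/
theorem comm_mem_ZL (hK : IsPGroup p K) {x : K} (hx : x ∈ c.E) (g : K) : ⁅x, g⁆ ∈ c.ZL := by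
  have hEn := c.hEn
  have hnil : Group.IsNilpotent K := hK.isNilpotent
  have h1 : Nat.card (⁅c.E, (⊤ : Subgroup K)⁆ : Subgroup K) ∣ p ^ 2 :=
    Cfsg.Agent.S0128.card_commutator_top_dvd hK c.E 2 (by rw [c.hEcard])
  have h2 : Nat.card (⁅⁅c.E, (⊤ : Subgroup K)⁆, (⊤ : Subgroup K)⁆ : Subgroup K) ∣ p ^ 1 :=
    Cfsg.Agent.S0128.card_commutator_top_dvd hK _ 1 h1
  have hE₁E : ⁅c.E, (⊤ : Subgroup K)⁆ ≤ c.E := Subgroup.commutator_le_left c.E ⊤
  have hE₂E : ⁅⁅c.E, (⊤ : Subgroup K)⁆, (⊤ : Subgroup K)⁆ ≤ c.E :=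
    (Subgroup.commutator_le_left _ ⊤).trans hE₁E
  have hE₂Z : ⁅⁅c.E, (⊤ : Subgroup K)⁆, (⊤ : Subgroup K)⁆ ≤ c.Z₁ := by
    by_cases hb : ⁅⁅c.E, (⊤ : Subgroup K)⁆, (⊤ : Subgroup K)⁆ = ⊥
    · rw [hb]; exact bot_le
    · obtain ⟨z', hz'mem, hz'c, hz'o⟩ := exists_central_orderOf_eq_prime hK _ hb
      have hle : Subgroup.zpowers z' ≤ ⁅⁅c.E, (⊤ : Subgroup K)⁆, (⊤ : Subgroup K)⁆ :=
        Subgroup.zpowers_le.mpr hz'mem
      have heq : Subgroup.zpowers z' = ⁅⁅c.E, (⊤ : Subgroup K)⁆, (⊤ : Subgroup K)⁆ := by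
        apply Subgroup.eq_of_le_of_card_ge hle
        rw [Nat.card_zpowers, hz'o]
        exact Nat.le_of_dvd hp.out.pos (by simpa using h2)
      intro y hy
      rw [c.hZ₁mem]
      refine ⟨hE₂E hy, fun w _ => ?_⟩
      rw [← heq] at hy
      have hyc : y ∈ Subgroup.center K := (Subgroup.zpowers_le.mpr hz'c) hy
      exact Subgroup.mem_center_iff.mp hyc w
  have hxg : ⁅x, g⁆ ∈ ⁅c.E, (⊤ : Subgroup K)⁆ :=
    Subgroup.commutator_mem_commutator hx (Subgroup.mem_top g)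
  refine ⟨hE₁E hxg, fun h => hE₂Z ?_⟩
  exact Subgroup.commutator_mem_commutator hxg (Subgroup.mem_top h)

/-- If `K` does not act trivially on `E / Z₁` then `Z_L` has order `p ^ 2`. -/
theorem card_ZL (hK : IsPGroup p K) (hD : c.D ≠ ⊤) : Nat.card c.ZL = p ^ 2 := by
  have hne1 : ¬ c.E ≤ c.ZL := by
    intro h
    apply hD
    rw [eq_top_iff]
    intro g _ x hx
    exact (h hx).2 g
  have hne2 : ¬ c.ZL ≤ c.Z₁ := by
    intro h
    apply hD
    rw [eq_top_iff]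
    intro g _ x hx
    exact h (c.comm_mem_ZL hK hx g)
  have hlt1 : Nat.card c.Z₁ < Nat.card c.ZL :=
    card_lt_of_le_of_ne c.Z₁_le_ZL (fun h => hne2 (le_of_eq h.symm))
  have hlt2 : Nat.card c.ZL < Nat.card c.E :=
    card_lt_of_le_of_ne c.ZL_le_E (fun h => hne1 (le_of_eq h.symm))
  obtain ⟨k, hk⟩ := (hK.to_subgroup c.ZL).exists_card_eq
  rw [c.hZ₁card, hk] at hlt1
  rw [c.hEcard, hk] at hlt2
  have h1 : 1 < k := by
    have : p ^ 1 < p ^ k := by simpa using hlt1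
    exact (Nat.pow_lt_pow_iff_right hp.out.one_lt).mp this
  have h2 : k < 3 := (Nat.pow_lt_pow_iff_right hp.out.one_lt).mp hlt2
  have : k = 2 := by omega
  rw [hk, this]

end ESConfig

end Cfsg.Agent.Lib.Helper24
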