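import Mathlib
import Cfsg.Agent.Lib.Helper24.Blackburn2

/-!
# Extraspecial `Ω₁` in a rank two `p`-group: the subgroups `T`, `T₀` (helper24)
-/

set_option autoImplicit false

open scoped commutatorElement

namespace Cfsg.Agent.Lib.Helper24

universe u

/-- Decomposition modulo a normal subgroup of relative index `p`. -/
theorem exists_pow_mul_of_relIndex_prime {K : Type*} [Group K] {p : ℕ} [hp : Fact p.Prime]
    (H L : Subgroup K) [hHn : H.Normal] (hidx : H.relIndex L = p) (x : K) (hxL : x ∈ L)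
    (hx : x ∉ H) (g : K) (hg : g ∈ L) : ∃ i : ℕ, ∃ h ∈ H, g = x ^ i * h := by
  have hn : (H.subgroupOf L).Normal := Subgroup.Normal.subgroupOf hHn L
  have hx' : (⟨x, hxL⟩ : L) ∉ H.subgroupOf L := by
    rw [Subgroup.mem_subgroupOf]; exact hx
  obtain ⟨i, h, hh, hgh⟩ := exists_pow_mul_of_index_prime (H.subgroupOf L) hidx ⟨x, hxL⟩ hx'
    ⟨g, hg⟩
  refine ⟨i, (h : K), Subgroup.mem_subgroupOf.mp hh, ?_⟩
  have := congrArg Subtype.val hgh
  simpa using this

namespace ESConfig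

variable {p : ℕ} [hp : Fact p.Prime] {K : Type u} [Group K] [Finite K] (c : ESConfig p K)

include hp

/-- `T = C_K(Z_L)`. -/
def T : Subgroup K := Subgroup.centralizer (c.ZL : Set K)

omit hp [Finite K] in
theorem T_normal : c.T.Normal := by
  have := c.ZL_normal
  exact Subgroup.normal_centralizer

omit hp [Finite K] in
theorem C_le_T : c.C ≤ c.T := by
  intro g hg
  rw [T, Subgroup.mem_centralizer_iff]
  intro y hy
  exact Subgroup.mem_centralizer_iff.mp hg y (c.ZL_le_E hy)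

theorem ZL_comm (hK : IsPGroup p K) (hD : c.D ≠ ⊤) {x y : K} (hx : x ∈ c.ZL) (hy : y ∈ c.ZL) :
    x * y = y * x := by
  have h1 : Nat.card c.ZL ∣ p ^ 2 := by rw [c.card_ZL hK hD]
  have := mul_comm_of_card_dvd_sq h1 (⟨x, hx⟩ : c.ZL) ⟨y, hy⟩
  exact congrArg Subtype.val this

theorem ZL_le_T (hK : IsPGroup p K) (hD : c.D ≠ ⊤) : c.ZL ≤ c.T := by
  intro x hx
  rw [T, Subgroup.mem_centralizer_iff]
  intro y hy
  exact c.ZL_comm hK hD hy hx

theorem T_inf_E (hK : IsPGroup p K) (hD : c.D ≠ ⊤)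
    (hrk : ∀ B : Subgroup K, IsMulCommutative B → (∀ x ∈ B, x ^ p = 1) → Nat.card B ≤ p ^ 2)
    {x : K} (hxT : x ∈ c.T) (hxp : x ^ p = 1) : x ∈ c.ZL := by
  have hcomm : IsMulCommutative c.ZL :=
    ⟨⟨fun a b => Subtype.ext (c.ZL_comm hK hD a.2 b.2)⟩⟩
  exact mem_of_mem_centralizer_of_rank hrk c.ZL hcomm
    (fun y hy => c.pow_eq_one_of_mem_E (c.ZL_le_E hy)) (c.card_ZL hK hD) x hxT hxp

theorem E_not_le_T (hK : IsPGroup p K) (hD : c.D ≠ ⊤)
    (hrk : ∀ B : Subgroup K, IsMulCommutative B → (∀ x ∈ B, x ^ p = 1) → Nat.card B ≤ p ^ 2) :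
    ¬ c.E ≤ c.T := by
  intro h
  have hle : c.E ≤ c.ZL := fun x hx =>
    c.T_inf_E hK hD hrk (h hx) (c.pow_eq_one_of_mem_E hx)
  have h1 := Subgroup.card_le_of_le hle
  rw [c.hEcard, c.card_ZL hK hD] at h1
  have h2 : p ^ 2 < p ^ 3 := Nat.pow_lt_pow_right hp.out.one_lt (by norm_num)
  omega

theorem T_index (hK : IsPGroup p K) (hD : c.D ≠ ⊤)
    (hrk : ∀ B : Subgroup K, IsMulCommutative B → (∀ x ∈ B, x ^ p = 1) → Nat.card B ≤ p ^ 2) :
    c.T.index = p := by
  have := c.ZL_normal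
  have hdvd : c.T.index ∣ p := index_centralizer_dvd_prime hK c.ZL (c.card_ZL hK hD)
  rcases (Nat.dvd_prime hp.out).mp hdvd with h | h
  · exfalso
    apply c.E_not_le_T hK hD hrk
    rw [Subgroup.index_eq_one.mp h]
    exact le_top
  · exact h

/-- Every element of `E` is a power of `e` times an element of `Z_L`, for `e ∈ E ∖ Z_L`. -/
theorem decomp_E (hK : IsPGroup p K) (hD : c.D ≠ ⊤)
    (hrk : ∀ B : Subgroup K, IsMulCommutative B → (∀ x ∈ B, x ^ p = 1) → Nat.card B ≤ p ^ 2)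
    {e : K} (heE : e ∈ c.E) (heZ : e ∉ c.ZL) {x : K} (hx : x ∈ c.E) :
    ∃ i : ℕ, ∃ y ∈ c.ZL, x = e ^ i * y := by
  have hTn := c.T_normal
  have heT : e ∉ c.T := fun h => heZ (c.T_inf_E hK hD hrk h (c.pow_eq_one_of_mem_E heE))
  obtain ⟨i, t, ht, hxt⟩ := exists_pow_mul_of_index_prime c.T (c.T_index hK hD hrk) e heT x
  refine ⟨i, t, ?_, hxt⟩
  have hte : t = (e ^ i)⁻¹ * x := by rw [hxt]; group
  have htE : t ∈ c.E := by
    rw [hte]
    exact c.E.mul_mem (c.E.inv_mem (c.E.pow_mem heE i)) hx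
  exact c.T_inf_E hK hD hrk ht (c.pow_eq_one_of_mem_E htE)

/-- Every element of `K` is a power of `e` times an element of `T`. -/
theorem decomp_K (hK : IsPGroup p K) (hD : c.D ≠ ⊤)
    (hrk : ∀ B : Subgroup K, IsMulCommutative B → (∀ x ∈ B, x ^ p = 1) → Nat.card B ≤ p ^ 2)
    {e : K} (heE : e ∈ c.E) (heZ : e ∉ c.ZL) (g : K) :
    ∃ i : ℕ, ∃ t ∈ c.T, g = e ^ i * t := by
  have hTn := c.T_normal
  have heT : e ∉ c.T := fun h => heZ (c.T_inf_E hK hD hrk h (c.pow_eq_one_of_mem_E heE))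
  exact exists_pow_mul_of_index_prime c.T (c.T_index hK hD hrk) e heT g

omit hp [Finite K] in
theorem D_normal : c.D.Normal := by
  have := c.hEn
  constructor
  intro g hg h x hx
  have hx' : h⁻¹ * x * h ∈ c.E := by
    have := c.hEn.conj_mem x hx h⁻¹
    simpa using this
  have e : ⁅x, h * g * h⁻¹⁆ = h * ⁅h⁻¹ * x * h, g⁆ * h⁻¹ := by
    simp only [commutatorElement_def]; group
  rw [e]
  exact c.Z₁_normal.conj_mem _ (hg _ hx') h

/-- Decomposition of `Z_L` modulo `Z₁`. -/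
theorem decomp_ZL (hK : IsPGroup p K) (hD : c.D ≠ ⊤) {l : K} (hl : l ∈ c.ZL) (hlZ : l ∉ c.Z₁)
    {y : K} (hy : y ∈ c.ZL) : ∃ j : ℕ, ∃ w ∈ c.Z₁, y = l ^ j * w := by
  have hZn := c.Z₁_normal
  have hrel : c.Z₁.relIndex c.ZL = p := by
    have h1 := card_eq_mul_relIndex c.Z₁_le_ZL
    rw [c.card_ZL hK hD, c.hZ₁card] at h1
    have h2 : p * c.Z₁.relIndex c.ZL = p * p := by rw [← h1]; ring
    exact Nat.eq_of_mul_eq_mul_left hp.out.pos h2
  exact exists_pow_mul_of_relIndex_prime c.Z₁ c.ZL hrel l hl hlZ y hy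

/-- Elements of `T ⊓ D` are products of an element of `Z_L` and an element of `C`. -/
theorem decomp_T₀ (hK : IsPGroup p K) (hD : c.D ≠ ⊤)
    (hrk : ∀ B : Subgroup K, IsMulCommutative B → (∀ x ∈ B, x ^ p = 1) → Nat.card B ≤ p ^ 2)
    {t : K} (htT : t ∈ c.T) (htD : t ∈ c.D) : ∃ y ∈ c.ZL, ∃ c' ∈ c.C, t = y * c' := by
  have hCn := c.C_normal
  rw [c.D_eq hK] at htD
  have h1 : t ∈ ((c.E ⊔ c.C : Subgroup K) : Set K) := htD
  rw [Subgroup.mul_normal] at h1
  obtain ⟨x, hx, c', hc', hxc⟩ := h1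
  refine ⟨x, ?_, c', hc', hxc.symm⟩
  have hxT : x ∈ c.T := by
    have : x = t * c'⁻¹ := by rw [← hxc]; group
    rw [this]
    exact c.T.mul_mem htT (c.T.inv_mem (c.C_le_T hc'))
  exact c.T_inf_E hK hD hrk hxT (c.pow_eq_one_of_mem_E hx)

/-- `D` has index `p`. -/
theorem D_index (hK : IsPGroup p K) (hD : c.D ≠ ⊤)
    (hrk : ∀ B : Subgroup K, IsMulCommutative B → (∀ x ∈ B, x ^ p = 1) → Nat.card B ≤ p ^ 2) :
    c.D.index = p := by
  have hZn := c.Z₁_normal
  -- an element `e ∈ E ∖ Z_L`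
  obtain ⟨e, heE, heZ⟩ : ∃ e ∈ c.E, e ∉ c.ZL := by
    by_contra hcon
    push Not at hcon
    have h1 := Subgroup.card_le_of_le (show c.E ≤ c.ZL from hcon)
    rw [c.hEcard, c.card_ZL hK hD] at h1
    have h2 : p ^ 2 < p ^ 3 := Nat.pow_lt_pow_right hp.out.one_lt (by norm_num)
    omega
  -- work in the quotient by `Z₁`
  let π := QuotientGroup.mk' c.Z₁
  have hπ : Function.Surjective π := QuotientGroup.mk'_surjective c.Z₁
  have hZLc : c.ZL.map π ≤ Subgroup.center (K ⧸ c.Z₁) := by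
    rintro _ ⟨y, hy, rfl⟩
    rw [Subgroup.mem_center_iff]
    intro g
    obtain ⟨g', rfl⟩ := hπ g
    have h1 : ⁅y, g'⁆ ∈ c.Z₁ := hy.2 g'
    have h2 : π ⁅y, g'⁆ = 1 := by
      rw [QuotientGroup.mk'_apply]; exact (QuotientGroup.eq_one_iff _).mpr h1
    rw [map_commutatorElement, commutatorElement_eq_one_iff_mul_comm] at h2
    exact h2.symm
  have hdvd := card_dvd_card_centralizer_mul (⊤ : Subgroup (K ⧸ c.Z₁)) (c.ZL.map π) hZLc (π e)
    (fun w _ => by
      obtain ⟨w', rfl⟩ := hπ w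
      rw [← map_commutatorElement]
      refine Subgroup.mem_map_of_mem _ ?_
      rw [← commutatorElement_inv]
      exact c.ZL.inv_mem (c.comm_mem_ZL hK heE w'))
  rw [top_inf_eq, Subgroup.card_top] at hdvd
  -- the centralizer of `π e` is the image of `D`
  have hcent : Subgroup.centralizer ({π e} : Set (K ⧸ c.Z₁)) ≤ c.D.map π := by
    intro g hg
    obtain ⟨g', rfl⟩ := hπ g
    refine Subgroup.mem_map_of_mem _ ?_
    intro x hx
    obtain ⟨i, y, hy, hxy⟩ := c.decomp_E hK hD hrk heE heZ hx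
    have h1 : π ⁅x, g'⁆ = 1 := by
      rw [map_commutatorElement, commutatorElement_eq_one_iff_mul_comm, hxy, map_mul, map_pow]
      have hc1 : Commute (π e) (π g') := by
        have := Subgroup.mem_centralizer_singleton_iff.mp hg
        exact this.symm
      have hc2 : Commute (π y) (π g') :=
        (Subgroup.mem_center_iff.mp (hZLc (Subgroup.mem_map_of_mem _ hy)) (π g')).symm
      exact ((hc1.pow_left i).mul_left hc2).eq
    rw [QuotientGroup.mk'_apply] at h1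
    exact (QuotientGroup.eq_one_iff _).mp h1
  have hcardZL : Nat.card (c.ZL.map π) = p := by
    have h1 : (c.ZL.map π).index = c.ZL.index :=
      Subgroup.index_map_eq c.ZL hπ (by rw [QuotientGroup.ker_mk']; exact c.Z₁_le_ZL)
    have h2 := (c.ZL.map π).card_mul_index
    have h3 := c.ZL.card_mul_index
    have h4 := Subgroup.card_eq_card_quotient_mul_card_subgroup c.Z₁
    rw [h1] at h2
    rw [c.card_ZL hK hD] at h3
    rw [c.hZ₁card] at h4
    -- card (ZL.map π) * idx = card Q, p^2 * idx = card K = card Q * p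
    have hpos : 0 < c.ZL.index := Nat.pos_of_ne_zero (Subgroup.index_ne_zero_of_finite)
    have h5 : Nat.card (c.ZL.map π) * c.ZL.index * p = p * c.ZL.index * p := by
      rw [h2, ← h4, ← h3]; ring
    have h6 : Nat.card (c.ZL.map π) * (c.ZL.index * p) = p * (c.ZL.index * p) := by
      rw [← mul_assoc, h5, mul_assoc]
    exact Nat.eq_of_mul_eq_mul_right (Nat.mul_pos hpos hp.out.pos) h6
  rw [hcardZL] at hdvd
  -- compare indices
  have hDn := c.D_normal
  have h7 : Nat.card (K ⧸ c.Z₁) ∣ Nat.card (c.D.map π) * p :=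
    hdvd.trans (Nat.mul_dvd_mul_right (Subgroup.card_dvd_of_le hcent) p)
  have h8 : (c.D.map π).index = c.D.index :=
    Subgroup.index_map_eq c.D hπ (by
      rw [QuotientGroup.ker_mk']; exact c.Z₁_le_E.trans c.E_le_D)
  have h9 := (c.D.map π).card_mul_index
  rw [h8] at h9
  rw [← h9] at h7
  have hpos : 0 < Nat.card (c.D.map π) := Nat.card_pos
  have h10 : c.D.index ∣ p := Nat.dvd_of_mul_dvd_mul_left hpos h7
  rcases (Nat.dvd_prime hp.out).mp h10 with h | h
  · exact absurd (Subgroup.index_eq_one.mp h) hD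
  · exact h

end ESConfig

end Cfsg.Agent.Lib.Helper24
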