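import Mathlib
import Cfsg.Agent.Lib.Helper24.Blackburn3
import Cfsg.Agent.Lib.Helper24.Frat

/-!
# Extraspecial `Ω₁` in a rank two `p`-group: auxiliary lemmas (helper24)

* `comm_pow_mul_pow_mul`: a bilinear commutator computation.
* facts on `frat p C` for a cyclic normal subgroup `C` of a `p`-group.
* invariance of the subgroups of an `ESConfig` under automorphisms.
-/

set_option autoImplicit false

open scoped commutatorElement

namespace Cfsg.Agent.Lib.Helper24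

universe u

/-- Bilinear commutator computation: if commutators of `X` with `Y` lie in `W`, which is
centralized by `X` and `Y`, then `⁅a ^ m * b, c ^ n * d⁆ = ⁅a, c⁆ ^ (m * n)` whenever `b` commutes
with `Y` and `d` commutes with `X`. -/
theorem comm_pow_mul_pow_mul {Q : Type*} [Group Q] (X Y W : Subgroup Q)
    (h1 : ∀ x ∈ X, ∀ y ∈ Y, ⁅x, y⁆ ∈ W) (h2 : ∀ x ∈ X, ∀ w ∈ W, x * w = w * x)
    (h3 : ∀ y ∈ Y, ∀ w ∈ W, y * w = w * y) {a b c d : Q} (ha : a ∈ X) (_hb : b ∈ X) (hc : c ∈ Y)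
    (hd : d ∈ Y) (hbY : ∀ y ∈ Y, ⁅b, y⁆ = 1) (hdX : ∀ x ∈ X, ⁅x, d⁆ = 1) (m n : ℕ) :
    ⁅a ^ m * b, c ^ n * d⁆ = ⁅a, c⁆ ^ (m * n) := by
  have hg : c ^ n * d ∈ Y := Y.mul_mem (Y.pow_mem hc n) hd
  have ham : a ^ m ∈ X := X.pow_mem ha m
  -- remove `b`
  have s1 : ⁅a ^ m * b, c ^ n * d⁆ = ⁅a ^ m, c ^ n * d⁆ := by
    rw [commutatorElement_mul_left_eq_conj_mul, hbY _ hg]
    group
  -- remove `d`
  have s2 : ⁅a ^ m, c ^ n * d⁆ = ⁅a ^ m, c ^ n⁆ := by
    rw [commutatorElement_mul_right_eq_mul_conj, hdX _ ham]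
    group
  -- powers on the right
  have s3 : ∀ x ∈ X, ⁅x, c ^ n⁆ = ⁅x, c⁆ ^ n := by
    intro x hx
    apply commutatorElement_pow_right_of_commute
    exact (h3 c hc _ (h1 x hx c hc)).symm
  -- powers on the left
  have s4 : ∀ y ∈ Y, ⁅a ^ m, y⁆ = ⁅a, y⁆ ^ m := by
    intro y hy
    have hW : ⁅y, a⁆ ∈ W := by
      rw [← commutatorElement_inv]
      exact W.inv_mem (h1 a ha y hy)
    have h5 : ⁅y, a ^ m⁆ = ⁅y, a⁆ ^ m :=
      commutatorElement_pow_right_of_commute a y (h2 a ha _ hW).symm m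
    rw [← commutatorElement_inv, h5, ← commutatorElement_inv, inv_pow, inv_inv]
  rw [s1, s2, s4 _ (Y.pow_mem hc n), s3 a ha, ← pow_mul, mul_comm]

/-- In a finite `p`-group, the relative index of a subgroup not containing `L` in `L` is divisible
by `p`. -/
theorem prime_dvd_relIndex {K : Type*} [Group K] [Finite K] {p : ℕ} [hp : Fact p.Prime]
    (hK : IsPGroup p K) (H L : Subgroup K) (h : ¬ L ≤ H) : p ∣ H.relIndex L := by
  have h1 : H.relIndex L ∣ Nat.card L := Subgroup.relIndex_dvd_card H L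
  obtain ⟨k, hk⟩ := (hK.to_subgroup L).exists_card_eq
  rw [hk] at h1
  obtain ⟨j, -, hj⟩ := (Nat.dvd_prime_pow hp.out).mp h1
  have hj0 : j ≠ 0 := by
    intro h0
    rw [h0, pow_zero, Subgroup.relIndex_eq_one] at hj
    exact h hj
  rw [hj]
  exact dvd_pow_self p hj0

section cyclic

variable {K : Type*} [Group K] [Finite K] {p : ℕ} [hp : Fact p.Prime]

/-- An element of a cyclic `p`-subgroup `C` outside `frat p C` generates `C`. -/
theorem le_zpowers_of_not_mem_frat (hK : IsPGroup p K) (C : Subgroup K) (hC : IsCyclic C) {w : K}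
    (hwC : w ∈ C) (hw : w ∉ frat p C) : C ≤ Subgroup.zpowers w := by
  obtain ⟨c₀', hc₀'⟩ := hC.exists_generator
  set c₀ : K := (c₀' : K) with hc₀
  have hgen : ∀ x ∈ C, x ∈ Subgroup.zpowers c₀ := by
    intro x hx
    obtain ⟨i, hi⟩ := Subgroup.mem_zpowers_iff.mp (hc₀' ⟨x, hx⟩)
    refine Subgroup.mem_zpowers_iff.mpr ⟨i, ?_⟩
    have := congrArg Subtype.val hi
    simpa using this
  have hc₀C : c₀ ∈ C := c₀'.2
  have hwz := hgen w hwC
  rw [← mem_powers_iff_mem_zpowers] at hwz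
  obtain ⟨i, hi⟩ := hwz
  have hi' : c₀ ^ i = w := hi
  have hpi : ¬ p ∣ i := by
    rintro ⟨i', rfl⟩
    apply hw
    rw [← hi', pow_mul']
    exact pow_mem_frat p C (C.pow_mem hc₀C i')
  -- `c₀` is a power of `w`
  obtain ⟨k, hk⟩ := hK c₀
  obtain ⟨k', -, hk'⟩ := (Nat.dvd_prime_pow hp.out).mp (orderOf_dvd_of_pow_eq_one hk)
  have hc₀w : c₀ ∈ Subgroup.zpowers w := by
    by_cases h1 : orderOf c₀ = 1
    · rw [orderOf_eq_one_iff.mp h1]; exact Subgroup.one_mem _
    · have hlt : 1 < orderOf c₀ := by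
        have := orderOf_pos c₀
        omega
      have hcop : Nat.Coprime i (orderOf c₀) := by
        rw [hk']
        apply Nat.Coprime.pow_right
        exact ((Nat.Prime.coprime_iff_not_dvd hp.out).mpr hpi).symm
      obtain ⟨m, hm⟩ := Nat.exists_mul_mod_eq_one_of_coprime hcop hlt
      have e1 : c₀ = w ^ m := by
        rw [← hi', ← pow_mul, ← pow_mod_orderOf, hm.2, pow_one]
      rw [e1]
      exact Subgroup.npow_mem_zpowers w m
  intro x hx
  exact (Subgroup.zpowers_le.mpr hc₀w) (hgen x hx)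

/-- A finite `p`-group acts trivially on `C / frat p C` for a cyclic normal subgroup `C`. -/
theorem comm_mem_frat_of_cyclic (hK : IsPGroup p K) (C : Subgroup K) [hCn : C.Normal]
    (hC : IsCyclic C) {x g : K} (hx : x ∈ C) : ⁅x, g⁆ ∈ frat p C := by
  have hnil : Group.IsNilpotent K := hK.isNilpotent
  by_cases hCb : C = ⊥
  · have : x = 1 := by rw [hCb] at hx; exact Subgroup.mem_bot.mp hx
    rw [this, commutatorElement_one_left]
    exact Subgroup.one_mem _
  have hN : ⁅C, (⊤ : Subgroup K)⁆ ≤ C := Subgroup.commutator_le_left C ⊤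
  have hNne : ¬ C ≤ ⁅C, (⊤ : Subgroup K)⁆ := fun h => hCb (eq_bot_of_le_commutator C ⊤ h)
  have hmem : ⁅x, g⁆ ∈ ⁅C, (⊤ : Subgroup K)⁆ :=
    Subgroup.commutator_mem_commutator hx (Subgroup.mem_top g)
  by_contra hcon
  have := le_zpowers_of_not_mem_frat hK C hC (hN hmem) hcon
  exact hNne (this.trans (Subgroup.zpowers_le.mpr hmem))

omit [Finite K] hp in
theorem frat_normal (C : Subgroup K) [hCn : C.Normal] : (frat p C).Normal := by
  rw [← Subgroup.normalizer_eq_top_iff, eq_top_iff]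
  have h1 : Subgroup.normalizer (C : Set K) = ⊤ := Subgroup.normalizer_eq_top_iff.mpr hCn
  rw [← h1]
  exact normalizer_le_normalizer_frat p C

end cyclic

namespace ESConfig

variable {p : ℕ} {K : Type u} [Group K] (c : ESConfig p K) (β : MulAut K)

theorem map_mem_E {x : K} (hx : x ∈ c.E) : β x ∈ c.E := by
  rw [c.hEmem] at hx ⊢
  rw [← map_pow, hx, map_one]

theorem map_mem_Z₁ {x : K} (hx : x ∈ c.Z₁) : β x ∈ c.Z₁ := by
  rw [c.hZ₁mem] at hx ⊢
  refine ⟨c.map_mem_E β hx.1, fun y hy => ?_⟩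
  have hy' : β⁻¹ y ∈ c.E := c.map_mem_E β⁻¹ hy
  have h1 := hx.2 _ hy'
  have h2 := congrArg β h1
  simpa using h2

theorem map_mem_ZL {x : K} (hx : x ∈ c.ZL) : β x ∈ c.ZL := by
  refine ⟨c.map_mem_E β hx.1, fun g => ?_⟩
  have h1 : ⁅β x, g⁆ = β ⁅x, β⁻¹ g⁆ := by
    rw [map_commutatorElement]; simp
  rw [h1]
  exact c.map_mem_Z₁ β (hx.2 _)

theorem map_mem_D {g : K} (hg : g ∈ c.D) : β g ∈ c.D := by
  intro x hx
  have h1 : ⁅x, β g⁆ = β ⁅β⁻¹ x, g⁆ := by
    rw [map_commutatorElement]; simp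
  rw [h1]
  exact c.map_mem_Z₁ β (hg _ (c.map_mem_E β⁻¹ hx))

theorem map_mem_T {g : K} (hg : g ∈ c.T) : β g ∈ c.T := by
  rw [T, Subgroup.mem_centralizer_iff] at hg ⊢
  intro y hy
  have h1 := hg _ (c.map_mem_ZL β⁻¹ hy)
  have h2 := congrArg β h1
  simpa using h2

theorem map_mem_C {g : K} (hg : g ∈ c.C) : β g ∈ c.C := by
  rw [C, Subgroup.mem_centralizer_iff] at hg ⊢
  intro y hy
  have h1 := hg _ (c.map_mem_E β⁻¹ hy)
  have h2 := congrArg β h1
  simpa using h2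

end ESConfig

end Cfsg.Agent.Lib.Helper24
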