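import Mathlib
import Cfsg.Agent.Lib.Helper24.Blackburn4
import Cfsg.Agent.Lib.Helper49.RankOneCyclic

/-!
# Extraspecial `Ω₁` in a rank two `p`-group: odd automorphisms act trivially on `K / T` (helper24)
-/

set_option autoImplicit false
set_option maxHeartbeats 1600000

open scoped commutatorElement

namespace Cfsg.Agent.Lib.Helper24

universe u

namespace ESConfig

variable {p : ℕ} [hp : Fact p.Prime] {K : Type u} [Group K] [Finite K] (c : ESConfig p K)

include hp

/-- `C_K(E)` is cyclic. -/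
theorem C_cyclic (hp2 : p ≠ 2) (hK : IsPGroup p K) : IsCyclic c.C := by
  apply Cfsg.Agent.Lib.Helper49.isCyclic_of_pRankLE_one hp2 (hK.to_subgroup c.C)
  intro B _ hB
  have hle : B.map c.C.subtype ≤ c.Z₁ := by
    rintro _ ⟨b, hb, rfl⟩
    rw [← c.E_inf_C]
    refine ⟨?_, b.2⟩
    apply (c.hEmem _).mpr
    have := hB b hb
    have h2 := congrArg Subtype.val this
    simpa using h2
  have h1 := Subgroup.card_le_of_le hle
  rw [Subgroup.card_map_of_injective c.C.subtype_injective, c.hZ₁card] at h1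
  rw [pow_one]
  exact h1

/-- **Main step.** If `K` does not act trivially on `E / Z₁`, every automorphism of odd order acts
trivially on `K / T`. -/
theorem odd_aut_trivial (hp3 : 3 < p) (hK : IsPGroup p K)
    (hrk : ∀ B : Subgroup K, IsMulCommutative B → (∀ x ∈ B, x ^ p = 1) → Nat.card B ≤ p ^ 2)
    (hD : c.D ≠ ⊤) (α : MulAut K) (n : ℕ) (hn : Odd n) (hαn : α ^ n = 1) (y : K) :
    α y * y⁻¹ ∈ c.T := by
  have hp2 : p ≠ 2 := by omega
  have hTn := c.T_normal
  have hDn := c.D_normal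
  have hZ₁n := c.Z₁_normal
  have hZLn := c.ZL_normal
  have hCn := c.C_normal
  have hDidx := c.D_index hK hD hrk
  have hCcyc := c.C_cyclic hp2 hK
  -- an element of `E` outside `Z_L`
  obtain ⟨e₀, he₀E, he₀Z⟩ : ∃ e ∈ c.E, e ∉ c.ZL := by
    by_contra hcon
    push Not at hcon
    have h1 := Subgroup.card_le_of_le (show c.E ≤ c.ZL from hcon)
    rw [c.hEcard, c.card_ZL hK hD] at h1
    have h2 : p ^ 2 < p ^ 3 := Nat.pow_lt_pow_right hp.out.one_lt (by norm_num)
    omega
  -- an element of `T` outside `D`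
  obtain ⟨r, hrT, hrD⟩ : ∃ r ∈ c.T, r ∉ c.D := by
    by_contra hcon
    push Not at hcon
    apply hD
    rw [eq_top_iff]
    intro g _
    obtain ⟨i, t, ht, hgt⟩ := c.decomp_K hK hD hrk he₀E he₀Z g
    rw [hgt]
    exact c.D.mul_mem (c.D.pow_mem (c.E_le_D he₀E) i) (hcon t ht)
  obtain ⟨e, heE, hel⟩ : ∃ e ∈ c.E, ⁅e, r⁆ ∉ c.Z₁ := by
    by_contra hcon
    push Not at hcon
    exact hrD hcon
  have heZ : e ∉ c.ZL := fun h => hel (h.2 r)
  set l := ⁅e, r⁆ with hl
  have hlZL : l ∈ c.ZL := c.comm_mem_ZL hK heE r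
  have hlE : l ∈ c.E := c.ZL_le_E hlZL
  have hlT : l ∈ c.T := c.ZL_le_T hK hD hlZL
  set z := ⁅l, e⁆ with hz
  have hzZ : z ∈ c.Z₁ := c.hEcomm l hlE e heE
  have hz1 : z ≠ 1 := by
    intro h1
    have hle : l * e = e * l := commutatorElement_eq_one_iff_mul_comm.mp h1
    apply heZ
    apply c.T_inf_E hK hD hrk _ (c.pow_eq_one_of_mem_E heE)
    rw [T, Subgroup.mem_centralizer_iff]
    intro y' hy'
    obtain ⟨j, w, hw, hyw⟩ := c.decomp_ZL hK hD hlZL hel hy'
    rw [hyw]
    have hcl : Commute l e := hle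
    have hcw : Commute w e := (c.z_comm hw e).symm
    exact ((hcl.pow_left j).mul_left hcw).eq
  have hep : e ^ p = 1 := c.pow_eq_one_of_mem_E heE
  have hlp : l ^ p = 1 := c.pow_eq_one_of_mem_E hlE
  have hzp : z ^ p = 1 := c.pow_eq_one_of_mem_E (c.Z₁_le_E hzZ)
  have hzo : orderOf z = p := orderOf_eq_prime hzp hz1
  have hZ₁C : c.Z₁ ≤ c.C := by rw [← c.E_inf_C]; exact inf_le_right
  -- the scalars
  obtain ⟨μ, y₁, hy₁, hαe⟩ := c.decomp_E hK hD hrk heE heZ (c.map_mem_E α heE)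
  obtain ⟨ρ, t₀, ht₀D, hαr⟩ := exists_pow_mul_of_index_prime c.D hDidx r hrD (α r)
  have ht₀T : t₀ ∈ c.T := by
    have : t₀ = (r ^ ρ)⁻¹ * α r := by rw [hαr]; group
    rw [this]
    exact c.T.mul_mem (c.T.inv_mem (c.T.pow_mem hrT ρ)) (c.map_mem_T α hrT)
  -- relation (R1)
  have hR1 : ∃ w₁ ∈ c.Z₁, α l = l ^ (μ * ρ) * w₁ := by
    let π := QuotientGroup.mk' c.Z₁
    have hone : ∀ x : K, x ∈ c.Z₁ → π x = 1 := fun x hx => (QuotientGroup.eq_one_iff x).mpr hx
    have key : π (α l) = π l ^ (μ * ρ) := by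
      have e1 : α l = ⁅α e, α r⁆ := by rw [hl, map_commutatorElement]
      rw [e1, hαe, hαr, map_commutatorElement, map_mul, map_mul, map_pow, map_pow]
      have hh := comm_pow_mul_pow_mul (c.E.map π) (c.T.map π) (c.ZL.map π)
        (by
          rintro _ ⟨x, hx, rfl⟩ _ ⟨t, _, rfl⟩
          rw [← map_commutatorElement]
          exact Subgroup.mem_map_of_mem _ (c.comm_mem_ZL hK hx t))
        (by
          rintro _ ⟨x, hx, rfl⟩ _ ⟨u, hu, rfl⟩
          have h1 : π ⁅x, u⁆ = 1 := hone _ (c.hEcomm x hx u (c.ZL_le_E hu))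
          rw [map_commutatorElement, commutatorElement_eq_one_iff_mul_comm] at h1
          exact h1)
        (by
          rintro _ ⟨t, ht, rfl⟩ _ ⟨u, hu, rfl⟩
          have h1 : u * t = t * u := Subgroup.mem_centralizer_iff.mp ht u hu
          rw [← map_mul, ← map_mul, h1])
        (a := π e) (b := π y₁) (c := π r) (d := π t₀)
        (Subgroup.mem_map_of_mem _ heE) (Subgroup.mem_map_of_mem _ (c.ZL_le_E hy₁))
        (Subgroup.mem_map_of_mem _ hrT) (Subgroup.mem_map_of_mem _ ht₀T)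
        (by
          rintro _ ⟨t, ht, rfl⟩
          have h1 : y₁ * t = t * y₁ := Subgroup.mem_centralizer_iff.mp ht y₁ hy₁
          rw [← map_commutatorElement, commutatorElement_eq_one_iff_mul_comm.mpr h1, map_one])
        (by
          rintro _ ⟨x, hx, rfl⟩
          rw [← map_commutatorElement]
          exact hone _ (ht₀D x hx))
        μ ρ
      rw [hh, ← map_commutatorElement]
    refine ⟨(l ^ (μ * ρ))⁻¹ * α l, ?_, by group⟩
    have h2 : π (l ^ (μ * ρ)) = π (α l) := by rw [key, map_pow]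
    exact QuotientGroup.eq.mp h2
  obtain ⟨w₁, hw₁, hαl⟩ := hR1
  -- relation (R2)
  have hR2 : α z = z ^ (μ * ρ * μ) := by
    have e1 : α z = ⁅α l, α e⁆ := by rw [hz, map_commutatorElement]
    rw [e1, hαl, hαe]
    exact comm_pow_mul_pow_mul c.ZL c.E c.Z₁
      (fun x hx y' hy' => c.hEcomm x (c.ZL_le_E hx) y' hy')
      (fun x _ w hw => c.z_comm hw x)
      (fun x _ w hw => c.z_comm hw x)
      hlZL (c.Z₁_le_ZL hw₁) heE (c.ZL_le_E hy₁)
      (fun y' _ => commutatorElement_eq_one_iff_mul_comm.mpr (c.z_comm hw₁ y').symm)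
      (fun x hx => commutatorElement_eq_one_iff_mul_comm.mpr (c.ZL_comm hK hD hx hy₁))
      (μ * ρ) μ
  -- the element `w = r ^ p`
  set w := r ^ p with hw
  have hwT : w ∈ c.T := c.T.pow_mem hrT p
  have hwD : w ∈ c.D := by
    intro x hx
    have hxr := c.comm_mem_ZL hK hx r
    have h1 : ⁅x, r ^ p⁆ = ⁅x, r⁆ ^ p := by
      apply commutatorElement_pow_right_of_commute
      exact Subgroup.mem_centralizer_iff.mp hrT _ hxr
    rw [h1, c.pow_eq_one_of_mem_E (c.ZL_le_E hxr)]
    exact c.Z₁.one_mem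
  -- the subgroup `C ^ p`
  set Cp := frat p c.C with hCp
  have hCpn : Cp.Normal := frat_normal c.C
  have hCpC : Cp ≤ c.C := frat_le p c.C
  have hCne : c.C ≠ ⊥ := by
    intro hb
    have : z ∈ c.C := hZ₁C hzZ
    rw [hb, Subgroup.mem_bot] at this
    exact hz1 this
  let π₂ := QuotientGroup.mk' Cp
  have hone₂ : ∀ x : K, x ∈ Cp → π₂ x = 1 := fun x hx => (QuotientGroup.eq_one_iff x).mpr hx
  have hrt₀ : ∀ t ∈ c.T, t ∈ c.D → Commute (π₂ r) (π₂ t) ∧ π₂ t ^ p = 1 := by
    intro t htT htD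
    obtain ⟨y', hy', c', hc', htyc⟩ := c.decomp_T₀ hK hD hrk htT htD
    have hyc : Commute y' c' := Subgroup.mem_centralizer_iff.mp hc' y' (c.ZL_le_E hy')
    constructor
    · have h0 : ⁅r, t⁆ ∈ Cp := by
        rw [htyc, commutatorElement_mul_right_eq_mul_conj]
        have h1 : ⁅r, y'⁆ = 1 :=
          commutatorElement_eq_one_iff_mul_comm.mpr (Subgroup.mem_centralizer_iff.mp hrT y' hy').symm
        have h2 : ⁅r, c'⁆ ∈ Cp := by
          rw [← commutatorElement_inv]
          exact Cp.inv_mem (comm_mem_frat_of_cyclic hK c.C hCcyc hc')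
        rw [h1, one_mul]
        exact hCpn.conj_mem _ h2 y'
      have h1 : π₂ ⁅r, t⁆ = 1 := hone₂ _ h0
      rw [map_commutatorElement, commutatorElement_eq_one_iff_mul_comm] at h1
      exact h1
    · rw [← map_pow, htyc, hyc.mul_pow, c.pow_eq_one_of_mem_E (c.ZL_le_E hy'), one_mul]
      exact hone₂ _ (pow_mem_frat p c.C hc')
  -- relation (R3)
  have hR3 : π₂ (α w) = π₂ w ^ ρ := by
    obtain ⟨hc, h2⟩ := hrt₀ t₀ ht₀T ht₀D
    have e1 : α w = (α r) ^ p := by rw [hw, map_pow]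
    rw [e1, hαr, map_pow, map_mul, map_pow, (hc.pow_left ρ).mul_pow, h2, mul_one, hw, map_pow,
      ← pow_mul, ← pow_mul, mul_comm]
  -- `w ∉ C ^ p`
  have hwCp : w ∉ Cp := by
    intro hwCp
    have hTpow : ∀ t ∈ c.T, t ^ p ∈ Cp := by
      intro t ht
      obtain ⟨i, t', ht'D, htt'⟩ := exists_pow_mul_of_index_prime c.D hDidx r hrD t
      have ht'T : t' ∈ c.T := by
        have : t' = (r ^ i)⁻¹ * t := by rw [htt']; group
        rw [this]
        exact c.T.mul_mem (c.T.inv_mem (c.T.pow_mem hrT i)) ht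
      obtain ⟨hc, h2⟩ := hrt₀ t' ht'T ht'D
      have h3 : π₂ (t ^ p) = 1 := by
        rw [map_pow, htt', map_mul, map_pow, (hc.pow_left i).mul_pow, h2, mul_one, ← pow_mul,
          mul_comm, pow_mul, ← map_pow, ← hw, hone₂ _ hwCp, one_pow]
      exact (QuotientGroup.eq_one_iff _).mp h3
    have hHP : HP p c.T := by
      intro W hW
      have hle : W.map c.T.subtype ≤ c.ZL := by
        rintro _ ⟨t, ht, rfl⟩
        apply c.T_inf_E hK hD hrk t.2
        have := hW t ht
        have h2 := congrArg Subtype.val this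
        simpa using h2
      have h1 := Subgroup.card_le_of_le hle
      rwa [Subgroup.card_map_of_injective c.T.subtype_injective, c.card_ZL hK hD] at h1
    have hsubn : (Cp.subgroupOf c.T).Normal := Subgroup.Normal.subgroupOf hCpn c.T
    have hidx := index_dvd_sq_of_HP hp3 (hK.to_subgroup c.T) hHP (Cp.subgroupOf c.T) (fun t => by
      rw [Subgroup.mem_subgroupOf]
      have := hTpow t t.2
      simpa using this)
    have hCT : c.C ≤ c.T := c.C_le_T
    have hT₀T : c.T ⊓ c.D ≤ c.T := inf_le_left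
    have hCT₀ : c.C ≤ c.T ⊓ c.D := le_inf c.C_le_T c.C_le_D
    have h1 : p ∣ Cp.relIndex c.C := prime_dvd_relIndex hK Cp c.C
      (fun h => frat_ne p c.C (hK.to_subgroup _) hCne (le_antisymm hCpC h))
    have h2 : p ∣ c.C.relIndex (c.T ⊓ c.D) := prime_dvd_relIndex hK _ _ (fun h => by
      have hlC : l ∈ c.C := h ⟨hlT, c.E_le_D hlE⟩
      have : e * l = l * e := Subgroup.mem_centralizer_iff.mp hlC e heE
      exact hz1 (commutatorElement_eq_one_iff_mul_comm.mpr this.symm))
    have h3 : p ∣ (c.T ⊓ c.D).relIndex c.T := prime_dvd_relIndex hK _ _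
      (fun h => hrD (h hrT).2)
    have h4 : Cp.relIndex c.T =
        Cp.relIndex c.C * (c.C.relIndex (c.T ⊓ c.D) * (c.T ⊓ c.D).relIndex c.T) := by
      rw [Subgroup.relIndex_mul_relIndex _ _ _ hCT₀ hT₀T,
        Subgroup.relIndex_mul_relIndex _ _ _ hCpC hCT]
    have h5 : p * (p * p) ∣ Cp.relIndex c.T := by
      rw [h4]
      exact Nat.mul_dvd_mul h1 (Nat.mul_dvd_mul h2 h3)
    have h6 : Cp.relIndex c.T ∣ p ^ 2 := hidx
    have h7 := Nat.le_of_dvd (pow_pos hp.out.pos 2) (h5.trans h6)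
    have h8 := hp.out.two_le
    nlinarith
  -- `ρ` is a unit modulo `p`
  have hρ : ¬ p ∣ ρ := by
    rintro ⟨ρ', rfl⟩
    apply hrD
    have h1 : α r ∈ c.D := by
      rw [hαr, pow_mul]
      exact c.D.mul_mem (c.D.pow_mem hwD ρ') ht₀D
    have := c.map_mem_D α⁻¹ h1
    simpa using this
  have hρ0 : (ρ : ZMod p) ≠ 0 := by
    rw [Ne, ZMod.natCast_eq_zero_iff]
    exact hρ
  -- `μ ^ 2 = 1` modulo `p`
  have hμ2 : (μ : ZMod p) ^ 2 = 1 := by
    by_cases hwC : w ∈ c.C
    · have hgen := le_zpowers_of_not_mem_frat hK c.C hCcyc hwC hwCp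
      have hαwC : α w ∈ Subgroup.zpowers w := hgen (c.map_mem_C α hwC)
      rw [← mem_powers_iff_mem_zpowers] at hαwC
      obtain ⟨k, hk⟩ := hαwC
      have hk' : w ^ k = α w := hk
      have hzw : z ∈ Subgroup.zpowers w := hgen (hZ₁C hzZ)
      rw [← mem_powers_iff_mem_zpowers] at hzw
      obtain ⟨j, hj⟩ := hzw
      have hj' : w ^ j = z := hj
      have hαz : α z = z ^ k := by
        rw [← hj', map_pow, ← hk']
        exact pow_right_comm w k j
      have h1 : z ^ k = z ^ (μ * ρ * μ) := by rw [← hαz, hR2]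
      have h2 : k ≡ μ * ρ * μ [MOD p] := by
        rw [← hzo]; exact pow_eq_pow_iff_modEq.mp h1
      have h3 : π₂ w ^ k = π₂ w ^ ρ := by rw [← hR3, ← map_pow, hk']
      have ho : orderOf (π₂ w) = p := by
        apply orderOf_eq_prime
        · rw [← map_pow]; exact hone₂ _ (pow_mem_frat p c.C hwC)
        · intro h; exact hwCp ((QuotientGroup.eq_one_iff _).mp h)
      have h4 : k ≡ ρ [MOD p] := by
        rw [← ho]; exact pow_eq_pow_iff_modEq.mp h3
      have h5 : ((μ * ρ * μ : ℕ) : ZMod p) = (ρ : ZMod p) := by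
        rw [ZMod.natCast_eq_natCast_iff]
        exact h2.symm.trans h4
      push_cast at h5
      have h6 : (ρ : ZMod p) * ((μ : ZMod p) ^ 2 - 1) = 0 := by
        have : (ρ : ZMod p) * ((μ : ZMod p) ^ 2 - 1) = (μ : ZMod p) * ρ * μ - ρ := by ring
        rw [this, h5, sub_self]
      rcases mul_eq_zero.mp h6 with h | h
      · exact absurd h hρ0
      · exact sub_eq_zero.mp h
    · obtain ⟨y', hy', c', hc', hwyc⟩ := c.decomp_T₀ hK hD hrk hwT hwD
      obtain ⟨x, w', hw', hyx⟩ := c.decomp_ZL hK hD hlZL hel hy'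
      have hpx : ¬ p ∣ x := by
        rintro ⟨x', rfl⟩
        apply hwC
        rw [hwyc, hyx, pow_mul, hlp, one_pow, one_mul]
        exact c.C.mul_mem (hZ₁C hw') hc'
      let π₃ := QuotientGroup.mk' c.C
      have hone₃ : ∀ x : K, x ∈ c.C → π₃ x = 1 := fun x hx => (QuotientGroup.eq_one_iff x).mpr hx
      have hπ₃w : π₃ w = π₃ l ^ x := by
        rw [hwyc, hyx, map_mul, map_mul, map_pow, hone₃ _ (hZ₁C hw'), hone₃ _ hc', mul_one,
          mul_one]
      have hπ₃αw : π₃ (α w) = π₃ l ^ (μ * ρ * x) := by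
        have e1 : α w = (α l) ^ x * α w' * α c' := by
          rw [hwyc, hyx, map_mul, map_mul, map_pow]
        rw [e1, hαl, map_mul π₃, map_mul π₃, map_pow π₃, map_mul π₃, map_pow π₃,
          hone₃ _ (hZ₁C hw₁), hone₃ _ (hZ₁C (c.map_mem_Z₁ α hw')),
          hone₃ _ (c.map_mem_C α hc'), mul_one, mul_one, mul_one, ← pow_mul]
      have h1 : π₃ (α w) = π₃ w ^ ρ := by
        have h2 : π₂ (w ^ ρ) = π₂ (α w) := by rw [hR3, map_pow]
        have h3 : (w ^ ρ)⁻¹ * α w ∈ Cp := QuotientGroup.eq.mp h2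
        have h4 : π₃ (w ^ ρ) = π₃ (α w) := QuotientGroup.eq.mpr (hCpC h3)
        rw [← h4, map_pow]
      have hlC : l ∉ c.C := by
        intro hlC
        have : e * l = l * e := Subgroup.mem_centralizer_iff.mp hlC e heE
        exact hz1 (commutatorElement_eq_one_iff_mul_comm.mpr this.symm)
      have ho : orderOf (π₃ l) = p := by
        apply orderOf_eq_prime
        · rw [← map_pow, hlp, map_one]
        · intro h; exact hlC ((QuotientGroup.eq_one_iff _).mp h)
      have h5 : π₃ l ^ (μ * ρ * x) = π₃ l ^ (x * ρ) := by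
        rw [← hπ₃αw, h1, hπ₃w, ← pow_mul]
      have h6 : μ * ρ * x ≡ x * ρ [MOD p] := by
        rw [← ho]; exact pow_eq_pow_iff_modEq.mp h5
      have h7 : ((μ * ρ * x : ℕ) : ZMod p) = ((x * ρ : ℕ) : ZMod p) := by
        rw [ZMod.natCast_eq_natCast_iff]; exact h6
      push_cast at h7
      have hx0 : (x : ZMod p) ≠ 0 := by
        rw [Ne, ZMod.natCast_eq_zero_iff]
        exact hpx
      have h8 : (ρ : ZMod p) * x * ((μ : ZMod p) - 1) = 0 := by
        have : (ρ : ZMod p) * x * ((μ : ZMod p) - 1) = (μ : ZMod p) * ρ * x - x * ρ := by ring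
        rw [this, h7, sub_self]
      have h9 : (μ : ZMod p) = 1 := by
        rcases mul_eq_zero.mp h8 with h | h
        · rcases mul_eq_zero.mp h with h' | h'
          · exact absurd h' hρ0
          · exact absurd h' hx0
        · exact sub_eq_zero.mp h
      rw [h9, one_pow]
  -- `μ ^ n = 1` modulo `p`
  let πL := QuotientGroup.mk' c.ZL
  have honeL : ∀ x : K, x ∈ c.ZL → πL x = 1 := fun x hx => (QuotientGroup.eq_one_iff x).mpr hx
  have hstep : ∀ (x : K) (m : ℕ), πL x = πL e ^ m → πL (α x) = πL e ^ (μ * m) := by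
    intro x m hx
    have hu : (e ^ m)⁻¹ * x ∈ c.ZL := by
      have h2 : πL (e ^ m) = πL x := by rw [hx, map_pow]
      exact QuotientGroup.eq.mp h2
    have hx' : x = e ^ m * ((e ^ m)⁻¹ * x) := by group
    have e1 : α x = (α e) ^ m * α ((e ^ m)⁻¹ * x) := by
      conv_lhs => rw [hx']
      rw [map_mul, map_pow]
    calc πL (α x) = πL ((α e) ^ m * α ((e ^ m)⁻¹ * x)) := by rw [← e1]
      _ = πL (α e) ^ m * πL (α ((e ^ m)⁻¹ * x)) := by rw [map_mul πL, map_pow πL]
      _ = πL (α e) ^ m := by rw [honeL _ (c.map_mem_ZL α hu), mul_one]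
      _ = (πL e ^ μ) ^ m := by rw [hαe, map_mul πL, map_pow πL, honeL _ hy₁, mul_one]
      _ = πL e ^ (μ * m) := by rw [← pow_mul]
  have hiter : ∀ j : ℕ, πL ((α ^ j) e) = πL e ^ (μ ^ j) := by
    intro j
    induction j with
    | zero => simp
    | succ j ih =>
      have : (α ^ (j + 1)) e = α ((α ^ j) e) := by
        rw [pow_succ', MulAut.mul_apply]
      rw [this, hstep _ _ ih, pow_succ']
  have hoL : orderOf (πL e) = p := by
    apply orderOf_eq_prime
    · rw [← map_pow, hep, map_one]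
    · intro h; exact heZ ((QuotientGroup.eq_one_iff _).mp h)
  have hμn : (μ : ZMod p) ^ n = 1 := by
    have h1 := hiter n
    rw [hαn, MulAut.one_apply] at h1
    have h2 : πL e ^ 1 = πL e ^ (μ ^ n) := by rw [pow_one]; exact h1
    have h3 : 1 ≡ μ ^ n [MOD p] := by
      rw [← hoL]; exact pow_eq_pow_iff_modEq.mp h2
    have h4 : ((1 : ℕ) : ZMod p) = ((μ ^ n : ℕ) : ZMod p) := by
      rw [ZMod.natCast_eq_natCast_iff]; exact h3
    push_cast at h4
    exact h4.symm
  have hμ1 : (μ : ZMod p) = 1 := by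
    obtain ⟨m, rfl⟩ := hn
    rw [pow_succ, pow_mul, hμ2, one_pow, one_mul] at hμn
    exact hμn
  have heμ : e ^ μ = e := by
    have he1 : e ≠ 1 := fun h => heZ (by rw [h]; exact c.ZL.one_mem)
    have hoe : orderOf e = p := orderOf_eq_prime hep he1
    have h1 : μ ≡ 1 [MOD p] := by
      rw [← ZMod.natCast_eq_natCast_iff]
      push_cast
      exact hμ1
    have h2 : e ^ μ = e ^ 1 := by
      rw [pow_eq_pow_iff_modEq, hoe]; exact h1
    rw [h2, pow_one]
  -- conclusion
  obtain ⟨i, t, ht, hyt⟩ := c.decomp_K hK hD hrk heE heZ y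
  let πT := QuotientGroup.mk' c.T
  have honeT : ∀ x : K, x ∈ c.T → πT x = 1 := fun x hx => (QuotientGroup.eq_one_iff x).mpr hx
  have h1 : πT (α y * y⁻¹) = 1 := by
    have e1 : α y = (α e) ^ i * α t := by rw [hyt, map_mul, map_pow]
    have e2 : πT (α y) = πT e ^ i := by
      rw [e1, hαe, heμ, map_mul πT, map_pow πT, map_mul πT, honeT _ (c.ZL_le_T hK hD hy₁),
        mul_one, honeT _ (c.map_mem_T α ht), mul_one]
    have e3 : πT y = πT e ^ i := by
      rw [hyt, map_mul πT, map_pow πT, honeT _ ht, mul_one]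
    rw [map_mul πT, map_inv πT, e2, e3, mul_inv_cancel]
  exact (QuotientGroup.eq_one_iff _).mp h1

end ESConfig

end Cfsg.Agent.Lib.Helper24
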