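import Mathlib
import Cfsg.Agent.Lib.Helper24.Blackburn5
import Cfsg.Agent.Lib.Helper24.Metacyclic

/-!
# Blackburn's theorem on `R = [R, A]` of rank two, action form (helper24)

Let `K` be a `p`-group, `p > 3`, with no elementary abelian subgroup of order `p ^ 3`, and let `A` be
a group of odd order prime to `p` acting on `K` with `[K, A] = K`.  Then `K` is abelian, or
`K = E * C_K(E)` with `E = Ω₁(K)` extraspecial of order `p ^ 3` and exponent `p` and `C_K(E)` cyclic.
-/

set_option autoImplicit false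
set_option maxHeartbeats 1600000

open scoped commutatorElement

namespace Cfsg.Agent.Lib.Helper24

universe u v

/-- The conclusion for an `ESConfig` with `E * C = K`. -/
theorem ESConfig.conclusion {p : ℕ} [hp : Fact p.Prime] {K : Type u} [Group K] [Finite K]
    (c : ESConfig p K) (hp2 : p ≠ 2) (hK : IsPGroup p K) (hEC : c.E ⊔ c.C = ⊤) :
    c.E ⊔ c.C = ⊤ ∧ (∀ a ∈ c.E, ∀ b ∈ c.C, a * b = b * a) ∧
      (¬ ∀ a ∈ c.E, ∀ b ∈ c.E, a * b = b * a) ∧ Nat.card c.E = p ^ 3 ∧
      (∀ x ∈ c.E, x ^ p = 1) ∧ IsCyclic c.C ∧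
      Subgroup.closure {x : K | x ∈ c.C ∧ x ^ p = 1} = ⁅c.E, c.E⁆ := by
  refine ⟨hEC, ?_, c.E_not_comm, c.hEcard, fun x hx => c.pow_eq_one_of_mem_E hx,
    c.C_cyclic hp2 hK, ?_⟩
  · intro a ha b hb
    exact Subgroup.mem_centralizer_iff.mp hb a ha
  · have hset : {x : K | x ∈ c.C ∧ x ^ p = 1} = (c.Z₁ : Set K) := by
      ext x
      simp only [Set.mem_ofPred_eq, SetLike.mem_coe]
      rw [← c.E_inf_C, Subgroup.mem_inf, c.hEmem]
      exact and_comm
    rw [hset, Subgroup.closure_eq]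
    have hle : ⁅c.E, c.E⁆ ≤ c.Z₁ := by
      rw [Subgroup.commutator_le]
      exact c.hEcomm
    symm
    have hprime : (Nat.card c.Z₁).Prime := by rw [c.hZ₁card]; exact hp.out
    have hne : ⁅c.E, c.E⁆ ≠ ⊥ := by
      intro hbot
      apply c.E_not_comm
      intro x hx y hy
      have h1 : ⁅x, y⁆ ∈ ⁅c.E, c.E⁆ := Subgroup.commutator_mem_commutator hx hy
      rw [hbot, Subgroup.mem_bot] at h1
      exact commutatorElement_eq_one_iff_mul_comm.mp h1
    have hdvd : Nat.card (⁅c.E, c.E⁆ : Subgroup K) ∣ Nat.card c.Z₁ :=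
      Subgroup.card_dvd_of_le hle
    rcases (Nat.dvd_prime hprime).mp hdvd with h | h
    · exact absurd (Subgroup.card_eq_one.mp h) hne
    · exact Subgroup.eq_of_le_of_card_ge hle (le_of_eq h.symm)

/-- **Blackburn.** -/
theorem blackburn_core {K : Type u} [Group K] [Finite K] {A : Type v} [Group A] [Finite A]
    (p : ℕ) [hp : Fact p.Prime] (hp3 : 3 < p) (hK : IsPGroup p K)
    (hrk : ∀ B : Subgroup K, IsMulCommutative B → (∀ x ∈ B, x ^ p = 1) → Nat.card B ≤ p ^ 2)
    (φ : A →* MulAut K) (hcop : (Nat.card A).Coprime p) (hodd : Odd (Nat.card A))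
    (hgen : Subgroup.closure {k : K | ∃ a y, k = φ a y * y⁻¹} = ⊤) :
    (∀ x y : K, x * y = y * x) ∨ ∃ c : ESConfig p K, c.E ⊔ c.C = ⊤ := by
  have hp2 : p ≠ 2 := by omega
  set E : Subgroup K := Subgroup.closure {x : K | x ^ p = 1} with hE
  have hEexp : ∀ x ∈ E, x ^ p = 1 := fun x hx =>
    Cfsg.Agent.S0128.result hp3 hK (fun B hB => hrk B hB.1 hB.2) x hx
  have hEmem : ∀ x, x ∈ E ↔ x ^ p = 1 := fun x => ⟨hEexp x, fun h => Subgroup.subset_closure h⟩
  have hEn : E.Normal := by
    constructor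
    intro x hx g
    rw [hEmem] at hx ⊢
    rw [conj_pow, hx, mul_one, mul_inv_cancel]
  by_cases hsmall : Nat.card E ≤ p ^ 2
  · left
    have hHP : HP p K := by
      intro W hW
      have hle : W ≤ E := fun w hw => (hEmem w).mpr (hW w hw)
      exact (Subgroup.card_le_of_le hle).trans hsmall
    have hm := metacyclic_of_HP hp3 hK hHP
    exact comm_of_metacyclic_of_coprime_action p hp2 hK hm φ hcop hgen
  · right
    push Not at hsmall
    -- `E` has order `p ^ 3`
    have hEcard : Nat.card E = p ^ 3 := by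
      have hdvd : Nat.card E ∣ p ^ 3 := by
        apply card_dvd_cube_of_exponent_of_rank hp2
        · intro x
          apply Subtype.ext
          rw [Subgroup.coe_pow]
          exact hEexp x x.2
        · intro B hBc hBe
          have h1 := hrk (B.map E.subtype) (Subgroup.map_isMulCommutative B E.subtype) (by
            rintro _ ⟨b, hb, rfl⟩
            rw [← map_pow, hBe b hb, map_one])
          rwa [Subgroup.card_map_of_injective E.subtype_injective] at h1
      obtain ⟨k, hk3, hk⟩ := (Nat.dvd_prime_pow hp.out).mp hdvd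
      rw [hk] at hsmall ⊢
      have h2 : 2 < k := (Nat.pow_lt_pow_iff_right hp.out.one_lt).mp hsmall
      have : k = 3 := by omega
      rw [this]
    -- `E` is not commutative
    have hnc : ¬ ∀ a b : E, a * b = b * a := by
      intro hc
      have h1 := hrk E ⟨⟨hc⟩⟩ hEexp
      rw [hEcard] at h1
      have h2 : p ^ 2 < p ^ 3 := Nat.pow_lt_pow_right hp.out.one_lt (by norm_num)
      omega
    obtain ⟨hZcard, hZcomm⟩ := center_of_card_cube hEcard hnc
    set Z₁ : Subgroup K := (Subgroup.center E).map E.subtype with hZ₁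
    have hZ₁card : Nat.card Z₁ = p := by
      rw [hZ₁, Subgroup.card_map_of_injective E.subtype_injective, hZcard]
    have hZ₁mem : ∀ x, x ∈ Z₁ ↔ x ∈ E ∧ ∀ y ∈ E, y * x = x * y := by
      intro x
      constructor
      · rintro ⟨z, hz, rfl⟩
        refine ⟨z.2, fun y hy => ?_⟩
        have h1 := Subgroup.mem_center_iff.mp hz ⟨y, hy⟩
        exact congrArg Subtype.val h1
      · rintro ⟨hx, hxy⟩
        refine ⟨⟨x, hx⟩, ?_, rfl⟩
        apply Subgroup.mem_center_iff.mpr
        intro g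
        apply Subtype.ext
        exact hxy g g.2
    have hZ₁n : Z₁.Normal := by
      constructor
      intro x hx g
      rw [hZ₁mem] at hx ⊢
      refine ⟨hEn.conj_mem x hx.1 g, fun y hy => ?_⟩
      have h1 := hx.2 (g⁻¹ * y * g⁻¹⁻¹) (hEn.conj_mem y hy g⁻¹)
      rw [inv_inv] at h1
      calc y * (g * x * g⁻¹) = g * ((g⁻¹ * y * g) * x) * g⁻¹ := by group
        _ = g * (x * (g⁻¹ * y * g)) * g⁻¹ := by rw [h1]
        _ = g * x * g⁻¹ * y := by group
    have hZ₁ne : Z₁ ≠ ⊥ := by
      intro hb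
      rw [hb, Subgroup.card_bot] at hZ₁card
      exact hp.out.one_lt.ne hZ₁card
    obtain ⟨z, hzZ, hzc, hzo⟩ := exists_central_orderOf_eq_prime hK Z₁ hZ₁ne
    have hzpow : Subgroup.zpowers z = Z₁ := by
      apply Subgroup.eq_of_le_of_card_ge
      · rw [Subgroup.zpowers_le]; exact hzZ
      · rw [Nat.card_zpowers, hzo, hZ₁card]
    have hZ₁cen : Z₁ ≤ Subgroup.center K := by
      rw [← hzpow, Subgroup.zpowers_le]
      exact hzc
    have hEcomm : ∀ x ∈ E, ∀ y ∈ E, ⁅x, y⁆ ∈ Z₁ := by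
      intro x hx y hy
      refine ⟨⁅(⟨x, hx⟩ : E), ⟨y, hy⟩⁆, hZcomm _ _, ?_⟩
      rw [map_commutatorElement]
      rfl
    let c : ESConfig p K :=
      { E := E, Z₁ := Z₁, hEn := hEn, hEmem := hEmem, hEcard := hEcard, hZ₁mem := hZ₁mem,
        hZ₁card := hZ₁card, hZ₁cen := hZ₁cen, hEcomm := hEcomm }
    refine ⟨c, ?_⟩
    by_cases hD : c.D = ⊤
    · rw [← c.D_eq hK, hD]
    · exfalso
      have hle : Subgroup.closure {k : K | ∃ a y, k = φ a y * y⁻¹} ≤ c.T := by
        rw [Subgroup.closure_le]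
        rintro k ⟨a, y, rfl⟩
        apply c.odd_aut_trivial hp3 hK hrk hD (φ a) (Nat.card A) hodd _ y
        rw [← map_pow, pow_card_eq_one', map_one]
      rw [hgen, top_le_iff] at hle
      have hidx := c.T_index hK hD hrk
      rw [hle, Subgroup.index_top] at hidx
      exact hp.out.one_lt.ne hidx

end Cfsg.Agent.Lib.Helper24
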