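import Mathlib
import Cfsg.Prelude.Def_OddOrderLocal
import Cfsg.Agent.S1453
import Cfsg.Agent.Lib.Helper24.SCN
import Cfsg.Agent.Lib.Helper49.RankOneCyclic

/-!
# A `p`-group of rank `≥ 3` with a maximal elementary abelian subgroup of order `p ^ 2` is narrow

(Bender–Glauberman, Lemma 5.3 (c),(d), on top of S1453.)
-/

set_option autoImplicit false

namespace Cfsg.Agent.Lib.Helper24

open Cfsg

universe u

/-- In a group, if `x` has prime order `p` and `y ∈ ⟨x⟩` is nontrivial, then `x ∈ ⟨y⟩`. -/
theorem mem_zpowers_of_mem_zpowers_of_prime {R : Type u} [Group R] (p : ℕ) [hp : Fact p.Prime]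
    (x y : R) (hx : orderOf x = p) (hy : y ∈ Subgroup.zpowers x) (hy1 : y ≠ 1) :
    x ∈ Subgroup.zpowers y := by
  have hcard : Nat.card (Subgroup.zpowers x) = p := by rw [Nat.card_zpowers, hx]
  have h := mem_zpowers_of_prime_card (G := Subgroup.zpowers x) hcard
    (g := ⟨y, hy⟩) (g' := ⟨x, Subgroup.mem_zpowers x⟩)
    (by intro h; apply hy1; exact congrArg Subtype.val h)
  obtain ⟨k, hk⟩ := Subgroup.mem_zpowers_iff.mp h
  rw [Subgroup.mem_zpowers_iff]
  refine ⟨k, ?_⟩
  have := congrArg Subtype.val hk
  simpa using this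

/-- BG 5.3(c,d): narrowness from a maximal elementary abelian subgroup of order `p ^ 2`. -/
theorem isNarrow_of_maximal_sq {R : Type u} [Group R] [Finite R] (p : ℕ) [hp : Fact p.Prime]
    (hp2 : p ≠ 2) (hR : IsPGroup p R) (hr : ¬ PRankLE p 2 R) (E : Subgroup R)
    (hE : IsElementaryAbelian p E) (hE2 : Nat.card E = p ^ 2)
    (hEmax : ∀ B : Subgroup R, IsElementaryAbelian p B → E ≤ B → B = E) : IsNarrow p R := by
  obtain ⟨hET, hZ, -, hTchar, hTidx⟩ := Cfsg.Agent.S1453.result p hp2 hR hr E hE hE2 hEmax
  set W : Subgroup R :=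
    Subgroup.closure {x : R | x ∈ Subgroup.upperCentralSeries R 2 ∧ x ^ p = 1} with hW
  set T : Subgroup R := Subgroup.centralizer (W : Set R) with hT
  set Z : Subgroup R := Subgroup.closure {x : R | x ∈ Subgroup.center R ∧ x ^ p = 1} with hZdef
  have hpp : p.Prime := hp.out
  have hTn : T.Normal := Subgroup.normal_of_characteristic T
  obtain ⟨x, hxE, hxT⟩ := SetLike.not_le_iff_exists.mp hET
  have hx1 : x ≠ 1 := fun h => hxT (h ▸ T.one_mem)
  have hxp : x ^ p = 1 := hE.2 x hxE
  have hxo : orderOf x = p := orderOf_eq_prime hxp hx1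
  have hcardx : Nat.card (Subgroup.zpowers x) = p := by rw [Nat.card_zpowers, hxo]
  -- nontrivial powers of `x` are outside `T`
  have hxT' : ∀ y ∈ Subgroup.zpowers x, y ∈ T → y = 1 := by
    intro y hy hyT
    by_contra hy1
    have := mem_zpowers_of_mem_zpowers_of_prime p x y hxo hy hy1
    exact hxT ((Subgroup.zpowers_le.mpr hyT) this)
  -- `Z` is central and elementary abelian
  have hZcen : Z ≤ Subgroup.center R := by
    rw [hZdef, Subgroup.closure_le]
    intro z hz; exact hz.1
  have hZe : IsElementaryAbelian p Z := by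
    apply elemAb_closure
    · intro s hs t _
      exact (Subgroup.mem_center_iff.mp hs.1 t).symm
    · intro s hs; exact hs.2
  have hZT : Z ≤ T := by
    intro z hz
    rw [hT, Subgroup.mem_centralizer_iff]
    intro w _
    exact Subgroup.mem_center_iff.mp (hZcen hz) w
  -- `Z ≤ E` by maximality
  have hZE : Z ≤ E := by
    have hB : IsElementaryAbelian p (E ⊔ Z) := by
      have h1 : E ⊔ Z = Subgroup.closure ((E : Set R) ∪ (Z : Set R)) := by
        rw [Subgroup.closure_union, Subgroup.closure_eq, Subgroup.closure_eq]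
      rw [h1]
      apply elemAb_closure
      · rintro s (hs | hs) t (ht | ht)
        · have := hE.1
          exact setLike_mul_comm hs ht
        · exact Subgroup.mem_center_iff.mp (hZcen ht) s
        · exact (Subgroup.mem_center_iff.mp (hZcen hs) t).symm
        · exact (Subgroup.mem_center_iff.mp (hZcen hs) t).symm
      · rintro s (hs | hs)
        · exact hE.2 s hs
        · exact hZe.2 s hs
    have := hEmax (E ⊔ Z) hB le_sup_left
    rw [← this]; exact le_sup_right
  -- `E = ⟨x⟩ ⊔ Z`
  have hinf : Subgroup.zpowers x ⊓ Z = ⊥ := by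
    rw [eq_bot_iff]
    intro y hy
    rw [Subgroup.mem_bot]
    exact hxT' y hy.1 (hZT hy.2)
  have hFE : Subgroup.zpowers x ⊔ Z ≤ E := sup_le (Subgroup.zpowers_le.mpr hxE) hZE
  have hF : Subgroup.zpowers x ⊔ Z = E := by
    apply Subgroup.eq_of_le_of_card_ge hFE
    have hdvd : Nat.card ↥(Subgroup.zpowers x ⊔ Z) ∣ p ^ 2 := hE2 ▸ Subgroup.card_dvd_of_le hFE
    by_contra hlt
    have hne2 : Nat.card ↥(Subgroup.zpowers x ⊔ Z) ≠ p ^ 2 := by
      intro h; apply hlt; rw [h, hE2]
    have hne1 : Nat.card ↥(Subgroup.zpowers x ⊔ Z) ≠ 1 := by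
      intro h
      have hb := Subgroup.card_eq_one.mp h
      have : x ∈ (⊥ : Subgroup R) := hb ▸ (le_sup_left : Subgroup.zpowers x ≤ _)
        (Subgroup.mem_zpowers x)
      exact hx1 (Subgroup.mem_bot.mp this)
    have hcF := eq_prime_of_dvd_sq hpp hdvd hne1 hne2
    have heq : Subgroup.zpowers x = Subgroup.zpowers x ⊔ Z :=
      Subgroup.eq_of_le_of_card_ge le_sup_left (by rw [hcF, hcardx])
    have hZle : Z ≤ Subgroup.zpowers x := by
      rw [heq]; exact le_sup_right
    have hZbot : Z = ⊥ := by
      rw [eq_bot_iff, ← hinf]; exact le_inf hZle le_rfl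
    rw [hZbot, Subgroup.card_bot] at hZ
    exact hpp.one_lt.ne hZ
  -- elements commuting with `x` centralize `E`
  have hcentE : ∀ a : R, a * x = x * a → ∀ e ∈ E, e * a = a * e := by
    intro a hax
    have hle : E ≤ Subgroup.centralizer ({a} : Set R) := by
      rw [← hF]
      apply sup_le
      · rw [Subgroup.zpowers_le, Subgroup.mem_centralizer_iff]
        intro b hb
        rw [Set.mem_singleton_iff] at hb; subst hb; exact hax
      · intro z hz
        rw [Subgroup.mem_centralizer_iff]
        intro b hb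
        rw [Set.mem_singleton_iff] at hb; subst hb
        exact (Subgroup.mem_center_iff.mp (hZcen hz) b)
    intro e he
    have := Subgroup.mem_centralizer_iff.mp (hle he) a rfl
    exact this.symm
  -- `E ⊓ T` has order at most `p`
  have hETcard : Nat.card ↥(E ⊓ T) ≤ p := by
    have hdvd : Nat.card ↥(E ⊓ T) ∣ p ^ 2 := hE2 ▸ Subgroup.card_dvd_of_le inf_le_left
    have hne2 : Nat.card ↥(E ⊓ T) ≠ p ^ 2 := by
      intro h
      have h3 : E ⊓ T = E := Subgroup.eq_of_le_of_card_ge inf_le_left (by rw [h, hE2])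
      have h4 : x ∈ E ⊓ T := by rw [h3]; exact hxE
      exact hxT h4.2
    by_cases h1 : Nat.card ↥(E ⊓ T) = 1
    · rw [h1]; exact hpp.one_lt.le
    · exact (eq_prime_of_dvd_sq hpp hdvd h1 hne2).le
  right
  refine ⟨Subgroup.zpowers x, T ⊓ Subgroup.centralizer ({x} : Set R), hcardx, ?_, ?_, ?_, ?_⟩
  · -- cyclic
    apply Cfsg.Agent.Lib.Helper49.isCyclic_of_pRankLE_one hp2 (hR.to_subgroup _)
    intro A hAc hAe
    rw [pow_one]
    have hle : A.map (Subgroup.subtype _) ≤ E ⊓ T := by
      rintro _ ⟨a, ha, rfl⟩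
      have haT : (a : R) ∈ T := a.2.1
      have hax : (a : R) * x = x * (a : R) := by
        have := Subgroup.mem_centralizer_iff.mp a.2.2 x rfl
        exact this.symm
      have hap : (a : R) ^ p = 1 := by
        have := hAe a ha
        exact_mod_cast congrArg Subtype.val this
      refine ⟨?_, haT⟩
      -- maximality of `E`
      have hcen : (a : R) ∈ Subgroup.centralizer (E : Set R) := by
        rw [Subgroup.mem_centralizer_iff]
        intro e he
        exact hcentE a hax e he
      have hB := elemAb_adjoin p E hE.1 hE.2 (a : R) hcen hap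
      have := hEmax _ hB (le_adjoin E a)
      rw [← this]
      exact mem_adjoin E a
    calc Nat.card A = Nat.card (A.map (Subgroup.subtype _)) :=
          (Subgroup.card_map_of_injective (Subgroup.subtype_injective _)).symm
      _ ≤ Nat.card ↥(E ⊓ T) := Subgroup.card_le_of_le hle
      _ ≤ p := hETcard
  · rw [eq_bot_iff]
    intro y hy
    rw [Subgroup.mem_bot]
    exact hxT' y hy.1 hy.2.1
  · intro a ha b hb
    have hbx : x * b = b * x := Subgroup.mem_centralizer_iff.mp hb.2 x rfl
    obtain ⟨k, rfl⟩ := Subgroup.mem_zpowers_iff.mp ha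
    exact ((Commute.zpow_left (show Commute x b from hbx) k)).eq
  · apply le_antisymm
    · apply sup_le
      · intro a ha
        rw [Subgroup.mem_centralizer_iff]
        intro b hb
        obtain ⟨k, rfl⟩ := Subgroup.mem_zpowers_iff.mp ha
        obtain ⟨l, rfl⟩ := Subgroup.mem_zpowers_iff.mp hb
        exact ((Commute.refl x).zpow_zpow l k).eq
      · intro b hb
        rw [Subgroup.mem_centralizer_iff]
        intro a ha
        have hbx : x * b = b * x := Subgroup.mem_centralizer_iff.mp hb.2 x rfl
        obtain ⟨k, rfl⟩ := Subgroup.mem_zpowers_iff.mp ha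
        exact ((Commute.zpow_left (show Commute x b from hbx) k)).eq
    · intro y hy
      have hyx : x * y = y * x :=
        Subgroup.mem_centralizer_iff.mp hy x (Subgroup.mem_zpowers x)
      have hcardQ : Nat.card (R ⧸ T) = p := by rw [← Subgroup.index_eq_card, hTidx]
      have hxQ : (QuotientGroup.mk x : R ⧸ T) ≠ 1 := by
        intro h; exact hxT ((QuotientGroup.eq_one_iff x).mp h)
      have hmem := mem_zpowers_of_prime_card (G := R ⧸ T) hcardQ
        (g := (QuotientGroup.mk x : R ⧸ T)) (g' := (QuotientGroup.mk y : R ⧸ T)) hxQ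
      obtain ⟨k, hk⟩ := Subgroup.mem_zpowers_iff.mp hmem
      have ht : x ^ (-k) * y ∈ T := by
        rw [← QuotientGroup.eq_one_iff, QuotientGroup.mk_mul, QuotientGroup.mk_zpow, ← hk]
        rw [← zpow_add]; simp
      have htx : x ^ (-k) * y ∈ Subgroup.centralizer ({x} : Set R) := by
        rw [Subgroup.mem_centralizer_iff]
        intro b hb
        rw [Set.mem_singleton_iff] at hb; subst hb
        have h1 : Commute b (b ^ (-k)) := (Commute.refl b).zpow_right _
        have h2 : Commute b y := hyx
        exact (h1.mul_right h2).eq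
      have : y = x ^ k * (x ^ (-k) * y) := by
        rw [← mul_assoc, ← zpow_add]; simp
      rw [this]
      exact Subgroup.mul_mem_sup (Subgroup.zpow_mem_zpowers x k) ⟨ht, htx⟩

end Cfsg.Agent.Lib.Helper24
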