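import Mathlib
import Cfsg.Prelude.Def_OddOrderLocal
import Cfsg.Agent.Lib.Helper24.NarrowOfMaxSq
import Cfsg.Agent.Lib.Helper24.HallCore
import Cfsg.Agent.Lib.Helper24.OddSolvableStructure
import Cfsg.Agent.Lib.Helper34.NonSigma
import Cfsg.Agent.Lib.Helper67.NarrowApply
import Cfsg.Agent.Lib.Helper9.NPCLemmas
import Cfsg.Agent.Lib.Helper2.FusionComplement
import Cfsg.Agent.S1450
import Cfsg.Agent.S1455

/-!
# Bender–Glauberman 10.8–10.10: `M_β`, nilpotent Hall `β'`-subgroups, normal `p`-complements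

Conditional on the Uniqueness Theorem (`Helper34.UniquenessThm`), `p`-length one for the maximal
subgroup (S1410) and `P ≤ N_G(P)'` for Sylow subgroups (S1411).
-/

set_option autoImplicit false

namespace Cfsg.Agent.Lib.Helper24

open Cfsg

universe u

/-- Narrowness from a maximal elementary abelian subgroup of order `p ^ 2` in an isomorphic group. -/
theorem isNarrow_of_mulEquiv_maximal_sq {R R' : Type u} [Group R] [Group R'] [Finite R']
    (e : R ≃* R') (p : ℕ) [Fact p.Prime] (hp2 : p ≠ 2) (hR' : IsPGroup p R')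
    (hr' : ¬ PRankLE p 2 R') (E : Subgroup R) (hE : IsElementaryAbelian p E)
    (hE2 : Nat.card E = p ^ 2)
    (hEmax : ∀ B : Subgroup R, IsElementaryAbelian p B → E ≤ B → B = E) : IsNarrow p R' := by
  have hmapE : ∀ (R₁ R₂ : Type u) [Group R₁] [Group R₂] (f : R₁ ≃* R₂) (B : Subgroup R₁),
      IsElementaryAbelian p B → IsElementaryAbelian p (B.map f.toMonoidHom) := by
    intro R₁ R₂ _ _ f B hB
    have := hB.1
    refine ⟨inferInstance, ?_⟩
    rintro _ ⟨a, ha, rfl⟩
    rw [← map_pow, hB.2 a ha, map_one]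
  apply isNarrow_of_maximal_sq p hp2 hR' hr' (E.map e.toMonoidHom) (hmapE R R' e E hE)
  · rw [Subgroup.card_map_of_injective e.injective, hE2]
  · intro B hB hEB
    have hB0 := hmapE R' R e.symm B hB
    have hle : E ≤ B.map e.symm.toMonoidHom := by
      intro x hx
      exact ⟨e x, hEB ⟨x, hx, rfl⟩, by simp⟩
    have h1 := hEmax _ hB0 hle
    rw [← h1, Subgroup.map_map]
    ext y
    constructor
    · intro hy
      exact ⟨y, hy, by simp⟩
    · rintro ⟨z, hz, rfl⟩
      simpa using hz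

/-- If `p` is not ideal for `G` but `M` has `p`-rank at least `3`, then a Sylow `p`-subgroup of `M`
that is a Sylow `p`-subgroup of `G` is narrow. -/
theorem isNarrow_sylow_of_not_ideal {G : Type u} [Group G] [Finite G] (M : Subgroup G) (p : ℕ)
    [hp : Fact p.Prime] (hp2 : p ≠ 2) (S : Sylow p ↥M) (Q : Sylow p G)
    (hQ : (Q : Subgroup G) = (S : Subgroup ↥M).map M.subtype)
    (hα : ¬ PRankLE p 2 ↥M) (hni : ¬ IsIdealPrime p G) : IsNarrow p ↥(S : Subgroup ↥M) := by
  have hrG : ¬ PRankLE p 2 G := by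
    obtain ⟨F, _, hFe, hFc⟩ := (Cfsg.Agent.Lib.Helper45.not_pRankLE_subgroup_iff 2 M).mp hα
    exact (Cfsg.Agent.Lib.Helper45.not_pRankLE_iff 2).mpr ⟨F, hFe, hFc⟩
  unfold IsIdealPrime at hni
  push Not at hni
  obtain ⟨P₀, A, hAP, hAe, hAc, hAmax⟩ := hni hp.out hrG
  -- the equivalence `P₀ ≃* S`
  let e₁ : ↥(S : Subgroup ↥M) ≃* ↥((S : Subgroup ↥M).map M.subtype) :=
    Subgroup.equivMapOfInjective _ _ M.subtype_injective
  let e₂ : ↥(Q : Subgroup G) ≃* ↥((S : Subgroup ↥M).map M.subtype) := MulEquiv.subgroupCongr hQ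
  let e₃ : ↥(P₀ : Subgroup G) ≃* ↥(Q : Subgroup G) := Sylow.equiv P₀ Q
  let e : ↥(P₀ : Subgroup G) ≃* ↥(S : Subgroup ↥M) := e₃.trans (e₂.trans e₁.symm)
  have hr' : ¬ PRankLE p 2 ↥(S : Subgroup ↥M) := fun h =>
    hα (Cfsg.Agent.Lib.Helper67.pRankLE_of_sylow p 2 S h)
  apply isNarrow_of_mulEquiv_maximal_sq e p hp2 S.isPGroup' hr' (A.subgroupOf (P₀ : Subgroup G))
  · refine ⟨⟨⟨fun a b => ?_⟩⟩, fun a ha => ?_⟩
    · apply Subtype.ext
      apply Subtype.ext
      have := hAe.1
      exact setLike_mul_comm (Subgroup.mem_subgroupOf.mp a.2) (Subgroup.mem_subgroupOf.mp b.2)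
    · apply Subtype.ext
      have := hAe.2 (a : G) (Subgroup.mem_subgroupOf.mp ha)
      simpa using this
  · rw [Nat.card_congr (Subgroup.subgroupOfEquivOfLe hAP).toEquiv, hAc]
  · intro B hB hEB
    by_contra hne
    have hBe : IsElementaryAbelian p (B.map (P₀ : Subgroup G).subtype) := by
      have := hB.1
      refine ⟨inferInstance, ?_⟩
      rintro _ ⟨b, hb, rfl⟩
      rw [← map_pow, hB.2 b hb, map_one]
    have hAB : A ≤ B.map (P₀ : Subgroup G).subtype := by
      intro a ha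
      exact ⟨⟨a, hAP ha⟩, hEB (Subgroup.mem_subgroupOf.mpr ha), rfl⟩
    have hlt : A < B.map (P₀ : Subgroup G).subtype := by
      apply lt_of_le_of_ne hAB
      intro h
      apply hne
      ext b
      rw [Subgroup.mem_subgroupOf, h]
      constructor
      · intro hb
        exact ⟨b, hb, rfl⟩
      · rintro ⟨b', hb', hbb'⟩
        have : b' = b := Subtype.ext hbb'
        exact this ▸ hb'
    exact hAmax _ (Subgroup.map_subtype_le _) hBe hlt

/-- For a prime `q ∣ |M|` outside `β(M)`: `M'` has a normal `q`-complement and the primes dividing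
`|M : O_{q'}(M)|` are at most `q`. -/
theorem npc_of_not_beta {G : Type u} [Group G] [Finite G] (hG : IsMinSimpleOddOrder G)
    (hU : Cfsg.Agent.Lib.Helper34.UniquenessThm G) (M : Subgroup G) (hM : IsCoatom M)
    (hpl : ∀ (p : ℕ) [Fact p.Prime], PLengthLE p 1 ↥M)
    (q : ℕ) (hq : q.Prime) (hqM : q ∣ Nat.card M) (hqβ : q ∉ beta M) :
    HasNormalPComplement q ↥(commutator ↥M) ∧
      ∀ r : ℕ, r.Prime → r ∣ (pPrimeCore q ↥M).index → r ≤ q := by
  have : Fact q.Prime := ⟨hq⟩
  have hsimple : IsSimpleGroup G := hG.2.1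
  have hsolv : Group.IsSolvable ↥M := hG.2.2.2 M hM.1
  have hodd : Odd (Nat.card ↥M) := Odd.of_dvd_nat hG.1 (Subgroup.card_subgroup_dvd_card M)
  have hq2 : q ≠ 2 := by
    rintro rfl
    exact (Nat.not_even_iff_odd.mpr hodd) (even_iff_two_dvd.mpr hqM)
  by_cases hr : PRankLE q 2 ↥M
  · obtain ⟨h1, -, h3, -⟩ := Cfsg.Agent.S1450.result hodd q hqM hr
    exact ⟨h3, h1⟩
  · have hα : q ∈ alpha M := ⟨hq, hr⟩
    have hni : ¬ IsIdealPrime q G := fun h => hqβ ⟨hα, h⟩
    have hσ : q ∈ sigma M := by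
      by_contra h
      exact hr (Cfsg.Agent.Lib.Helper34.pRankLE_two_of_not_mem_sigma hU hM h)
    obtain ⟨-, -, P, hP⟩ := hσ
    obtain ⟨Q, hQ⟩ := Cfsg.Agent.Lib.Helper34.exists_sylow_eq_map_of_normalizer_le P hP
    have hnar := isNarrow_sylow_of_not_ideal M q hq2 P Q hQ hr hni
    obtain ⟨h1, -, h3, -⟩ := Cfsg.Agent.S1455.result hodd q hqM P hnar (fun _ => hpl q)
    exact ⟨h3, h1⟩

/-- From a normal `q`-complement of a normal subgroup `D ⊴ X`: a normal subgroup of `X` of order prime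
to `q` containing every `q'`-element of `D`. -/
theorem exists_normal_of_npc {X : Type u} [Group X] [Finite X] (q : ℕ) [Fact q.Prime]
    (D : Subgroup X) [hD : D.Normal] (h : HasNormalPComplement q ↥D) :
    ∃ N : Subgroup X, N.Normal ∧ (Nat.card N).Coprime q ∧
      ∀ x ∈ D, (orderOf x).Coprime q → x ∈ N := by
  obtain ⟨K, hKn, hKc, k, hk⟩ :=
    Cfsg.Agent.Lib.Helper9.exists_normal_coprime_of_hasNormalPComplement h
  have hmem : ∀ x ∈ D, (orderOf x).Coprime q → x ∈ K.map D.subtype := by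
    intro x hx hcop
    have : (⟨x, hx⟩ : D) ∈ K := by
      apply mem_of_coprime_index K
      rw [hk, Subgroup.orderOf_mk]
      exact Nat.Coprime.pow_right k hcop
    exact ⟨⟨x, hx⟩, this, rfl⟩
  have hcard : Nat.card (K.map D.subtype) = Nat.card K :=
    Subgroup.card_map_of_injective D.subtype_injective
  refine ⟨K.map D.subtype, ⟨?_⟩, by rw [hcard]; exact hKc, hmem⟩
  rintro _ ⟨⟨n, hnD⟩, hnK, rfl⟩ g
  apply hmem _ (hD.conj_mem n hnD g)
  have h1 : orderOf (g * n * g⁻¹) = orderOf n := (MulAut.conj g).orderOf_eq n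
  have h2 : orderOf n ∣ Nat.card K := by
    have := orderOf_dvd_natCard (⟨⟨n, hnD⟩, hnK⟩ : K)
    rwa [Subgroup.orderOf_mk, Subgroup.orderOf_mk] at this
  show (orderOf (g * n * g⁻¹)).Coprime q
  rw [h1]
  exact Nat.Coprime.coprime_dvd_left h2 hKc

/-- Normal `q`-complements transport along isomorphisms. -/
theorem hasNormalPComplement_of_mulEquiv {A B : Type u} [Group A] [Group B] [Finite A] [Finite B]
    (q : ℕ) [Fact q.Prime] (e : A ≃* B) (h : HasNormalPComplement q A) :
    HasNormalPComplement q B := by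
  obtain ⟨K, hKn, hKc, k, hk⟩ :=
    Cfsg.Agent.Lib.Helper9.exists_normal_coprime_of_hasNormalPComplement h
  have hn : (K.map e.toMonoidHom).Normal := hKn.map _ e.surjective
  apply hasNormalPComplement_of_normal_of_coprime_of_index q (K.map e.toMonoidHom)
  · rw [Subgroup.card_map_of_injective e.injective]; exact hKc
  · exact ⟨k, by rw [← hk]; exact Subgroup.index_map_equiv (H := K) e⟩

/-- Schur–Zassenhaus: a Sylow subgroup has a complement in its normalizer. -/
theorem exists_isComplIn_sylow_normalizer {G : Type u} [Group G] [Finite G] (p : ℕ)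
    [hp : Fact p.Prime] (P : Sylow p G) :
    ∃ V : Subgroup G, IsComplIn (P : Subgroup G) V (Subgroup.normalizer ((P : Subgroup G) : Set G)) := by
  set N := Subgroup.normalizer ((P : Subgroup G) : Set G) with hN
  have hPN : (P : Subgroup G) ≤ N := Subgroup.le_normalizer
  have hcard : Nat.card ((P : Subgroup G).subgroupOf N) = Nat.card (P : Subgroup G) :=
    Nat.card_congr (Subgroup.subgroupOfEquivOfLe hPN).toEquiv
  have hcop : (Nat.card ((P : Subgroup G).subgroupOf N)).Coprime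
      ((P : Subgroup G).subgroupOf N).index := by
    rw [hcard]
    obtain ⟨k, hk⟩ := IsPGroup.iff_card.mp P.isPGroup'
    rw [hk]
    apply Nat.Coprime.pow_left
    rw [Nat.Prime.coprime_iff_not_dvd hp.out]
    intro hdvd
    exact P.not_dvd_index (hdvd.trans (Subgroup.relIndex_dvd_index_of_le hPN))
  obtain ⟨V', hV'⟩ := Subgroup.exists_right_complement'_of_coprime hcop
  refine ⟨V'.map N.subtype, hPN, Subgroup.map_subtype_le _, ?_, ?_⟩
  · rw [eq_bot_iff]
    rintro x ⟨hxP, ⟨v, hv, rfl⟩⟩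
    have h1 : v ∈ (P : Subgroup G).subgroupOf N ⊓ V' := ⟨Subgroup.mem_subgroupOf.mpr hxP, hv⟩
    rw [hV'.disjoint.eq_bot, Subgroup.mem_bot] at h1
    rw [Subgroup.mem_bot, h1]; rfl
  · intro m hm
    obtain ⟨⟨a, b⟩, hab⟩ := hV'.2 ⟨m, hm⟩
    refine ⟨(a : N), Subgroup.mem_subgroupOf.mp a.2, (b : N), ⟨b, b.2, rfl⟩, ?_⟩
    have := congrArg Subtype.val hab
    simpa using this.symm

end Cfsg.Agent.Lib.Helper24
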