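import Mathlib
import Cfsg.Prelude.Def_OddOrderLocal
import Cfsg.Agent.Lib.Helper24.BetaCore

/-!
# Bender–Glauberman 10.8–10.10 (statement S1414), conditional form

`s1414_of`: the conclusion of S1414 from the Uniqueness Theorem (S1403), `p`-length one of the
maximal subgroup (S1410), and `P ≤ N_G(P)'` for Sylow subgroups (S1411).
-/

set_option autoImplicit false

namespace Cfsg.Agent.Lib.Helper24

open Cfsg

universe u

theorem relIndex_map_subtype_self {G : Type u} [Group G] (M : Subgroup G) (K : Subgroup ↥M) :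
    (K.map M.subtype).relIndex M = K.index := by
  unfold Subgroup.relIndex Subgroup.subgroupOf
  rw [Subgroup.comap_map_eq_self_of_injective M.subtype_injective]

theorem s1414_of {G : Type u} [Group G] [Finite G] (hG : IsMinSimpleOddOrder G)
    (hU : Cfsg.Agent.Lib.Helper34.UniquenessThm G) (M : Subgroup G) (hM : IsCoatom M)
    (hpl : ∀ (p : ℕ) [Fact p.Prime], PLengthLE p 1 ↥M)
    (h1411 : ∀ (p : ℕ) [Fact p.Prime] (P : Sylow p G), (P : Subgroup G) ≤
      ⁅Subgroup.normalizer ((P : Subgroup G) : Set G), Subgroup.normalizer ((P : Subgroup G) : Set G)⁆) :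
    IsPiHallOf (beta M) (piCoreOf (beta M) M) M ∧ IsPiHall (beta M) (piCoreOf (beta M) M) ∧
      (∃ H : Subgroup G, IsPiHallOf {q | q.Prime ∧ q ∉ beta M} H ⁅M, M⁆ ∧ Group.IsNilpotent H) ∧
      (∃ H : Subgroup G, IsPiHallOf {q | q.Prime ∧ q ∉ beta M} H (sigmaCore M) ∧
        Group.IsNilpotent H) ∧
      ∀ p : ℕ, p.Prime → p ∣ Nat.card M → p ∉ beta M →
        HasNormalPComplement p ↥⁅M, M⁆ ∧ HasNormalPComplement p ↥(sigmaCore M) ∧
        ∀ q : ℕ, q.Prime → q ∣ (pPrimeCore p ↥M).index → q ≤ p := by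
  classical
  have hsimple : IsSimpleGroup G := hG.2.1
  set D : Subgroup ↥M := commutator ↥M with hD
  have hDn : D.Normal := inferInstance
  have hDmap : D.map M.subtype = ⁅M, M⁆ := Subgroup.map_subtype_commutator M
  -- for `p ∈ σ(M)` the Sylow `p`-subgroups of `M` are Sylow in `G` and lie in `M'`
  have hσ : ∀ p, p ∈ sigma M → ¬ p ∣ D.index ∧ ¬ p ∣ M.index := by
    rintro p ⟨hp, -, P, hP⟩
    have : Fact p.Prime := ⟨hp⟩
    obtain ⟨Q, hQ⟩ := Cfsg.Agent.Lib.Helper34.exists_sylow_eq_map_of_normalizer_le P hP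
    constructor
    · intro hdvd
      have h1 := h1411 p Q
      have h2 : ⁅Subgroup.normalizer ((Q : Subgroup G) : Set G),
          Subgroup.normalizer ((Q : Subgroup G) : Set G)⁆ ≤ ⁅M, M⁆ := by
        rw [hQ]; exact Subgroup.commutator_mono hP hP
      have h3 : (P : Subgroup ↥M).map M.subtype ≤ D.map M.subtype := by
        rw [hDmap, ← hQ]; exact h1.trans h2
      have h4 : (P : Subgroup ↥M) ≤ D :=
        (Subgroup.map_le_map_iff_of_injective M.subtype_injective).mp h3
      exact P.not_dvd_index (hdvd.trans (Subgroup.index_dvd_of_le h4))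
    · intro hdvd
      have hQM : (Q : Subgroup G) ≤ M := by rw [hQ]; exact Subgroup.map_subtype_le _
      exact Q.not_dvd_index (hdvd.trans (Subgroup.index_dvd_of_le hQM))
  have hβσ : ∀ p, p ∈ beta M → p ∈ sigma M := by
    intro p hpβ
    have hp : p.Prime := hpβ.1.1
    have : Fact p.Prime := ⟨hp⟩
    by_contra h
    exact hpβ.1.2 (Cfsg.Agent.Lib.Helper34.pRankLE_two_of_not_mem_sigma hU hM h)
  have hN : ∀ q : ℕ, q.Prime → q ∉ beta M → ∃ N : Subgroup ↥M, N.Normal ∧
      (Nat.card N).Coprime q ∧ ∀ x ∈ D, (orderOf x).Coprime q → x ∈ N := by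
    intro q hq hqβ
    have : Fact q.Prime := ⟨hq⟩
    by_cases hqM : q ∣ Nat.card M
    · exact exists_normal_of_npc q D (npc_of_not_beta hG hU M hM hpl q hq hqM hqβ).1
    · refine ⟨⊤, inferInstance, ?_, fun x _ _ => Subgroup.mem_top x⟩
      rw [Subgroup.card_top]
      exact ((Nat.Prime.coprime_iff_not_dvd hq).mpr hqM).symm
  obtain ⟨hHall, hS⟩ := hall_structure (beta M) D hN (fun p _ hpβ => (hσ p (hβσ p hpβ)).1)
  -- `O_β(M) ≤ O_σ(M) ≤ M'`
  have hβleσ : piCore (beta M) ↥M ≤ piCore (sigma M) ↥M := by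
    apply Cfsg.Agent.Lib.Helper54.le_piCore _ inferInstance
    intro r hr hrd
    exact hβσ r (Cfsg.Agent.Lib.Helper54.piCore_isPi (beta M) r hr hrd)
  have hσleD : piCore (sigma M) ↥M ≤ D := by
    intro x hx
    apply mem_of_coprime_index D x
    apply Nat.coprime_of_dvd
    intro r hr hrx hrD
    have h1 : r ∣ Nat.card (piCore (sigma M) ↥M) := by
      have := orderOf_dvd_natCard (⟨x, hx⟩ : piCore (sigma M) ↥M)
      rw [Subgroup.orderOf_mk] at this
      exact hrx.trans this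
    exact (hσ r (Cfsg.Agent.Lib.Helper54.piCore_isPi (sigma M) r hr h1)).1 hrD
  -- transporting the Hall subgroups
  have htrans : ∀ S : Subgroup ↥M, piCore (beta M) ↥M ≤ S → S ≤ D →
      ∃ H : Subgroup G, IsPiHallOf {q | q.Prime ∧ q ∉ beta M} H (S.map M.subtype) ∧
        Group.IsNilpotent H := by
    intro S h1 h2
    obtain ⟨H, hHS, hHpi, hHrel, hHnil⟩ := hS S h1 h2
    refine ⟨H.map M.subtype, ⟨Subgroup.map_mono hHS, ?_, ?_⟩, ?_⟩
    · intro q hq hqd
      rw [Subgroup.card_map_of_injective M.subtype_injective] at hqd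
      exact ⟨hq, hHpi q hq hqd⟩
    · intro q hq hqπ
      rw [Subgroup.relIndex_map_map_of_injective _ _ M.subtype_injective]
      exact hHrel q hq hqπ.2
    · exact (Group.isNilpotent_congr
        (Subgroup.equivMapOfInjective H M.subtype M.subtype_injective)).mp hHnil
  refine ⟨⟨Cfsg.Agent.Lib.Helper54.piCoreOf_le _ _, Cfsg.Agent.Lib.Helper54.piCoreOf_isPi _ _, ?_⟩,
    ⟨Cfsg.Agent.Lib.Helper54.piCoreOf_isPi _ _, ?_⟩, ?_, ?_, ?_⟩
  · intro p hp hpβ
    unfold piCoreOf
    rw [relIndex_map_subtype_self]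
    exact hHall p hp hpβ
  · intro p hp hpβ hdvd
    rw [← Subgroup.relIndex_mul_index (Cfsg.Agent.Lib.Helper54.piCoreOf_le (beta M) M)] at hdvd
    rcases (Nat.Prime.dvd_mul hp).mp hdvd with h | h
    · unfold piCoreOf at h
      rw [relIndex_map_subtype_self] at h
      exact hHall p hp hpβ h
    · exact (hσ p (hβσ p hpβ)).2 h
  · have := htrans D (hβleσ.trans hσleD) le_rfl
    rwa [hDmap] at this
  · exact htrans (piCore (sigma M) ↥M) hβleσ hσleD
  · intro p hp hpM hpβ
    have : Fact p.Prime := ⟨hp⟩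
    obtain ⟨hnpc, hle⟩ := npc_of_not_beta hG hU M hM hpl p hp hpM hpβ
    let e : ↥D ≃* ↥⁅M, M⁆ :=
      (Subgroup.equivMapOfInjective D M.subtype M.subtype_injective).trans
        (MulEquiv.subgroupCongr hDmap)
    have h1 : HasNormalPComplement p ↥⁅M, M⁆ := hasNormalPComplement_of_mulEquiv p e hnpc
    refine ⟨h1, ?_, hle⟩
    have hσle : sigmaCore M ≤ ⁅M, M⁆ := by
      rw [← hDmap]; exact Subgroup.map_mono hσleD
    have h2 := Cfsg.Agent.Lib.Helper2.hasNormalPComplement_subgroup h1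
      ((sigmaCore M).subgroupOf ⁅M, M⁆)
    exact hasNormalPComplement_of_mulEquiv p (Subgroup.subgroupOfEquivOfLe hσle) h2

end Cfsg.Agent.Lib.Helper24
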