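import Mathlib
import Cfsg.Agent.Lib.Helper24.PrimeAction
import Cfsg.Agent.Lib.Helper68.BG108
import Cfsg.Agent.S1414

/-!
# Bender–Glauberman Lemma 12.15(d) (`sigma_subgroup_embedding`, part (d))

Setting of S1424: `M` maximal, `q ∈ σ(M)`, `S` a `q`-subgroup of `M ∩ L`, `L ≠ M` maximal, `S` a Sylow
`q`-subgroup of `L` and `N_G(S) ≤ M`.

* `sigma_embed_d1` (`q ∈ σ(L)`): `L = (M ∩ L) L_β`, `α(L) = β(L)`, `L_α ≠ 1`, and symmetrically for `M`;
  `τ₁(L) ⊆ τ₁(M) ∪ α(M)` and `τ₁(M) ⊆ τ₁(L) ∪ α(L)`.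
* `sigma_embed_d2` (`q ∉ σ(L)`): `q ∈ τ₂(L)` and `M ∩ L` is a complement of `L_σ` in `L`.
-/

set_option autoImplicit false

namespace Cfsg.Agent.Lib.Helper24

open Cfsg
open scoped Pointwise commutatorElement
open Cfsg.Agent.Lib.Helper34 (UniquenessThm)

universe u

variable {G : Type u} [Group G]

/-- `β`-version of `Helper50.isNilpotent_commutator_quotient`: the derived subgroup of `M / M_β` is
nilpotent (from S1414). -/
theorem isNilpotent_commutator_quotient_beta [Finite G] (hG : IsMinSimpleOddOrder G)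
    (M : Subgroup G) (hM : IsCoatom M) :
    Group.IsNilpotent ↥(commutator (↥M ⧸ piCore (beta M) ↥M)) := by
  have h14 := Cfsg.Agent.S1414.result hG M hM
  have hnpc : ∀ p : ℕ, p.Prime → p ∉ beta M → HasNormalPComplement p ↥(commutator ↥M) := by
    intro p hp hpβ
    have : Fact p.Prime := ⟨hp⟩
    by_cases hpM : p ∣ Nat.card M
    · have h1 := (h14.2.2.2.2 p hp hpM hpβ).1
      exact Cfsg.Agent.Lib.Helper68.hasNormalPComplement_of_mulEquiv
        (((commutator ↥M).equivMapOfInjective M.subtype M.subtype_injective).trans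
          (MulEquiv.subgroupCongr (Subgroup.map_subtype_commutator M))).symm h1
    · apply Cfsg.Agent.Lib.Helper68.hasNormalPComplement_of_not_dvd
      intro hd
      exact hpM (hd.trans (Subgroup.card_subgroup_dvd_card _))
  obtain ⟨T, hTn, hT1, hT2, hTcop, H, hH, hnil⟩ :=
    Cfsg.Agent.Lib.Helper68.exists_normal_hall_nilpotent_compl (X := ↥(commutator ↥M)) (beta M) hnpc
  -- `T`, viewed in `M`, is a normal `β`-subgroup
  have hT₁n : (T.map (commutator ↥M).subtype).Normal := by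
    constructor
    rintro _ ⟨t, ht, rfl⟩ m
    have hc : m * (t : ↥M) * m⁻¹ ∈ commutator ↥M :=
      (inferInstance : (commutator ↥M).Normal).conj_mem _ t.2 m
    refine ⟨⟨_, hc⟩, ?_, rfl⟩
    show (⟨_, hc⟩ : ↥(commutator ↥M)) ∈ T
    rw [Cfsg.Agent.Lib.Helper68.mem_normal_hall_iff T hTcop]
    have h1 := (Cfsg.Agent.Lib.Helper68.mem_normal_hall_iff T hTcop t).mp ht
    apply Subtype.ext
    rw [Subgroup.coe_pow]
    show (m * (t : ↥M) * m⁻¹) ^ Nat.card T = 1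
    rw [conj_pow]
    have h2 : ((t ^ Nat.card T : ↥(commutator ↥M)) : ↥M) = 1 := by rw [h1]; rfl
    rw [Subgroup.coe_pow] at h2
    rw [h2, mul_one, mul_inv_cancel]
  have hT₁β : ∀ r : ℕ, r.Prime → r ∣ Nat.card (T.map (commutator ↥M).subtype) → r ∈ beta M := by
    intro r hr hrd
    rw [Subgroup.card_map_of_injective (Subgroup.subtype_injective _)] at hrd
    exact hT1 r hr hrd
  have hT₁le : T.map (commutator ↥M).subtype ≤ piCore (beta M) ↥M :=
    Cfsg.Agent.Lib.Helper54.le_piCore (beta M) hT₁n hT₁β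
  -- the image of `M'` in `M / M_β` is the image of `H`
  let φ : ↥M →* ↥M ⧸ piCore (beta M) ↥M := QuotientGroup.mk' (piCore (beta M) ↥M)
  let ψ : ↥H →* ↥M ⧸ piCore (beta M) ↥M := (φ.comp (commutator ↥M).subtype).comp H.subtype
  have hrange : commutator (↥M ⧸ piCore (beta M) ↥M) = ψ.range := by
    have h1 : commutator (↥M ⧸ piCore (beta M) ↥M) = (commutator ↥M).map φ := by
      rw [commutator_def, commutator_def, Subgroup.map_commutator,
        Subgroup.map_top_of_surjective φ (QuotientGroup.mk'_surjective _)]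
    rw [h1]
    apply le_antisymm
    · rintro _ ⟨x, hx, rfl⟩
      obtain ⟨⟨⟨t, ht⟩, ⟨h, hh⟩⟩, hth⟩ := hH.existsUnique (⟨x, hx⟩ : ↥(commutator ↥M))
      have hxeq : (⟨x, hx⟩ : ↥(commutator ↥M)) = t * h := hth.1.symm
      refine ⟨⟨h, hh⟩, ?_⟩
      have hx' : x = (t : ↥M) * (h : ↥M) := by
        have := congrArg Subtype.val hxeq
        simpa using this
      show φ (h : ↥M) = φ x
      rw [hx', map_mul]
      have : φ (t : ↥M) = 1 := by
        rw [QuotientGroup.mk'_apply, QuotientGroup.eq_one_iff]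
        exact hT₁le ⟨t, ht, rfl⟩
      rw [this, one_mul]
    · rintro _ ⟨h, rfl⟩
      exact ⟨(h : ↥(commutator ↥M)), (h : ↥(commutator ↥M)).2, rfl⟩
  rw [hrange]
  exact Group.nilpotent_of_surjective ψ.rangeRestrict ψ.rangeRestrict_surjective

/-- An `s`-subgroup `A` of `L` is `L`-conjugate into any `K ≤ L` with `s ∤ |L : K|`. -/
theorem exists_conj_le_of_not_dvd_relIndex [Finite G] {K L A : Subgroup G} (s : ℕ) [Fact s.Prime]
    (hAL : A ≤ L) (hA : IsPGroup s A) (hK : ¬ s ∣ K.relIndex L) :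
    ∃ l ∈ L, A.map (MulAut.conj l).toMonoidHom ≤ K := by
  have hQ : IsPGroup s (A.subgroupOf L) := hA.comap_subtype
  have hidx : ¬ s ∣ Nat.card (↥L ⧸ K.subgroupOf L) := by
    rw [← Subgroup.index_eq_card]; exact hK
  obtain ⟨a, ha⟩ := hQ.nonempty_fixed_point_of_prime_not_dvd_card (↥L ⧸ K.subgroupOf L) hidx
  induction a using QuotientGroup.induction_on with
  | H g =>
    refine ⟨(g : G)⁻¹, L.inv_mem g.2, ?_⟩
    rintro _ ⟨y, hy, rfl⟩
    have h1 := ha ⟨⟨y, hAL hy⟩, Subgroup.mem_subgroupOf.mpr hy⟩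
    have h2 : (((⟨y, hAL hy⟩ : ↥L) * g : ↥L) : ↥L ⧸ K.subgroupOf L) = (g : ↥L ⧸ K.subgroupOf L) := h1
    rw [QuotientGroup.eq] at h2
    have h3 := (K.subgroupOf L).inv_mem h2
    rw [Subgroup.mem_subgroupOf] at h3
    have e : ((((⟨y, hAL hy⟩ : ↥L) * g)⁻¹ * g)⁻¹ : ↥L) = g⁻¹ * ⟨y, hAL hy⟩ * g := by group
    rw [e] at h3
    show (g : G)⁻¹ * y * (g : G)⁻¹⁻¹ ∈ K
    rw [inv_inv]
    simpa using h3

/-- Conjugates of elementary abelian subgroups are elementary abelian. -/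
theorem isElementaryAbelian_map_conj {s : ℕ} {A : Subgroup G} (hA : IsElementaryAbelian s A) (g : G) :
    IsElementaryAbelian s (A.map (MulAut.conj g).toMonoidHom) := by
  have := hA.1
  refine ⟨Subgroup.map_isMulCommutative A _, ?_⟩
  rintro _ ⟨a, ha, rfl⟩
  rw [← map_pow, hA.2 a ha, map_one]

/-- Half of BG 12.15(d1): if `q ∈ σ(L)`, `S` is a Sylow `q`-subgroup of `L` and `N_L(S) ≤ M ≠ L`,
then `L = (M ∩ L) L_β`, the index `|L : M ∩ L|` is a `β(L)`-number, `α(L) = β(L)` and `L_β ≠ 1`. -/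
theorem sigma_embed_d1_half [Finite G] (hG : IsMinSimpleOddOrder G) (hU : UniquenessThm G)
    (M L : Subgroup G) (hM : IsCoatom M) (hL : IsCoatom L) (hne : L ≠ M)
    (q : ℕ) [Fact q.Prime] (hqL : q ∈ sigma L)
    (S : Subgroup G) (hSq : IsPGroup q S) (hSL : S ≤ L)
    (hSidx : ¬ q ∣ S.relIndex L) (hNS : L ⊓ Subgroup.normalizer (S : Set G) ≤ M) :
    M.subgroupOf L ⊔ piCore (beta L) ↥L = ⊤ ∧ (M ⊓ L) ⊔ piCoreOf (beta L) L = L ∧
      (∀ r : ℕ, r.Prime → r ∣ (M ⊓ L).relIndex L → r ∈ beta L) ∧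
      (∀ s : ℕ, s ∈ alpha L → s ∈ beta L) ∧ piCoreOf (beta L) L ≠ ⊥ := by
  have hU3 := Cfsg.Agent.Lib.Helper54.uniqThree_of_uniquenessThm hU
  have hSq' : IsPGroup q (S.subgroupOf L) := hSq.comap_subtype
  have hSidx' : ¬ q ∣ (S.subgroupOf L).index := hSidx
  obtain ⟨P, hP⟩ : ∃ P : Sylow q ↥L, (P : Subgroup L) = S.subgroupOf L :=
    ⟨hSq'.toSylow hSidx', IsPGroup.toSylow_coe _ _⟩
  have hPS : (P : Subgroup L).map L.subtype = S := by
    rw [hP, Subgroup.map_subgroupOf_eq_of_le hSL]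
  have hPcomm : (P : Subgroup L) ≤ commutator ↥L := by
    have h1 := Cfsg.Agent.Lib.Helper50.sylow_le_commutator_of_mem_sigma hG hU3 L hL q hqL P
    intro x hx
    have hx' : (x : G) ∈ ⁅L, L⁆ := h1 ⟨x, hx, rfl⟩
    rw [← Subgroup.map_subtype_commutator] at hx'
    obtain ⟨y, hy, hyx⟩ := hx'
    have : y = x := Subtype.ext hyx
    rwa [← this]
  have hnil := isNilpotent_commutator_quotient_beta hG L hL
  have hfr := normalizer_sup_eq_top_of_nilpotent_commutator_quotient (piCore (beta L) ↥L) q P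
    hPcomm hnil
  have hND : Subgroup.normalizer ((P : Subgroup L) : Set L) ≤ M.subgroupOf L := by
    intro x hx
    rw [Subgroup.mem_subgroupOf]
    apply hNS
    refine ⟨x.2, ?_⟩
    have h2 := Subgroup.le_normalizer_map (H := (P : Subgroup L)) L.subtype ⟨x, hx, rfl⟩
    rw [hPS] at h2
    exact h2
  have htop : M.subgroupOf L ⊔ piCore (beta L) ↥L = ⊤ := by
    rw [eq_top_iff, ← hfr]
    exact sup_le_sup_right hND _
  have hdvd := index_dvd_card_of_sup_eq_top _ _ htop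
  have hβ : ∀ r : ℕ, r.Prime → r ∣ (M ⊓ L).relIndex L → r ∈ beta L := by
    intro r hr hrd
    rw [Subgroup.inf_relIndex_right] at hrd
    exact Cfsg.Agent.Lib.Helper54.piCore_isPi (beta L) r hr (hrd.trans hdvd)
  have hsup : (M ⊓ L) ⊔ piCoreOf (beta L) L = L := by
    have h1 := congrArg (Subgroup.map L.subtype) htop
    rw [Subgroup.map_sup, Subgroup.subgroupOf_map_subtype, ← MonoidHom.range_eq_map,
      Subgroup.range_subtype] at h1
    exact h1
  have hβne : piCoreOf (beta L) L ≠ ⊥ := by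
    intro h
    rw [h, sup_bot_eq] at hsup
    have hLM : L ≤ M := by rw [← hsup]; exact inf_le_left
    exact hM.1 (hL.2 M (lt_of_le_of_ne hLM hne))
  refine ⟨htop, hsup, hβ, ?_, hβne⟩
  -- `α(L) ⊆ β(L)`
  rintro s ⟨hs, hsr⟩
  by_contra hsβ
  have : Fact s.Prime := ⟨hs⟩
  have hsidx : ¬ s ∣ (M ⊓ L).relIndex L := fun h => hsβ (hβ s hs h)
  obtain ⟨F, hFL, hFe, hFc⟩ := (Cfsg.Agent.Lib.Helper45.not_pRankLE_subgroup_iff 2 L).mp hsr
  have hFp : IsPGroup s F := Cfsg.Agent.Lib.Helper34.isPGroup_of_isElementaryAbelian hFe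
  obtain ⟨l, hl, hFl⟩ := exists_conj_le_of_not_dvd_relIndex s hFL hFp hsidx
  set F' := F.map (MulAut.conj l).toMonoidHom with hF'
  have hF'e : IsElementaryAbelian s F' := isElementaryAbelian_map_conj hFe l
  have hF'c : s ^ 2 < Nat.card F' := by
    rw [hF', Subgroup.card_map_of_injective (MulAut.conj l).injective]
    exact hFc
  have hF'M : F' ≤ M := hFl.trans inf_le_left
  have hF'L : F' ≤ L := hFl.trans inf_le_right
  have hF'top : F' ≠ ⊤ := fun h => hM.1 (top_le_iff.mp (h ▸ hF'M))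
  have h2 : ¬ RankLE 2 ↥F' :=
    Cfsg.Agent.Lib.Helper34.not_rankLE_of_isElementaryAbelian hF'e le_rfl hF'c
  have h1 : ¬ RankLE 1 ↥F' := fun h => h2 (Cfsg.Agent.Lib.Helper34.rankLE_two_of_rankLE_one h)
  obtain ⟨L', -, huniq⟩ := hU3 F' hF'top h1 h2
  exact hne ((huniq L ⟨hL, hF'L⟩).trans (huniq M ⟨hM, hF'M⟩).symm)

/-- If `K N = X` with `N` normal, then `X' ≤ K' N`. -/
theorem commutator_le_commutator_sup_of_sup_eq_top {X : Type u} [Group X] (K N : Subgroup X)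
    [N.Normal] (h : K ⊔ N = ⊤) : commutator X ≤ ⁅K, K⁆ ⊔ N := by
  have h1 : (commutator X).map (QuotientGroup.mk' N) = (⁅K, K⁆).map (QuotientGroup.mk' N) := by
    rw [commutator_def, Subgroup.map_commutator, Subgroup.map_commutator, ← h, Subgroup.map_sup]
    have : N.map (QuotientGroup.mk' N) = ⊥ := by
      rw [eq_bot_iff]
      rintro _ ⟨n, hn, rfl⟩
      rw [Subgroup.mem_bot, QuotientGroup.mk'_apply, QuotientGroup.eq_one_iff]
      exact hn
    rw [this, sup_bot_eq]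
  have h2 : commutator X ≤ ((commutator X).map (QuotientGroup.mk' N)).comap (QuotientGroup.mk' N) :=
    Subgroup.le_comap_map _ _
  rw [h1, Subgroup.comap_map_eq, QuotientGroup.ker_mk'] at h2
  exact h2

/-- BG 12.15(d1)(ii): `τ₁(L) ⊆ τ₁(M) ∪ α(M)` when `L = (M ∩ L) L_β` and `M = (M ∩ L) M_β`. -/
theorem sigma_embed_d1_tau1 [Finite G] (hG : IsMinSimpleOddOrder G) (hU : UniquenessThm G)
    (M L : Subgroup G) (hM : IsCoatom M) (hL : IsCoatom L)
    (hLtop : M.subgroupOf L ⊔ piCore (beta L) ↥L = ⊤)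
    (hMtop : L.subgroupOf M ⊔ piCore (beta M) ↥M = ⊤) :
    ∀ s ∈ tau1 L, s ∈ tau1 M ∨ s ∈ alpha M := by
  have hU3 := Cfsg.Agent.Lib.Helper54.uniqThree_of_uniquenessThm hU
  rintro s ⟨hs, hsσ, hsL, hsL', hsr⟩
  by_cases hα : s ∈ alpha M
  · exact Or.inr hα
  left
  have : Fact s.Prime := ⟨hs⟩
  have hsβL : s ∉ beta L := fun h =>
    hsσ (Cfsg.Agent.Lib.Helper50.alpha_subset_sigma hG hU3 L hL h.1)
  have hsβM : s ∉ beta M := fun h => hα h.1
  have hidxL : ¬ s ∣ M.relIndex L := fun h =>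
    hsβL (Cfsg.Agent.Lib.Helper54.piCore_isPi (beta L) s hs
      (h.trans (index_dvd_card_of_sup_eq_top _ _ hLtop)))
  have hidxM : ¬ s ∣ L.relIndex M := fun h =>
    hsβM (Cfsg.Agent.Lib.Helper54.piCore_isPi (beta M) s hs
      (h.trans (index_dvd_card_of_sup_eq_top _ _ hMtop)))
  -- `s ∣ |M ∩ L|`
  have hsML : s ∣ Nat.card ↥(M ⊓ L) := by
    have h1 : Nat.card ↥(M ⊓ L) * (M ⊓ L).relIndex L = Nat.card ↥L :=
      Cfsg.Agent.Lib.Helper54.card_mul_relIndex inf_le_right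
    rw [← h1, Subgroup.inf_relIndex_right] at hsL
    exact ((Nat.Prime.dvd_mul hs).mp hsL).resolve_right hidxL
  have hsM : s ∣ Nat.card ↥M := hsML.trans (Subgroup.card_dvd_of_le inf_le_left)
  -- rank
  have hrM : PRankLE s 1 ↥M := by
    by_contra hcon
    obtain ⟨F, hFM, hFe, hFc⟩ := (Cfsg.Agent.Lib.Helper45.not_pRankLE_subgroup_iff 1 M).mp hcon
    have hFp : IsPGroup s F := Cfsg.Agent.Lib.Helper34.isPGroup_of_isElementaryAbelian hFe
    obtain ⟨m, -, hFm⟩ := exists_conj_le_of_not_dvd_relIndex (K := L) s hFM hFp hidxM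
    apply (Cfsg.Agent.Lib.Helper45.not_pRankLE_subgroup_iff 1 L).mpr _ hsr
    refine ⟨_, hFm, isElementaryAbelian_map_conj hFe m, ?_⟩
    rw [Subgroup.card_map_of_injective (MulAut.conj m).injective]
    exact hFc
  -- derived subgroup
  have hM' : ¬ s ∣ Nat.card ↥⁅M, M⁆ := by
    intro hd
    have h1 := commutator_le_commutator_sup_of_sup_eq_top _ _ hMtop
    have h2 : Nat.card ↥⁅M, M⁆ = Nat.card ↥(commutator ↥M) := by
      rw [← Subgroup.map_subtype_commutator M,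
        Subgroup.card_map_of_injective M.subtype_injective]
    rw [h2] at hd
    have h3 := hd.trans ((Subgroup.card_dvd_of_le h1).trans
      (Cfsg.Agent.Lib.Helper76.card_sup_dvd_of_normal _ _))
    rcases (Nat.Prime.dvd_mul hs).mp h3 with h4 | h4
    · have h5 : Nat.card ↥⁅L.subgroupOf M, L.subgroupOf M⁆ ∣ Nat.card ↥⁅L, L⁆ := by
        rw [← Subgroup.card_map_of_injective M.subtype_injective, Subgroup.map_commutator,
          Subgroup.subgroupOf_map_subtype]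
        exact Subgroup.card_dvd_of_le (Subgroup.commutator_mono inf_le_left inf_le_left)
      exact hsL' (h4.trans h5)
    · exact hsβM (Cfsg.Agent.Lib.Helper54.piCore_isPi (beta M) s hs h4)
  -- `s ∉ σ(M)`
  have hsσM : s ∉ sigma M := by
    intro hσ
    obtain ⟨P⟩ : Nonempty (Sylow s ↥M) := inferInstance
    have h1 := Cfsg.Agent.Lib.Helper50.sylow_le_commutator_of_mem_sigma hG hU3 M hM s hσ P
    have h2 : s ∣ Nat.card ↥((P : Subgroup ↥M).map M.subtype) := by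
      rw [Subgroup.card_map_of_injective M.subtype_injective]
      exact P.dvd_card_of_dvd_card hsM
    exact hM' (h2.trans (Subgroup.card_dvd_of_le h1))
  exact ⟨hs, hsσM, hsM, hM', hrM⟩

/-- A `q`-subgroup `S ≤ L` with `q ∤ |L : S|` is the image of a Sylow `q`-subgroup of `L`. -/
theorem exists_sylow_map_eq_of_not_dvd_relIndex [Finite G] {q : ℕ} [Fact q.Prime] {S L : Subgroup G}
    (hSq : IsPGroup q S) (hSL : S ≤ L) (hSidx : ¬ q ∣ S.relIndex L) :
    ∃ P : Sylow q ↥L, (P : Subgroup ↥L).map L.subtype = S := by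
  have hSq' : IsPGroup q (S.subgroupOf L) := hSq.comap_subtype
  have hSidx' : ¬ q ∣ (S.subgroupOf L).index := hSidx
  refine ⟨hSq'.toSylow hSidx', ?_⟩
  rw [IsPGroup.toSylow_coe, Subgroup.map_subgroupOf_eq_of_le hSL]

/-- **BG Lemma 12.15(d1)**.  `M ≠ L` maximal, `q ∈ σ(M) ∩ σ(L)`, `S ≤ M ∩ L` a Sylow `q`-subgroup of `L`.
Then `L = (M ∩ L) L_β`, `|L : M ∩ L|` is a `β(L)`-number, `α(L) = β(L)`, `L_β ≠ 1`,
`τ₁(L) ⊆ τ₁(M) ∪ α(M)`, and the same with `M` and `L` interchanged. -/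
theorem sigma_embed_d1 [Finite G] (hG : IsMinSimpleOddOrder G) (hU : UniquenessThm G)
    (M L : Subgroup G) (hM : IsCoatom M) (hL : IsCoatom L) (hne : L ≠ M)
    (q : ℕ) [Fact q.Prime] (hqM : q ∈ sigma M) (hqL : q ∈ sigma L)
    (S : Subgroup G) (hSq : IsPGroup q S) (hSM : S ≤ M) (hSL : S ≤ L)
    (hSidx : ¬ q ∣ S.relIndex L) :
    ((M ⊓ L) ⊔ piCoreOf (beta L) L = L ∧
      (∀ r : ℕ, r.Prime → r ∣ (M ⊓ L).relIndex L → r ∈ beta L) ∧
      alpha L = beta L ∧ piCoreOf (beta L) L ≠ ⊥ ∧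
      ∀ s ∈ tau1 L, s ∈ tau1 M ∨ s ∈ alpha M) ∧
    ((L ⊓ M) ⊔ piCoreOf (beta M) M = M ∧
      (∀ r : ℕ, r.Prime → r ∣ (L ⊓ M).relIndex M → r ∈ beta M) ∧
      alpha M = beta M ∧ piCoreOf (beta M) M ≠ ⊥ ∧
      ∀ s ∈ tau1 M, s ∈ tau1 L ∨ s ∈ alpha L) ∧
    Subgroup.normalizer (S : Set G) ≤ M ⊓ L := by
  obtain ⟨PL, hPL⟩ := exists_sylow_map_eq_of_not_dvd_relIndex hSq hSL hSidx
  obtain ⟨hNL, Q, hQ⟩ := Cfsg.Agent.Lib.Helper68.sylow_of_mem_sigma hqL PL
  rw [hPL] at hNL hQ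
  have hSidxM : ¬ q ∣ S.relIndex M := by
    intro h
    have h1 : ¬ q ∣ S.index := by rw [← hQ]; exact Q.not_dvd_index
    exact h1 (by rw [← Subgroup.relIndex_mul_index hSM]; exact h.mul_right _)
  obtain ⟨PM, hPM⟩ := exists_sylow_map_eq_of_not_dvd_relIndex hSq hSM hSidxM
  have hNM := (Cfsg.Agent.Lib.Helper68.sylow_of_mem_sigma hqM PM).1
  rw [hPM] at hNM
  obtain ⟨a1, a2, a3, a4, a5⟩ := sigma_embed_d1_half hG hU M L hM hL hne q hqL S hSq hSL hSidx
    (inf_le_right.trans hNM)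
  obtain ⟨b1, b2, b3, b4, b5⟩ := sigma_embed_d1_half hG hU L M hL hM hne.symm q hqM S hSq hSM
    hSidxM (inf_le_right.trans hNL)
  refine ⟨⟨a2, a3, ?_, a5, sigma_embed_d1_tau1 hG hU M L hM hL a1 b1⟩,
    ⟨b2, b3, ?_, b5, sigma_embed_d1_tau1 hG hU L M hL hM b1 a1⟩, le_inf hNM hNL⟩
  · exact Set.ext fun s => ⟨a4 s, fun h => h.1⟩
  · exact Set.ext fun s => ⟨b4 s, fun h => h.1⟩

/-- An elementary abelian group of order `q ^ 2` is not cyclic. -/
theorem not_isCyclic_of_isElementaryAbelian_sq [Finite G] {q : ℕ} [Fact q.Prime] {B : Subgroup G}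
    (hBe : IsElementaryAbelian q B) (hBc : Nat.card B = q ^ 2) : ¬ IsCyclic ↥B := by
  have hq : q.Prime := Fact.out
  intro hc
  obtain ⟨g, hg⟩ := hc.exists_generator
  have h1 : orderOf g = Nat.card ↥B := orderOf_eq_card_of_forall_mem_zpowers hg
  have h2 : g ^ q = 1 := by
    apply Subtype.ext
    rw [Subgroup.coe_pow]
    exact hBe.2 g g.2
  have h3 : orderOf g ∣ q := orderOf_dvd_of_pow_eq_one h2
  rw [h1, hBc] at h3
  have h4 : q ^ 2 ≤ q := Nat.le_of_dvd hq.pos h3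
  have h5 : q < q ^ 2 := by
    have := hq.one_lt
    nlinarith
  omega

/-- **BG Lemma 12.15(d2)(i),(iii)**.  `M ≠ L` maximal, `q ∈ σ(M)`, `q ∉ σ(L)`, `X ≠ 1` a `q`-subgroup with
`N_G(X) ≤ L`, `S ≤ M ∩ L` a Sylow `q`-subgroup of `L`.  Then `q ∈ τ₂(L)` and `M ∩ L` is a complement of
`L_σ` in `L`.  The inputs `h1417e`, `h1418`, `h1420c` are clauses of S1417(e), S1418, S1420(c). -/
theorem sigma_embed_d2 [Finite G] (hG : IsMinSimpleOddOrder G) (hU : UniquenessThm G)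
    (h1417e : ∀ L : Subgroup G, IsCoatom L → ∀ (q : ℕ) [Fact q.Prime], q ∈ tau2 L →
      ∀ B : Subgroup G, B ≤ L → IsElementaryAbelian q B → Nat.card B = q ^ 2 →
        ∀ M' : Subgroup G, IsCoatom M' → M' ≠ L → B ≤ M' → sigmaCore L ⊓ M' = ⊥)
    (h1418 : ∀ L : Subgroup G, IsCoatom L → ∀ E : Subgroup G, IsComplIn E (sigmaCore L) L →
      ∀ (q : ℕ) [Fact q.Prime], q ∈ tau2 L → ∀ B : Subgroup G, B ≤ E →
        IsElementaryAbelian q B → Nat.card B = q ^ 2 →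
          L ⊓ Subgroup.normalizer (B : Set G) = E)
    (h1420c : ∀ M : Subgroup G, IsCoatom M → ∀ (q : ℕ) (P : Subgroup G), q ∈ sigma M →
      IsPGroup q P → P ≤ M → ¬ IsCyclic ↥P → Subgroup.normalizer (P : Set G) ≤ M)
    (M L : Subgroup G) (hM : IsCoatom M) (hL : IsCoatom L) (hne : L ≠ M)
    (q : ℕ) [Fact q.Prime] (hqM : q ∈ sigma M) (hqL : q ∉ sigma L)
    (X : Subgroup G) (hXq : IsPGroup q X) (hX1 : X ≠ ⊥)
    (hNX : Subgroup.normalizer (X : Set G) ≤ L)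
    (S : Subgroup G) (hSML : S ≤ M ⊓ L) (hSidx : ¬ q ∣ S.relIndex L) :
    q ∈ tau2 L ∧ IsComplIn (M ⊓ L) (sigmaCore L) L := by
  have hq : q.Prime := Fact.out
  have hτ : q ∈ tau2 L :=
    (Cfsg.Agent.Lib.Helper54.mem_sigma_or_tau2_of_normalizer_le hG hU L hL q X hXq hX1
      hNX).resolve_left hqL
  refine ⟨hτ, ?_⟩
  have hSL : S ≤ L := hSML.trans inf_le_right
  have hSM : S ≤ M := hSML.trans inf_le_left
  -- an `E_{q^2}` inside `S`
  obtain ⟨F, hFL, hFe, hFc⟩ :=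
    (Cfsg.Agent.Lib.Helper45.not_pRankLE_subgroup_iff 1 L).mp hτ.2.2.2
  have hFp : IsPGroup q F := Cfsg.Agent.Lib.Helper34.isPGroup_of_isElementaryAbelian hFe
  obtain ⟨l, -, hFl⟩ := exists_conj_le_of_not_dvd_relIndex (K := S) q hFL hFp hSidx
  have hF'r : ¬ PRankLE q 1 ↥(F.map (MulAut.conj l).toMonoidHom) := by
    apply (Cfsg.Agent.Lib.Helper45.not_pRankLE_subgroup_iff 1 _).mpr
    refine ⟨_, le_rfl, isElementaryAbelian_map_conj hFe l, ?_⟩
    rw [Subgroup.card_map_of_injective (MulAut.conj l).injective]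
    exact hFc
  obtain ⟨B, hBF, hBe, hBc⟩ :=
    Cfsg.Agent.Lib.Helper97.BGTwelve.exists_elemAb_sq_of_not_pRankLE_one _ hF'r
  have hBS : B ≤ S := hBF.trans hFl
  have hBM : B ≤ M := hBS.trans hSM
  have hBL : B ≤ L := hBS.trans hSL
  have hBq : IsPGroup q B := Cfsg.Agent.Lib.Helper34.isPGroup_of_isElementaryAbelian hBe
  have hNB : Subgroup.normalizer (B : Set G) ≤ M :=
    h1420c M hM q B hqM hBq hBM (not_isCyclic_of_isElementaryAbelian_sq hBe hBc)
  have hinf : sigmaCore L ⊓ M = ⊥ := h1417e L hL q hτ B hBL hBe hBc M hM hne.symm hBM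
  -- `M ∩ L` is a `σ(L)'`-group
  have hK : ∀ p : ℕ, p.Prime → p ∣ Nat.card ↥(M ⊓ L) → p ∉ sigma L := by
    intro p hp hpd hpσ
    have : Fact p.Prime := ⟨hp⟩
    obtain ⟨x, hx⟩ := exists_prime_orderOf_dvd_card' p hpd
    have hxL : Subgroup.zpowers (x : G) ≤ L := by
      rw [Subgroup.zpowers_le]; exact x.2.2
    have hxσ : ∀ r : ℕ, r.Prime → r ∣ Nat.card ↥(Subgroup.zpowers (x : G)) → r ∈ sigma L := by
      intro r hr hrd
      rw [Nat.card_zpowers, Subgroup.orderOf_coe, hx] at hrd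
      rw [(Nat.prime_dvd_prime_iff_eq hr hp).mp hrd]
      exact hpσ
    have h1 := Cfsg.Agent.Lib.Helper54.le_sigmaCore_of_isPi hG hU L hL hxL hxσ
    have h2 : (x : G) ∈ sigmaCore L ⊓ M := ⟨h1 (Subgroup.mem_zpowers _), x.2.1⟩
    rw [hinf, Subgroup.mem_bot] at h2
    have h3 : x = 1 := Subtype.ext h2
    rw [h3, orderOf_one] at hx
    exact hp.one_lt.ne hx
  have hLs : Group.IsSolvable ↥L := hG.2.2.2 L hL.1
  obtain ⟨E₀, hE₀, hKE⟩ := Cfsg.Agent.Lib.Helper97.BGTwelve.exists_complIn_ge hLs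
    (Cfsg.Agent.Lib.Helper54.sigmaCore_hall_of hG hU L hL).1 (inf_le_right : M ⊓ L ≤ L) hK
  have hE₀eq := h1418 L hL E₀ hE₀ q hτ B (hBS.trans (hSML.trans hKE)) hBe hBc
  have hE₀le : E₀ ≤ M ⊓ L := by
    rw [← hE₀eq]
    exact le_inf (inf_le_right.trans hNB) inf_le_left
  have : M ⊓ L = E₀ := le_antisymm hKE hE₀le
  rw [this]
  exact hE₀

end Cfsg.Agent.Lib.Helper24
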