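import Mathlib
import Cfsg.Prelude.Def_OddOrderLocal
import Cfsg.Agent.Lib.Helper54.BGFourteenDefs
import Cfsg.Agent.Lib.Helper96.BGFourteenTwoFinal
import Cfsg.Agent.Lib.Helper68.BGThirteenDInst

/-!
# `KstarCentUniq G`, unconditional  (helper24)

The uniqueness half of B&G Lemma 13.6 in the form used in §14 (`Helper54.KstarCentUniq`): for a Hall
`κ(M)`-subgroup `K ≠ 1` of a maximal subgroup `M` and `X ≤ K* = C_{M_σ}(K)` of prime order, `M` is the
only maximal subgroup containing `C_G(X)`.  From helper96's `exists_core` (a subgroup `P ≤ K` of order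
in `τ₁(M)` inside a complement `E`) and helper97's B&G 13.6 (`h136_uncond`), with helper68's
unconditional B&G 13.10(b), 13.11.
-/

set_option autoImplicit false

namespace Cfsg.Agent.Lib.Helper24

open Cfsg
open Cfsg.Agent.Lib.Helper54 (KstarCentUniq)
open Cfsg.Agent.Lib.Helper96.BG142

universe u

variable {G : Type u} [Group G] [Finite G]

/-- For a Hall `κ(M)`-subgroup `K ≠ 1`: a complement `E ≥ K` of `M_σ` in `M` and a subgroup `P ≤ K` of
prime order in `τ₁(M)`. -/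
theorem exists_compl_tau1_le_kappaHall (hG : IsMinSimpleOddOrder G) (M : Subgroup G)
    (hM : IsCoatom M) (K : Subgroup G) (hK : IsPiHallOf (kappa M) K M) (hK1 : K ≠ ⊥) :
    ∃ E P : Subgroup G, IsComplIn E (sigmaCore M) M ∧ K ≤ E ∧ P ≤ K ∧ Nat.card P ∈ tau1 M := by
  have hU : Cfsg.Agent.Lib.Helper34.UniquenessThm G :=
    fun K hK h1 h2 => Cfsg.Agent.S1403.result hG K hK h1 h2
  have h10 := Cfsg.Agent.Lib.Helper68.BG13D.h1310b hG
  have h11 := Cfsg.Agent.Lib.Helper68.BG13D.h1311 hG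
  obtain ⟨E, U, hC, -, -, -, P, hPK, hPτ⟩ := exists_core hG hU
    (fun M hM E hE => ⟨(Cfsg.Agent.S1415.result hG M hM E hE).2.1, fun E₃ hE₃ =>
      ⟨((Cfsg.Agent.S1415.result hG M hM E hE).2.2 E₃ hE₃).1,
        ((Cfsg.Agent.S1415.result hG M hM E hE).2.2 E₃ hE₃).2.2⟩⟩)
    (fun M hM E hE p _ hp A hAE hAe hAc X hXE hXc =>
      (Cfsg.Agent.S1418.result hG M hM E hE p hp A ⟨hAE, hAe, hAc⟩).1.2 X hXE hXc)
    (fun M hM E hE N hNM hNn hNσ => (Cfsg.Agent.S1420.result hG M hM E hE).1 N hNM hNn hNσ)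
    (fun M hM E hE p _ S hS1 hSc => Cfsg.Agent.S1427.result hG M hM E hE p S hS1 hSc)
    (fun M hM E hE p hp P hPE hP R hRE hR =>
      Cfsg.Agent.S1428.result hG M hM E hE p hp P hPE hP R hRE hR)
    h10 h11 (h1312_of_h1311 hG h11) M hM K hK hK1
  exact ⟨E, P, hC.compl, hC.KE, hPK, hPτ⟩

/-- **`KstarCentUniq G`** (first half of S1367 / uniqueness half of B&G 13.6 for `K*`). -/
theorem kstarCentUniq (hG : IsMinSimpleOddOrder G) : KstarCentUniq G := by
  intro M hM K hK hK1 X hX hXp L hL hCL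
  obtain ⟨E, P, hE, hKE, hPK, hPτ⟩ := exists_compl_tau1_le_kappaHall hG M hM K hK hK1
  have : Fact (Nat.card X).Prime := ⟨hXp⟩
  have hX' : X ≤ sigmaCore M ⊓ Subgroup.centralizer (P : Set G) :=
    hX.trans (inf_le_inf_left _ (Subgroup.centralizer_le (by
      intro x hx; exact hPK hx)))
  exact ((h136_uncond hG M hM E hE (Nat.card P) hPτ P (hPK.trans hKE) rfl (Nat.card X) X hX'
    rfl).1).2 L hL hCL

end Cfsg.Agent.Lib.Helper24
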