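import Mathlib
import Cfsg.Prelude.Def_OddOrderLocal
import Cfsg.Agent.Lib.Helper54.BGFourteenDefs
import Cfsg.Agent.Lib.Helper54.BGFourteenEmbed
import Cfsg.Agent.Lib.Helper23.BGFrobPrimact
import Cfsg.Agent.Lib.Helper23.BGFourteenD
import Cfsg.Agent.Lib.Helper21.BGFourteenSevenC
import Cfsg.Agent.Lib.Helper22.BGFourteenFourA
import Cfsg.Agent.Lib.Helper55.BGElevenD
import Cfsg.Agent.Lib.Helper50.Lemma141
import Cfsg.Agent.Lib.Helper62.PiHall
import Cfsg.Agent.S1350
import Cfsg.Agent.S1403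
import Cfsg.Agent.S1404
import Cfsg.Agent.S1417
import Cfsg.Agent.S1424
import Cfsg.Agent.S1429

/-!
# Bender–Glauberman Theorem 14.6 (S1435): the frame, steps (0)–(2)  (helper24)

Setting: `G` minimal simple of odd order, `M` maximal with standard factorisation `M = K U M_σ`,
`K ≠ 1`, `U ≠ 1`, `K* = C_{M_σ}(K)`, `M*` the partner (`K = C_{M*_σ}(K*)`, `K*` a Hall
`κ(M*)`-subgroup of `M*`), `s` a prime divisor of `|U|`, `S` a Sylow `s`-subgroup of `U`, `H` a maximal
subgroup containing `N_G(S)`.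

* `FrameM M Mstar K U`: the facts that do not involve `H` (step (0)): `|K|` prime, `K ≤ M*_σ`,
  `C_G(k) ≤ M*` for `k ∈ K#`, `N_G(K) = C_G(K)`, `M ∩ M* = K K*`, `U ∩ M* = 1`, `π(U) ∩ σ(M*) = ∅`,
  `U` abelian, `K` regular on `U`, `C_{M_σ}(U) = 1`, …
* `FrameH M Mstar H K U`: the facts about `H` (steps (1), (2)): `U ≤ H`, `K ≤ H`, `H` not conjugate to
  `M` or `M*`, `|K| ∉ σ(H)`, `σ(H)` disjoint from `σ(M)`, `σ(M*)`, `H_σ ∩ M* = 1`, `K` fixed-point-free on
  `H_σ`, `H_σ` nilpotent and nontrivial.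

Inputs (as hypotheses for the fixed group `G`): `Stmt1430 G`, `Stmt1431 G` (B&G 14.2),
`SigmaDisjoint G` (B&G 13.9), `Stmt1432 G` (B&G 14.3).  Landed rows (S1350, S1403, S1404, S1417,
S1424, S1429) are called directly.
-/

set_option autoImplicit false

namespace Cfsg.Agent.Lib.Helper24.BGSixFrame

open Cfsg
open Cfsg.Agent.Lib.Helper54
open Cfsg.Agent.Lib.Helper22.BGFourteenFour (Stmt1432)
open scoped Pointwise

universe u

variable {G : Type u} [Group G]

/-- Step (0) of B&G 14.6: the facts about `M`, `M*`, `K`, `U` that do not involve `H`. -/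
structure FrameM (M Mstar K U : Subgroup G) : Prop where
  hp : (Nat.card K).Prime
  hKs1 : sigmaCore M ⊓ Subgroup.centralizer (K : Set G) ≠ ⊥
  hKM : K ≤ M
  hKMs : K ≤ Mstar
  hKσ : K ≤ sigmaCore Mstar
  hKsM : sigmaCore M ⊓ Subgroup.centralizer (K : Set G) ≤ M
  hKsMs : sigmaCore M ⊓ Subgroup.centralizer (K : Set G) ≤ Mstar
  hpσMs : Nat.card K ∈ sigma Mstar
  hCk : ∀ k ∈ K, k ≠ 1 → Subgroup.centralizer ({k} : Set G) ≤ Mstar
  hCK : Subgroup.centralizer (K : Set G) ≤ Mstar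
  hKab : ∀ a ∈ K, ∀ b ∈ K, a * b = b * a
  hσσ : sigmaCore M ⊓ sigmaCore Mstar = ⊥
  hKeq : sigmaCore Mstar ⊓ M = K
  hKseq : sigmaCore M ⊓ Mstar = sigmaCore M ⊓ Subgroup.centralizer (K : Set G)
  hNMK : M ⊓ Subgroup.normalizer (K : Set G) =
    K ⊔ (sigmaCore M ⊓ Subgroup.centralizer (K : Set G))
  hMMs : M ⊓ Mstar = K ⊔ (sigmaCore M ⊓ Subgroup.centralizer (K : Set G))
  hNK : Subgroup.normalizer (K : Set G) ≤ Subgroup.centralizer (K : Set G)
  hUM : U ≤ M
  hUMs : U ⊓ Mstar = ⊥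
  hUab : ∀ a ∈ U, ∀ b ∈ U, a * b = b * a
  hreg : ∀ k ∈ K, k ≠ 1 → U ⊓ Subgroup.centralizer ({k} : Set G) = ⊥
  hCU : sigmaCore M ⊓ Subgroup.centralizer (U : Set G) = ⊥
  hπU : ∀ s : ℕ, s.Prime → s ∣ Nat.card U → s ∉ sigma Mstar
  hπUM : ∀ s : ℕ, s.Prime → s ∣ Nat.card U → s ∉ sigma M
  hπUκ : ∀ s : ℕ, s.Prime → s ∣ Nat.card U → s ∉ kappa Mstar
  hcopUK : (Nat.card U).Coprime (Nat.card K)
  hcopUσ : (Nat.card U).Coprime (Nat.card (sigmaCore M))

/-- Steps (1), (2) of B&G 14.6: the facts about the maximal subgroup `H ≥ N_G(S)`. -/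
structure FrameH (M Mstar H K U : Subgroup G) : Prop where
  hUH : U ≤ H
  hKH : K ≤ H
  hHM : ∀ g : G, H ≠ M.map (MulAut.conj g).toMonoidHom
  hHMs : ∀ g : G, H ≠ Mstar.map (MulAut.conj g).toMonoidHom
  hpσ : Nat.card K ∉ sigma H
  hσM : ∀ q ∈ sigma H, q ∉ sigma M
  hσMs : ∀ q ∈ sigma H, q ∉ sigma Mstar
  hσσH : sigmaCore M ⊓ sigmaCore H = ⊥
  hσσHs : sigmaCore H ⊓ sigmaCore Mstar = ⊥
  hHσMs : sigmaCore H ⊓ Mstar = ⊥
  hfpf1 : ∀ k ∈ K, k ≠ 1 → sigmaCore H ⊓ Subgroup.centralizer ({k} : Set G) = ⊥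
  hfpf : sigmaCore H ⊓ Subgroup.centralizer (K : Set G) = ⊥
  hnil : Group.IsNilpotent ↥(sigmaCore H)
  hHσ1 : sigmaCore H ≠ ⊥

/-! ### Small general lemmas -/

theorem exists_ne_one_of_ne_bot {A : Subgroup G} (hA : A ≠ ⊥) : ∃ a ∈ A, a ≠ 1 := by
  obtain ⟨a, ha⟩ := Subgroup.ne_bot_iff_exists_ne_one.mp hA
  exact ⟨(a : G), a.2, fun h => ha (Subtype.ext h)⟩

theorem mem_centralizer_singleton {x c : G} :
    c ∈ Subgroup.centralizer ({x} : Set G) ↔ x * c = c * x := by
  rw [Subgroup.mem_centralizer_iff]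
  constructor
  · intro h; exact h x (Set.mem_singleton x)
  · intro h y hy
    rw [Set.mem_singleton_iff] at hy
    rw [hy]; exact h

/-- the commutator trick: if `d ∈ A`, `y ∈ B`, `y` normalizes `A`, `d` normalizes `B` and
`A ⊓ B = 1` then `d` and `y` commute -/
theorem commute_of_inf_eq_bot {A B : Subgroup G} (hAB : A ⊓ B = ⊥) {d y : G} (hd : d ∈ A)
    (hy : y ∈ B) (hyA : y * d⁻¹ * y⁻¹ ∈ A) (hdB : d * y * d⁻¹ ∈ B) : d * y = y * d := by
  have h1 : d * y * d⁻¹ * y⁻¹ ∈ A ⊓ B := by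
    refine ⟨?_, B.mul_mem hdB (B.inv_mem hy)⟩
    have : d * y * d⁻¹ * y⁻¹ = d * (y * d⁻¹ * y⁻¹) := by group
    rw [this]
    exact A.mul_mem hd hyA
  rw [hAB, Subgroup.mem_bot] at h1
  calc d * y = d * y * d⁻¹ * y⁻¹ * (y * d) := by group
    _ = y * d := by rw [h1, one_mul]

/-- two subgroups whose orders have no common prime divisor meet trivially -/
theorem inf_eq_bot_of_forall_prime {A B : Subgroup G}
    (h : ∀ q : ℕ, q.Prime → q ∣ Nat.card A → q ∣ Nat.card B → False) : A ⊓ B = ⊥ := by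
  have hc : (Nat.card A).Coprime (Nat.card B) := Nat.coprime_of_dvd (fun q hq h1 h2 => h q hq h1 h2)
  exact (Subgroup.disjoint_of_coprime_natCard hc).eq_bot

/-! ### Step (0) -/

section StepZero

variable [Finite G]

/-- **Step (0)** of B&G Theorem 14.6. -/
theorem frameM_of (hG : IsMinSimpleOddOrder G) (h30 : Stmt1430 G) (h31 : Stmt1431 G)
    (hσ : SigmaDisjoint G)
    (M : Subgroup G) (hM : IsCoatom M) (K U : Subgroup G) (hKU : IsSigmaDecomposition M K U)
    (hK1 : K ≠ ⊥) (hU1 : U ≠ ⊥) (Mstar : Subgroup G) (hMstar : IsCoatom Mstar)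
    (hKst : K = sigmaCore Mstar ⊓
      Subgroup.centralizer ((sigmaCore M ⊓ Subgroup.centralizer (K : Set G)) : Set G))
    (hKstH : IsPiHallOf (kappa Mstar) (sigmaCore M ⊓ Subgroup.centralizer (K : Set G)) Mstar) :
    FrameM M Mstar K U := by
  classical
  have hHall := (Cfsg.Agent.S1350.result hG M hM).1
  have hHalls := (Cfsg.Agent.S1350.result hG Mstar hMstar).1
  have hMsolv : Group.IsSolvable M := hG.2.2.2 M hM.1
  have hMssolv : Group.IsSolvable Mstar := hG.2.2.2 Mstar hMstar.1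
  have hσsolv : Group.IsSolvable (sigmaCore M) := by
    have : Group.IsSolvable ((sigmaCore M).subgroupOf M) := inferInstance
    exact Group.isSolvable_of_isSolvable_injective
      (f := (Subgroup.subgroupOfEquivOfLe (sigmaCore_le M)).symm.toMonoidHom)
      (Subgroup.subgroupOfEquivOfLe (sigmaCore_le M)).symm.injective
  have hKH : IsPiHallOf (kappa M) K M := hKU.hall
  set Ks : Subgroup G := sigmaCore M ⊓ Subgroup.centralizer (K : Set G) with hKs_def
  have hKM : K ≤ M := hKH.1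
  have hKsM : Ks ≤ M := inf_le_left.trans (sigmaCore_le M)
  have hKsMs : Ks ≤ Mstar := hKstH.1
  have hKσ : K ≤ sigmaCore Mstar := hKst.le.trans inf_le_left
  have hKMs : K ≤ Mstar := hKσ.trans (sigmaCore_le Mstar)
  have hKCs : K ≤ Subgroup.centralizer (Ks : Set G) := hKst.le.trans inf_le_right
  have hKs1 : Ks ≠ ⊥ := Cfsg.Agent.Lib.Helper21.kstar_ne_bot hG h30 hM hKH hK1
  obtain ⟨h30a, ⟨U₀, hU₀c, hU₀H, hKU₀, hU₀f⟩, h30c⟩ := h30 M hM K hKH hK1
  obtain ⟨h30a', -, h30c'⟩ := h30 Mstar hMstar Ks hKstH hKs1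
  obtain ⟨h31a', -, -, h31d'⟩ := h31 Mstar hMstar Ks hKstH hKs1
  have hstar : sigmaCore Mstar ⊓ Subgroup.centralizer (Ks : Set G) = K := hKst.symm
  -- `K` is abelian
  have hKab : ∀ a ∈ K, ∀ b ∈ K, a * b = b * a := by
    intro a ha b hb
    have := hKU.cyclic
    have hc : ∀ x y : K, x * y = y * x := fun x y => (IsCyclic.commGroup (α := K)).mul_comm x y
    exact congrArg Subtype.val (hc ⟨a, ha⟩ ⟨b, hb⟩)
  -- regular action on `U`, `U` abelian, `C_{M_σ}(U) = 1`
  have hKU' : IsSigmaDecomposition M K U₀ :=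
    Cfsg.Agent.Lib.Helper23.isSigmaDecomposition_of_hall hHall hKU.cyclic hKH hU₀H hKU₀
  have hUc : IsMulCommutative U :=
    Cfsg.Agent.Lib.Helper23.isMulCommutative_of_sigmaDecompositions hσsolv hHall hKU hKU' hU₀c
  have hUab : ∀ a ∈ U, ∀ b ∈ U, a * b = b * a := fun a ha b hb =>
    congrArg Subtype.val (hUc.is_comm.comm ⟨a, ha⟩ ⟨b, hb⟩)
  have hreg : ∀ k ∈ K, k ≠ 1 → U ⊓ Subgroup.centralizer ({k} : Set G) = ⊥ :=
    Cfsg.Agent.Lib.Helper23.s1353_of M K U hσsolv hHall hKU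
      (fun _ => ⟨U₀, hU₀H, hKU₀, hU₀f⟩)
  have h29 : ¬ (∀ q : ℕ, q.Prime → q ∣ Nat.card M → q ∉ sigma M → q ∈ kappa M) →
      ∀ (p : ℕ) [Fact p.Prime], p ∣ Nat.card M → p ∉ sigma M ∪ kappa M → ∀ S : Sylow p M,
        sigmaCore M ⊓ Subgroup.centralizer ((Subgroup.closure
          {x : G | x ∈ (S : Subgroup M).map M.subtype ∧ x ^ p = 1} : Subgroup G) : Set G) = ⊥ :=
    fun hP1 p _ hpM hp S => (Cfsg.Agent.S1429.result hG M hM hP1 p hpM hp S).2.1
  have hCU : sigmaCore M ⊓ Subgroup.centralizer (U : Set G) = ⊥ :=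
    Cfsg.Agent.Lib.Helper23.inf_centralizer_eq_bot_of_sigmaDecomposition hHall hKU hU1 h29
  have hp : (Nat.card K).Prime :=
    (Cfsg.Agent.Lib.Helper23.card_kappaHall_prime_of hσsolv hHall hKU hK1 hU1 hreg h30a hKs1
      h29).1
  obtain ⟨hcopUK, hcopUσ⟩ :=
    Cfsg.Agent.Lib.Helper23.coprime_card_of_sigmaDecomposition hHall hKU
  have hUM : U ≤ M := hKU.compl.1
  -- `|K| ∈ σ(M*)`
  have hpσMs : Nat.card K ∈ sigma Mstar :=
    hHalls.2.1 _ hp (Subgroup.card_dvd_of_le hKσ)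
  -- `C_G(k) ≤ M*`
  have hCk : ∀ k ∈ K, k ≠ 1 → Subgroup.centralizer ({k} : Set G) ≤ Mstar := by
    intro k hk hk1
    have hk' : k ∈ sigmaCore Mstar ⊓ Subgroup.centralizer (Ks : Set G) := by
      rw [hstar]; exact hk
    exact centralizer_le_of_mem_kstar h31a' (inf_le_left.trans (sigmaCore_le Mstar)) hk' hk1
  have hCK : Subgroup.centralizer (K : Set G) ≤ Mstar := by
    obtain ⟨k, hk, hk1⟩ := exists_ne_one_of_ne_bot hK1
    refine le_trans (Subgroup.centralizer_le ?_) (hCk k hk hk1)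
    intro x hx
    rw [Set.mem_singleton_iff] at hx
    rw [hx]; exact hk
  -- `M_σ ∩ M*_σ = 1`
  have hσσ : sigmaCore M ⊓ sigmaCore Mstar = ⊥ :=
    sigmaCore_inf_eq_bot_of_sigmaDisjoint hG hσ M Mstar hM hMstar K hKH hK1 hKσ
  -- `M*_σ ∩ M = K`
  have hKeq : sigmaCore Mstar ⊓ M = K := by
    apply le_antisymm
    · intro d hd
      rw [← hstar]
      refine ⟨hd.1, Subgroup.mem_centralizer_iff.mpr ?_⟩
      intro y hy
      have hyσ : y ∈ sigmaCore M := hy.1
      have hyMs : y ∈ Mstar := hKsMs hy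
      symm
      apply commute_of_inf_eq_bot (A := sigmaCore Mstar) (B := sigmaCore M)
        (by rw [inf_comm]; exact hσσ) hd.1 hyσ
      · exact (Cfsg.Agent.Lib.Helper23.conj_mem_sigmaCore_iff_of_mem hyMs).mpr
          (Subgroup.inv_mem _ hd.1)
      · exact (Cfsg.Agent.Lib.Helper23.conj_mem_sigmaCore_iff_of_mem hd.2).mpr hyσ
    · exact le_inf hKσ hKM
  -- `M_σ ∩ M* = K*`
  have hKseq : sigmaCore M ⊓ Mstar = Ks := by
    apply le_antisymm
    · intro e he
      refine ⟨he.1, Subgroup.mem_centralizer_iff.mpr ?_⟩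
      intro k hk
      symm
      apply commute_of_inf_eq_bot (A := sigmaCore M) (B := sigmaCore Mstar) hσσ he.1 (hKσ hk)
      · exact (Cfsg.Agent.Lib.Helper23.conj_mem_sigmaCore_iff_of_mem (hKM hk)).mpr
          (Subgroup.inv_mem _ he.1)
      · exact (Cfsg.Agent.Lib.Helper23.conj_mem_sigmaCore_iff_of_mem he.2).mpr (hKσ hk)
    · exact le_inf inf_le_left hKsMs
  -- `N_M(K) = K K*`
  have hNMK : M ⊓ Subgroup.normalizer (K : Set G) = K ⊔ Ks := (h30c K le_rfl hp).2.1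
  -- `M ∩ M* = K K*`
  have hMMs : M ⊓ Mstar = K ⊔ Ks := by
    apply le_antisymm
    · rw [← hNMK]
      intro g hg
      refine Subgroup.mem_inf.mpr ⟨hg.1, ?_⟩
      rw [Subgroup.mem_normalizer_iff]
      intro x
      rw [← hKeq]
      constructor
      · intro hx
        exact ⟨(Cfsg.Agent.Lib.Helper23.conj_mem_sigmaCore_iff_of_mem hg.2).mpr hx.1,
          M.mul_mem (M.mul_mem hg.1 hx.2) (M.inv_mem hg.1)⟩
      · intro hx
        refine ⟨(Cfsg.Agent.Lib.Helper23.conj_mem_sigmaCore_iff_of_mem hg.2).mp hx.1, ?_⟩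
        have : x = g⁻¹ * (g * x * g⁻¹) * g := by group
        rw [this]
        exact M.mul_mem (M.mul_mem (M.inv_mem hg.1) hx.2) hg.1
    · exact sup_le (le_inf hKM hKMs) (le_inf hKsM hKsMs)
  -- `U ∩ M* = 1`
  have hUMs : U ⊓ Mstar = ⊥ := by
    rw [eq_bot_iff, ← hKU.compl.2.2.1]
    intro x hx
    refine ⟨hx.1, ?_⟩
    have : x ∈ M ⊓ Mstar := ⟨hUM hx.1, hx.2⟩
    rw [hMMs] at this
    exact (sup_le_sup_left (inf_le_left : Ks ≤ sigmaCore M) K) this
  -- `π(U) ∩ σ(M) = ∅`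
  have hπUM : ∀ s : ℕ, s.Prime → s ∣ Nat.card U → s ∉ sigma M := by
    intro s hs hsU hsσ
    apply hHall.2.2 s hs hsσ
    have h3 := card_mul_relIndex (sigmaCore_le M)
    have hcard := Cfsg.Agent.Lib.Helper23.card_eq_of_sigmaDecomposition hHall hKU
    have h4 : (sigmaCore M).relIndex M = Nat.card U * Nat.card K := by
      apply Nat.eq_of_mul_eq_mul_left (Nat.card_pos (α := sigmaCore M))
      rw [h3, hcard]; ring
    rw [h4]; exact Dvd.dvd.mul_right hsU _
  -- `π(U) ∩ σ(M*) = ∅`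
  have hπU : ∀ s : ℕ, s.Prime → s ∣ Nat.card U → s ∉ sigma Mstar := by
    intro s hs hsU hsσ
    have : Fact s.Prime := ⟨hs⟩
    set N : Subgroup G := Cfsg.Agent.Lib.Helper21.omegaSub U s hUab with hN
    have hN1 : N ≠ ⊥ := Cfsg.Agent.Lib.Helper21.omegaSub_ne_bot U s hUab hsU
    have hNU : N ≤ U := Cfsg.Agent.Lib.Helper21.omegaSub_le U s hUab
    have hKN : K ≤ Subgroup.normalizer (N : Set G) :=
      Cfsg.Agent.Lib.Helper21.le_normalizer_omegaSub U s hUab hKU.normal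
    have hNp : IsPGroup s N := by
      intro a
      refine ⟨1, ?_⟩
      rw [pow_one]
      apply Subtype.ext
      have := (Cfsg.Agent.Lib.Helper21.mem_omegaSub.mp a.2).2
      simpa using this
    obtain ⟨j, hj⟩ := hNp.exists_card_eq
    have hUK : U ⊓ K = ⊥ := by
      rw [eq_bot_iff, ← hKU.compl.2.2.1]
      exact inf_le_inf_left U le_sup_left
    have hNK : N ⊓ K = ⊥ := by
      rw [eq_bot_iff, ← hUK]
      exact inf_le_inf_right K hNU
    have hcardY : Nat.card (N ⊔ K : Subgroup G) = Nat.card N * Nat.card K :=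
      card_sup_of_le_normalizer hKN hNK
    have hYσ : ∀ q : ℕ, q.Prime → q ∣ Nat.card (N ⊔ K : Subgroup G) → q ∈ sigma Mstar := by
      intro q hq hqd
      rw [hcardY, hj] at hqd
      rcases (Nat.Prime.dvd_mul hq).mp hqd with h | h
      · have : q = s := (Nat.prime_dvd_prime_iff_eq hq hs).mp (hq.dvd_of_dvd_pow h)
        rw [this]; exact hsσ
      · have : q = Nat.card K := (Nat.prime_dvd_prime_iff_eq hq hp).mp h
        rw [this]; exact hpσMs
    have hYK : (N ⊔ K) ⊓ (sigmaCore Mstar ⊓ Subgroup.centralizer (Ks : Set G)) ≠ ⊥ := by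
      rw [hstar]
      intro h
      apply hK1
      rw [eq_bot_iff, ← h]
      exact le_inf le_sup_right le_rfl
    have hYle : N ⊔ K ≤ sigmaCore Mstar := h31d' (N ⊔ K) hYσ hYK
    have hNK' : N ≤ K := by
      rw [← hKeq]
      exact le_inf (le_sup_left.trans hYle) (hNU.trans hUM)
    apply hN1
    rw [eq_bot_iff, ← hNK]
    exact le_inf le_rfl hNK'
  -- `π(U) ∩ κ(M*) = ∅`
  have hπUκ : ∀ s : ℕ, s.Prime → s ∣ Nat.card U → s ∉ kappa Mstar := by
    intro s hs hsU hsκ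
    apply hπUM s hs hsU
    apply hHall.2.1 s hs
    have h1 : s ∣ Nat.card Ks := by
      have h2 := card_mul_relIndex hKsMs
      have h3 : s ∣ Nat.card Ks * Ks.relIndex Mstar := by rw [h2]; exact hsκ.2.1
      exact ((Nat.Prime.dvd_mul hs).mp h3).resolve_right (hKstH.2.2 s hs hsκ)
    exact h1.trans (Subgroup.card_dvd_of_le inf_le_left)
  -- `N_G(K) = C_G(K)`
  have hNK : Subgroup.normalizer (K : Set G) ≤ Subgroup.centralizer (K : Set G) := by
    have : Fact (Nat.card K).Prime := ⟨hp⟩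
    have hKp : IsPGroup (Nat.card K) K := IsPGroup.of_card (n := 1) (by rw [pow_one])
    have h1404 := (Cfsg.Agent.S1404.result hG Mstar hMstar (Nat.card K) hpσMs K hKp hK1 hKMs).2
    rw [h1404]
    refine sup_le ?_ le_rfl
    -- `N_{M*}(K) ≤ C_G(K)` by a Frattini argument with the Hall subgroup `K*` of `C_{M*}(K)`
    set C : Subgroup G := Mstar ⊓ Subgroup.centralizer (K : Set G) with hC
    have hKsC : Ks ≤ C := le_inf hKsMs inf_le_right
    have hCsolv : Group.IsSolvable C := by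
      have : Group.IsSolvable (C.subgroupOf Mstar) := inferInstance
      exact Group.isSolvable_of_isSolvable_injective
        (f := (Subgroup.subgroupOfEquivOfLe (inf_le_left : C ≤ Mstar)).symm.toMonoidHom)
        (Subgroup.subgroupOfEquivOfLe (inf_le_left : C ≤ Mstar)).symm.injective
    have hKsHallC : IsPiHallOf (kappa Mstar) Ks C := by
      refine ⟨hKsC, hKstH.2.1, ?_⟩
      intro q hq hqκ hqd
      apply hKstH.2.2 q hq hqκ
      have := Subgroup.relIndex_mul_relIndex Ks C Mstar hKsC inf_le_left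
      rw [← this]
      exact Dvd.dvd.mul_right hqd _
    obtain ⟨X, hXKs, hXp⟩ := Cfsg.Agent.Lib.Helper23.exists_zpowers_prime_le hKs1
    have hNKs : Mstar ⊓ Subgroup.normalizer (Ks : Set G) = Ks ⊔ K := by
      rw [(h30c' X hXKs hXp).2.1, hstar]
    intro g hg
    have hgC : g ∈ Subgroup.normalizer (C : Set G) := by
      have key : ∀ g ∈ Mstar ⊓ Subgroup.normalizer (K : Set G), ∀ x ∈ C, g * x * g⁻¹ ∈ C := by
        intro g hg x hx
        refine Subgroup.mem_inf.mpr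
          ⟨Mstar.mul_mem (Mstar.mul_mem hg.1 hx.1) (Mstar.inv_mem hg.1), ?_⟩
        rw [Subgroup.mem_centralizer_iff]
        intro y hy
        have hy' : g⁻¹ * y * g ∈ K := by
          have := (Subgroup.mem_normalizer_iff.mp hg.2 (g⁻¹ * y * g)).mpr
          apply this
          have e : g * (g⁻¹ * y * g) * g⁻¹ = y := by group
          rw [e]; exact hy
        have hc := Subgroup.mem_centralizer_iff.mp hx.2 (g⁻¹ * y * g) hy'
        calc y * (g * x * g⁻¹) = g * ((g⁻¹ * y * g) * x) * g⁻¹ := by group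
          _ = g * (x * (g⁻¹ * y * g)) * g⁻¹ := by rw [hc]
          _ = g * x * g⁻¹ * y := by group
      rw [Subgroup.mem_normalizer_iff]
      intro x
      constructor
      · exact key g hg x
      · intro hx
        have hg' : g⁻¹ ∈ Mstar ⊓ Subgroup.normalizer (K : Set G) := Subgroup.inv_mem _ hg
        have := key g⁻¹ hg' _ hx
        have e : g⁻¹ * (g * x * g⁻¹) * g⁻¹⁻¹ = x := by group
        rwa [e] at this
    have hH2 : IsPiHallOf (kappa Mstar) (MulAut.conj g • Ks) C :=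
      Cfsg.Agent.Lib.Helper62.isPiHallOf_conj_smul hKsHallC hgC
    obtain ⟨k, hkC, hk⟩ := Cfsg.Agent.Lib.Helper62.isPiHallOf_conj hCsolv hH2 hKsHallC
    have hkg : k * g ∈ Mstar ⊓ Subgroup.normalizer (Ks : Set G) := by
      refine Subgroup.mem_inf.mpr ⟨Mstar.mul_mem hkC.1 hg.1, ?_⟩
      rw [mem_normalizer_iff_conj_smul, map_mul, mul_smul]
      exact hk
    rw [hNKs] at hkg
    have hle : Ks ⊔ K ≤ Subgroup.centralizer (K : Set G) := by
      refine sup_le inf_le_right ?_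
      intro a ha
      rw [Subgroup.mem_centralizer_iff]
      intro b hb
      exact hKab b hb a ha
    have h1 : k * g ∈ Subgroup.centralizer (K : Set G) := hle hkg
    have h2 : g = k⁻¹ * (k * g) := by group
    rw [h2]
    exact Subgroup.mul_mem _ (Subgroup.inv_mem _ hkC.2) h1
  exact
    { hp := hp, hKs1 := hKs1, hKM := hKM, hKMs := hKMs, hKσ := hKσ, hKsM := hKsM, hKsMs := hKsMs,
      hpσMs := hpσMs, hCk := hCk, hCK := hCK, hKab := hKab, hσσ := hσσ, hKeq := hKeq,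
      hKseq := hKseq, hNMK := hNMK, hMMs := hMMs, hNK := hNK, hUM := hUM, hUMs := hUMs,
      hUab := hUab, hreg := hreg, hCU := hCU, hπU := hπU, hπUM := hπUM, hπUκ := hπUκ,
      hcopUK := hcopUK,
      hcopUσ := hcopUσ }

end StepZero

/-! ### Steps (1), (2) -/

section StepsOneTwo

variable [Finite G]

/-- **Steps (1), (2)** of B&G Theorem 14.6. -/
theorem frameH_of (hG : IsMinSimpleOddOrder G) (hσ : SigmaDisjoint G) (h32 : Stmt1432 G)
    (M : Subgroup G) (hM : IsCoatom M) (K U : Subgroup G) (hKU : IsSigmaDecomposition M K U)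
    (hK1 : K ≠ ⊥) (hU1 : U ≠ ⊥) (Mstar : Subgroup G) (hMstar : IsCoatom Mstar)
    (hKstH : IsPiHallOf (kappa Mstar) (sigmaCore M ⊓ Subgroup.centralizer (K : Set G)) Mstar)
    (F : FrameM M Mstar K U)
    (r : ℕ) [Fact r.Prime] (hr : r ∣ Nat.card U) (R : Sylow r U) (H : Subgroup G) (hH : IsCoatom H)
    (hNR : Subgroup.normalizer (((R : Subgroup U).map U.subtype : Subgroup G) : Set G) ≤ H) :
    FrameH M Mstar H K U := by
  classical
  have hrp : r.Prime := Fact.out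
  have hHall := (Cfsg.Agent.S1350.result hG M hM).1
  have hHalls := (Cfsg.Agent.S1350.result hG Mstar hMstar).1
  have hHallH := (Cfsg.Agent.S1350.result hG H hH).1
  have hUthm : Cfsg.Agent.Lib.Helper34.UniquenessThm G :=
    fun K hK h1 h3 => Cfsg.Agent.S1403.result hG K hK h1 h3
  set Ks : Subgroup G := sigmaCore M ⊓ Subgroup.centralizer (K : Set G) with hKs_def
  set R' : Subgroup G := (R : Subgroup U).map U.subtype with hR'
  have hR'U : R' ≤ U := Subgroup.map_subtype_le _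
  have hp := F.hp
  -- `U ≤ H`
  have hUH : U ≤ H := by
    intro u hu
    apply hNR
    apply Subgroup.centralizer_le_normalizer
    rw [Subgroup.mem_centralizer_iff]
    intro x hx
    exact F.hUab x (hR'U hx) u hu
  -- the `r`-elements of `U` lie in `R'`
  have hmemR : ∀ x ∈ U, (∃ n : ℕ, x ^ (r ^ n) = 1) → x ∈ R' := by
    rintro x hxU ⟨n, hn⟩
    have hx'n : (⟨x, hxU⟩ : U) ^ (r ^ n) = 1 := Subtype.ext (by simpa using hn)
    have hZp : IsPGroup r (Subgroup.zpowers (⟨x, hxU⟩ : U)) := by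
      rintro ⟨y, hy⟩
      refine ⟨n, ?_⟩
      obtain ⟨k, rfl⟩ := Subgroup.mem_zpowers_iff.mp hy
      apply Subtype.ext
      show ((⟨x, hxU⟩ : U) ^ k) ^ (r ^ n) = 1
      rw [← zpow_natCast, ← zpow_mul, mul_comm, zpow_mul, zpow_natCast, hx'n, one_zpow]
    obtain ⟨Q, hQ⟩ := hZp.exists_le_sylow
    obtain ⟨g, hg⟩ := MulAction.exists_smul_eq U Q R
    have h1 : (⟨x, hxU⟩ : U) ∈ (Q : Subgroup U) := hQ (Subgroup.mem_zpowers _)
    have h2 : g * (⟨x, hxU⟩ : U) * g⁻¹ ∈ ((g • Q : Sylow r U) : Subgroup U) := by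
      rw [Sylow.coe_subgroup_smul]
      exact conj_mem_conj_smul h1
    rw [hg] at h2
    have h3 : g * (⟨x, hxU⟩ : U) * g⁻¹ = ⟨x, hxU⟩ := by
      apply Subtype.ext
      show (g : G) * x * (g : G)⁻¹ = x
      rw [F.hUab g g.2 x hxU, mul_assoc, mul_inv_cancel, mul_one]
    rw [h3] at h2
    exact ⟨⟨x, hxU⟩, h2, rfl⟩
  -- `K ≤ H`
  have hKH : K ≤ H := by
    have key : ∀ k ∈ K, ∀ x ∈ R', k * x * k⁻¹ ∈ R' := by
      intro k hk x hx
      apply hmemR
      · exact ((Subgroup.mem_normalizer_iff.mp (hKU.normal hk)) x).mp (hR'U hx)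
      · obtain ⟨y, hy, rfl⟩ := hx
        obtain ⟨n, hn⟩ := R.isPGroup' ⟨y, hy⟩
        refine ⟨n, ?_⟩
        rw [conj_pow]
        have : (U.subtype y) ^ (r ^ n) = 1 := by
          have := congrArg (fun z : (R : Subgroup U) => ((z : U) : G)) hn
          simpa using this
        rw [this, mul_one, mul_inv_cancel]
    intro k hk
    apply hNR
    rw [Subgroup.mem_normalizer_iff]
    intro x
    constructor
    · exact key k hk x
    · intro hx
      have := key k⁻¹ (K.inv_mem hk) _ hx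
      have e : k⁻¹ * (k * x * k⁻¹) * k⁻¹⁻¹ = x := by group
      rwa [e] at this
  -- `|R'| = |M|_r`
  have hcardR' : Nat.card R' = r ^ (Nat.card M).factorization r := by
    have hcard := Cfsg.Agent.Lib.Helper23.card_eq_of_sigmaDecomposition hHall hKU
    rw [hR', Subgroup.card_map_of_injective U.subtype_injective, Sylow.card_eq_multiplicity,
      hcard]
    congr 1
    have hσ0 : Nat.card (sigmaCore M) ≠ 0 := Nat.card_pos.ne'
    have hK0 : Nat.card K ≠ 0 := Nat.card_pos.ne'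
    have hU0 : Nat.card U ≠ 0 := Nat.card_pos.ne'
    have hrK : ¬ r ∣ Nat.card K := fun h =>
      hrp.one_lt.ne' (Nat.eq_one_of_dvd_coprimes F.hcopUK hr h)
    have hrσ : ¬ r ∣ Nat.card (sigmaCore M) := fun h =>
      hrp.one_lt.ne' (Nat.eq_one_of_dvd_coprimes F.hcopUσ hr h)
    rw [Nat.factorization_mul hU0 (Nat.mul_ne_zero hσ0 hK0), Nat.factorization_mul hσ0 hK0]
    simp only [Finsupp.coe_add, Pi.add_apply]
    rw [Nat.factorization_eq_zero_of_not_dvd hrσ, Nat.factorization_eq_zero_of_not_dvd hrK]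
    omega
  -- `H` is not conjugate to `M`
  have hHM : ∀ g : G, H ≠ M.map (MulAut.conj g).toMonoidHom := by
    intro g hg
    have hσeq : sigma H = sigma M := by
      rw [hg]; exact Cfsg.Agent.Lib.Helper51.BG12.sigma_cj g M
    apply F.hπUM r hrp hr
    rw [← hσeq]
    have hcardH : Nat.card H = Nat.card M := by
      rw [hg]; exact Subgroup.card_map_of_injective (MulAut.conj g).injective
    have hR'H : R' ≤ H := hR'U.trans hUH
    obtain ⟨S, hS⟩ := exists_sylow_of_card H R' hR'H (by rw [hcardH]; exact hcardR')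
    refine ⟨hrp, ?_, S, ?_⟩
    · rw [hcardH]; exact hr.trans (Subgroup.card_dvd_of_le F.hUM)
    · rw [hS]; exact hNR
  -- `p ∉ σ(H)`
  have hpσ : Nat.card K ∉ sigma H := by
    intro hpH
    have hconj : ¬ ∀ g : G, Mstar.map (MulAut.conj g).toMonoidHom ≠ H := fun hne =>
      hσ H Mstar hH hMstar hne _ hpH F.hpσMs
    push Not at hconj
    obtain ⟨g, hg⟩ := hconj
    have : Fact (Nat.card K).Prime := ⟨hp⟩
    have hKp : IsPGroup (Nat.card K) K := IsPGroup.of_card (n := 1) (by rw [pow_one])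
    have h1404 :=
      (Cfsg.Agent.S1404.result hG Mstar hMstar (Nat.card K) F.hpσMs K hKp hK1 F.hKMs).1
    have hKg : K.map (MulAut.conj g⁻¹).toMonoidHom ≤ Mstar := by
      rintro _ ⟨k, hk, rfl⟩
      have hkH : k ∈ Mstar.map (MulAut.conj g).toMonoidHom := by rw [hg]; exact hKH hk
      obtain ⟨m, hm, hmk⟩ := hkH
      have : (MulAut.conj g⁻¹).toMonoidHom k = m := by
        rw [← hmk]
        simp [MulAut.conj_apply, mul_assoc]
      rw [this]; exact hm
    obtain ⟨m, hm, c, hc, hgmc⟩ := h1404 g⁻¹ hKg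
    have hgM : g ∈ Mstar := by
      have h1 : g⁻¹ ∈ Mstar := by rw [hgmc]; exact Mstar.mul_mem hm (F.hCK hc)
      simpa using Mstar.inv_mem h1
    have hHeq : H = Mstar := by
      rw [← hg]; exact Cfsg.Agent.Lib.Helper34.map_conj_self_of_mem hgM
    apply hU1
    rw [eq_bot_iff, ← F.hUMs]
    exact le_inf le_rfl (hUH.trans hHeq.le)
  -- `H` is not conjugate to `M*`
  have hHMs : ∀ g : G, H ≠ Mstar.map (MulAut.conj g).toMonoidHom := by
    intro g hg
    apply hpσ
    rw [hg, Cfsg.Agent.Lib.Helper51.BG12.sigma_cj g Mstar]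
    exact F.hpσMs
  have hσM : ∀ q ∈ sigma H, q ∉ sigma M :=
    hσ H M hH hM (fun g hg => hHM g hg.symm)
  have hσMs : ∀ q ∈ sigma H, q ∉ sigma Mstar :=
    hσ H Mstar hH hMstar (fun g hg => hHMs g hg.symm)
  have hσσH : sigmaCore M ⊓ sigmaCore H = ⊥ :=
    inf_eq_bot_of_forall_prime (fun q hq h1 h2 => hσM q (hHallH.2.1 q hq h2) (hHall.2.1 q hq h1))
  have hσσHs : sigmaCore H ⊓ sigmaCore Mstar = ⊥ :=
    inf_eq_bot_of_forall_prime (fun q hq h1 h2 => hσMs q (hHallH.2.1 q hq h1) (hHalls.2.1 q hq h2))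
  -- `H_σ ∩ M* = 1`
  have hHσMs : sigmaCore H ⊓ Mstar = ⊥ := by
    by_contra hD
    -- `D* ≤ C_G(K)`
    have hDK : sigmaCore H ⊓ Mstar ≤ Subgroup.centralizer (K : Set G) := by
      intro d hd
      rw [Subgroup.mem_centralizer_iff]
      intro k hk
      symm
      apply commute_of_inf_eq_bot (A := sigmaCore H) (B := sigmaCore Mstar) hσσHs hd.1 (F.hKσ hk)
      · exact (Cfsg.Agent.Lib.Helper23.conj_mem_sigmaCore_iff_of_mem (hKH hk)).mpr
          (Subgroup.inv_mem _ hd.1)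
      · exact (Cfsg.Agent.Lib.Helper23.conj_mem_sigmaCore_iff_of_mem hd.2).mpr (F.hKσ hk)
    have hc1 : Nat.card ↥(sigmaCore H ⊓ Mstar) ≠ 1 := fun hc => hD (Subgroup.card_eq_one.mp hc)
    obtain ⟨t, ht, htd⟩ := Nat.exists_prime_and_dvd hc1
    have : Fact t.Prime := ⟨ht⟩
    obtain ⟨x, hx⟩ := exists_prime_orderOf_dvd_card' (G := ↥(sigmaCore H ⊓ Mstar)) t htd
    have hxo : orderOf (x : G) = t := by rw [Subgroup.orderOf_coe, hx]
    have hx1 : (x : G) ≠ 1 := by
      intro h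
      rw [h, orderOf_one] at hxo
      exact ht.one_lt.ne hxo
    have htH : t ∈ sigma H :=
      hHallH.2.1 t ht (htd.trans (Subgroup.card_dvd_of_le inf_le_left))
    have htMs : t ∉ sigma Mstar := hσMs t htH
    have htM : t ∉ sigma M := hσM t htH
    obtain ⟨k, hk, hk1⟩ := exists_ne_one_of_ne_bot hK1
    have hxk : (x : G) ∈ Mstar ⊓ Subgroup.centralizer ({k} : Set G) := by
      refine Subgroup.mem_inf.mpr ⟨x.2.2, ?_⟩
      rw [mem_centralizer_singleton]
      exact (Subgroup.mem_centralizer_iff.mp (hDK x.2) k hk)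
    have hprimes : ∀ q : ℕ, q.Prime → q ∣ orderOf (x : G) → q ∉ sigma Mstar := by
      intro q hq hqd
      rw [hxo] at hqd
      rw [(Nat.prime_dvd_prime_iff_eq hq ht).mp hqd]; exact htMs
    rcases h32 Mstar hMstar k (F.hKσ hk) hk1 (x : G) hxk hx1 hprimes with ⟨hκ, -⟩ | ⟨hτ, -, hCx, huniq⟩
    · -- `t ∈ κ(M*)`, so `t ∣ |K*|`, so `t ∈ σ(M)`
      have htκ : t ∈ kappa Mstar := hκ t ht (by rw [hxo])
      apply htM
      apply hHall.2.1 t ht
      have h1 : t ∣ Nat.card Ks := by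
        have h2 := card_mul_relIndex hKstH.1
        have h3 : t ∣ Nat.card Ks * Ks.relIndex Mstar := by rw [h2]; exact htκ.2.1
        exact ((Nat.Prime.dvd_mul ht).mp h3).resolve_right (hKstH.2.2 t ht htκ)
      exact h1.trans (Subgroup.card_dvd_of_le inf_le_left)
    · -- `t ∈ τ₂(M*)` and `M*` is the only maximal subgroup over `C_G(x)`
      have htτ : t ∈ tau2 Mstar := hτ t ht (by rw [hxo])
      set Z : Subgroup G := Subgroup.zpowers (x : G) with hZ
      have hZc : Nat.card Z = t := by rw [hZ, Nat.card_zpowers, hxo]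
      have hZp : IsPGroup t Z := IsPGroup.of_card (n := 1) (by rw [hZc, pow_one])
      have hZ1 : Z ≠ ⊥ := by
        intro h
        rw [h, Subgroup.card_bot] at hZc
        exact ht.one_lt.ne hZc
      have hZH : Z ≤ H := by
        rw [hZ, Subgroup.zpowers_le]; exact sigmaCore_le H x.2.1
      have hZtop : Z ≠ ⊤ := fun h => hH.1 (top_le_iff.mp (h ▸ hZH))
      have hNtop := normalizer_ne_top_of_simple hG.2.1 hZ1 hZtop
      obtain ⟨L, hL, hNL⟩ := exists_isCoatom_ge hNtop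
      have hCxZ : Subgroup.centralizer ({(x : G)} : Set G) ≤ Subgroup.centralizer (Z : Set G) := by
        have := Cfsg.Agent.Lib.Helper22.BGFourteenFour.centralizer_le_centralizer_zpowers_pow
          (x : G) 1
        rwa [pow_one] at this
      have hLeq : L = Mstar :=
        huniq L hL (hCxZ.trans ((Subgroup.centralizer_le_normalizer _).trans hNL))
      rw [hLeq] at hNL
      have hMsH : Mstar ≠ H := fun h => hHMs 1 (by
        rw [← h]
        exact (Cfsg.Agent.Lib.Helper34.map_conj_self_of_mem (Mstar.one_mem)).symm)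
      have hZHM : Z ≤ H ⊓ Mstar := le_inf hZH (Subgroup.le_normalizer.trans hNL)
      obtain ⟨S, hS⟩ := (hZp.comap_subtype (K := H ⊓ Mstar)).exists_le_sylow
      have hZS : Z ≤ (S : Subgroup ↥(H ⊓ Mstar)).map (H ⊓ Mstar).subtype := by
        intro y hy
        exact ⟨⟨y, hZHM hy⟩, hS (Subgroup.mem_subgroupOf.mpr hy), rfl⟩
      obtain ⟨-, -, hSidx⟩ :=
        Cfsg.Agent.S1424.result hG H hH t htH Z hZp hZ1 hZH Mstar hMstar hMsH hNL S hZS
      set P := (S : Subgroup ↥(H ⊓ Mstar)).map (H ⊓ Mstar).subtype with hP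
      have hPHM : P ≤ H ⊓ Mstar := Subgroup.map_subtype_le _
      have hPp : IsPGroup t P := S.isPGroup'.map _
      obtain ⟨A₀, hA₀N, hA₀e, hA₀c⟩ :=
        Cfsg.Agent.Lib.Helper97.BGTwelve.exists_elemAb_sq_of_not_pRankLE_one Mstar htτ.2.2.2
      have hA₀p : IsPGroup t A₀ := IsPGroup.of_card (n := 2) hA₀c
      obtain ⟨n, -, hnA⟩ :=
        Cfsg.Agent.Lib.Helper22.BGFourteenFour.exists_conj_le_of_not_dvd_relIndex
          (hPHM.trans inf_le_right) hPp hSidx hA₀N hA₀p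
      have hAe : IsElementaryAbelian t (MulAut.conj n • A₀) :=
        Cfsg.Agent.Lib.Helper22.BGFourteenFour.isElementaryAbelian_conj_smul n hA₀e
      have hAc : Nat.card (MulAut.conj n • A₀ : Subgroup G) = t ^ 2 := by
        rw [card_conj_smul, hA₀c]
      have hAH : MulAut.conj n • A₀ ≤ H := hnA.trans (hPHM.trans inf_le_left)
      have hAMs : MulAut.conj n • A₀ ≤ Mstar := hnA.trans (hPHM.trans inf_le_right)
      obtain ⟨-, -, -, -, hdisj, -⟩ :=
        Cfsg.Agent.S1417.result hG Mstar hMstar t htτ (MulAut.conj n • A₀) ⟨hAMs, hAe, hAc⟩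
      have h0 := hdisj H hH (fun h => hMsH h.symm) hAH
      apply hK1
      rw [eq_bot_iff, ← h0]
      exact le_inf F.hKσ hKH
  -- `K` is fixed-point-free on `H_σ`
  have hfpf1 : ∀ k ∈ K, k ≠ 1 → sigmaCore H ⊓ Subgroup.centralizer ({k} : Set G) = ⊥ := by
    intro k hk hk1
    rw [eq_bot_iff, ← hHσMs]
    exact inf_le_inf_left _ (F.hCk k hk hk1)
  have hfpf : sigmaCore H ⊓ Subgroup.centralizer (K : Set G) = ⊥ := by
    rw [eq_bot_iff, ← hHσMs]
    exact inf_le_inf_left _ F.hCK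
  -- `H_σ` is nilpotent
  have hnil : Group.IsNilpotent ↥(sigmaCore H) := by
    obtain ⟨k, hk, hk1⟩ := exists_ne_one_of_ne_bot hK1
    have hkp : k ^ Nat.card K = 1 := by
      have h : (⟨k, hk⟩ : K) ^ Nat.card K = 1 := pow_card_eq_one'
      have h2 : ((⟨k, hk⟩ : K) : G) ^ Nat.card K = 1 := by
        rw [← Subgroup.coe_pow, h, Subgroup.coe_one]
      exact h2
    apply Cfsg.Agent.Lib.Helper50.isNilpotent_of_fpf_conj hp (sigmaCore H) k hkp
    · intro y hy
      exact (Cfsg.Agent.Lib.Helper23.conj_mem_sigmaCore_iff_of_mem (hKH hk)).mpr hy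
    · intro y hy hky
      have : y ∈ sigmaCore H ⊓ Subgroup.centralizer ({k} : Set G) :=
        Subgroup.mem_inf.mpr ⟨hy, mem_centralizer_singleton.mpr hky⟩
      rw [hfpf1 k hk hk1, Subgroup.mem_bot] at this
      exact this
  have hHσ1 : sigmaCore H ≠ ⊥ := Cfsg.Agent.Lib.Helper55.BGEleven.sigmaCore_ne_bot hG hUthm H hH
  exact
    { hUH := hUH, hKH := hKH, hHM := hHM, hHMs := hHMs, hpσ := hpσ, hσM := hσM, hσMs := hσMs,
      hσσH := hσσH, hσσHs := hσσHs, hHσMs := hHσMs, hfpf1 := hfpf1, hfpf := hfpf, hnil := hnil,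
      hHσ1 := hHσ1 }

end StepsOneTwo

end Cfsg.Agent.Lib.Helper24.BGSixFrame
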