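import Mathlib
import Cfsg.Prelude.Def_OddOrderLocal
import Cfsg.Agent.Lib.Helper24.BGFourteenSixFrame
import Cfsg.Agent.Lib.Helper46.BGFourteenSixA

/-!
# Bender–Glauberman Theorem 14.6 (S1435): assembly, part 1  (helper24)

`frame46_of`: the `Frame` of helper46's module from `FrameM`/`FrameH`.
`parts_234_of`: conclusions 2, 3, 4 of S1435 (`U ≤ H_σ`, `M ∩ H = U K`, `N_H(U) ⊄ M`) from the frame
(helper24 `BGFourteenSixFrame`) and helper46's steps (3)–(5).
-/

set_option autoImplicit false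

namespace Cfsg.Agent.Lib.Helper24.BGSixFrame

open Cfsg
open Cfsg.Agent.Lib.Helper54
open Cfsg.Agent.Lib.Helper22.BGFourteenFour (Stmt1432)

universe u

variable {G : Type u} [Group G]

/-- helper46's `Frame` from the frame facts. -/
theorem frame46_of {M Mstar H K U : Subgroup G} (hMstar : IsCoatom Mstar) (hH : IsCoatom H)
    (F : FrameM M Mstar K U) (FH : FrameH M Mstar H K U) :
    Cfsg.Agent.Lib.Helper46.BGFourteenSix.Frame H Mstar K :=
  { coatomH := hH, coatomM := hMstar, card := F.hp, le := FH.hKH, le_core := F.hKσ,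
    cent_le := F.hCK, fpf := FH.hfpf, not_sigma := FH.hpσ }

/-- `C_U(K) = 1`. -/
theorem inf_centralizer_eq_bot_of_frameM {M Mstar K U : Subgroup G} (hK1 : K ≠ ⊥)
    (F : FrameM M Mstar K U) : U ⊓ Subgroup.centralizer (K : Set G) = ⊥ := by
  obtain ⟨k, hk, hk1⟩ := exists_ne_one_of_ne_bot hK1
  rw [eq_bot_iff, ← F.hreg k hk hk1]
  refine inf_le_inf_left U (Subgroup.centralizer_le ?_)
  intro x hx
  rw [Set.mem_singleton_iff] at hx
  rw [hx]; exact hk

/-- Conclusions 2, 3, 4 of S1435 (B&G 14.6 (b), (c), (d)). -/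
theorem parts_234_of [Finite G] (hG : IsMinSimpleOddOrder G) (h30 : Stmt1430 G) (h31 : Stmt1431 G)
    {M Mstar H K U : Subgroup G} (hM : IsCoatom M) (hMstar : IsCoatom Mstar) (hH : IsCoatom H)
    (hKU : IsSigmaDecomposition M K U) (hK1 : K ≠ ⊥) (hU1 : U ≠ ⊥)
    (F : FrameM M Mstar K U) (FH : FrameH M Mstar H K U) :
    U ≤ sigmaCore H ∧ sigmaCore M ⊓ H = ⊥ ∧ M ⊓ H = U ⊔ K ∧
      ¬ H ⊓ Subgroup.normalizer (U : Set G) ≤ M :=
  Cfsg.Agent.Lib.Helper46.BGFourteenSix.steps hG h30 h31 (frame46_of hMstar hH F FH) hM hKU hU1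
    F.hUab FH.hUH (inf_centralizer_eq_bot_of_frameM hK1 F)
    (fun s hs hsU => ⟨F.hπU s hs hsU, F.hπUκ s hs hsU⟩) FH.hσσH F.hCU

end Cfsg.Agent.Lib.Helper24.BGSixFrame
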