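import Mathlib
import Cfsg.Agent.Lib.Helper24.BGBookDataB
import Cfsg.Agent.S1350
import Cfsg.Agent.S1351
import Cfsg.Agent.S1352
import Cfsg.Agent.S1354
import Cfsg.Agent.S1355
import Cfsg.Agent.S1356
import Cfsg.Agent.S1357
import Cfsg.Agent.S1358
import Cfsg.Agent.S1359
import Cfsg.Agent.S1360
import Cfsg.Agent.S1361
import Cfsg.Agent.S1362
import Cfsg.Agent.S1363
import Cfsg.Agent.S1364
import Cfsg.Agent.S1365
import Cfsg.Agent.S1366
import Cfsg.Agent.S1368
import Cfsg.Agent.S1369
import Cfsg.Agent.S1370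
import Cfsg.Agent.S1372
import Cfsg.Agent.S1373
import Cfsg.Agent.S1374
import Cfsg.Agent.S1375
import Cfsg.Agent.S1378
import Cfsg.Agent.S1379
import Cfsg.Agent.S1384
import Cfsg.Agent.S1432
import Cfsg.Agent.S1437

/-!
# `BookBGData G` for a minimal simple group of odd order, from the landed summary rows

Only three inputs are left as hypotheses: the literal rows S1376 (B&G 15.9), S1436 (B&G 14.10/14.11)
and the book form `Stmt1440w` of B&G 15.7.
-/

set_option autoImplicit false

namespace Cfsg.Agent.Lib.Helper24.BGBook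

open Cfsg Cfsg.Agent.Lib.Helper4.PF Cfsg.Agent.Lib.Helper26 Cfsg.Agent.Lib.Helper26.BGTypes
  Cfsg.Agent.Lib.Helper10.BGTame

universe u

variable {G : Type u} [Group G] [Finite G]

/-- `BookBGData G` from the landed rows, with S1376, S1436 and the book form of 15.7 as hypotheses. -/
theorem bookBGData_of_three (hG : IsMinSimpleOddOrder G)
    (h76 : Stmt1376 G) (h36 : H1436 G) (h40 : Stmt1440w G) : BookBGData G :=
  bookBGData_of_rows hG
    (fun M hM => Cfsg.Agent.S1350.result hG M hM)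
    (fun M hM => Cfsg.Agent.S1351.result hG M hM)
    (fun M hM K hKc hK => Cfsg.Agent.S1352.result hG M hM K hKc hK)
    (fun M hM K hKc hK => Cfsg.Agent.S1354.result hG M hM K hKc hK)
    (fun M hM => Cfsg.Agent.S1355.result hG M hM)
    (fun M hM => Cfsg.Agent.S1356.result hG M hM)
    (fun M hM K U hKU hne => Cfsg.Agent.S1357.result hG M hM K U hKU hne)
    (fun M hM K U hKU => Cfsg.Agent.S1358.result hG M hM K U hKU)
    (fun M hM K U hKU => Cfsg.Agent.S1359.result hG M hM K U hKU)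
    (fun M hM K U hKU => Cfsg.Agent.S1360.result hG M hM K U hKU)
    (fun M hM K U hKU => Cfsg.Agent.S1361.result hG M hM K U hKU)
    (fun M hM K U hKU => Cfsg.Agent.S1362.result hG M hM K U hKU)
    (fun M hM K U hKU hK1 => Cfsg.Agent.S1363.result hG M hM K U hKU hK1)
    (fun M hM K U hKU hK1 => Cfsg.Agent.S1364.result hG M hM K U hKU hK1)
    (fun M hM K U hKU hK1 => Cfsg.Agent.S1365.result hG M hM K U hKU hK1)
    (fun M hM K U hKU hK1 => Cfsg.Agent.S1366.result hG M hM K U hKU hK1)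
    (fun M hM K U hKU hK1 Ms hMs hKst hKstH =>
      Cfsg.Agent.S1368.result hG M hM K U hKU hK1 Ms hMs hKst hKstH)
    (fun M hM K U hKU hK1 Ms hMs hKst hKstH =>
      Cfsg.Agent.S1369.result hG M hM K U hKU hK1 Ms hMs hKst hKstH)
    (fun M hM K U hKU hK1 => Cfsg.Agent.S1370.result hG M hM K U hKU hK1)
    (fun M hM K U hKU hK1 hU1 => Cfsg.Agent.S1372.result hG M hM K U hKU hK1 hU1)
    (fun M hM K U hKU hK1 hU => Cfsg.Agent.S1373.result hG M hM K U hKU hK1 hU)
    (fun M hM x hx hx1 => Cfsg.Agent.S1374.result hG M hM x hx hx1)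
    (fun M hM x hx hx1 hxM => Cfsg.Agent.S1375.result hG M hM x hx hx1 hxM)
    h76
    (Cfsg.Agent.S1378.result hG)
    (Cfsg.Agent.S1379.result hG)
    (fun H hHn hHall => Cfsg.Agent.S1384.result hG H hHn hHall)
    (fun M hM x hx hx1 x' hx' hx'1 hσ => Cfsg.Agent.S1432.result hG M hM x hx hx1 x' hx' hx'1 hσ)
    h36
    (fun M hM K U hKU hne => Cfsg.Agent.S1437.result hG M hM K U hKU hne)
    h40

end Cfsg.Agent.Lib.Helper24.BGBook
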