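import Mathlib
import Cfsg.Agent.Lib.Helper24.BGBookFinal
import Cfsg.Agent.Lib.Helper51.BGFifteenSevenMain

/-!
# `BookBGData G` from the landed rows, with only S1376 and S1436 left as hypotheses
(B&G 15.7 in book form is now discharged by helper51's `stmt1440w_of`).
-/

set_option autoImplicit false

namespace Cfsg.Agent.Lib.Helper24.BGBook

open Cfsg Cfsg.Agent.Lib.Helper4.PF Cfsg.Agent.Lib.Helper26 Cfsg.Agent.Lib.Helper26.BGTypes
  Cfsg.Agent.Lib.Helper10.BGTame

universe u

variable {G : Type u} [Group G] [Finite G]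

/-- The book form of B&G 15.7, unconditionally. -/
theorem stmt1440w (hG : IsMinSimpleOddOrder G) : Stmt1440w G :=
  Cfsg.Agent.Lib.Helper51.BGFifteenSeven.stmt1440w_of hG
    (fun M hM K U hKU hne => Cfsg.Agent.S1357.result hG M hM K U hKU hne)

/-- `BookBGData G` from the landed rows, with S1376 and S1436 as hypotheses. -/
theorem bookBGData_of_two (hG : IsMinSimpleOddOrder G)
    (h76 : Stmt1376 G) (h36 : H1436 G) : BookBGData G :=
  bookBGData_of_three hG h76 h36 (stmt1440w hG)

end Cfsg.Agent.Lib.Helper24.BGBook
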