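import Mathlib
import Cfsg.Agent.Lib.Helper24.BGBookFinalB
import Cfsg.Agent.S1376
import Cfsg.Agent.S1436

/-!
# `BookBGData G`, unconditionally

All the Bender–Glauberman input of the Peterfalvi interface (`Helper4.PF.BookBGData`), for every
minimal simple group of odd order, with no hypotheses left: S1376 (B&G 15.9) and S1436
(B&G 14.10/14.11) are landed rows now.
-/

set_option autoImplicit false

namespace Cfsg.Agent.Lib.Helper24.BGBook

open Cfsg Cfsg.Agent.Lib.Helper4.PF Cfsg.Agent.Lib.Helper26 Cfsg.Agent.Lib.Helper26.BGTypes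
  Cfsg.Agent.Lib.Helper10.BGTame

universe u

variable {G : Type u} [Group G] [Finite G]

/-- The literal row S1376 (B&G 15.9). -/
theorem stmt1376 (hG : IsMinSimpleOddOrder G) : Stmt1376 G :=
  fun M hM x hx hx1 hxM N hN hxN hkN =>
    Cfsg.Agent.S1376.result hG M hM x hx hx1 hxM N hN hxN hkN

/-- The literal row S1436 (B&G 14.10/14.11). -/
theorem h1436 (hG : IsMinSimpleOddOrder G) : H1436 G :=
  fun M hM x hx hx1 hxM N hN hxN =>
    Cfsg.Agent.S1436.result hG M hM x hx hx1 hxM N hN hxN

/-- **All the B&G data of the Peterfalvi interface, unconditionally.** -/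
theorem bookBGData (hG : IsMinSimpleOddOrder G) : BookBGData G :=
  bookBGData_of_two hG (stmt1376 hG) (h1436 hG)

end Cfsg.Agent.Lib.Helper24.BGBook
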