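import Mathlib
import Cfsg.Agent.Lib.Helper24.PFCycCtx
import Cfsg.Agent.Lib.Helper24.PFCycTau
import Cfsg.Agent.Lib.Helper51.PFCycCalSApi

/-!
# Peterfalvi section 10, M-side: the `τ₁`-free context `MCtx0` (helper24)

`MCtx0` = `MCtx` without the coherent extension `τ₁` (sections 11 and 13 never have full
coherence of `calS M`).  `MCtx.to0 : MCtx … → MCtx0 …`.  The `τ₁`-free API (helper51's
[CALS-API] and the Dade-map API `PFCycTau`) is ported to `MCtx0` in the namespace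
`Cfsg.Agent.Lib.Helper24.PFCyc.Zero` (same lemma names, same proofs).
-/

set_option autoImplicit false
set_option linter.unusedVariables false
set_option linter.unusedSectionVars false

namespace Cfsg.Agent.Lib.Helper24.PFCyc

open Cfsg Cfsg.Agent.Lib.Helper4.PF Cfsg.Agent.Lib.Helper74.PF127

universe u

/-- `MCtx` without the coherent extension `τ₁`. -/
structure MCtx0 {G : Type u} [Group G] [Fintype G] (M W₁ U W₂ : Subgroup G) [Fintype M]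
    (mu : WChar W₁ W₂ → (↥M → ℂ)) (dl : WChar W₁ W₂ → ℂ) (η : WChar W₁ W₂ → (G → ℂ))
    (ζ : ↥M → ℂ) : Prop where
  hP : IsTypePWith M W₁ U W₂
  hodd : Odd (Nat.card M)
  hW : IsSelfNormalizingCyclic W₁ W₂
  hp : (Nat.card W₂).Prime
  hA : litA M = ((⁅M, M⁆ : Subgroup G) : Set G) \ {1}
  hD : DadeHypothesis (litA0 M) M (supportR M)
  md : MuData M W₁ W₂ mu dl
  hη : IsCyclicTIFamily W₁ W₂ η
  hζ : ζ ∈ calS M
  hζirr : IsIrrCharacter ↥M ζ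
  hζ1 : ζ 1 = (Nat.card W₁ : ℂ)

theorem MCtx.to0 {G : Type u} [Group G] [Fintype G] {M W₁ U W₂ : Subgroup G} [Fintype M]
    {mu : WChar W₁ W₂ → (↥M → ℂ)} {dl : WChar W₁ W₂ → ℂ} {η : WChar W₁ W₂ → (G → ℂ)}
    {τ₁ : (↥M → ℂ) → (G → ℂ)} {ζ : ↥M → ℂ} (h : MCtx M W₁ U W₂ mu dl η τ₁ ζ) :
    MCtx0 M W₁ U W₂ mu dl η ζ :=
  { hP := h.hP, hodd := h.hodd, hW := h.hW, hp := h.hp, hA := h.hA, hD := h.hD, md := h.md,
    hη := h.hη, hζ := h.hζ, hζirr := h.hζirr, hζ1 := h.hζ1 }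

namespace Zero

open Cfsg.Agent.Lib.Helper51.PFCyc
open scoped ComplexConjugate

variable {G : Type u} [Group G] [Fintype G] {M W₁ U W₂ : Subgroup G} [Fintype M]
  {mu : WChar W₁ W₂ → (↥M → ℂ)} {dl : WChar W₁ W₂ → ℂ} {η : WChar W₁ W₂ → (G → ℂ)}
  {ζ : ↥M → ℂ}

/-- [CALS-API], `τ₁`-free port of helper51's proof (1) -/
theorem calS_basic (h : MCtx0 M W₁ U W₂ mu dl η ζ) (ζ' : ↥M → ℂ) (hζ' : ζ' ∈ calS M) :
    IsCharacter ↥M ζ' ∧ (∀ m : ↥M, (m : G) ∉ ⁅M, M⁆ → ζ' m = 0) ∧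
      conjFun ζ' ∈ calS M ∧ conjFun ζ' ≠ ζ' ∧
      ∃ e : ℕ, 1 ≤ e ∧ ζ' 1 = (e : ℂ) * (Nat.card W₁ : ℂ) ∧
        ((e : ℤ) • ζ - ζ') ∈ zspanOn (calS M) {1}ᶜ := by
  classical
  have hKn := KM_normal M
  obtain ⟨θ, hθ, hθ1, rfl⟩ := (Cfsg.Agent.Lib.Helper74.mem_inducedIrrAbove_bot_iff _).mp hζ'
  obtain ⟨e, he, he'⟩ := (Cfsg.Agent.Lib.Helper26.irrFacts ↥(KM M)).deg_pos _ hθ
  have hdeg : indFun (KM M) θ 1 = (e : ℂ) * (Nat.card W₁ : ℂ) := by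
    rw [Cfsg.Agent.Lib.Helper75.indFun_one, he']
    have : (KM M).index = Nat.card W₁ := KM_index h.hP
    rw [this, mul_comm]
  refine ⟨?_, ?_, ?_, ?_, e, he, hdeg, ?_, ?_⟩
  · exact Cfsg.Agent.S0148.result (KM M) θ (Cfsg.Agent.Lib.Helper78.IsIrrCharacter.isCharacter hθ)
  · intro m hm
    apply indFun_vanish_off_normal (KM M) θ
    intro hc
    exact hm (Subgroup.mem_subgroupOf.mp hc)
  · exact Cfsg.Agent.Lib.Helper74.sibleyS_conj_mem (KM M) hζ'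
  · exact indFun_conj_ne_self (KM M) h.hodd hθ hθ1
  · exact Cfsg.Agent.Lib.Helper26.zspan_sub
      (Cfsg.Agent.Lib.Helper26.zspan_zsmul _ (Cfsg.Agent.Lib.Helper26.subset_zspan _ h.hζ))
      (Cfsg.Agent.Lib.Helper26.subset_zspan _ hζ')
  · intro x hx
    have hx1 : x = 1 := by simpa using hx
    rw [hx1]
    show ((e : ℤ) • ζ) 1 - indFun (KM M) θ 1 = 0
    rw [Pi.smul_apply, hdeg, h.hζ1, zsmul_eq_mul]
    push_cast
    ring

/-- [CALS-API], `τ₁`-free port of helper51's proof (2) -/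
theorem calS_orth (h : MCtx0 M W₁ U W₂ mu dl η ζ) (ζ' ζ'' : ↥M → ℂ) (hζ' : ζ' ∈ calS M)
    (hζ'' : ζ'' ∈ calS M) (hne : ζ' ≠ ζ'') : classInner ζ' ζ'' = 0 := by
  have hKn := KM_normal M
  obtain ⟨θ', hθ', -, rfl⟩ := (Cfsg.Agent.Lib.Helper74.mem_inducedIrrAbove_bot_iff _).mp hζ'
  obtain ⟨θ'', hθ'', -, rfl⟩ := (Cfsg.Agent.Lib.Helper74.mem_inducedIrrAbove_bot_iff _).mp hζ''
  exact inducedIrr_orth (KM M) hθ' hθ'' hne

/-- [CALS-API], `τ₁`-free port of helper51's proof (3): `μ_0 = Ind_K^M 1` -/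
theorem mu0_facts (h : MCtx0 M W₁ U W₂ mu dl η ζ) (hf : MFacts M W₁ W₂ mu dl η) :
    IsCharacter ↥M (muSum mu 1) ∧
      (∀ m : ↥M, (m : G) ∉ ⁅M, M⁆ → muSum mu 1 m = 0) ∧
      (∀ m : ↥M, (m : G) ∈ ⁅M, M⁆ → muSum mu 1 m = (Nat.card W₁ : ℂ)) ∧
      classInner (muSum mu 1) (muSum mu 1) = (Nat.card W₁ : ℂ) ∧
      classInner (muSum mu 1) (fun _ => 1) = 1 ∧
      ∀ ζ' ∈ calS M, classInner (muSum mu 1) ζ' = 0 := by
  classical
  have hKn := KM_normal M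
  have : Fintype ↥(KM M) := Fintype.ofFinite _
  have hP := h.hP
  have hodd := h.hodd
  have md := h.md
  obtain ⟨hirr, hind⟩ := muSum_eq_indFun hP hodd md (1 : WChar W₁ W₂)
  have hmu1 : mu 1 = fun _ => 1 := Cfsg.Agent.Lib.Helper50.PFCyc.mu_one hP hodd md
  have hres1 : (fun k : ↥(KM M) => mu 1 (k : ↥M)) = (fun _ => 1) := by
    rw [hmu1]
  refine ⟨?_, ?_, ?_, ?_, ?_, ?_⟩
  · rw [hind]
    exact Cfsg.Agent.S0148.result (KM M) _ (Cfsg.Agent.Lib.Helper78.IsIrrCharacter.isCharacter hirr)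
  · intro m hm
    rw [hind]
    apply indFun_vanish_off_normal (KM M)
    intro hc
    exact hm (Subgroup.mem_subgroupOf.mp hc)
  · intro m hm
    rw [hind, hres1]
    have hinv : ∀ x : ↥M, Cfsg.Agent.Lib.Helper75.conjFun (KM M) x (fun _ => (1 : ℂ)) =
        fun _ => 1 := fun x => rfl
    have := indFun_res_of_invariant (KM M) (fun _ => (1 : ℂ)) hinv
      ⟨m, Subgroup.mem_subgroupOf.mpr hm⟩
    rw [this, KM_index hP, mul_one]
  · unfold muSum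
    rw [classInner_sum_irr_self (trivSet W₁ W₂ W₂) (fun φ => mu (φ * 1)) (fun φ _ => md.irr _)
      (fun φ _ φ' _ hh => mul_right_cancel (md.inj hh)), card_trivSet_W₂ hP.selfNormalizing]
  · have hcf : IsClassFunction ↥M (fun _ => (1 : ℂ)) := fun _ _ => rfl
    rw [inner_muSum hP hodd md 1 hcf, hres1]
    exact Cfsg.Agent.Lib.Helper78.classInner_irr_self Cfsg.Agent.Lib.Helper78.isIrrCharacter_one
  · intro ζ' hζ'
    obtain ⟨θ, hθ, hθ1, rfl⟩ := (Cfsg.Agent.Lib.Helper74.mem_inducedIrrAbove_bot_iff _).mp hζ'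
    rw [inner_muSum hP hodd md 1 (Cfsg.Agent.Lib.Helper75.isClassFunction_indFun _ _), hres1,
      ← Cfsg.Agent.Lib.Helper78.classInner_conj_symm,
      Cfsg.Agent.Lib.Helper75.classInner_indFun_res_eq_zero (KM M) hθ
        Cfsg.Agent.Lib.Helper78.isIrrCharacter_one ?_, map_zero]
    intro x hx
    apply hθ1
    have h2 := congrArg (Cfsg.Agent.Lib.Helper75.conjFun (KM M) x⁻¹) hx
    rw [Cfsg.Agent.Lib.Helper75.conjFun_inv_conjFun] at h2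
    rw [h2]
    rfl

/-- [CALS-API], `τ₁`-free port of helper51's proof (4): the reducible members `μ_ψ` of `calS M` -/
theorem muSum_facts (h : MCtx0 M W₁ U W₂ mu dl η ζ) (hf : MFacts M W₁ W₂ mu dl η)
    (ψ : WChar W₁ W₂) (hψ : TrivOn W₁ ψ) (hψ1 : ψ ≠ 1) :
    muSum mu ψ ≠ ζ ∧ classInner (muSum mu ψ) (muSum mu ψ) = (Nat.card W₁ : ℂ) ∧
      muSum mu ψ 1 = (Nat.card W₁ : ℂ) * mu ψ 1 ∧
      (∀ ψ' : WChar W₁ W₂, TrivOn W₁ ψ' → ψ' ≠ 1 → ψ' ≠ ψ → muSum mu ψ' ≠ muSum mu ψ) ∧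
      (∀ ψ' : WChar W₁ W₂, TrivOn W₁ ψ' → ψ' ≠ 1 →
        (muSum mu ψ - muSum mu ψ') ∈ zspanOn (calS M) {1}ᶜ) := by
  classical
  have hKn := KM_normal M
  have : Fintype ↥(KM M) := Fintype.ofFinite _
  have hP := h.hP
  have hodd := h.hodd
  have md := h.md
  have hnorm : ∀ ω : WChar W₁ W₂, classInner (muSum mu ω) (muSum mu ω) = (Nat.card W₁ : ℂ) := by
    intro ω
    unfold muSum
    rw [classInner_sum_irr_self (trivSet W₁ W₂ W₂) (fun φ => mu (φ * ω)) (fun φ _ => md.irr _)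
      (fun φ _ φ' _ hh => mul_right_cancel (md.inj hh)), card_trivSet_W₂ hP.selfNormalizing]
  have hval1 : ∀ ω : WChar W₁ W₂, muSum mu ω 1 = (Nat.card W₁ : ℂ) * mu ω 1 := by
    intro ω
    unfold muSum
    rw [Finset.sum_apply]
    have h1 : ∀ φ ∈ trivSet W₁ W₂ W₂, mu (φ * ω) 1 = mu ω 1 := by
      intro φ hφ
      apply Cfsg.Agent.Lib.Helper50.PFCyc.mu_res_eq hP md (φ * ω) ω ?_ (1 : ↥M)
        (Subgroup.one_mem _)
      intro w hw
      rw [MonoidHom.mul_apply, mem_trivSet.mp hφ w hw, one_mul]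
    rw [Finset.sum_congr rfl h1, Finset.sum_const, card_trivSet_W₂ hP.selfNormalizing,
      nsmul_eq_mul]
  have hq2 : 1 < Nat.card W₁ := (Subgroup.one_lt_card_iff_ne_bot W₁).mpr hP.W₁_ne
  refine ⟨?_, hnorm ψ, hval1 ψ, ?_, ?_⟩
  · intro hc
    have h1 := hnorm ψ
    rw [hc, Cfsg.Agent.Lib.Helper78.classInner_irr_self h.hζirr] at h1
    have : (Nat.card W₁ : ℂ) = ((1 : ℕ) : ℂ) := by rw [← h1]; simp
    have h2 : Nat.card W₁ = 1 := by exact_mod_cast this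
    omega
  · intro ψ' hψ' hψ'1 hne hc
    have hcf : IsClassFunction ↥M (mu ψ') :=
      Cfsg.Agent.Lib.Helper78.IsCharacter.isClassFunction
        (Cfsg.Agent.Lib.Helper78.IsIrrCharacter.isCharacter (md.irr ψ'))
    have h1 : classInner (muSum mu ψ) (mu ψ') ≠ 0 := by
      rw [← hc, inner_muSum hP hodd md ψ' hcf,
        Cfsg.Agent.Lib.Helper78.classInner_irr_self (muSum_eq_indFun hP hodd md ψ').1]
      exact one_ne_zero
    obtain ⟨φ, hφ, h2⟩ := exists_mu_of_inner_ne_zero hP hodd md ψ (md.irr ψ') h1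
    have h3 : φ * ψ = ψ' := md.inj h2
    have hφ₁ : TrivOn W₁ φ := by
      intro w hw
      have h4 := DFunLike.congr_fun h3 w
      rw [MonoidHom.mul_apply, hψ w hw, mul_one, hψ' w hw] at h4
      exact h4
    have h5 : φ = 1 := eq_one_of_trivOn hP.selfNormalizing hφ₁ (mem_trivSet.mp hφ)
    apply hne
    ext w
    have h4 := DFunLike.congr_fun h3 w
    rw [MonoidHom.mul_apply, h5, MonoidHom.one_apply, one_mul] at h4
    rw [h4]
  · intro ψ' hψ' hψ'1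
    refine ⟨Cfsg.Agent.Lib.Helper26.zspan_sub
      (Cfsg.Agent.Lib.Helper26.subset_zspan _ (muSum_mem_calS hP hodd md ψ hψ hψ1))
      (Cfsg.Agent.Lib.Helper26.subset_zspan _ (muSum_mem_calS hP hodd md ψ' hψ' hψ'1)), ?_⟩
    intro x hx
    have hx1 : x = 1 := by simpa using hx
    rw [hx1]
    show muSum mu ψ 1 - muSum mu ψ' 1 = 0
    rw [hval1 ψ, hval1 ψ', (hf.mu_const ψ ψ' hψ hψ' hψ1 hψ'1).2, sub_self]


/-- a function vanishing off `M'` and at `1` vanishes off `A₀(M)` -/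
theorem off_litA0 (h : MCtx0 M W₁ U W₂ mu dl η ζ) (α : ↥M → ℂ)
    (hαK : ∀ m : ↥M, (m : G) ∉ ⁅M, M⁆ → α m = 0) (hα1 : α 1 = 0) :
    ∀ m : ↥M, (m : G) ∉ litA0 M → α m = 0 := by
  intro m hm
  by_cases hmK : (m : G) ∈ ⁅M, M⁆
  · by_cases hm1 : m = 1
    · rw [hm1, hα1]
    · exfalso
      apply hm
      left
      rw [h.hA]
      exact ⟨hmK, fun hc => hm1 (Subtype.ext hc)⟩
  · exact hαK m hmK

/-- a function vanishing off `M'` and at `1` vanishes off `A(M)` -/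
theorem off_litA (h : MCtx0 M W₁ U W₂ mu dl η ζ) (α : ↥M → ℂ)
    (hαK : ∀ m : ↥M, (m : G) ∉ ⁅M, M⁆ → α m = 0) (hα1 : α 1 = 0) :
    ∀ m : ↥M, (m : G) ∉ litA M → α m = 0 := by
  intro m hm
  by_cases hmK : (m : G) ∈ ⁅M, M⁆
  · by_cases hm1 : m = 1
    · rw [hm1, hα1]
    · exfalso
      apply hm
      rw [h.hA]
      exact ⟨hmK, fun hc => hm1 (Subtype.ext hc)⟩
  · exact hαK m hmK

theorem tauM_isClassFunction (h : MCtx0 M W₁ U W₂ mu dl η ζ) {α : ↥M → ℂ}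
    (hα : IsClassFunction ↥M α) : IsClassFunction G (tauM M α) :=
  Cfsg.Agent.Lib.Helper3.Dade.dade_isClassFunction h.hD hα

/-- S1500 (i) -/
theorem tauM_inner (h : MCtx0 M W₁ U W₂ mu dl η ζ) {α β : ↥M → ℂ}
    (hα : IsClassFunction ↥M α) (hαA : ∀ m : ↥M, (m : G) ∉ litA0 M → α m = 0)
    (hβ : IsClassFunction ↥M β) (hβA : ∀ m : ↥M, (m : G) ∉ litA0 M → β m = 0) :
    classInner (tauM M α) (tauM M β) = classInner α β :=
  (Cfsg.Agent.S1500.result (litA0 M) M (supportR M) h.hD α hα hαA).1 β hβ hβA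

/-- S1500 (ii) -/
theorem tauM_adjoint (h : MCtx0 M W₁ U W₂ mu dl η ζ) {α : ↥M → ℂ}
    (hα : IsClassFunction ↥M α) (hαA : ∀ m : ↥M, (m : G) ∉ litA0 M → α m = 0)
    {ν : G → ℂ} (hν : IsClassFunction G ν) :
    classInner (tauM M α) ν = classInner α (dadeRes (litA0 M) M (supportR M) ν) :=
  (Cfsg.Agent.S1500.result (litA0 M) M (supportR M) h.hD α hα hαA).2 ν
    (dadeRes (litA0 M) M (supportR M) ν) hν
    (fun a ha => by rw [dadeRes_of_mem _ _ _ _ _ ha]; rfl)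

theorem tauM_inner_one (h : MCtx0 M W₁ U W₂ mu dl η ζ) {α : ↥M → ℂ}
    (hα : IsClassFunction ↥M α) (hαA : ∀ m : ↥M, (m : G) ∉ litA0 M → α m = 0) :
    classInner (tauM M α) (fun _ => 1) = classInner α (fun _ => 1) := by
  have h1 : IsClassFunction G (fun _ : G => (1 : ℂ)) := fun _ _ => rfl
  rw [tauM_adjoint h hα hαA h1]
  unfold classInner
  congr 1
  apply Finset.sum_congr rfl
  intro m _
  by_cases hm : (m : G) ∈ litA0 M
  · rw [dadeRes_of_mem _ _ _ _ _ hm]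
    congr 2
    unfold dadeAvg
    rw [finsum_mem_eq_finite_toFinset_sum _ (Set.toFinite _)]
    simp only [Finset.sum_const, nsmul_eq_mul, mul_one]
    have : (Set.toFinite ((supportR M (m : G) : Subgroup G) : Set G)).toFinset.card =
        Nat.card (supportR M (m : G)) := by
      rw [← Set.ncard_eq_toFinset_card _ (Set.toFinite _)]
      rfl
    rw [this]
    have hne : (Nat.card (supportR M (m : G)) : ℂ) ≠ 0 := by
      exact_mod_cast (Nat.card_pos (α := supportR M (m : G))).ne'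
    field_simp
  · rw [hαA m hm, zero_mul, zero_mul]

/-- S1501 -/
theorem tauM_genChar (h : MCtx0 M W₁ U W₂ mu dl η ζ) {α : ↥M → ℂ}
    (hα : IsGeneralizedCharacter ↥M α) (hαA : ∀ m : ↥M, (m : G) ∉ litA0 M → α m = 0) :
    IsGeneralizedCharacter G (tauM M α) :=
  Cfsg.Agent.S1501.result (litA0 M) M (supportR M) h.hD α hα hαA

/-- an element of `W ∖ (W₁ ∪ W₂)` is not in `M'` -/
theorem not_mem_der_of_mem_W (h : MCtx0 M W₁ U W₂ mu dl η ζ) {w : G} (hw : w ∈ W₁ ⊔ W₂)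
    (hw₂ : w ∉ W₂) : w ∉ ⁅M, M⁆ := by
  intro hwK
  have hW := h.hW
  have hcomm := hW.2.2.2.1
  have hW₂K : W₂ ≤ ⁅M, M⁆ := (h.hP.W₂_le.trans inf_le_left).trans h.hP.U_compl.1
  obtain ⟨a, ha, b, hb, rfl⟩ : ∃ a ∈ W₁, ∃ b ∈ W₂, w = a * b := by
    refine Cfsg.Agent.Lib.Helper3.Dade.mem_sup_decomp W₂ W₁ ?_ (by rwa [sup_comm])
    intro k hk u hu
    rw [hcomm k hk u hu, mul_inv_cancel_right]
    exact hu
  have haK : a ∈ ⁅M, M⁆ := by
    have : a = a * b * b⁻¹ := by group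
    rw [this]
    exact Subgroup.mul_mem _ hwK (Subgroup.inv_mem _ (hW₂K hb))
  have ha1 : a = 1 := by
    have : a ∈ ⁅M, M⁆ ⊓ W₁ := ⟨haK, ha⟩
    rw [h.hP.W₁_compl.2.2.1] at this
    exact Subgroup.mem_bot.mp this
  apply hw₂
  rw [ha1, one_mul]
  exact hb

/-- the Dade image of a class function vanishing off `M'` vanishes on `W ∖ (W₁ ∪ W₂)` -/
theorem tauM_vanish_W (h : MCtx0 M W₁ U W₂ mu dl η ζ) (hf : MFacts M W₁ W₂ mu dl η)
    (α : ↥M → ℂ) (hα : IsClassFunction ↥M α)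
    (hαK : ∀ m : ↥M, (m : G) ∉ ⁅M, M⁆ → α m = 0)
    (w : ↥(W₁ ⊔ W₂)) (hw₁ : (w : G) ∉ W₁) (hw₂ : (w : G) ∉ W₂) : tauM M α (w : G) = 0 := by
  have hlit := hf.litA0 (w : G) w.2 hw₁ hw₂ 1 (Subgroup.one_mem M)
  rw [one_mul, inv_one, mul_one] at hlit
  have hWM : W₁ ⊔ W₂ ≤ M :=
    sup_le h.hP.W₁_compl.2.1
      (((h.hP.W₂_le.trans inf_le_left).trans h.hP.U_compl.1).trans h.hP.W₁_compl.1)
  have hwM : (w : G) ∈ M := hWM w.2
  have hrel : Cfsg.Agent.Lib.Helper3.Dade.Rel (litA0 M) M (supportR M) (w : G) ⟨(w : G), hwM⟩ :=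
    ⟨hlit.1, 1, 1, Subgroup.one_mem _, by simp⟩
  have := Cfsg.Agent.Lib.Helper3.Dade.dade_eq h.hD hα hrel
  unfold tauM
  rw [this]
  exact hαK _ (not_mem_der_of_mem_W h w.2 hw₂)


end Zero

end Cfsg.Agent.Lib.Helper24.PFCyc
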