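import Mathlib
import Cfsg.Agent.Lib.Helper24.PFCycCtx
import Cfsg.Agent.Lib.Helper22.PFCycMu
import Cfsg.Agent.Lib.Helper22.PFCycMuDeg
import Cfsg.Agent.Lib.Helper50.PFCycMuOne
import Cfsg.Agent.Lib.Helper50.PFCycMuRes
import Cfsg.Agent.Lib.Helper51.PFCycMuInd
import Cfsg.Agent.Lib.Helper51.PFCycMuIrr
import Cfsg.Agent.Lib.Helper51.PFCycCalS
import Cfsg.Agent.Lib.Helper9.PFCycMuGal
import Cfsg.Agent.Lib.Helper9.PFCycMuConst
import Cfsg.Agent.Lib.Helper54.PFCycCover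
import Cfsg.Agent.Lib.Helper54.PFCycLitA
import Cfsg.Agent.Lib.Helper60.PFCycB1
import Cfsg.Agent.Lib.Helper60.PFCycB2
import Cfsg.Agent.Lib.Helper87.PFCycZeta
import Cfsg.Agent.S1502

/-!
# Peterfalvi section 10, M-side: building the context (helper24)

`mfacts_of`: the batch-1 modules give `MFacts`.
`exists_mctx`: from the type-P data of `M` (Type III-V), the Dade hypothesis for `A₀(M)` and the
coherence of `calS M` we get the whole context `MCtx` + `MFacts`.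
-/

set_option autoImplicit false

namespace Cfsg.Agent.Lib.Helper24.PFCyc

open Cfsg Cfsg.Agent.Lib.Helper4.PF

universe u

variable {G : Type u} [Group G] [Fintype G] {M W₁ U W₂ : Subgroup G} [Fintype M]
  {mu : WChar W₁ W₂ → (↥M → ℂ)} {dl : WChar W₁ W₂ → ℂ} {η : WChar W₁ W₂ → (G → ℂ)}

/-- the batch-1 modules give `MFacts` -/
theorem mfacts_of (hP : IsTypePWith M W₁ U W₂) (hodd : Odd (Nat.card M))
    (hp : (Nat.card W₂).Prime)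
    (hA : litA M = ((⁅M, M⁆ : Subgroup G) : Set G) \ {1})
    (hD : DadeHypothesis (litA0 M) M (supportR M))
    (md : MuData M W₁ W₂ mu dl) (hη : IsCyclicTIFamily W₁ W₂ η) :
    MFacts M W₁ W₂ mu dl η := by
  have hmu1 : mu 1 = fun _ => 1 := Cfsg.Agent.Lib.Helper50.PFCyc.mu_one hP hodd md
  have hdl1 : ∀ φ : WChar W₁ W₂, TrivOn W₂ φ → dl φ = 1 := fun φ hφ =>
    (Cfsg.Agent.Lib.Helper50.PFCyc.mu_of_trivOn hP hodd md φ hφ).1
  have hconst : ∀ ψ ψ' : WChar W₁ W₂, TrivOn W₁ ψ → TrivOn W₁ ψ' → ψ ≠ 1 → ψ' ≠ 1 →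
      dl ψ = dl ψ' ∧ mu ψ 1 = mu ψ' 1 := fun ψ ψ' hψ hψ' hψ1 hψ'1 =>
    Cfsg.Agent.Lib.Helper9.PFCyc.mu_const hP hodd md hp ψ ψ' hψ hψ' hψ1 hψ'1
  refine
    { mu_phi := fun φ hφ => Cfsg.Agent.Lib.Helper50.PFCyc.mu_of_trivOn hP hodd md φ hφ
      mu_one := hmu1
      mu_res := fun ω ω' hωω' k hk =>
        Cfsg.Agent.Lib.Helper50.PFCyc.mu_res_eq hP md ω ω' hωω' k hk
      mu_ind := fun ω => Cfsg.Agent.Lib.Helper51.PFCyc.muSum_eq_indFun hP hodd md ω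
      irr_cases := fun θ hθ => Cfsg.Agent.Lib.Helper51.PFCyc.irr_eq_mu_or_ind hP hodd md θ hθ
      calS_cases := fun ζ' hζ' => Cfsg.Agent.Lib.Helper51.PFCyc.calS_cases hP hodd md ζ' hζ'
      muSum_mem := fun ψ hψ hψ1 =>
        Cfsg.Agent.Lib.Helper51.PFCyc.muSum_mem_calS hP hodd md ψ hψ hψ1
      mu_gal := fun σ ω => Cfsg.Agent.Lib.Helper9.PFCyc.mu_galChar hP hodd md σ ω
      mu_const := hconst
      mu_deg := fun ψ hψ hψ1 => Cfsg.Agent.Lib.Helper22.PFCyc.mu_degree hP hodd md ψ hψ hψ1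
      cover := fun m hm hmK => exists_conj_mem_W hP m hm hmK
      litA0 := litA0_facts hP
      rect := fun φ ψ hφ hψ hφ1 hψ1 =>
        Cfsg.Agent.Lib.Helper60.PFCycB.dade_rect hP hD md hmu1 hdl1 η hη φ ψ hφ hψ hφ1 hψ1
      musub := ?_ }
  intro ψ ψ' hψ hψ' hψ1 hψ'1 hne
  have hc := hconst ψ ψ' hψ hψ' hψ1 hψ'1
  refine Cfsg.Agent.Lib.Helper60.PFCycB.dade_mu_sub hP hD md hodd η hη ψ ψ' hψ hψ' hψ1 hψ'1 hne
    hc.1 hc.2 ?_
  intro x hxK hxA hx1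
  exfalso
  apply hxA
  left
  rw [hA]
  exact ⟨hxK, fun hc => hx1 (Subtype.ext hc)⟩

/-- the whole M-side context from the type-P data, the Dade hypothesis and coherence -/
theorem exists_mctx (hP : IsTypePWith M W₁ U W₂) (hodd : Odd (Nat.card M))
    (hsol : Group.IsSolvable ↥M) (hp : (Nat.card W₂).Prime)
    (hA : litA M = ((⁅M, M⁆ : Subgroup G) : Set G) \ {1})
    (hD : DadeHypothesis (litA0 M) M (supportR M))
    (hcoh : IsCoherent (calS M) {1}ᶜ (tauM M)) :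
    ∃ (mu : WChar W₁ W₂ → (↥M → ℂ)) (dl : WChar W₁ W₂ → ℂ) (η : WChar W₁ W₂ → (G → ℂ))
      (τ₁ : (↥M → ℂ) → (G → ℂ)) (ζ : ↥M → ℂ),
      MCtx M W₁ U W₂ mu dl η τ₁ ζ ∧ MFacts M W₁ W₂ mu dl η := by
  obtain ⟨mu, dl, md⟩ := Cfsg.Agent.Lib.Helper22.PFCyc.exists_muData hP hodd
  have hW := hP.selfNormalizing
  have hWM : W₁ ⊔ W₂ ≤ M := Cfsg.Agent.Lib.Helper60.PFCycB.W_le hP
  have hoddW : Odd (Nat.card ↥(W₁ ⊔ W₂)) := by
    have hdvd : Nat.card ↥(W₁ ⊔ W₂) ∣ Nat.card M := Subgroup.card_dvd_of_le hWM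
    exact Odd.of_dvd_nat hodd hdvd
  obtain ⟨η, hη⟩ := Cfsg.Agent.S1502.result W₁ W₂ hW hoddW
  obtain ⟨-, τ₁, hτ₁, hext⟩ := hcoh
  obtain ⟨ζ, hζ, hζirr, hζ1⟩ := Cfsg.Agent.Lib.Helper87.PFCycZeta.exists_zeta hP hodd hsol
  exact ⟨mu, dl, η, τ₁, ζ,
    { hP := hP, hodd := hodd, hW := hW, hp := hp, hA := hA, hD := hD, md := md, hη := hη,
      hτ₁ := hτ₁, hext := hext, hζ := hζ, hζirr := hζirr, hζ1 := hζ1 },
    mfacts_of hP hodd hp hA hD md hη⟩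

end Cfsg.Agent.Lib.Helper24.PFCyc
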