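import Mathlib
import Cfsg.Agent.Lib.Helper24.PFCycCtx
import Cfsg.Agent.Lib.Helper24.PFCycTau
import Cfsg.Agent.Lib.Helper51.PFCycCalSApi
import Cfsg.Agent.Lib.Helper23.PFCycX0
import Cfsg.Agent.Lib.Helper1.PFCycPar
import Cfsg.Agent.Lib.Helper98.PFCycMass
import Cfsg.Agent.Lib.Helper23.PFCycTau1Mu
import Cfsg.Agent.Lib.Helper31.PFCycChi
import Cfsg.Agent.Lib.Helper31.PFCycA2Rho
import Cfsg.Agent.Lib.Helper38.PFCycA1

/-!
# Peterfalvi section 10: the M-side assembled (helper24)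

`mside_of_ctx : MCtx … → MFacts … → MSide M W₁ W₂ η (τ₁ ζ) (litA M) q²`.
-/

set_option autoImplicit false

namespace Cfsg.Agent.Lib.Helper24.PFCyc

open Cfsg Cfsg.Agent.Lib.Helper4.PF Cfsg.Agent.Lib.Helper74.PF127

universe u

variable {G : Type u} [Group G] [Fintype G] {M W₁ U W₂ : Subgroup G} [Fintype M]
  {mu : WChar W₁ W₂ → (↥M → ℂ)} {dl : WChar W₁ W₂ → ℂ} {η : WChar W₁ W₂ → (G → ℂ)}
  {τ₁ : (↥M → ℂ) → (G → ℂ)} {ζ : ↥M → ℂ}

/-- `A(M) = M' ∖ {1}` is invariant under `M`-conjugation -/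
theorem litA_conj_mem (h : MCtx M W₁ U W₂ mu dl η τ₁ ζ) :
    ∀ x ∈ M, ∀ a ∈ litA M, x * a * x⁻¹ ∈ litA M := by
  intro x hx a ha
  rw [h.hA] at ha ⊢
  refine ⟨?_, ?_⟩
  · have hn : (⁅M, M⁆ : Subgroup G) ≤ M := h.hP.W₁_compl.1
    have haM : a ∈ M := hn ha.1
    -- `M'` is normalized by `M`
    have : (⁅M, M⁆ : Subgroup G) = (⁅M, M⁆ : Subgroup G).map (MulAut.conj x).toMonoidHom := by
      rw [Subgroup.map_commutator]
      have hM : M.map (MulAut.conj x).toMonoidHom = M := by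
        ext y
        constructor
        · rintro ⟨z, hz, rfl⟩
          exact M.mul_mem (M.mul_mem hx hz) (M.inv_mem hx)
        · intro hy
          refine ⟨x⁻¹ * y * x, M.mul_mem (M.mul_mem (M.inv_mem hx) hy) hx, ?_⟩
          simp [MulAut.conj_apply, mul_assoc]
      rw [hM]
    rw [this]
    exact ⟨a, ha.1, by simp [MulAut.conj_apply]⟩
  · intro hc
    apply ha.2
    have hc' : x * a * x⁻¹ = 1 := hc
    have : a = x⁻¹ * (x * a * x⁻¹) * x := by group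
    rw [this, hc']
    simp

/-- the coefficient of `Φ` on `∑_φ η_{φψ}` vanishes for `ψ ≠ 1` -/
theorem phi_etaSum_zero (h : MCtx M W₁ U W₂ mu dl η τ₁ ζ) (hf : MFacts M W₁ W₂ mu dl η)
    (h0 : ∀ ζ' ∈ calS M, ζ' ≠ ζ → classInner (tauM M (muSum mu 1 - ζ)) (τ₁ ζ') = 0)
    (htm : (∀ ψ : WChar W₁ W₂, TrivOn W₁ ψ → ψ ≠ 1 → τ₁ (muSum mu ψ) = dl ψ • etaSum η ψ) ∨
      (Nat.card W₂ = 3 ∧ ∀ ψ : WChar W₁ W₂, TrivOn W₁ ψ → ψ ≠ 1 →
        τ₁ (muSum mu ψ) = -(dl ψ • etaSum η ψ⁻¹)))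
    (ψ : WChar W₁ W₂) (hψ : TrivOn W₁ ψ) (hψ1 : ψ ≠ 1) :
    classInner (tauM M (muSum mu 1 - ζ)) (etaSum η ψ) = 0 := by
  have hsign : ∀ ω : WChar W₁ W₂, dl ω ≠ 0 := by
    intro ω
    rcases h.md.sign ω with h1 | h1 <;> rw [h1] <;> norm_num
  have hconjne : ∀ ω : WChar W₁ W₂, (starRingEnd ℂ) (dl ω) ≠ 0 := by
    intro ω hc
    exact hsign ω ((map_eq_zero _).mp hc)
  have key : ∀ ψ' : WChar W₁ W₂, TrivOn W₁ ψ' → ψ' ≠ 1 →
      classInner (tauM M (muSum mu 1 - ζ)) (τ₁ (muSum mu ψ')) = 0 := by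
    intro ψ' hψ' hψ'1
    exact h0 _ (hf.muSum_mem ψ' hψ' hψ'1)
      (Cfsg.Agent.Lib.Helper51.PFCyc.muSum_facts h hf ψ' hψ' hψ'1).1
  rcases htm with htm | ⟨-, htm⟩
  · have := key ψ hψ hψ1
    rw [htm ψ hψ hψ1, Cfsg.Agent.Lib.Helper25.classInner_smul_right] at this
    exact (mul_eq_zero.mp this).resolve_left (hconjne ψ)
  · have hψi : TrivOn W₁ ψ⁻¹ := hψ.inv
    have hψi1 : ψ⁻¹ ≠ 1 := by
      intro hc
      apply hψ1
      refine MonoidHom.ext fun w => ?_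
      have h2 := congrArg (fun f : WChar W₁ W₂ => f w) hc
      simp only [MonoidHom.inv_apply, MonoidHom.one_apply] at h2
      rw [MonoidHom.one_apply]
      exact inv_eq_one.mp h2
    have := key ψ⁻¹ hψi hψi1
    have hii : ψ⁻¹⁻¹ = ψ := MonoidHom.ext fun w => by
      simp only [MonoidHom.inv_apply, inv_inv]
    rw [htm ψ⁻¹ hψi hψi1, hii, Cfsg.Agent.Lib.Helper25.classInner_neg_right,
      Cfsg.Agent.Lib.Helper25.classInner_smul_right, neg_eq_zero] at this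
    exact (mul_eq_zero.mp this).resolve_left (hconjne ψ⁻¹)

/-- **The M-side of Peterfalvi (10.8)**, main case `A' = A(M)`, `c = q²`. -/
theorem mside_of_ctx (h : MCtx M W₁ U W₂ mu dl η τ₁ ζ) (hf : MFacts M W₁ W₂ mu dl η) :
    MSide M W₁ W₂ η (τ₁ ζ) (litA M) ((Nat.card W₁ : ℝ) ^ 2) := by
  obtain ⟨hirr, -, hχ1, hχ⟩ := Cfsg.Agent.Lib.Helper31.PFCyc.chi_facts h hf
  obtain ⟨hn, h1, hc, h0⟩ := Cfsg.Agent.Lib.Helper23.PFCycX0.x0 h hf hχ1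
  have htm := Cfsg.Agent.Lib.Helper23.PFCycTau1Mu.tau1_mu h hf hχ
  have hζspan : ζ ∈ zspan (calS M) := Submodule.subset_span h.hζ
  have hχn : classInner (τ₁ ζ) (τ₁ ζ) = 1 := by
    rw [h.hτ₁.2.2.1 ζ hζspan ζ hζspan]
    exact Cfsg.Agent.Lib.Helper78.classInner_irr_self h.hζirr
  have hbr := Cfsg.Agent.Lib.Helper38.PFCyc.bridge0 h hf hn h1 hc
    (fun ψ hψ hψ1 => phi_etaSum_zero h hf h0 htm ψ hψ hψ1) hχ hχn
    (fun φ hφ => Cfsg.Agent.Lib.Helper1.PFCycPar.phi_coeff_inv h hf φ hφ)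
  have hρ := Cfsg.Agent.Lib.Helper31.PFCyc.rho_chi h hf hc
  refine
    { irr := hirr
      orth := hχ
      sub := subset_rfl
      conj_mem := litA_conj_mem h
      supp := ?_
      mass := Cfsg.Agent.Lib.Helper98.PFCyc.chi_mass h hρ }
  intro g hg
  have hm0 := Cfsg.Agent.Lib.Helper51.PFCyc.mu0_facts h hf
  have hζb := Cfsg.Agent.Lib.Helper51.PFCyc.calS_basic h ζ h.hζ
  have hα : ∀ m : ↥M, (m : G) ∉ litA M → (muSum mu 1 - ζ) m = 0 := by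
    apply off_litA h
    · intro m hm
      rw [Pi.sub_apply, hm0.2.1 m hm, hζb.2.1 m hm, sub_zero]
    · rw [Pi.sub_apply, hm0.2.2.1 1 (by simpa using Subgroup.one_mem _), h.hζ1, sub_self]
  have hz := tauM_zero_off_supp M (muSum mu 1 - ζ) (litA M) hα g hg
  rw [hbr, Pi.sub_apply, sub_eq_zero] at hz
  exact hz.symm

end Cfsg.Agent.Lib.Helper24.PFCyc
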