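import Mathlib
import Cfsg.Agent.Lib.Helper26.BGRows

/-!
# A maximal subgroup of Type III, IV or V is not of Type II (helper24)

via the rows S1381, S1382, S1383 (types in terms of a standard factorisation `M = K U M_σ`).
-/

set_option autoImplicit false

namespace Cfsg.Agent.Lib.Helper24.PFCyc

open Cfsg Cfsg.Agent.Lib.Helper4.PF

universe u

variable {G : Type u} [Group G] [Finite G]

theorem not_typeII_of_typeIIItoV (hG : IsMinSimpleOddOrder G) {M : Subgroup G}
    (hM : IsCoatom M) (h : IsOfTypeIII M ∨ IsOfTypeIV M ∨ IsOfTypeV M) : ¬ IsOfTypeII M := by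
  intro hII
  have d := Cfsg.Agent.Lib.Helper26.BGRows.dictInput hG
  obtain ⟨K, U, hKU⟩ := Cfsg.Agent.Lib.Helper10.BGTame.exists_decomp d.h51 d.h52 hM
  have h2 := (Cfsg.Agent.Lib.Helper26.BGRows.stmt1381 hG M hM K U hKU).mp hII
  rcases h with h | h | h
  · exact h2.2 ((Cfsg.Agent.Lib.Helper26.BGRows.stmt1382 hG M hM K U hKU).mp (Or.inl h)).2.1
  · exact h2.2 ((Cfsg.Agent.Lib.Helper26.BGRows.stmt1382 hG M hM K U hKU).mp (Or.inr h)).2.1
  · exact h2.2 ((Cfsg.Agent.Lib.Helper26.BGRows.stmt1383 hG M hM K U hKU).mp h).2.1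

end Cfsg.Agent.Lib.Helper24.PFCyc
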