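import Mathlib
import Cfsg.Agent.Lib.Helper24.PFCycMSide
import Cfsg.Agent.Lib.Helper24.PFCycBuild
import Cfsg.Agent.Lib.Helper24.PFCycCtx0
import Cfsg.Agent.Lib.Helper24.PFTypeExcl
import Cfsg.Agent.Lib.Helper4.PFInterface
import Cfsg.Agent.Lib.Helper9.PFCycKBig
import Cfsg.Agent.Lib.Helper76.PFCycNum
import Cfsg.Agent.Lib.Helper60.PFTenTMain

/-!
# Peterfalvi (10.8): `calS(M)` is not coherent for `M` of Type III, IV, V (helper24)

Assembly: M-side (`mside_of_ctx`) + T-side (helper60's `false_of_MSide`) + numerics.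
-/

set_option autoImplicit false

namespace Cfsg.Agent.Lib.Helper24.PFCyc

open Cfsg Cfsg.Agent.Lib.Helper4.PF Cfsg.Agent.Lib.Helper74.PF127

universe u

variable {G : Type u} [Group G] [Fintype G]

/-- the order of `W₁` does not depend on the type-P data -/
theorem card_W₁_eq {M W₁ U W₂ W₁' U' W₂' : Subgroup G} (hP : IsTypePWith M W₁ U W₂)
    (hP' : IsTypePWith M W₁' U' W₂') : Nat.card W₁ = Nat.card W₁' := by
  rw [← Cfsg.Agent.Lib.Helper51.PFCyc.KM_index hP, ← Cfsg.Agent.Lib.Helper51.PFCyc.KM_index hP']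

/-- for `T` of Type II with data `(W₂, V, W₁)` the order of `W₂` is a prime -/
theorem prime_card_of_typeII {T W₂ V W₁ : Subgroup G} (hTP : IsTypePWith T W₂ V W₁)
    (hTII : IsOfTypeII T) : (Nat.card W₂).Prime := by
  obtain ⟨A, B, C, hP', -, hpr, -⟩ := hTII
  rw [card_W₁_eq hTP hP']
  exact hpr

/-- in a pair `(M, T)` with `M` of Type III, IV or V, the other member `T` is of Type II -/
theorem typeII_of_pair (hG : IsMinSimpleOddOrder G) {M T W₁ W₂ U V : Subgroup G}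
    (ph : PairHyp M T W₁ W₂ U V) (hM : IsOfTypeIII M ∨ IsOfTypeIV M ∨ IsOfTypeV M) :
    IsOfTypeII T :=
  ph.hII.resolve_left (not_typeII_of_typeIIItoV hG ph.hS hM)

/-- `|A(M)| = |M'| - 1` -/
theorem card_litA {M W₁ U W₂ : Subgroup G} [Fintype M]
    {mu : WChar W₁ W₂ → (↥M → ℂ)} {dl : WChar W₁ W₂ → ℂ} {η : WChar W₁ W₂ → (G → ℂ)}
    {ζ : ↥M → ℂ} (h : MCtx0 M W₁ U W₂ mu dl η ζ) :
    (Nat.card ↥(litA M) : ℝ) = (Nat.card ↥(⁅M, M⁆ : Subgroup G) : ℝ) - 1 := by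
  classical
  rw [h.hA]
  have h1 : Nat.card ↥(((⁅M, M⁆ : Subgroup G) : Set G) \ {1}) =
      Nat.card ↥(⁅M, M⁆ : Subgroup G) - 1 := by
    rw [Nat.card_coe_set_eq, Set.ncard_diff_singleton_of_mem (Subgroup.one_mem _)]
    rfl
  rw [h1, Nat.cast_sub Nat.card_pos, Nat.cast_one]

/-- **Peterfalvi (10.8).** -/
theorem pf10_noncoherent (hG : IsMinSimpleOddOrder G) (bg : BookBGData G) (pf8 : BookPF8Data G)
    {M T W₁ W₂ U V : Subgroup G} [Fintype M] (ph : PairHyp M T W₁ W₂ U V)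
    (hM : IsOfTypeIII M ∨ IsOfTypeIV M ∨ IsOfTypeV M) :
    ¬ IsCoherent (calS M) {1}ᶜ (tauM M) := by
  intro hcoh
  have hTII : IsOfTypeII T := typeII_of_pair hG ph hM
  have hP := ph.hSP
  have hoddG : Odd (Nat.card G) := hG.1
  have hodd : Odd (Nat.card M) := Odd.of_dvd_nat hoddG (Subgroup.card_subgroup_dvd_card M)
  have hsol : Group.IsSolvable ↥M := by
    apply hG.2.2.2 M
    exact ph.hS.1
  have hp : (Nat.card W₂).Prime := prime_card_of_typeII ph.hTP hTII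
  have hA := litA_eq_of_typeIIItoV hP hM
  have hD := (pf8.dade M ph.hS (litA0 M) (Or.inr (Or.inr rfl))).2
  obtain ⟨mu, dl, η, τ₁, ζ, h, hf⟩ := exists_mctx hP hodd hsol hp hA hD hcoh
  have ms := mside_of_ctx h hf
  have hK := Cfsg.Agent.Lib.Helper9.PFCyc.card_der_lower h.to0 hf
  have hcardM : (Nat.card M : ℝ) =
      (Nat.card W₁ : ℝ) * (Nat.card ↥(⁅M, M⁆ : Subgroup G) : ℝ) := by
    have := Cfsg.Agent.Lib.Helper23.card_of_isComplIn hP.W₁_compl
    rw [this]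
    push_cast
    ring
  have hq3 : 3 ≤ Nat.card W₁ := by
    have hoddq : Odd (Nat.card W₁) :=
      Odd.of_dvd_nat hodd (Subgroup.card_dvd_of_le hP.W₁_compl.2.1)
    have hne1 : Nat.card W₁ ≠ 1 := by
      intro hc
      exact hP.W₁_ne ((Subgroup.card_eq_one).mp hc)
    have hpos : 0 < Nat.card W₁ := Nat.card_pos
    rcases hoddq with ⟨k, hk⟩
    omega
  have hp3 : 3 ≤ Nat.card W₂ := by
    have hoddp : Odd (Nat.card W₂) := by
      have hW₂M : W₂ ≤ M :=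
        ((hP.W₂_le.trans inf_le_left).trans hP.U_compl.1).trans hP.W₁_compl.1
      exact Odd.of_dvd_nat hodd (Subgroup.card_dvd_of_le hW₂M)
    have := hp.two_le
    rcases hoddp with ⟨k, hk⟩
    omega
  refine Cfsg.Agent.Lib.Helper60.PFTenT.false_of_MSide hG bg pf8 ph hM η h.hη (τ₁ ζ) (litA M) _ ms ?_
  rw [card_litA h.to0, hcardM]
  exact num_main (Nat.card W₂) (Nat.card W₁)
    (Nat.card ↥(⁅M, M⁆ : Subgroup G)) hp3 hq3 hK

end Cfsg.Agent.Lib.Helper24.PFCyc
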