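import Mathlib
import Cfsg.Agent.Lib.Helper24.PFTenMain
import Cfsg.Agent.Lib.Helper25.Norm3
import Cfsg.Agent.Lib.Helper23.PFCycA2Bridge

/-!
# Peterfalvi section 10: the coherence-free core `b0` of (10.8) (helper24, shape of helper64 #4103)

bridge0 `τ(μ_0 - ζ) = ∑_φ η_φ - χ` together with `⟨χ, τ(d ζ - μ_ψ)⟩ = d` is contradictory.
-/

set_option autoImplicit false

namespace Cfsg.Agent.Lib.Helper24.PFCyc

open Cfsg Cfsg.Agent.Lib.Helper4.PF Cfsg.Agent.Lib.Helper74.PF127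

universe u

variable {G : Type u} [Group G] [Fintype G]

/-- **B0**: the coherence-free core of Peterfalvi (10.8). -/
theorem b0 (hG : IsMinSimpleOddOrder G) (bg : BookBGData G) (pf8 : BookPF8Data G)
    {M T W₁ W₂ U V : Subgroup G} [Fintype M] (ph : PairHyp M T W₁ W₂ U V)
    (hM : IsOfTypeIII M ∨ IsOfTypeIV M ∨ IsOfTypeV M)
    {mu : WChar W₁ W₂ → (↥M → ℂ)} {dl : WChar W₁ W₂ → ℂ} (md : MuData M W₁ W₂ mu dl)
    (η : WChar W₁ W₂ → (G → ℂ)) (hη : IsCyclicTIFamily W₁ W₂ η)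
    (d : ℕ) (hd : ∀ ψ : WChar W₁ W₂, TrivOn W₁ ψ → ψ ≠ 1 → mu ψ 1 = (d : ℂ))
    (ζ : ↥M → ℂ) (hz : ζ ∈ calS M) (hzi : IsIrrCharacter ↥M ζ)
    (hz1 : ζ 1 = (Nat.card W₁ : ℂ))
    (χ : G → ℂ) (hχ : IsGeneralizedCharacter G χ) (hn : classInner χ χ = 1)
    (ho : ∀ ω : WChar W₁ W₂, classInner χ (η ω) = 0)
    (hb : tauM M (muSum mu 1 - ζ) = etaSum η 1 - χ)
    (hr : ∀ ψ : WChar W₁ W₂, TrivOn W₁ ψ → ψ ≠ 1 →
      classInner χ (tauM M ((d : ℂ) • ζ - muSum mu ψ)) = (d : ℂ)) : False := by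
  have hTII : IsOfTypeII T := typeII_of_pair hG ph hM
  have hP := ph.hSP
  have hoddG : Odd (Nat.card G) := hG.1
  have hodd : Odd (Nat.card M) := Odd.of_dvd_nat hoddG (Subgroup.card_subgroup_dvd_card M)
  have hp : (Nat.card W₂).Prime := prime_card_of_typeII ph.hTP hTII
  have hA := litA_eq_of_typeIIItoV hP hM
  have hD := (pf8.dade M ph.hS (litA0 M) (Or.inr (Or.inr rfl))).2
  have h : MCtx0 M W₁ U W₂ mu dl η ζ :=
    { hP := hP, hodd := hodd, hW := hP.selfNormalizing, hp := hp, hA := hA, hD := hD, md := md,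
      hη := hη, hζ := hz, hζirr := hzi, hζ1 := hz1 }
  have hf : MFacts M W₁ W₂ mu dl η := mfacts_of hP hodd hp hA hD md hη
  have hχc : IsClassFunction G χ := Cfsg.Agent.Lib.Helper25.dgen_isClassFunction hχ
  have hmass := Cfsg.Agent.Lib.Helper23.PFCycA2.chi_mass_bridge h hf χ hχc hn ho hb d hd hr
  have hcardM : (Nat.card M : ℝ) =
      (Nat.card W₁ : ℝ) * (Nat.card ↥(⁅M, M⁆ : Subgroup G) : ℝ) := by
    have := Cfsg.Agent.Lib.Helper23.card_of_isComplIn hP.W₁_compl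
    rw [this]
    push_cast
    ring
  have hMpos : (0 : ℝ) < Nat.card M := by exact_mod_cast Nat.card_pos
  -- the constant `c`
  set c : ℝ := (Nat.card W₁ : ℝ) /
      ((Nat.card W₁ : ℝ) + 1 + ((Nat.card W₂ : ℝ) - 1) * (d : ℝ) ^ 2) * (Nat.card M : ℝ) with hc
  have hconj : ∀ x ∈ M, ∀ a ∈ litA M, x * a * x⁻¹ ∈ litA M := by
    intro x hx a ha
    have hDA : DadeHypothesis (litA M) M (supportR M) :=
      (pf8.dade M ph.hS (litA M) (Or.inr (Or.inl rfl))).2
    exact hDA.conj_mem x hx a ha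
  have ms : MSide M W₁ W₂ η χ (litA M) c := by
    refine
      { irr := Cfsg.Agent.Lib.Helper25.sirr_of_norm_one hχ hn
        orth := ho
        sub := subset_rfl
        conj_mem := hconj
        supp := ?_
        mass := ?_ }
    · intro g hg
      have hm0 := Zero.mu0_facts h hf
      have hζb := Zero.calS_basic h ζ h.hζ
      have hα : ∀ m : ↥M, (m : G) ∉ litA M → (muSum mu 1 - ζ) m = 0 := by
        apply Zero.off_litA h
        · intro m hm
          rw [Pi.sub_apply, hm0.2.1 m hm, hζb.2.1 m hm, sub_zero]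
        · rw [Pi.sub_apply, hm0.2.2.1 1 (by simpa using Subgroup.one_mem _), h.hζ1, sub_self]
      have hzz := tauM_zero_off_supp M (muSum mu 1 - ζ) (litA M) hα g hg
      rw [hb, Pi.sub_apply, sub_eq_zero] at hzz
      exact hzz.symm
    · refine hmass.trans (le_of_eq ?_)
      rw [hc]
      field_simp
  -- numerics
  have hq3 : 3 ≤ Nat.card W₁ := by
    have hoddq : Odd (Nat.card W₁) :=
      Odd.of_dvd_nat hodd (Subgroup.card_dvd_of_le hP.W₁_compl.2.1)
    have hne1 : Nat.card W₁ ≠ 1 := by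
      intro hc
      exact hP.W₁_ne ((Subgroup.card_eq_one).mp hc)
    have hpos : 0 < Nat.card W₁ := Nat.card_pos
    rcases hoddq with ⟨k, hk⟩
    omega
  have hp3 : 3 ≤ Nat.card W₂ := by
    have hoddp : Odd (Nat.card W₂) := by
      have hW₂M : W₂ ≤ M :=
        ((hP.W₂_le.trans inf_le_left).trans hP.U_compl.1).trans hP.W₁_compl.1
      exact Odd.of_dvd_nat hodd (Subgroup.card_dvd_of_le hW₂M)
    have := hp.two_le
    rcases hoddp with ⟨k, hk⟩
    omega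
  have hd2 : 2 * Nat.card W₁ - 1 ≤ d := by
    obtain ⟨ψ, hψ, hψ1⟩ := Cfsg.Agent.Lib.Helper23.PFCycX0.exists_psi hP.selfNormalizing
      (by omega : 1 < Nat.card W₂)
    obtain ⟨d', hd', hle, -⟩ := hf.mu_deg ψ hψ hψ1
    have : (d : ℂ) = (d' : ℂ) := by rw [← hd ψ hψ hψ1, hd']
    have : d = d' := by exact_mod_cast this
    rw [this]
    exact hle
  refine Cfsg.Agent.Lib.Helper60.PFTenT.false_of_MSide hG bg pf8 ph hM η hη χ (litA M) c ms ?_
  rw [card_litA h, hc, hcardM]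
  exact num_b0 (Nat.card W₂) (Nat.card W₁) d
    (Nat.card ↥(⁅M, M⁆ : Subgroup G)) hp3 hq3 hd2 Nat.card_pos

end Cfsg.Agent.Lib.Helper24.PFCyc
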