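import Mathlib
import Cfsg.Agent.Lib.Helper24.PFTenMain
import Cfsg.Agent.Lib.Helper24.PFTypeExcl
import Cfsg.Agent.Lib.Helper54.PairExists
import Cfsg.Agent.Lib.Helper59.PFBridge
import Cfsg.Agent.Lib.Helper95.TypeConj

/-!
# Peterfalvi (10.8), global form: for EVERY maximal subgroup of Type III, IV, V (helper24)
-/

set_option autoImplicit false

namespace Cfsg.Agent.Lib.Helper24.PFCyc

open Cfsg Cfsg.Agent.Lib.Helper4.PF Cfsg.Agent.Lib.Helper54.TypePTransport
  Cfsg.Agent.Lib.Helper95.TypeConj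

universe u

variable {G : Type u} [Group G] [Fintype G]

theorem isTypeIItoV_map (φ : G ≃* G) {M : Subgroup G} (h : IsTypeIItoV M) :
    IsTypeIItoV (M.map φ.toMonoidHom) := by
  rcases h with h | h | h | h
  · exact Or.inl (isOfTypeII_map φ h)
  · exact Or.inr (Or.inl (isOfTypeIII_map φ h))
  · exact Or.inr (Or.inr (Or.inl (isOfTypeIV_map φ h)))
  · exact Or.inr (Or.inr (Or.inr (isOfTypeV_map φ h)))

/-- the pair of `bg.pair`, conjugated by `φ`, still satisfies `PairHyp` -/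
theorem exists_pairHyp_map (φ : G ≃* G) {W₁ W₂ S T : Subgroup G}
    (hW : IsSelfNormalizingCyclic W₁ W₂) (hS : IsCoatom S) (hT : IsCoatom T)
    (hSc : IsComplIn ⁅S, S⁆ W₁ S) (hTc : IsComplIn ⁅T, T⁆ W₂ T) (hST : S ⊓ T = W₁ ⊔ W₂)
    (hII : IsOfTypeII S ∨ IsOfTypeII T) (hS25 : IsTypeIItoV S) (hT25 : IsTypeIItoV T) :
    ∃ U V : Subgroup G, PairHyp (S.map φ.toMonoidHom) (T.map φ.toMonoidHom)
      (W₁.map φ.toMonoidHom) (W₂.map φ.toMonoidHom) U V := by
  have hSc' : IsComplIn ⁅S.map φ.toMonoidHom, S.map φ.toMonoidHom⁆ (W₁.map φ.toMonoidHom)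
      (S.map φ.toMonoidHom) := by
    have := IsComplIn.map φ hSc
    rwa [Subgroup.map_commutator] at this
  have hTc' : IsComplIn ⁅T.map φ.toMonoidHom, T.map φ.toMonoidHom⁆ (W₂.map φ.toMonoidHom)
      (T.map φ.toMonoidHom) := by
    have := IsComplIn.map φ hTc
    rwa [Subgroup.map_commutator] at this
  have hST' : S.map φ.toMonoidHom ⊓ T.map φ.toMonoidHom =
      W₁.map φ.toMonoidHom ⊔ W₂.map φ.toMonoidHom := by
    rw [← Subgroup.map_inf _ _ _ φ.injective, hST, Subgroup.map_sup]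
  have hII' : IsOfTypeII (S.map φ.toMonoidHom) ∨ IsOfTypeII (T.map φ.toMonoidHom) := by
    rcases hII with h | h
    · exact Or.inl (isOfTypeII_map φ h)
    · exact Or.inr (isOfTypeII_map φ h)
  exact Cfsg.Agent.Lib.Helper54.PairExists.exists_pairHyp (IsSelfNormalizingCyclic.map φ hW)
    (isCoatom_map φ hS) (isCoatom_map φ hT) hSc' hTc' hST' hII'
    (isTypeIItoV_map φ hS25) (isTypeIItoV_map φ hT25)

/-- **Peterfalvi (10.8), global form.** -/
theorem pf10_noncoherent_coatom (hG : IsMinSimpleOddOrder G) (bg : BookBGData G)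
    (pf8 : BookPF8Data G) (M : Subgroup G) [Fintype M] (hM : IsCoatom M)
    (h : IsOfTypeIII M ∨ IsOfTypeIV M ∨ IsOfTypeV M) :
    ¬ IsCoherent (calS M) {1}ᶜ (tauM M) := by
  have hP : IsOfTypeP M := by
    rcases h with ⟨A, B, C, hP, -⟩ | ⟨A, B, C, hP, -⟩ | ⟨A, B, C, hP, -⟩
    all_goals exact ⟨A, B, C, hP⟩
  have hnI : ¬ LitTypeI M := fun hL =>
    Cfsg.Agent.Lib.Helper59.PFBridge.not_isOfTypeP_of_isOfTypeF M hL.1 hP
  rcases bg.pair with hall | ⟨W₁, W₂, S, T, hW, hS, hT, hSc, hTc, hST, hII, hS25, hT25, hconj⟩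
  · exact absurd (hall M hM) hnI
  · rcases hconj M hM with hI | ⟨g, hg | hg⟩
    · exact absurd hI hnI
    · obtain ⟨U, V, ph⟩ := exists_pairHyp_map (MulAut.conj g) hW hS hT hSc hTc hST hII hS25 hT25
      have hg' : S.map (MulAut.conj g).toMonoidHom = M := hg.symm
      rw [hg'] at ph
      exact pf10_noncoherent hG bg pf8 ph h
    · obtain ⟨U, V, ph⟩ := exists_pairHyp_map (MulAut.conj g) hW hS hT hSc hTc hST hII hS25 hT25
      have hg' : T.map (MulAut.conj g).toMonoidHom = M := hg.symm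
      rw [hg'] at ph
      exact pf10_noncoherent hG bg pf8 ph.symm h

end Cfsg.Agent.Lib.Helper24.PFCyc
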