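import Mathlib
import Cfsg.Agent.Lib.Helper24.PFTenGlobal
import Cfsg.Agent.Lib.Helper24.PFTenB0
import Cfsg.Agent.Lib.Helper24.BGBookFinalC
import Cfsg.Agent.Lib.Helper26.PFBookC

/-!
# Peterfalvi (10.8), with no book records left as hypotheses (helper24)

`BookBGData G` is `Helper24.BGBook.bookBGData hG` and `BookPF8Data G` is
`Helper26.PFBook.bookPF8Data_of hG (bookBGData hG)`: both are theorems for every minimal simple group of
odd order, so (10.8) holds from `IsMinSimpleOddOrder G` alone.
-/

set_option autoImplicit false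

namespace Cfsg.Agent.Lib.Helper24.PFCyc

open Cfsg Cfsg.Agent.Lib.Helper4.PF Cfsg.Agent.Lib.Helper74.PF127

universe u

variable {G : Type u} [Group G] [Fintype G]

/-- `BookPF8Data G`, unconditionally -/
theorem bookPF8Data (hG : IsMinSimpleOddOrder G) : BookPF8Data G :=
  Cfsg.Agent.Lib.Helper26.PFBook.bookPF8Data_of hG (Cfsg.Agent.Lib.Helper24.BGBook.bookBGData hG)

/-- **Peterfalvi (10.8)** for every maximal subgroup of Type III, IV or V of a minimal simple group of
odd order: `calS(M)` is not coherent. -/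
theorem pf10_8 (hG : IsMinSimpleOddOrder G) (M : Subgroup G) [Fintype M] (hM : IsCoatom M)
    (h : IsOfTypeIII M ∨ IsOfTypeIV M ∨ IsOfTypeV M) :
    ¬ IsCoherent (calS M) {1}ᶜ (tauM M) :=
  pf10_noncoherent_coatom hG (Cfsg.Agent.Lib.Helper24.BGBook.bookBGData hG) (bookPF8Data hG) M hM h

end Cfsg.Agent.Lib.Helper24.PFCyc
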