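import Mathlib
import Cfsg.Prelude.Def_GeometricClasses
import Cfsg.Agent.Lib.Helper94.OrthBridge
import Cfsg.Agent.Lib.Helper94.OrthSiegel
import Cfsg.Agent.Lib.Helper44.EichlerOdd
import Cfsg.Agent.Lib.Helper44.EichlerGeom
import Cfsg.Agent.Lib.Helper44.Witt

/-!
helper24: kit for project ASCHOE (helper55).  Matrix forms of
* the Eichler / Siegel transformations `E(p,w)` as elements of `omegaGL Q` (`7 ≤ n`),
* the transitivity of `omegaGL Q` on independent singular vectors,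
* the existence of a non-zero singular vector in a subspace of dimension at least three.
-/

set_option autoImplicit false

namespace Cfsg.Agent.Lib.Helper24.OeKit

open Cfsg Cfsg.Geo
open scoped MatrixGroups Matrix

variable {n : ℕ} {F : Type*} [Field F] [Finite F]

/-- the `QuadraticForm` of a Prelude quadratic form -/
noncomputable def qf {Q : (Fin n → F) → F} (hQ : IsNondegenerateQuadraticForm Q) :
    QuadraticForm F (Fin n → F) :=
  (Cfsg.Agent.Lib.Helper94.quadData_polarBilin hQ).toQF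

omit [Finite F] in
theorem qf_apply {Q : (Fin n → F) → F} (hQ : IsNondegenerateQuadraticForm Q) (x : Fin n → F) :
    qf hQ x = Q x := rfl

omit [Finite F] in
theorem qf_polar {Q : (Fin n → F) → F} (hQ : IsNondegenerateQuadraticForm Q) (x y : Fin n → F) :
    QuadraticMap.polar (⇑(qf hQ)) x y = QuadraticMap.polar Q x y := rfl

omit [Finite F] in
theorem qf_nondeg {Q : (Fin n → F) → F} (hQ : IsNondegenerateQuadraticForm Q) :
    (QuadraticMap.polarBilin (qf hQ)).Nondegenerate :=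
  (Cfsg.Agent.Lib.Helper94.quadData_polarBilin hQ).nondeg_toQF
    (Cfsg.Agent.Lib.Helper94.nondeg_polarBilin hQ)

omit [Finite F] in
theorem isoGroup_qf {Q : (Fin n → F) → F} (hQ : IsNondegenerateQuadraticForm Q) :
    Cfsg.Agent.Lib.Helper36.isoGroup (qf hQ) = Cfsg.Agent.Lib.Helper94.OG Q := by
  ext g
  rfl

/-- elements of `KE` give elements of `omegaGL Q` -/
theorem exists_omega_of_KE {Q : (Fin n → F) → F} (hQ : IsNondegenerateQuadraticForm Q) (hn : 7 ≤ n)
    (k : ↥(Cfsg.Agent.Lib.Helper36.isoGroup (qf hQ))) (hk : k ∈ Cfsg.Agent.Lib.Helper44.KE (qf hQ)) :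
    ∃ g ∈ omegaGL Q, ∀ z, (g : Matrix (Fin n) (Fin n) F) *ᵥ z = (k : (Fin n → F) ≃ₗ[F] (Fin n → F)) z := by
  have h7 : 7 ≤ Module.finrank F (Fin n → F) := by
    rw [Module.finrank_fin_fun]
    exact hn
  have hKE := Cfsg.Agent.Lib.Helper44.commutator_eq_KE (qf hQ) (qf_nondeg hQ) h7
  have hk' : k ∈ commutator ↥(Cfsg.Agent.Lib.Helper36.isoGroup (qf hQ)) := by
    rw [hKE]
    exact hk
  have h1 : (k : (Fin n → F) ≃ₗ[F] (Fin n → F)) ∈
      ⁅Cfsg.Agent.Lib.Helper36.isoGroup (qf hQ), Cfsg.Agent.Lib.Helper36.isoGroup (qf hQ)⁆ := by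
    rw [← Subgroup.map_subtype_commutator]
    exact ⟨k, hk', rfl⟩
  have h2 : (k : (Fin n → F) ≃ₗ[F] (Fin n → F)) ∈
      ⁅Cfsg.Agent.Lib.Helper94.OG Q, Cfsg.Agent.Lib.Helper94.OG Q⁆ := by
    have e := isoGroup_qf hQ
    have e2 : ⁅Cfsg.Agent.Lib.Helper36.isoGroup (qf hQ), Cfsg.Agent.Lib.Helper36.isoGroup (qf hQ)⁆ =
        ⁅Cfsg.Agent.Lib.Helper94.OG Q, Cfsg.Agent.Lib.Helper94.OG Q⁆ := by rw [e]
    exact e2 ▸ h1
  rw [← Cfsg.Agent.Lib.Helper94.map_omegaGL] at h2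
  obtain ⟨g, hg, hgk⟩ := h2
  refine ⟨g, hg, fun z => ?_⟩
  rw [← Cfsg.Agent.Lib.Helper94.glEquiv_apply]
  exact congrArg (fun e : (Fin n → F) ≃ₗ[F] (Fin n → F) => e z) hgk

/-- **Eichler transformations in `Ω`**, matrix form. -/
theorem exists_eichler {Q : (Fin n → F) → F} (hQ : IsNondegenerateQuadraticForm Q) (hn : 7 ≤ n)
    (p w : Fin n → F) (hp : Q p = 0) (hpw : QuadraticMap.polar Q p w = 0) :
    ∃ g ∈ omegaGL Q, ∀ z, (g : Matrix (Fin n) (Fin n) F) *ᵥ z =
      z + (QuadraticMap.polar Q w z - Q w * QuadraticMap.polar Q p z) • p - QuadraticMap.polar Q p z • w := by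
  obtain ⟨g, hg, hgz⟩ := exists_omega_of_KE hQ hn
    (Cfsg.Agent.Lib.Helper44.eichG (qf hQ) p w hp hpw)
    (Cfsg.Agent.Lib.Helper44.eichG_mem_KE (qf hQ) p w hp hpw)
  refine ⟨g, hg, fun z => ?_⟩
  rw [hgz z]
  exact Cfsg.Agent.Lib.Helper13.siegelLin_apply (qf hQ) p w z

/-- **Transitivity of `Ω` on independent singular vectors**, matrix form. -/
theorem exists_omega_map {Q : (Fin n → F) → F} (hQ : IsNondegenerateQuadraticForm Q) (hn : 7 ≤ n)
    (a a' : Fin n → F) (ha : a ≠ 0) (hQa : Q a = 0) (hQa' : Q a' = 0) (hind : ∀ c : F, a' ≠ c • a) :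
    ∃ g ∈ omegaGL Q, (g : Matrix (Fin n) (Fin n) F) *ᵥ a = a' := by
  have h5 : 5 ≤ Module.finrank F (Fin n → F) := by
    rw [Module.finrank_fin_fun]
    omega
  obtain ⟨k, hk, hka⟩ := Cfsg.Agent.Lib.Helper44.KE_trans_sing (qf hQ) (qf_nondeg hQ) h5 a a' ha hQa hQa' hind
  obtain ⟨g, hg, hgz⟩ := exists_omega_of_KE hQ hn k hk
  exact ⟨g, hg, by rw [hgz a, hka]⟩

/-- Chevalley–Warning: a subspace of dimension at least three contains a non-zero singular vector. -/
theorem exists_singular_mem {Q : (Fin n → F) → F} (hQ : IsNondegenerateQuadraticForm Q)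
    (W : Submodule F (Fin n → F)) (hW : 3 ≤ Module.finrank F W) :
    ∃ v ∈ W, v ≠ 0 ∧ Q v = 0 := by
  obtain ⟨v, hv0, hv⟩ := Cfsg.Agent.Lib.Helper44.exists_isotropic ((qf hQ).comp W.subtype) hW
  refine ⟨(v : Fin n → F), v.2, ?_, ?_⟩
  · intro h
    apply hv0
    exact Subtype.ext h
  · exact hv

end Cfsg.Agent.Lib.Helper24.OeKit
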