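import Mathlib
import Cfsg.Agent.Lib.Helper24.PFCycCtx0
import Cfsg.Agent.Lib.Helper24.PFCycBuild

/-!
# Peterfalvi section 10: the coherence-free context exists, and the shape of `calS M` (helper24)

* `exists_mctx0` : `MCtx0` + `MFacts` from the type-P data and the Dade hypothesis (no coherence).
* `calS_red` : every member of `calS M` is irreducible, or has norm `q = |M : M'|` and degree `q f`
  with `q < f` (the input `SFacts.red` of helper22's Sibley project).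
-/

set_option autoImplicit false

namespace Cfsg.Agent.Lib.Helper24.PFCyc

open Cfsg Cfsg.Agent.Lib.Helper4.PF

universe u

variable {G : Type u} [Group G] [Fintype G] {M W₁ U W₂ : Subgroup G} [Fintype M]
  {mu : WChar W₁ W₂ → (↥M → ℂ)} {dl : WChar W₁ W₂ → ℂ} {η : WChar W₁ W₂ → (G → ℂ)}
  {ζ : ↥M → ℂ}

/-- the coherence-free M-side context from the type-P data and the Dade hypothesis -/
theorem exists_mctx0 (hP : IsTypePWith M W₁ U W₂) (hodd : Odd (Nat.card M))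
    (hsol : Group.IsSolvable ↥M) (hp : (Nat.card W₂).Prime)
    (hA : litA M = ((⁅M, M⁆ : Subgroup G) : Set G) \ {1})
    (hD : DadeHypothesis (litA0 M) M (supportR M)) :
    ∃ (mu : WChar W₁ W₂ → (↥M → ℂ)) (dl : WChar W₁ W₂ → ℂ) (η : WChar W₁ W₂ → (G → ℂ))
      (ζ : ↥M → ℂ), MCtx0 M W₁ U W₂ mu dl η ζ ∧ MFacts M W₁ W₂ mu dl η := by
  obtain ⟨mu, dl, md⟩ := Cfsg.Agent.Lib.Helper22.PFCyc.exists_muData hP hodd
  have hW := hP.selfNormalizing
  have hWM : W₁ ⊔ W₂ ≤ M := Cfsg.Agent.Lib.Helper60.PFCycB.W_le hP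
  have hoddW : Odd (Nat.card ↥(W₁ ⊔ W₂)) :=
    Odd.of_dvd_nat hodd (Subgroup.card_dvd_of_le hWM)
  obtain ⟨η, hη⟩ := Cfsg.Agent.S1502.result W₁ W₂ hW hoddW
  obtain ⟨ζ, hζ, hζirr, hζ1⟩ := Cfsg.Agent.Lib.Helper87.PFCycZeta.exists_zeta hP hodd hsol
  exact ⟨mu, dl, η, ζ,
    { hP := hP, hodd := hodd, hW := hW, hp := hp, hA := hA, hD := hD, md := md, hη := hη,
      hζ := hζ, hζirr := hζirr, hζ1 := hζ1 },
    mfacts_of hP hodd hp hA hD md hη⟩

/-- every member of `calS M` is irreducible or has norm `q` and degree `q f`, `q < f` -/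
theorem calS_red (h : MCtx0 M W₁ U W₂ mu dl η ζ) (hf : MFacts M W₁ W₂ mu dl η) :
    ∀ χ ∈ calS M, IsIrrCharacter ↥M χ ∨
      (classInner χ χ = ((KM M).index : ℂ) ∧
        ∃ f : ℕ, (KM M).index < f ∧ χ 1 = ((KM M).index : ℂ) * f) := by
  intro χ hχ
  have hidx : (KM M).index = Nat.card W₁ := Cfsg.Agent.Lib.Helper51.PFCyc.KM_index h.hP
  rcases hf.calS_cases χ hχ with hirr | ⟨ψ, hψ, hψ1, rfl⟩
  · exact Or.inl hirr.1
  · right
    have hm := Zero.muSum_facts h hf ψ hψ hψ1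
    obtain ⟨d, hd, hle, -⟩ := hf.mu_deg ψ hψ hψ1
    rw [hidx]
    refine ⟨hm.2.1, d, ?_, ?_⟩
    · have hq : 2 ≤ Nat.card W₁ := by
        have hpos : 0 < Nat.card W₁ := Nat.card_pos
        have hne1 : Nat.card W₁ ≠ 1 := fun hc => h.hP.W₁_ne ((Subgroup.card_eq_one).mp hc)
        omega
      omega
    · rw [hm.2.2.1, hd]

end Cfsg.Agent.Lib.Helper24.PFCyc
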