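import Mathlib
import Cfsg.Prelude.Def_GeometricClasses
import Cfsg.Agent.Lib.Helper23.AschSpDefs

/-!
ASCHSP-[TR-1] (helper23's sheet): transport of the class-1 predicates `SpC1s`, `SpC1n` along a
bijection of index types.  Self-contained (own copies of the two [TR-KIT] facts that are needed,
under private-style names in the `Helper24` namespace).
-/

namespace Cfsg.Agent.Lib.Helper24.AschSpTR1

open Cfsg Cfsg.Geo Cfsg.Agent.Lib.Helper23.AschSp
open scoped MatrixGroups Matrix

variable {ι κ : Type} [Fintype ι] [DecidableEq ι] [Fintype κ] [DecidableEq κ] {F : Type*} [Field F]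

theorem glReindex_mulVec' (e : ι ≃ κ) (g : GL ι F) (v : κ → F) :
    ((glReindex e g : GL κ F) : Matrix κ κ F) *ᵥ v = ((g : Matrix ι ι F) *ᵥ (v ∘ e)) ∘ e.symm := by
  change (Matrix.reindex e e (g : Matrix ι ι F)) *ᵥ v = _
  rw [Matrix.reindex_apply, Matrix.submatrix_mulVec_equiv]
  simp

theorem glReindex_mulVec_comp (e : ι ≃ κ) (g : GL ι F) (v : ι → F) :
    ((glReindex e g : GL κ F) : Matrix κ κ F) *ᵥ (v ∘ e.symm) = ((g : Matrix ι ι F) *ᵥ v) ∘ e.symm := by
  rw [glReindex_mulVec']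
  congr 2
  ext i
  simp

theorem mem_map_glReindex (e : ι ≃ κ) (S : Subgroup (GL ι F)) (g : GL κ F) :
    g ∈ S.map (glReindex e).toMonoidHom ↔ ∃ h ∈ S, glReindex e h = g := Iff.rfl

theorem mem_map_funCongrLeft (e : ι ≃ κ) (W : Submodule F (ι → F)) (v : κ → F) :
    v ∈ W.map (LinearEquiv.funCongrLeft F F e.symm).toLinearMap ↔ v ∘ e ∈ W := by
  constructor
  · rintro ⟨w, hw, rfl⟩
    have : ((LinearEquiv.funCongrLeft F F e.symm).toLinearMap w) ∘ e = w := by
      ext i
      simp [LinearEquiv.funCongrLeft, LinearMap.funLeft]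
    rw [this]
    exact hw
  · intro hv
    refine ⟨v ∘ e, hv, ?_⟩
    ext i
    simp [LinearEquiv.funCongrLeft, LinearMap.funLeft]

theorem map_subspaceStabilizer' (e : ι ≃ κ) (W : Submodule F (ι → F)) :
    (subspaceStabilizer W).map (glReindex e).toMonoidHom =
      subspaceStabilizer (W.map (LinearEquiv.funCongrLeft F F e.symm).toLinearMap) := by
  ext g
  rw [mem_map_glReindex]
  constructor
  · rintro ⟨h, hh, rfl⟩
    intro v
    change v ∈ W.map _ ↔ ((glReindex e h : GL κ F) : Matrix κ κ F) *ᵥ v ∈ W.map _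
    rw [mem_map_funCongrLeft, mem_map_funCongrLeft, glReindex_mulVec']
    have : (((h : Matrix ι ι F) *ᵥ (v ∘ e)) ∘ e.symm) ∘ e = (h : Matrix ι ι F) *ᵥ (v ∘ e) := by
      ext i; simp
    rw [this]
    exact hh (v ∘ e)
  · intro hg
    refine ⟨(glReindex e).symm g, ?_, by simp⟩
    intro v
    change v ∈ W ↔ (((glReindex e).symm g : GL ι F) : Matrix ι ι F) *ᵥ v ∈ W
    have h1 := hg (v ∘ e.symm)
    change v ∘ e.symm ∈ W.map _ ↔ (g : Matrix κ κ F) *ᵥ (v ∘ e.symm) ∈ W.map _ at h1
    rw [mem_map_funCongrLeft, mem_map_funCongrLeft] at h1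
    have h2 : (v ∘ e.symm) ∘ e = v := by ext i; simp
    rw [h2] at h1
    have h3 : g = glReindex e ((glReindex e).symm g) := by simp
    rw [h3, glReindex_mulVec_comp] at h1
    have h4 : ((((glReindex e).symm g : GL ι F) : Matrix ι ι F) *ᵥ v) ∘ e.symm ∘ e =
        (((glReindex e).symm g : GL ι F) : Matrix ι ι F) *ᵥ v := by ext i; simp
    rw [Function.comp_assoc, h4] at h1
    exact h1

theorem map_isoGL' (e : ι ≃ κ) (f : (ι → F) → (ι → F) → F) :
    (isoGL f).map (glReindex e).toMonoidHom = isoGL (formReindex e f) := by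
  ext g
  rw [mem_map_glReindex]
  constructor
  · rintro ⟨h, hh, rfl⟩
    rw [mem_isoGL]
    intro u v
    rw [mem_isoGL] at hh
    unfold formReindex
    rw [glReindex_mulVec', glReindex_mulVec']
    have : ∀ w : κ → F, (((h : Matrix ι ι F) *ᵥ (w ∘ e)) ∘ e.symm) ∘ e = (h : Matrix ι ι F) *ᵥ (w ∘ e) := by
      intro w; ext i; simp
    rw [this, this]
    exact hh _ _
  · intro hg
    refine ⟨(glReindex e).symm g, ?_, by simp⟩
    rw [mem_isoGL] at hg ⊢
    intro u v
    have h1 := hg (u ∘ e.symm) (v ∘ e.symm)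
    unfold formReindex at h1
    have h3 : g = glReindex e ((glReindex e).symm g) := by simp
    rw [h3, glReindex_mulVec_comp, glReindex_mulVec_comp] at h1
    have h4 : ∀ w : ι → F, (w ∘ e.symm) ∘ e = w := by intro w; ext i; simp
    rw [h4, h4, h4, h4] at h1
    simpa using h1

theorem map_ne_bot (e : ι ≃ κ) (W : Submodule F (ι → F)) (hW : W ≠ ⊥) :
    W.map (LinearEquiv.funCongrLeft F F e.symm).toLinearMap ≠ ⊥ := by
  intro h
  apply hW
  exact (Submodule.map_eq_bot_iff (p := W) (e := LinearEquiv.funCongrLeft F F e.symm)).1 h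

end Cfsg.Agent.Lib.Helper24.AschSpTR1

namespace Cfsg.Agent.Lib.Helper23.AschSp

open Cfsg Cfsg.Geo Cfsg.Agent.Lib.Helper24.AschSpTR1
open scoped MatrixGroups Matrix

section transport

variable {F : Type*} [Field F]
variable {ι κ : Type} [Fintype ι] [DecidableEq ι] [Fintype κ] [DecidableEq κ] (e : ι ≃ κ)

theorem spC1s_reindex (f : (ι → F) → (ι → F) → F) (M : Subgroup (GL ι F)) (h : SpC1s f M) :
    SpC1s (formReindex e f) (M.map (glReindex e).toMonoidHom) := by
  obtain ⟨W, hW, hts, rfl⟩ := h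
  refine ⟨W.map (LinearEquiv.funCongrLeft F F e.symm).toLinearMap, map_ne_bot e W hW, ?_, ?_⟩
  · intro u hu v hv
    rw [mem_map_funCongrLeft] at hu hv
    exact hts _ hu _ hv
  · rw [Subgroup.map_inf (subspaceStabilizer W) (isoGL f) (glReindex e).toMonoidHom (glReindex e).injective,
      map_subspaceStabilizer', map_isoGL']

theorem spC1n_reindex (m : ℕ) (f : (ι → F) → (ι → F) → F) (M : Subgroup (GL ι F)) (h : SpC1n m f M) :
    SpC1n m (formReindex e f) (M.map (glReindex e).toMonoidHom) := by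
  obtain ⟨W, hW, hnd, hlt, rfl⟩ := h
  refine ⟨W.map (LinearEquiv.funCongrLeft F F e.symm).toLinearMap, map_ne_bot e W hW, ?_, ?_, ?_⟩
  · intro w hw hw0
    rw [mem_map_funCongrLeft] at hw
    have hw0' : w ∘ e ≠ 0 := by
      intro h0
      apply hw0
      ext i
      have := congrFun h0 (e.symm i)
      simpa using this
    obtain ⟨⟨x, hx, hx1⟩, ⟨y, hy, hy1⟩⟩ := hnd _ hw hw0'
    have hc : ∀ z : ι → F, (z ∘ e.symm) ∘ e = z := by intro z; ext i; simp
    refine ⟨⟨x ∘ e.symm, ?_, ?_⟩, ⟨y ∘ e.symm, ?_, ?_⟩⟩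
    · rw [mem_map_funCongrLeft, hc]; exact hx
    · unfold formReindex; rw [hc]; exact hx1
    · rw [mem_map_funCongrLeft, hc]; exact hy
    · unfold formReindex; rw [hc]; exact hy1
  · rw [LinearEquiv.finrank_map_eq]
    exact hlt
  · rw [Subgroup.map_inf (subspaceStabilizer W) (isoGL f) (glReindex e).toMonoidHom (glReindex e).injective,
      map_subspaceStabilizer', map_isoGL']

end transport

end Cfsg.Agent.Lib.Helper23.AschSp
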