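import Mathlib
import Cfsg.Prelude.Def_GeometricClasses
import Cfsg.Agent.Lib.Helper99.AschDefs
import Cfsg.Agent.Lib.Helper99.AschDefsR

/-!
# BHR-[E1] (helper24): over `F_2` the stabiliser of a decomposition into lines fixes the sum of the
generators, so it lies in a subspace stabiliser
-/

set_option autoImplicit false

namespace Cfsg.Agent.Lib.Helper99.Asch

open Cfsg Cfsg.Geo
open scoped MatrixGroups Matrix Kronecker

variable {n : ℕ} {F : Type*} [Field F] [Fintype F]

/-- BHR-[E1]. -/
theorem decomp_lines_card_two (hn : 2 ≤ n) {t : ℕ} (D : Fin t → Submodule F (Fin n → F))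
    (hD : IsMDecomposition 1 D) (hq : Fintype.card F = 2) :
    ∃ W : Submodule F (Fin n → F), W ≠ ⊥ ∧ W ≠ ⊤ ∧ decompositionStabilizer D ≤ subspaceStabilizer W := by
  classical
  -- every scalar is 0 or 1
  have h01 : ∀ c : F, c = 0 ∨ c = 1 := by
    intro c
    by_contra hcon
    push Not at hcon
    have hcard : ({0, 1, c} : Finset F).card = 3 := by
      rw [Finset.card_insert_of_notMem, Finset.card_insert_of_notMem, Finset.card_singleton]
      · simpa using Ne.symm hcon.2
      · simp only [Finset.mem_insert, Finset.mem_singleton, not_or]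
        exact ⟨zero_ne_one, Ne.symm hcon.1⟩
    have := Finset.card_le_univ ({0, 1, c} : Finset F)
    rw [hcard, hq] at this
    omega
  -- generators of the lines
  have hgen : ∀ i, ∃ v : Fin n → F, v ≠ 0 ∧ v ∈ D i ∧ ∀ x ∈ D i, x = 0 ∨ x = v := by
    intro i
    obtain ⟨v, hv0, hv⟩ := (finrank_eq_one_iff' (K := F) (V := D i)).mp (hD.finrank_eq i)
    refine ⟨v.1, fun h => hv0 (Subtype.ext h), v.2, fun x hx => ?_⟩
    obtain ⟨c, hc⟩ := hv ⟨x, hx⟩
    have hc' : c • (v : Fin n → F) = x := congrArg Subtype.val hc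
    rcases h01 c with rfl | rfl
    · left; rw [← hc', zero_smul]
    · right; rw [← hc', one_smul]
  choose v hv0 hvD hvall using hgen
  set w : Fin n → F := ∑ i, v i with hw
  have ht := hD.two_le
  -- w ≠ 0
  have hw0 : w ≠ 0 := by
    intro hzero
    set i0 : Fin t := ⟨0, by omega⟩
    have hsum : v i0 + ∑ k ∈ Finset.univ.erase i0, v k = 0 := by
      rw [Finset.add_sum_erase _ _ (Finset.mem_univ i0)]
      exact hzero
    have hmem : ∑ k ∈ Finset.univ.erase i0, v k ∈ ⨆ (k : Fin t) (_ : k ≠ i0), D k := by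
      refine Submodule.sum_mem _ fun k hk => ?_
      exact Submodule.mem_iSup_of_mem k (Submodule.mem_iSup_of_mem (Finset.ne_of_mem_erase hk) (hvD k))
    have hv0' : v i0 = -∑ k ∈ Finset.univ.erase i0, v k := eq_neg_of_add_eq_zero_left hsum
    have hmem' : v i0 ∈ ⨆ (k : Fin t) (_ : k ≠ i0), D k := by
      rw [hv0']
      exact Submodule.neg_mem _ hmem
    exact hv0 i0 (Submodule.disjoint_def.mp (hD.indep i0) (v i0) (hvD i0) hmem')
  refine ⟨Submodule.span F {w}, ?_, ?_, ?_⟩
  · intro hbot
    rw [Submodule.span_singleton_eq_bot] at hbot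
    exact hw0 hbot
  · intro htop
    have h1 : Module.finrank F (Submodule.span F {w}) = 1 := finrank_span_singleton hw0
    rw [htop, finrank_top, Module.finrank_fin_fun] at h1
    omega
  · intro g hg
    obtain ⟨σ, hσ⟩ := hg
    -- g permutes the generators
    have hgv : ∀ i, (g : Matrix (Fin n) (Fin n) F) *ᵥ v i = v (σ i) := by
      intro i
      have hmem : (g : Matrix (Fin n) (Fin n) F) *ᵥ v i ∈ D (σ i) := by
        rw [← hσ i]
        exact ⟨v i, hvD i, by rw [Matrix.toLin'_apply]⟩
      rcases hvall (σ i) _ hmem with h | h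
      · exfalso
        have hinv : ((g⁻¹ : GL (Fin n) F) : Matrix (Fin n) (Fin n) F) *ᵥ
            ((g : Matrix (Fin n) (Fin n) F) *ᵥ v i) = v i := by
          rw [Matrix.mulVec_mulVec, ← Units.val_mul, inv_mul_cancel, Units.val_one, Matrix.one_mulVec]
        rw [h, Matrix.mulVec_zero] at hinv
        exact hv0 i hinv.symm
      · exact h
    have hgw : (g : Matrix (Fin n) (Fin n) F) *ᵥ w = w := by
      rw [hw, Matrix.mulVec_sum]
      simp_rw [hgv]
      exact Equiv.sum_comp σ v
    have hginvw : ((g⁻¹ : GL (Fin n) F) : Matrix (Fin n) (Fin n) F) *ᵥ w = w := by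
      conv_lhs => rw [← hgw]
      rw [Matrix.mulVec_mulVec, ← Units.val_mul, inv_mul_cancel, Units.val_one, Matrix.one_mulVec]
    intro x
    show x ∈ Submodule.span F {w} ↔ (g : Matrix (Fin n) (Fin n) F) *ᵥ x ∈ Submodule.span F {w}
    constructor
    · intro hx
      obtain ⟨c, rfl⟩ := Submodule.mem_span_singleton.mp hx
      rw [Matrix.mulVec_smul, hgw]
      exact Submodule.mem_span_singleton.mpr ⟨c, rfl⟩
    · intro hx
      obtain ⟨c, hc⟩ := Submodule.mem_span_singleton.mp hx
      have : x = c • w := by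
        have h2 : ((g⁻¹ : GL (Fin n) F) : Matrix (Fin n) (Fin n) F) *ᵥ
            ((g : Matrix (Fin n) (Fin n) F) *ᵥ x) = x := by
          rw [Matrix.mulVec_mulVec, ← Units.val_mul, inv_mul_cancel, Units.val_one, Matrix.one_mulVec]
        rw [← h2, ← hc, Matrix.mulVec_smul, hginvw]
      rw [this]
      exact Submodule.mem_span_singleton.mpr ⟨c, rfl⟩

end Cfsg.Agent.Lib.Helper99.Asch
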