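import Mathlib
import Cfsg.Prelude.Def_GeometricClasses
import Cfsg.Agent.Lib.Helper99.AschDefs
import Cfsg.Agent.Lib.Helper99.AschDefsR

/-!
# BHR-[MINFIELD] (helper24): arithmetic of `IsMinimalFieldFor`
-/

set_option autoImplicit false

namespace Cfsg.Agent.Lib.Helper99.Asch

open Cfsg Cfsg.Geo
open scoped MatrixGroups Matrix Kronecker

variable {n : ℕ} {F : Type*} [Field F] [Fintype F]

/-- BHR-[MINFIELD]. -/
theorem dvd_of_isMinimalFieldFor {z p e : ℕ} (h : IsMinimalFieldFor z p e F) (d : ℕ) (hd : 0 < d)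
    (hdvd : z ∣ p ^ d - 1) : e ∣ d := by
  obtain ⟨hp, _, hcard, hze, hmin⟩ := h
  have hp1 : ∀ k : ℕ, 1 ≤ p ^ k := fun k => Nat.one_le_pow _ _ hp.pos
  have hepos : 0 < e := by
    rcases Nat.eq_zero_or_pos e with rfl | he
    · rw [pow_zero] at hcard
      have := Fintype.one_lt_card (α := F)
      omega
    · exact he
  have key : ∀ k : ℕ, z ∣ p ^ k - 1 ↔ 1 ≡ p ^ k [MOD z] := fun k =>
    (Nat.modEq_iff_dvd' (hp1 k)).symm
  have he1 : 1 ≡ p ^ e [MOD z] := (key e).mp hze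
  have hd1 : 1 ≡ p ^ d [MOD z] := (key d).mp hdvd
  -- d = e * a + b
  set a := d / e with ha
  set b := d % e with hb
  have hdab : d = e * a + b := (Nat.div_add_mod d e).symm
  have hbe : b < e := Nat.mod_lt d hepos
  have hb1 : 1 ≡ p ^ b [MOD z] := by
    have h1 : p ^ d = (p ^ e) ^ a * p ^ b := by rw [hdab, pow_add, pow_mul]
    have h2 : (p ^ e) ^ a * p ^ b ≡ 1 ^ a * p ^ b [MOD z] :=
      Nat.ModEq.mul_right _ (Nat.ModEq.pow a he1.symm)
    rw [one_pow, one_mul] at h2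
    rw [h1] at hd1
    exact hd1.trans h2
  rcases Nat.eq_zero_or_pos b with hb0 | hbpos
  · exact Nat.dvd_of_mod_eq_zero hb0
  · exact absurd ((key b).mpr hb1) (hmin b hbpos hbe)

end Cfsg.Agent.Lib.Helper99.Asch
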