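import Mathlib
import Cfsg.Prelude.Def_GeometricClasses

/-!
# helper24: vector transvections in `Cfsg.Geo.specialLinear` (support for the BHR modules)
-/

set_option autoImplicit false

namespace Cfsg.Agent.Lib.Helper24.Bhr

open Cfsg Cfsg.Geo
open scoped Matrix

variable {n : ℕ} {F : Type*} [Field F]

/-- the matrix `1 + w φᵀ`. -/
def tvMat (w φ : Fin n → F) : Matrix (Fin n) (Fin n) F := 1 + Matrix.vecMulVec w φ

lemma tvMat_mulVec (w φ x : Fin n → F) : tvMat w φ *ᵥ x = x + (φ ⬝ᵥ x) • w := by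
  unfold tvMat
  rw [Matrix.add_mulVec, Matrix.one_mulVec]
  congr 1
  ext i
  simp only [Matrix.mulVec, Matrix.vecMulVec_apply, dotProduct, Pi.smul_apply, smul_eq_mul]
  rw [Finset.sum_mul]
  refine Finset.sum_congr rfl fun j _ => ?_
  ring

lemma tvMat_det (w φ : Fin n → F) (h : φ ⬝ᵥ w = 0) : (tvMat w φ).det = 1 := by
  unfold tvMat
  rw [Matrix.vecMulVec_eq (ι := Unit), Matrix.det_one_add_replicateCol_mul_replicateRow, h, add_zero]

/-- the row vector of a linear functional. -/
def rowOf (f : Module.Dual F (Fin n → F)) : Fin n → F := fun j => f (fun k => if j = k then 1 else 0)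

lemma rowOf_dot (f : Module.Dual F (Fin n → F)) (x : Fin n → F) : rowOf f ⬝ᵥ x = f x := by
  rw [LinearMap.pi_apply_eq_sum_univ f x]
  unfold rowOf dotProduct
  refine Finset.sum_congr rfl fun j _ => ?_
  rw [smul_eq_mul, mul_comm]

/-- For `v ∉ span {w}` there is an element of `SL_n` acting as `x ↦ x + f x • w` with a functional `f`,
`f v = 1`, `f w = 0`. -/
theorem exists_sl_transvection (v w : Fin n → F) (hv : v ∉ Submodule.span F {w}) :
    ∃ g : GL (Fin n) F, g ∈ specialLinear (Fin n) F ∧ ∃ f : Module.Dual F (Fin n → F),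
      f v = 1 ∧ f w = 0 ∧ ∀ x, (g : Matrix (Fin n) (Fin n) F) *ᵥ x = x + f x • w := by
  obtain ⟨f0, hf0v, hf0⟩ := Submodule.exists_dual_map_eq_bot_of_notMem hv inferInstance
  have hf0w : f0 w = 0 := by
    have : f0 w ∈ (Submodule.span F {w}).map f0 :=
      Submodule.mem_map_of_mem (Submodule.mem_span_singleton_self w)
    rw [hf0] at this
    simpa using this
  set f : Module.Dual F (Fin n → F) := (f0 v)⁻¹ • f0 with hf
  have hfv : f v = 1 := by
    rw [hf, LinearMap.smul_apply, smul_eq_mul, inv_mul_cancel₀ hf0v]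
  have hfw : f w = 0 := by
    rw [hf, LinearMap.smul_apply, hf0w, smul_zero]
  have hdet : (tvMat w (rowOf f)).det = 1 := tvMat_det _ _ (by rw [rowOf_dot, hfw])
  refine ⟨Matrix.GeneralLinearGroup.mkOfDetNeZero (tvMat w (rowOf f)) (by rw [hdet]; exact one_ne_zero),
    ?_, f, hfv, hfw, ?_⟩
  · unfold specialLinear
    rw [MonoidHom.mem_ker]
    ext
    simp only [Matrix.GeneralLinearGroup.val_det_apply, Units.val_one]
    exact hdet
  · intro x
    have : ((Matrix.GeneralLinearGroup.mkOfDetNeZero (tvMat w (rowOf f))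
        (by rw [hdet]; exact one_ne_zero) : GL (Fin n) F) : Matrix (Fin n) (Fin n) F) = tvMat w (rowOf f) := rfl
    rw [this, tvMat_mulVec, rowOf_dot]

end Cfsg.Agent.Lib.Helper24.Bhr
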