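import Mathlib
import Cfsg.Prelude.Def_GeometricClasses
import Cfsg.Agent.Lib.Helper99.AschDefs
import Cfsg.Agent.Lib.Helper99.AschDefsR
import Cfsg.Agent.Lib.Helper24.BhrTransv

/-!
# BHR-[P1] (helper24): SL_n is contained in no subspace stabiliser
-/

set_option autoImplicit false

namespace Cfsg.Agent.Lib.Helper99.Asch

open Cfsg Cfsg.Geo
open scoped MatrixGroups Matrix Kronecker

variable {n : ℕ} {F : Type*} [Field F] [Fintype F]

/-- BHR-[P1]. -/
theorem not_sl_le_subspaceStabilizer (hn : 2 ≤ n) (W : Submodule F (Fin n → F)) (hW : W ≠ ⊥)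
    (hW' : W ≠ ⊤) : ¬ specialLinear (Fin n) F ≤ subspaceStabilizer W := by
  intro hle
  obtain ⟨v, hvW, hv0⟩ := Submodule.exists_mem_ne_zero_of_ne_bot hW
  have hu : ∃ u, u ∉ W := by
    by_contra hcon
    push Not at hcon
    exact hW' (Submodule.eq_top_iff'.mpr hcon)
  obtain ⟨u, huW⟩ := hu
  have hvu : v ∉ Submodule.span F {u} := by
    intro hmem
    obtain ⟨c, hc⟩ := Submodule.mem_span_singleton.mp hmem
    by_cases hc0 : c = 0
    · rw [hc0, zero_smul] at hc
      exact hv0 hc.symm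
    · apply huW
      have : u = c⁻¹ • v := by rw [← hc, smul_smul, inv_mul_cancel₀ hc0, one_smul]
      rw [this]
      exact W.smul_mem _ hvW
  obtain ⟨g, hgSL, f, hfv, _, hg⟩ := Cfsg.Agent.Lib.Helper24.Bhr.exists_sl_transvection v u hvu
  have hgW := hle hgSL
  have h1 : (g : Matrix (Fin n) (Fin n) F) *ᵥ v ∈ W := (hgW v).mp hvW
  rw [hg v, hfv, one_smul] at h1
  exact huW ((W.add_mem_iff_right hvW).mp h1)

end Cfsg.Agent.Lib.Helper99.Asch
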