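import Mathlib
import Cfsg.Prelude.Def_GeometricClasses
import Cfsg.Agent.Lib.Helper99.AschDefs
import Cfsg.Agent.Lib.Helper99.AschDefsR
import Cfsg.Agent.Lib.Helper24.BhrTransv

/-!
# BHR-[P2] (helper24): SL_n is contained in no decomposition stabiliser
-/

set_option autoImplicit false

namespace Cfsg.Agent.Lib.Helper99.Asch

open Cfsg Cfsg.Geo
open scoped MatrixGroups Matrix Kronecker

variable {n : ℕ} {F : Type*} [Field F] [Fintype F]

/-- BHR-[P2]. -/
theorem not_sl_le_decompositionStabilizer (hn : 3 ≤ n) {t : ℕ} (m : ℕ)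
    (D : Fin t → Submodule F (Fin n → F)) (hD : IsMDecomposition m D) :
    ¬ specialLinear (Fin n) F ≤ decompositionStabilizer D := by
  intro hle
  have ht := hD.two_le
  set i0 : Fin t := ⟨0, by omega⟩ with hi0
  set i1 : Fin t := ⟨1, by omega⟩ with hi1
  have h01 : i0 ≠ i1 := by
    intro h
    have := congrArg Fin.val h
    simp [hi0, hi1] at this
  have hne : ∀ i, ∃ x ∈ D i, x ≠ 0 := by
    intro i
    have hfr := hD.finrank_eq i
    have hpos : 0 < Module.finrank F (D i) := by rw [hfr]; exact hD.pos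
    have hbot : D i ≠ ⊥ := by
      intro hb
      rw [hb, finrank_bot] at hpos
      exact lt_irrefl _ hpos
    exact Submodule.exists_mem_ne_zero_of_ne_bot hbot
  obtain ⟨v, hvD, hv0⟩ := hne i0
  obtain ⟨w, hwD, hw0⟩ := hne i1
  have hdisj : Disjoint (D i0) (D i1) := hD.indep.pairwiseDisjoint h01
  have hvw : v ∉ Submodule.span F {w} := by
    intro hmem
    obtain ⟨c, hc⟩ := Submodule.mem_span_singleton.mp hmem
    have : v ∈ D i1 := by rw [← hc]; exact (D i1).smul_mem _ hwD
    exact hv0 (Submodule.disjoint_def.mp hdisj v hvD this)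
  obtain ⟨g, hgSL, f, hfv, _, hg⟩ := Cfsg.Agent.Lib.Helper24.Bhr.exists_sl_transvection v w hvw
  obtain ⟨σ, hσ⟩ := hle hgSL
  have hmem : v + w ∈ D (σ i0) := by
    rw [← hσ i0]
    refine ⟨v, hvD, ?_⟩
    rw [Matrix.toLin'_apply, hg v, hfv, one_smul]
  by_cases hj0 : σ i0 = i0
  · rw [hj0] at hmem
    have : w ∈ D i0 := ((D i0).add_mem_iff_right hvD).mp hmem
    exact hw0 (Submodule.disjoint_def.mp hdisj w this hwD)
  by_cases hj1 : σ i0 = i1
  · rw [hj1] at hmem
    have : v ∈ D i1 := ((D i1).add_mem_iff_left hwD).mp hmem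
    exact hv0 (Submodule.disjoint_def.mp hdisj v hvD this)
  · have hind := hD.indep (σ i0)
    have hsup : v + w ∈ ⨆ (k : Fin t) (_ : k ≠ σ i0), D k := by
      refine Submodule.add_mem _ ?_ ?_
      · exact Submodule.mem_iSup_of_mem i0 (Submodule.mem_iSup_of_mem (Ne.symm hj0) hvD)
      · exact Submodule.mem_iSup_of_mem i1 (Submodule.mem_iSup_of_mem (Ne.symm hj1) hwD)
    have hz : v + w = 0 := Submodule.disjoint_def.mp hind (v + w) hmem hsup
    have hvneg : v = -w := eq_neg_of_add_eq_zero_left hz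
    have : v ∈ D i1 := by rw [hvneg]; exact (D i1).neg_mem hwD
    exact hv0 (Submodule.disjoint_def.mp hdisj v hvD this)

end Cfsg.Agent.Lib.Helper99.Asch
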