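/-
helper24, project C2F4 (= S2369, sheet of helper69), modules C2F4-[Z] and C2F4-[T] in `_of` form:
`cent_z_le_of`, `cent_t_le_of` = the sheet's `cent_z_le`, `cent_t_le` with the statements of C2F4-[CENTGEN]
(`exists_bruhat_of_conj`, for the list in question), C2F4-[XA] (b) (`nW_mem_normalizer_XA_iff`, direction `←`) and
C2F4-[WRELT] (`wrel_T`) as hypotheses.  [XA] (a), (c), (d) are imported (exact, on main).
-/
import Cfsg.Agent.Lib.Helper69.C2F4.Defs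
import Cfsg.Agent.Lib.Helper69.C2F4.XAa
import Cfsg.Agent.Lib.Helper89.C2F4XAcd
import Cfsg.Agent.Lib.Helper91.ChevGen

set_option autoImplicit false

namespace Cfsg.Agent.Lib.Helper24.C2F4

open Cfsg.Lie Cfsg.Agent.Lib.Helper18 Cfsg.Agent.Lib.Helper91.ReeF4 Cfsg.Agent.Lib.Helper18.F4T
  Cfsg.Agent.Lib.Helper69.C2F4

universe u

variable {K : Type u} [Field K]

set_option maxRecDepth 100000 in
theorem uStable_nil : UStable chevF4 [] [] = true := by decide +kernel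

set_option maxRecDepth 100000 in
theorem commFree_AT1 : CommFree chevF4 AT1 = true := by decide +kernel

theorem lt_of_mem_AZ : ∀ r ∈ AZ, r < 48 := by decide

theorem lt_of_mem_AT : ∀ r ∈ AT, r < 48 := by decide

theorem lt_of_mem_AT1 : ∀ r ∈ AT1, r < 48 := by decide

theorem mem_AT_of_mem_AT1 : ∀ r ∈ AT1, r ∈ AT := by decide

/-- `X_∅ = 1`. -/
theorem XA_nil_eq_bot : XA K [] = ⊥ := by
  unfold XA
  rw [Subgroup.closure_eq_bot_iff]
  rintro g ⟨r, hr, -⟩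
  exact absurd hr List.not_mem_nil

/-- The words in the fundamental reflections lie in `F₄(K)`. -/
theorem nW_mem_group (ws : List ℕ) : nW hD4 chevData_F4.{u} ws ∈ chevF4.group K := by
  rw [Cfsg.Agent.Lib.Helper91.ChevGen.group_eq_closure_fundSet hD4]
  exact Cfsg.Agent.Lib.Helper91.ChevGen.nW_mem hD4 chevData_F4.{u} ws

/-- The final step of [Z] and [T]: a Bruhat form `b n_w b'` with `w A ⊆ A` lies in `M_A`. -/
theorem mem_MA_of_bruhat [CharP K 2] (A : List ℕ) (hA : ∀ r ∈ A, r < 48) (hst : UStable chevF4 A A = true)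
    (hXAb : ∀ ws : List ℕ, (∀ i ∈ ws, i < 4) → (∀ r ∈ A, wordRootF f4tabs ws r ∈ A) →
      nW hD4 chevData_F4.{u} ws ∈ Subgroup.normalizer (XA K A : Set (GL chevF4.Idx K)))
    (g b b' : GL chevF4.Idx K) (hb : b ∈ chevF4.borelSubgroup K) (hb' : b' ∈ chevF4.borelSubgroup K)
    (ws : List ℕ) (hws : ∀ i ∈ ws, i < 4) (hg : g = b * nW hD4 chevData_F4.{u} ws * b')
    (hw : ∀ r ∈ A, wordRootF f4tabs ws r ∈ A) : g ∈ MA K A := by
  have hB := borel_le_MA (K := K) A hA hst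
  have hn : nW hD4 chevData_F4.{u} ws ∈ MA K A := by
    unfold MA
    exact ⟨hXAb ws hws hw, nW_mem_group ws⟩
  rw [hg]
  exact mul_mem (mul_mem (hB hb) hn) (hB hb')

/-- `T_Z = {x₄₄(a) x₄₇(b) | a b ≠ 0}`. -/
def TZ (K : Type u) [Field K] : Set (GL chevF4.Idx K) :=
  {y | ∃ a b : K, a ≠ 0 ∧ b ≠ 0 ∧ y = xG hD4 44 a * xG hD4 47 b}

theorem TZ_prodL (y : GL chevF4.Idx K) (hy : y ∈ TZ K) :
    ∃ t : ℕ → K, y = prodL hD4 AZ t ∧ ∀ r ∈ AZ, t r ≠ 0 := by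
  obtain ⟨a, b, ha, hb, rfl⟩ := hy
  refine ⟨fun r => if r = 44 then a else b, ?_, ?_⟩
  · unfold AZ
    rw [prodL_cons, prodL_cons, prodL_nil, mul_one]
    simp
  · intro r hr
    by_cases h : r = 44
    · simpa [h] using ha
    · simpa [h] using hb

theorem TZ_borel [CharP K 2] (y : GL chevF4.Idx K) (hy : y ∈ TZ K) (b₀ : GL chevF4.Idx K)
    (hb₀ : b₀ ∈ chevF4.borelSubgroup K) : b₀ * y * b₀⁻¹ ∈ TZ K := by
  obtain ⟨a, b, ha, hb, rfl⟩ := hy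
  obtain ⟨a', ha', e₁, he₁, h₁⟩ := borel_conj_mem (K := K) AZ [] lt_of_mem_AZ (by intro r hr; exact absurd hr List.not_mem_nil)
    uStable_AZ uStable_nil b₀ hb₀ 44 (by decide) a ha
  obtain ⟨b', hb', e₂, he₂, h₂⟩ := borel_conj_mem (K := K) AZ [] lt_of_mem_AZ (by intro r hr; exact absurd hr List.not_mem_nil)
    uStable_AZ uStable_nil b₀ hb₀ 47 (by decide) b hb
  rw [XA_nil_eq_bot, Subgroup.mem_bot] at he₁ he₂
  rw [he₁, mul_one] at h₁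
  rw [he₂, mul_one] at h₂
  refine ⟨a', b', ha', hb', ?_⟩
  rw [← h₁, ← h₂]
  group

/-- C2F4-[Z] in `_of` form. -/
theorem cent_z_le_of [CharP K 2]
    (hcent : ∀ (T : Set (GL chevF4.Idx K)),
      (∀ y ∈ T, ∃ t : ℕ → K, y = prodL hD4 AZ t ∧ ∀ r ∈ AZ, t r ≠ 0) →
      (∀ y ∈ T, ∀ b ∈ chevF4.borelSubgroup K, b * y * b⁻¹ ∈ T) →
      ∀ (g : GL chevF4.Idx K), g ∈ chevF4.group K → ∀ (y : GL chevF4.Idx K), y ∈ T → g * y * g⁻¹ ∈ T →
      ∃ b ∈ chevF4.borelSubgroup K, ∃ b' ∈ chevF4.borelSubgroup K, ∃ ws : List ℕ, (∀ i ∈ ws, i < 4) ∧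
        g = b * nW hD4 chevData_F4.{u} ws * b' ∧ ∀ r ∈ AZ, wordRootF f4tabs ws r ∈ AZ)
    (hXAb : ∀ ws : List ℕ, (∀ i ∈ ws, i < 4) → (∀ r ∈ AZ, wordRootF f4tabs ws r ∈ AZ) →
      nW hD4 chevData_F4.{u} ws ∈ Subgroup.normalizer (XA K AZ : Set (GL chevF4.Idx K)))
    (c c' : K) (hc : c ≠ 0) (hc' : c' ≠ 0) (g : GL chevF4.Idx K) (hg : g ∈ chevF4.group K)
    (hcomm : g * (xG hD4 44 c * xG hD4 47 c') = (xG hD4 44 c * xG hD4 47 c') * g) : g ∈ MA K AZ := by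
  have hy : xG hD4 44 c * xG hD4 47 c' ∈ TZ K := ⟨c, c', hc, hc', rfl⟩
  have hgy : g * (xG hD4 44 c * xG hD4 47 c') * g⁻¹ ∈ TZ K := by
    rw [hcomm, mul_inv_cancel_right]
    exact hy
  obtain ⟨b, hb, b', hb', ws, hws, hgb, hw⟩ := hcent (TZ K) TZ_prodL TZ_borel g hg _ hy hgy
  exact mem_MA_of_bruhat AZ lt_of_mem_AZ uStable_AZ_AZ hXAb g b b' hb hb' ws hws hgb hw

/-- `T_T = {x₃₉(a) x₄₅(b) z | a b ≠ 0, z ∈ X_{AT1}}`. -/
def TT (K : Type u) [Field K] : Set (GL chevF4.Idx K) :=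
  {y | ∃ a b : K, a ≠ 0 ∧ b ≠ 0 ∧ ∃ z ∈ XA K AT1, y = xG hD4 39 a * xG hD4 45 b * z}

theorem TT_prodL [CharP K 2] (y : GL chevF4.Idx K) (hy : y ∈ TT K) :
    ∃ t : ℕ → K, y = prodL hD4 AT t ∧ ∀ r ∈ [39, 45], t r ≠ 0 := by
  obtain ⟨a, b, ha, hb, z, hz, rfl⟩ := hy
  obtain ⟨t₁, rfl⟩ := exists_prodL_of_mem_XA (K := K) AT1 lt_of_mem_AT1 (by decide) commFree_AT1 z hz
  refine ⟨fun r => if r = 39 then a else if r = 45 then b else t₁ r, ?_, ?_⟩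
  · have hAT : AT = 39 :: 45 :: AT1 := rfl
    rw [hAT, prodL_cons, prodL_cons, ← mul_assoc]
    have e : prodL hD4 AT1 (fun r => if r = 39 then a else if r = 45 then b else t₁ r) = prodL hD4 AT1 t₁ := by
      apply prodL_congr
      intro r hr
      have h1 : r ≠ 39 := by
        intro h; rw [h] at hr; exact absurd hr (by decide)
      have h2 : r ≠ 45 := by
        intro h; rw [h] at hr; exact absurd hr (by decide)
      simp [h1, h2]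
    rw [e]
    simp
  · intro r hr
    rcases List.mem_cons.mp hr with rfl | hr
    · simpa using ha
    · rcases List.mem_cons.mp hr with rfl | hr
      · simpa using hb
      · exact absurd hr List.not_mem_nil

/-- The elements of `X_{AT1}` commute with the root elements of the roots of `AT`. -/
theorem commute_XA_AT1 [CharP K 2] (r : ℕ) (hr : r ∈ AT) (c : K) (z : GL chevF4.Idx K) (hz : z ∈ XA K AT1) :
    Commute (xG hD4 r c) z := by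
  unfold XA at hz
  induction hz using Subgroup.closure_induction with
  | mem y hy =>
    obtain ⟨s, hs, d, rfl⟩ := hy
    exact xG_commute_of_commFree AT lt_of_mem_AT commFree_AT r s hr (mem_AT_of_mem_AT1 s hs) c d
  | one => exact Commute.one_right _
  | mul y₁ y₂ _ _ h1 h2 => exact h1.mul_right h2
  | inv y _ h1 => exact h1.inv_right

theorem TT_borel [CharP K 2] (y : GL chevF4.Idx K) (hy : y ∈ TT K) (b₀ : GL chevF4.Idx K)
    (hb₀ : b₀ ∈ chevF4.borelSubgroup K) : b₀ * y * b₀⁻¹ ∈ TT K := by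
  obtain ⟨a, b, ha, hb, z, hz, rfl⟩ := hy
  obtain ⟨a', ha', e₁, he₁, h₁⟩ := borel_conj_mem (K := K) AT AT1 lt_of_mem_AT lt_of_mem_AT1
    uStable_AT uStable_AT1 b₀ hb₀ 39 (by decide) a ha
  obtain ⟨b', hb', e₂, he₂, h₂⟩ := borel_conj_mem (K := K) AT AT1 lt_of_mem_AT lt_of_mem_AT1
    uStable_AT uStable_AT1 b₀ hb₀ 45 (by decide) b hb
  have hN : b₀ ∈ Subgroup.normalizer (XA K AT1 : Set (GL chevF4.Idx K)) :=
    (borel_le_MA (K := K) AT1 lt_of_mem_AT1 uStable_AT1 hb₀).1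
  have hz' : b₀ * z * b₀⁻¹ ∈ XA K AT1 := (Subgroup.mem_normalizer_iff.mp hN z).mp hz
  refine ⟨a', b', ha', hb', e₁ * e₂ * (b₀ * z * b₀⁻¹), mul_mem (mul_mem he₁ he₂) hz', ?_⟩
  have hc : Commute (xG hD4 45 b') e₁ := commute_XA_AT1 45 (by decide) b' e₁ he₁
  have e : b₀ * (xG hD4 39 a * xG hD4 45 b * z) * b₀⁻¹
      = (b₀ * xG hD4 39 a * b₀⁻¹) * (b₀ * xG hD4 45 b * b₀⁻¹) * (b₀ * z * b₀⁻¹) := by group
  rw [e, h₁, h₂]
  have e' : xG hD4 39 a' * e₁ * (xG hD4 45 b' * e₂) = xG hD4 39 a' * (e₁ * xG hD4 45 b') * e₂ := by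
    simp only [mul_assoc]
  rw [e', ← hc.eq]
  simp only [mul_assoc]

/-- C2F4-[T] in `_of` form. -/
theorem cent_t_le_of [CharP K 2]
    (hcent : ∀ (T : Set (GL chevF4.Idx K)),
      (∀ y ∈ T, ∃ t : ℕ → K, y = prodL hD4 AT t ∧ ∀ r ∈ [39, 45], t r ≠ 0) →
      (∀ y ∈ T, ∀ b ∈ chevF4.borelSubgroup K, b * y * b⁻¹ ∈ T) →
      ∀ (g : GL chevF4.Idx K), g ∈ chevF4.group K → ∀ (y : GL chevF4.Idx K), y ∈ T → g * y * g⁻¹ ∈ T →
      ∃ b ∈ chevF4.borelSubgroup K, ∃ b' ∈ chevF4.borelSubgroup K, ∃ ws : List ℕ, (∀ i ∈ ws, i < 4) ∧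
        g = b * nW hD4 chevData_F4.{u} ws * b' ∧ ∀ r ∈ [39, 45], wordRootF f4tabs ws r ∈ AT)
    (hXAb : ∀ ws : List ℕ, (∀ i ∈ ws, i < 4) → (∀ r ∈ AT, wordRootF f4tabs ws r ∈ AT) →
      nW hD4 chevData_F4.{u} ws ∈ Subgroup.normalizer (XA K AT : Set (GL chevF4.Idx K)))
    (hwrel : ∀ ws : List ℕ, (∀ i ∈ ws, i < 4) → (∀ r ∈ [39, 45], wordRootF f4tabs ws r ∈ AT) →
      ∀ r ∈ AT, wordRootF f4tabs ws r ∈ AT)
    (c c' : K) (hc : c ≠ 0) (hc' : c' ≠ 0) (g : GL chevF4.Idx K) (hg : g ∈ chevF4.group K)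
    (hcomm : g * (xG hD4 39 c * xG hD4 45 c') = (xG hD4 39 c * xG hD4 45 c') * g) : g ∈ MA K AT := by
  have hy : xG hD4 39 c * xG hD4 45 c' ∈ TT K := ⟨c, c', hc, hc', 1, one_mem _, (mul_one _).symm⟩
  have hgy : g * (xG hD4 39 c * xG hD4 45 c') * g⁻¹ ∈ TT K := by
    rw [hcomm, mul_inv_cancel_right]
    exact hy
  obtain ⟨b, hb, b', hb', ws, hws, hgb, hw⟩ := hcent (TT K) TT_prodL TT_borel g hg _ hy hgy
  exact mem_MA_of_bruhat AT lt_of_mem_AT uStable_AT_AT hXAb g b b' hb hb' ws hws hgb (hwrel ws hws hw)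

end Cfsg.Agent.Lib.Helper24.C2F4
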