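/-
helper24, project C2F4 (= S2369, sheet of helper69), module C2F4-[SMEM] in `_of` form:
`sG_mem_MZ_iff_of`, `sG_mem_MT_iff_of` = the sheet's `sG_mem_MZ_iff`, `sG_mem_MT_iff` with the statement of
C2F4-[XA] (b) (`nW_mem_normalizer_XA_iff`, for the list in question) as a hypothesis.
-/
import Cfsg.Agent.Lib.Helper24.C2F4ZT

set_option autoImplicit false

namespace Cfsg.Agent.Lib.Helper24.C2F4

open Cfsg.Lie Cfsg.Agent.Lib.Helper18 Cfsg.Agent.Lib.Helper91.ReeF4 Cfsg.Agent.Lib.Helper18.F4T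
  Cfsg.Agent.Lib.Helper69.C2F4

universe u

variable {K : Type u} [Field K]

set_option maxRecDepth 100000 in
theorem tab_AZ : ∀ j < 4, ((∀ r ∈ AZ, wordRootF f4tabs [j] r ∈ AZ) ↔ j ∈ [1, 2]) := by decide +kernel

set_option maxRecDepth 100000 in
theorem tab_AT : ∀ j < 4, ((∀ r ∈ AT, wordRootF f4tabs [j] r ∈ AT) ↔ j ∈ [0, 3]) := by decide +kernel

/-- The fundamental reflection `s_j` lies in `M_A` iff it maps `A` into `A` (given [XA] (b) for `A`). -/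
theorem sG_mem_MA_iff_of (A : List ℕ)
    (hXAb : ∀ ws : List ℕ, (∀ i ∈ ws, i < 4) →
      (nW hD4 chevData_F4.{u} ws ∈ Subgroup.normalizer (XA K A : Set (GL chevF4.Idx K))
        ↔ ∀ r ∈ A, wordRootF f4tabs ws r ∈ A))
    (j : ℕ) (hj : j < 4) : sG hD4 chevData_F4.{u} j ∈ MA K A ↔ ∀ r ∈ A, wordRootF f4tabs [j] r ∈ A := by
  have e : sG (F := K) hD4 chevData_F4.{u} j = nW (F := K) hD4 chevData_F4.{u} [j] := by
    rw [nW_cons, nW_nil, mul_one]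
  have hws : ∀ i ∈ [j], i < 4 := by
    intro i hi
    rw [List.mem_singleton] at hi
    omega
  have hgrp : nW hD4 chevData_F4.{u} [j] ∈ chevF4.group K := nW_mem_group [j]
  unfold MA
  rw [Subgroup.mem_inf, e, hXAb [j] hws, and_iff_left hgrp]

/-- C2F4-[SMEM] (Z) in `_of` form. -/
theorem sG_mem_MZ_iff_of
    (hXAb : ∀ ws : List ℕ, (∀ i ∈ ws, i < 4) →
      (nW hD4 chevData_F4.{u} ws ∈ Subgroup.normalizer (XA K AZ : Set (GL chevF4.Idx K))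
        ↔ ∀ r ∈ AZ, wordRootF f4tabs ws r ∈ AZ))
    (j : ℕ) (hj : j < 4) : sG hD4 chevData_F4.{u} j ∈ MA K AZ ↔ j ∈ [1, 2] :=
  (sG_mem_MA_iff_of AZ hXAb j hj).trans (tab_AZ j hj)

/-- C2F4-[SMEM] (T) in `_of` form. -/
theorem sG_mem_MT_iff_of
    (hXAb : ∀ ws : List ℕ, (∀ i ∈ ws, i < 4) →
      (nW hD4 chevData_F4.{u} ws ∈ Subgroup.normalizer (XA K AT : Set (GL chevF4.Idx K))
        ↔ ∀ r ∈ AT, wordRootF f4tabs ws r ∈ AT))
    (j : ℕ) (hj : j < 4) : sG hD4 chevData_F4.{u} j ∈ MA K AT ↔ j ∈ [0, 3] :=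
  (sG_mem_MA_iff_of AT hXAb j hj).trans (tab_AT j hj)

end Cfsg.Agent.Lib.Helper24.C2F4
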