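/-
helper24, project C2F4 (= S2369, sheet of helper69), module C2F4-[WINV]: `Spread` is invariant under the Weyl group.
One reflection preserves `RowFree` (Boolean check on the tables), negation commutes with the word action
(`wordRootF_neg`), induction on the word.
-/
import Cfsg.Agent.Lib.Helper69.C2F4.Defs

set_option autoImplicit false

namespace Cfsg.Agent.Lib.Helper24.C2F4

open Cfsg.Lie Cfsg.Agent.Lib.Helper18 Cfsg.Agent.Lib.Helper91.ReeF4 Cfsg.Agent.Lib.Helper18.F4T
  Cfsg.Agent.Lib.Helper69.C2F4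

/-- One fundamental reflection preserves `RowFree` (Boolean form). -/
def winvStep : Bool :=
  (List.range 4).all fun i => (List.range 48).all fun r => (List.range 48).all fun u =>
    !(RowFree chevF4 r u) || RowFree chevF4 (tabRoot (f4tabs.getD i 0) r) (tabRoot (f4tabs.getD i 0) u)

set_option maxRecDepth 100000 in
theorem winvStep_eq : winvStep = true := by decide +kernel

theorem rowFree_step (i r u : ℕ) (hi : i < 4) (hr : r < 48) (hu : u < 48) (h : RowFree chevF4 r u = true) :
    RowFree chevF4 (tabRoot (f4tabs.getD i 0) r) (tabRoot (f4tabs.getD i 0) u) = true := by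
  have h0 := winvStep_eq
  unfold winvStep at h0
  simp only [List.all_eq_true, List.mem_range, Bool.or_eq_true, Bool.not_eq_true'] at h0
  rcases h0 i hi r hr u hu with h1 | h1
  · rw [h] at h1
    exact absurd h1 (by decide)
  · exact h1

theorem wordRootF_lt_48 (ws : List ℕ) (hws : ∀ i ∈ ws, i < 4) (r : ℕ) (hr : r < 48) :
    wordRootF f4tabs ws r < 48 :=
  wordRootF_lt chevData_F4.{0} ws hws r hr

theorem wordRootF_neg_47 (ws : List ℕ) (hws : ∀ i ∈ ws, i < 4) (r : ℕ) (hr : r < 48) :
    wordRootF f4tabs ws (47 - r) = 47 - wordRootF f4tabs ws r :=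
  wordRootF_neg chevData_F4.{0} ws hws r hr

theorem rowFree_word (ws : List ℕ) (hws : ∀ i ∈ ws, i < 4) (r u : ℕ) (hr : r < 48) (hu : u < 48)
    (h : RowFree chevF4 r u = true) :
    RowFree chevF4 (wordRootF f4tabs ws r) (wordRootF f4tabs ws u) = true := by
  induction ws with
  | nil => exact h
  | cons i ws ih =>
    have hws' : ∀ j ∈ ws, j < 4 := fun j hj => hws j (List.mem_cons_of_mem _ hj)
    rw [wordRootF_cons, wordRootF_cons]
    exact rowFree_step i _ _ (hws i List.mem_cons_self) (wordRootF_lt_48 ws hws' r hr)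
      (wordRootF_lt_48 ws hws' u hu) (ih hws')

end Cfsg.Agent.Lib.Helper24.C2F4

namespace Cfsg.Agent.Lib.Helper69.C2F4

open Cfsg.Lie Cfsg.Agent.Lib.Helper18 Cfsg.Agent.Lib.Helper91.ReeF4 Cfsg.Agent.Lib.Helper18.F4T

/-- C2F4-[WINV].  `Spread` is invariant under the Weyl group. -/
theorem spread_map_word (A : List ℕ) (hA : ∀ r ∈ A, r < 48) (hsp : Spread chevF4 A = true) (ws : List ℕ)
    (hws : ∀ i ∈ ws, i < 4) : Spread chevF4 (A.map (wordRootF f4tabs ws)) = true := by
  unfold Spread at hsp ⊢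
  rw [List.all_eq_true] at hsp ⊢
  intro x hx
  obtain ⟨r, hr, rfl⟩ := List.mem_map.mp hx
  rw [List.all_eq_true]
  intro y hy
  obtain ⟨r', hr', rfl⟩ := List.mem_map.mp hy
  have h1 := hsp r hr
  rw [List.all_eq_true] at h1
  have h2 : RowFree chevF4 r' (47 - r) = true := h1 r' hr'
  have h3 := Cfsg.Agent.Lib.Helper24.C2F4.rowFree_word ws hws r' (47 - r) (hA r' hr') (by omega) h2
  rw [Cfsg.Agent.Lib.Helper24.C2F4.wordRootF_neg_47 ws hws r (hA r hr)] at h3
  exact h3

end Cfsg.Agent.Lib.Helper69.C2F4
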