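/-
helper24, project C2F4 (= S2369, sheet of helper69): the exact sheet statements of C2F4-[Z] `cent_z_le`, C2F4-[T] `cent_t_le`,
C2F4-[SMEM] `sG_mem_MZ_iff`, `sG_mem_MT_iff`, from the `_of` forms (`C2F4ZT.lean`, `C2F4SMem.lean`) and the exact
[CENTGEN] (helper89), [XA] (b) (helper69), [WRELT] (helper89).
-/
import Cfsg.Agent.Lib.Helper24.C2F4SMem
import Cfsg.Agent.Lib.Helper69.C2F4.XAb
import Cfsg.Agent.Lib.Helper89.C2F4CentGen
import Cfsg.Agent.Lib.Helper89.C2F4WRelT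

set_option autoImplicit false

namespace Cfsg.Agent.Lib.Helper69.C2F4

open Cfsg.Lie Cfsg.Agent.Lib.Helper18 Cfsg.Agent.Lib.Helper91.ReeF4 Cfsg.Agent.Lib.Helper18.F4T

universe u

variable {K : Type u} [Field K]

/-- C2F4-[Z]. -/
theorem cent_z_le [CharP K 2] (c c' : K) (hc : c ≠ 0) (hc' : c' ≠ 0) (g : GL chevF4.Idx K)
    (hg : g ∈ chevF4.group K)
    (hcomm : g * (xG hD4 44 c * xG hD4 47 c') = (xG hD4 44 c * xG hD4 47 c') * g) : g ∈ MA K AZ :=
  Cfsg.Agent.Lib.Helper24.C2F4.cent_z_le_of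
    (fun T hT hTB g hg y hy hgy =>
      exists_bruhat_of_conj AZ (by decide) (by decide) spread_AZ AZ (fun _ hr => hr) T hT hTB g hg y hy hgy)
    (fun ws hws h => (nW_mem_normalizer_XA_iff AZ (by decide) (by decide) spread_AZ commFree_AZ ws hws).mpr h)
    c c' hc hc' g hg hcomm

/-- C2F4-[T]. -/
theorem cent_t_le [CharP K 2] (c c' : K) (hc : c ≠ 0) (hc' : c' ≠ 0) (g : GL chevF4.Idx K)
    (hg : g ∈ chevF4.group K)
    (hcomm : g * (xG hD4 39 c * xG hD4 45 c') = (xG hD4 39 c * xG hD4 45 c') * g) : g ∈ MA K AT :=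
  Cfsg.Agent.Lib.Helper24.C2F4.cent_t_le_of
    (fun T hT hTB g hg y hy hgy =>
      exists_bruhat_of_conj AT (by decide) (by decide) spread_AT [39, 45] (by decide) T hT hTB g hg y hy hgy)
    (fun ws hws h => (nW_mem_normalizer_XA_iff AT (by decide) (by decide) spread_AT commFree_AT ws hws).mpr h)
    (fun ws hws h => wrel_T ws hws h)
    c c' hc hc' g hg hcomm

/-- C2F4-[SMEM] (Z). -/
theorem sG_mem_MZ_iff [CharP K 2] (j : ℕ) (hj : j < 4) : sG hD4 chevData_F4.{u} j ∈ MA K AZ ↔ j ∈ [1, 2] :=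
  Cfsg.Agent.Lib.Helper24.C2F4.sG_mem_MZ_iff_of
    (fun ws hws => nW_mem_normalizer_XA_iff AZ (by decide) (by decide) spread_AZ commFree_AZ ws hws) j hj

/-- C2F4-[SMEM] (T). -/
theorem sG_mem_MT_iff [CharP K 2] (j : ℕ) (hj : j < 4) : sG hD4 chevData_F4.{u} j ∈ MA K AT ↔ j ∈ [0, 3] :=
  Cfsg.Agent.Lib.Helper24.C2F4.sG_mem_MT_iff_of
    (fun ws hws => nW_mem_normalizer_XA_iff AT (by decide) (by decide) spread_AT commFree_AT ws hws) j hj

end Cfsg.Agent.Lib.Helper69.C2F4
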