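import Mathlib
import Cfsg.Agent.Lib.Helper24.Frat

set_option autoImplicit false

open scoped commutatorElement

namespace Cfsg.Agent.Lib.Helper24

/-- A nontrivial finite nilpotent (even: solvable) subgroup `M` has a prime `ℓ` with
`M' M^ℓ ≠ M`. -/
theorem exists_frat_ne_of_isSolvable {G : Type*} [Group G] (M : Subgroup G) [Finite ↥M]
    (hM : Group.IsSolvable ↥M) (hne : M ≠ ⊥) : ∃ ℓ : ℕ, ℓ.Prime ∧ frat ℓ M ≠ M := by
  classical
  have hnt : Nontrivial ↥M := (Subgroup.nontrivial_iff_ne_bot M).mpr hne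
  -- the abelianization is nontrivial
  have hAnt : Nontrivial (Abelianization ↥M) := by
    by_contra hcon
    rw [not_nontrivial_iff_subsingleton] at hcon
    have h1 : commutator ↥M = ⊤ := by
      rw [eq_top_iff]
      intro x _
      have : (Abelianization.of x : Abelianization ↥M) = 1 := Subsingleton.elim _ _
      rwa [← QuotientGroup.eq_one_iff]
    have h2 : ∀ n, derivedSeries ↥M n = ⊤ := by
      intro n
      induction n with
      | zero => rfl
      | succ n ih =>
        rw [derivedSeries_succ, ih]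
        exact h1
    obtain ⟨n, hn⟩ := hM.solvable
    rw [h2 n] at hn
    obtain ⟨a, b, hab⟩ := hnt
    have ha : a ∈ (⊤ : Subgroup ↥M) := Subgroup.mem_top a
    have hb : b ∈ (⊤ : Subgroup ↥M) := Subgroup.mem_top b
    rw [hn, Subgroup.mem_bot] at ha hb
    exact hab (ha.trans hb.symm)
  have hcard : Nat.card (Abelianization ↥M) ≠ 1 := by
    rw [Ne, Nat.card_eq_one_iff_unique]
    rintro ⟨hs, -⟩
    exact (not_nontrivial_iff_subsingleton.mpr hs) hAnt
  obtain ⟨ℓ, hℓ, hℓdvd⟩ := Nat.exists_prime_and_dvd hcard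
  refine ⟨ℓ, hℓ, ?_⟩
  have : Fact ℓ.Prime := ⟨hℓ⟩
  obtain ⟨y, hy⟩ := exists_prime_orderOf_dvd_card' (G := Abelianization ↥M) ℓ hℓdvd
  let π : Abelianization ↥M →* Abelianization ↥M := powMonoidHom ℓ
  have hπ : ∀ x, π x = x ^ ℓ := fun x => rfl
  have hninj : ¬ Function.Injective π := by
    intro hinj
    have h1 : π y = π 1 := by
      rw [hπ, hπ, one_pow, ← hy, pow_orderOf_eq_one]
    have h2 := hinj h1
    rw [h2, orderOf_one] at hy
    exact hℓ.one_lt.ne hy
  have hnsurj : ¬ Function.Surjective π := fun h => hninj (Finite.injective_iff_surjective.mpr h)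
  intro heq
  apply hnsurj
  let T : Subgroup ↥M := π.range.comap Abelianization.of
  have hle : frat ℓ M ≤ T.map M.subtype := by
    apply frat_le_of
    · intro x hx y hy
      refine ⟨⁅(⟨x, hx⟩ : ↥M), ⟨y, hy⟩⁆, ?_, ?_⟩
      · show Abelianization.of ⁅(⟨x, hx⟩ : ↥M), ⟨y, hy⟩⁆ ∈ π.range
        rw [map_commutatorElement, commutatorElement_eq_one_iff_commute.mpr (Commute.all _ _)]
        exact one_mem _
      · simp [commutatorElement_def]
    · intro x hx
      refine ⟨(⟨x, hx⟩ : ↥M) ^ ℓ, ?_, ?_⟩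
      · show Abelianization.of ((⟨x, hx⟩ : ↥M) ^ ℓ) ∈ π.range
        rw [map_pow]
        exact ⟨Abelianization.of ⟨x, hx⟩, rfl⟩
      · simp
  intro z
  obtain ⟨m, rfl⟩ := QuotientGroup.mk_surjective z
  have hm : (m : G) ∈ T.map M.subtype := hle (by rw [heq]; exact m.2)
  obtain ⟨m', hm', hmm⟩ := hm
  have : m' = m := Subtype.ext hmm
  rw [this] at hm'
  exact hm'

end Cfsg.Agent.Lib.Helper24
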