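import Mathlib
import Cfsg.Agent.Lib.Helper2.FrobFree
import Cfsg.Agent.Lib.Helper2.FrobAbelian

set_option autoImplicit false

namespace Cfsg.Agent.Lib.Helper24.FrobLine

open scoped BigOperators Pointwise
open MonoidAlgebra
open Cfsg.Agent.Lib.Helper2.FreeAssembly
open Cfsg.Agent.Lib.Helper2

universe uk uH uF uV

section Finrank

variable {k : Type*} [Field k] {H : Type*} [Group H] [Finite H] {V : Type*} [AddCommGroup V]
  [Module k V]

omit [Finite H] in
theorem rep_apply_inv_apply (ρ : Representation k H V) (h : H) (v : V) : ρ h⁻¹ (ρ h v) = v := by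
  rw [← Module.End.mul_apply, ← map_mul, inv_mul_cancel, map_one]; rfl

omit [Finite H] in
theorem rep_apply_apply_inv (ρ : Representation k H V) (h : H) (v : V) : ρ h (ρ h⁻¹ v) = v := by
  rw [← Module.End.mul_apply, ← map_mul, mul_inv_cancel, map_one]; rfl

/-- The dimension of a free piece. -/
theorem finrank_iSup_map (ρ : Representation k H V) [FiniteDimensional k V] (W : Submodule k V)
    (hind : iSupIndep fun h : H => W.map (ρ h)) :
    Module.finrank k ↥(⨆ h : H, W.map (ρ h)) = Nat.card H * Module.finrank k ↥W := by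
  classical
  have := Fintype.ofFinite H
  let Φ : (H → W) →ₗ[k] V := ∑ h : H, (ρ h).comp (W.subtype.comp (LinearMap.proj h))
  have hΦ : ∀ w : H → W, Φ w = ∑ h, ρ h (w h : V) := by
    intro w
    simp [Φ, LinearMap.sum_apply]
  have hinj : Function.Injective Φ := by
    rw [← LinearMap.ker_eq_bot, LinearMap.ker_eq_bot']
    intro w hw
    rw [hΦ] at hw
    rw [iSupIndep_iff_sum_eq_zero] at hind
    have h0 := hind (fun h => ρ h (w h : V)) (fun h => Submodule.mem_map_of_mem (w h).2) hw
    funext h
    have h1 : ρ h (w h : V) = 0 := h0 h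
    have h2 : (w h : V) = 0 := by
      have := congrArg (ρ h⁻¹) h1
      rwa [rep_apply_inv_apply, map_zero] at this
    exact Subtype.ext h2
  have hrange : LinearMap.range Φ = ⨆ h : H, W.map (ρ h) := by
    apply le_antisymm
    · rintro _ ⟨w, rfl⟩
      rw [hΦ]
      exact Submodule.sum_mem _ fun h _ =>
        Submodule.mem_iSup_of_mem h (Submodule.mem_map_of_mem (w h).2)
    · apply iSup_le
      rintro h _ ⟨x, hx, rfl⟩
      refine ⟨Pi.single h ⟨x, hx⟩, ?_⟩
      rw [hΦ, Finset.sum_eq_single h]
      · simp
      · intro b _ hb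
        simp [Pi.single_eq_of_ne hb]
      · simp
  rw [← hrange, LinearMap.finrank_range_of_inj hinj, Module.finrank_pi_fintype]
  simp [Nat.card_eq_fintype_card]

end Finrank


section Setting

variable {k : Type uk} [Field k] {H : Type uH} [Group H] [Finite H] {F : Type uF} [Group F]
  [Finite F] {V : Type uV} [AddCommGroup V] [Module k V]

/-- A nonzero subspace invariant under a Frobenius-type action, on which the kernel has no nonzero
fixed vector, has dimension at least `|H|`. -/
theorem card_le_finrank_of_invariant [Group.IsNilpotent F] [FiniteDimensional k V]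
    (φ : H →* MulAut F) (hfpf : ∀ h : H, h ≠ 1 → ∀ f : F, φ h f = f → f = 1)
    (ρF : Representation k F V) (ρH : Representation k H V)
    (hcompat : ∀ (h : H) (f : F) (v : V), ρH h (ρF f v) = ρF (φ h f) (ρH h v))
    (hfix : ∀ v : V, (∀ f : F, ρF f v = v) → v = 0)
    (U : Submodule k V) (hUF : ∀ f, U ≤ U.comap (ρF f)) (hUH : ∀ h, U ≤ U.comap (ρH h))
    (hU : U ≠ ⊥) : Nat.card H ≤ Module.finrank k ↥U := by
  have hfree : FreeOn (ρH.subrepresentation U hUH) ⊤ := by
    apply FrobFree.nilpotent_free φ hfpf (ρF.subrepresentation U hUF)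
      (ρH.subrepresentation U hUH)
    · intro h f v
      apply Subtype.ext
      exact hcompat h f v
    · intro v hv
      apply Subtype.ext
      apply hfix
      intro f
      exact congrArg Subtype.val (hv f)
  obtain ⟨W, hind, hsup⟩ := FrobFree.freeOn_of_subrepresentation ρH U hUH hfree
  have h1 := finrank_iSup_map ρH W hind
  have hW : W ≠ ⊥ := by
    rintro rfl
    apply hU
    rw [← hsup]
    simp
  have hWpos : 0 < Module.finrank k ↥W := by
    rcases Nat.eq_zero_or_pos (Module.finrank k ↥W) with h0 | h0
    · exact absurd (Submodule.finrank_eq_zero.mp h0) hW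
    · exact h0
  have h2 : Module.finrank k ↥U = Nat.card H * Module.finrank k ↥W := by
    rw [← h1, hsup]
  rw [h2]
  exact Nat.le_mul_of_pos_right _ hWpos

end Setting

end Cfsg.Agent.Lib.Helper24.FrobLine
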