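import Mathlib
import Cfsg.Agent.Lib.Helper24.FrobLine1

set_option autoImplicit false

namespace Cfsg.Agent.Lib.Helper24.FrobLine

open scoped BigOperators Pointwise
open MonoidAlgebra
open Cfsg.Agent.Lib.Helper2.FreeAssembly
open Cfsg.Agent.Lib.Helper2

universe uk uH uF uV uN

section Iso

variable {k : Type uk} [Field k] {H : Type uH} [Group H] [Finite H] {F : Type uF} [Group F]
  [Finite F] {V : Type uV} [AddCommGroup V] [Module k V] {N : Type uN} [CommGroup N] [Finite N]

theorem iso_case (p : ℕ) (hp : p.Prime) [Group.IsNilpotent F] (hH : Nat.card H = p)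
    (φ : H →* MulAut F) (hfpf : ∀ h : H, h ≠ 1 → ∀ f : F, φ h f = f → f = 1)
    (hdim : Module.finrank k V = p)
    (ρF : Representation k F V) (ρH : Representation k H V)
    (hcompat : ∀ (h : H) (f : F) (v : V), ρH h (ρF f v) = ρF (φ h f) (ρH h v))
    (hfix : ∀ v : V, (∀ f : F, ρF f v = v) → v = 0)
    (φN : H →* MulAut N) (hNk : (Nat.card N : k) ≠ 0) (ρN : Representation k N V)
    (hcompatN : ∀ (h : H) (n : N) (v : V), ρH h (ρN n v) = ρN (φN h n) (ρH h v))
    (hcomm : ∀ (f : F) (n : N) (v : V), ρF f (ρN n v) = ρN n (ρF f v)) :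
    (∀ (h : H) (n : N), ρN (φN h n) = ρN n) ∨ ∀ f g : F, ρF f * ρF g = ρF g * ρF f := by
  classical
  have hfd : FiniteDimensional k V :=
    Module.finite_of_finrank_pos (by rw [hdim]; exact hp.pos)
  let _ : MulSemiringAction H k[N] := FrobAbelian.algAction (k := k) φN
  have : NeZero (Nat.card N : k) := ⟨hNk⟩
  have := Fintype.ofFinite N
  have hact : ∀ (h : H) (n : N) (c : k), h • (single n c : k[N]) = single (φN h n) c :=
    fun h n c => FrobAbelian.algAction_single φN h n c
  have hactk : ∀ (h : H) (r : k) (x : k[N]), h • (r • x) = r • (h • x) := by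
    intro h r x
    show (MonoidAlgebra.domCongr k k (φN h)) (r • x) = r • (MonoidAlgebra.domCongr k k (φN h)) x
    exact map_smul _ _ _
  have hsm : ∀ (n : N) (c : k) (v : ρN.asModule), (single n c : k[N]) • v = c • ρN n v :=
    fun n c v => ρN.single_smul c n v
  have : IsArtinianRing k[N] := IsArtinianRing.of_finite k k[N]
  let ρH' : Representation k H ρN.asModule := ρH
  let ρF' : Representation k F ρN.asModule := ρF
  -- semilinearity of `H`
  have hsemi : ∀ (h : H) (a : k[N]) (v : ρN.asModule), ρH' h (a • v) = (h • a) • ρH' h v := by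
    intro h a v
    induction a using MonoidAlgebra.induction_on with
    | of n =>
      rw [MonoidAlgebra.of_apply, hact, hsm, hsm, one_smul, one_smul]
      exact hcompatN h n v
    | add x y hx hy =>
      rw [add_smul, map_add, hx, hy, smul_add, add_smul]
    | smul r x hx =>
      rw [smul_assoc r x v, map_smul, hx, hactk, smul_assoc r (h • x)]
  -- linearity of `F`
  have hlin : ∀ (f : F) (a : k[N]) (v : ρN.asModule), ρF' f (a • v) = a • ρF' f v := by
    intro f a v
    induction a using MonoidAlgebra.induction_on with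
    | of n =>
      rw [MonoidAlgebra.of_apply, hsm, hsm, one_smul, one_smul]
      exact hcomm f n v
    | add x y hx hy =>
      rw [add_smul, map_add, hx, hy, add_smul]
    | smul r x hx =>
      rw [smul_assoc r x v, map_smul, hx, smul_assoc r x]
  -- trivial Jacobson radical
  have hJ : ∀ a : k[N], (∀ 𝔪 : Ideal k[N], 𝔪.IsMaximal → a ∈ 𝔪) → a = 0 := by
    intro a ha
    have hj := IsSemisimpleRing.jacobson_eq_bot k[N]
    have hmem : a ∈ Ring.jacobson k[N] := by
      rw [Ring.jacobson, Module.jacobson, Submodule.mem_sInf]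
      intro m hm
      exact ha m (Ideal.isMaximal_def.mpr hm)
    rw [hj] at hmem
    simpa using hmem
  have hspan := FrobCore.tors_span (k := k) (A := k[N]) (V := ρN.asModule) hJ
  have hdim' : Module.finrank k ρN.asModule = p := hdim
  have hfd' : FiniteDimensional k ρN.asModule := hfd
  -- a maximal ideal with nonzero torsion
  have hex : ∃ 𝔪 : Ideal k[N], 𝔪.IsMaximal ∧
      FrobCore.tors (k := k) (V := ρN.asModule) 𝔪 ≠ ⊥ := by
    by_contra hcon
    push Not at hcon
    have h1 : (⊤ : Submodule k ρN.asModule) = ⊥ := by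
      rw [← hspan]
      simp only [iSup_eq_bot]
      intro 𝔪 h𝔪
      apply hcon
      simpa using h𝔪
    have h2 : Module.finrank k ρN.asModule = 0 := by
      rw [← finrank_top k ρN.asModule, h1, finrank_bot]
    rw [hdim'] at h2
    exact hp.ne_zero h2
  obtain ⟨𝔪, h𝔪, hT⟩ := hex
  have hTF : ∀ (𝔫 : Ideal k[N]) (f : F), FrobCore.tors (k := k) (V := ρN.asModule) 𝔫 ≤
      (FrobCore.tors (k := k) (V := ρN.asModule) 𝔫).comap (ρF' f) := by
    intro 𝔫 f v hv
    rw [Submodule.mem_comap, FrobCore.mem_tors]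
    intro a ha
    rw [← hlin, (FrobCore.mem_tors.mp hv) a ha, map_zero]
  have hmapT : ∀ (h : H) (𝔫 : Ideal k[N]),
      (FrobCore.tors (k := k) (V := ρN.asModule) 𝔫).map (ρH' h) =
        FrobCore.tors (k := k) (V := ρN.asModule) (h • 𝔫) :=
    fun h 𝔫 => FrobCore.map_tors ρH' hsemi h 𝔫
  by_cases hstab : ∀ h : H, h • 𝔪 = 𝔪
  · -- case (i): the ideal is `H`-stable
    have hTH : ∀ h : H, FrobCore.tors (k := k) (V := ρN.asModule) 𝔪 ≤
        (FrobCore.tors (k := k) (V := ρN.asModule) 𝔪).comap (ρH' h) := by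
      intro h v hv
      rw [Submodule.mem_comap]
      have h1 : ρH' h v ∈ (FrobCore.tors (k := k) (V := ρN.asModule) 𝔪).map (ρH' h) :=
        Submodule.mem_map_of_mem hv
      rwa [hmapT, hstab] at h1
    have hge := card_le_finrank_of_invariant φ hfpf ρF' ρH' hcompat hfix
      (FrobCore.tors (k := k) (V := ρN.asModule) 𝔪) (hTF 𝔪) hTH hT
    have htop : FrobCore.tors (k := k) (V := ρN.asModule) 𝔪 = ⊤ := by
      apply Submodule.eq_top_of_finrank_eq
      apply le_antisymm (Submodule.finrank_le _)
      rw [hdim', ← hH]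
      exact hge
    have hkill : ∀ a ∈ 𝔪, ∀ v : ρN.asModule, a • v = 0 := by
      intro a ha v
      have h1 : v ∈ FrobCore.tors (k := k) (V := ρN.asModule) 𝔪 := by
        rw [htop]; trivial
      exact FrobCore.mem_tors.mp h1 a ha
    have : 𝔪.IsMaximal := h𝔪
    let _ : Field (k[N] ⧸ 𝔪) := Ideal.Quotient.field 𝔪
    have htorsion : Module.IsTorsionBySet k[N] ρN.asModule (𝔪 : Set k[N]) := by
      intro v a
      exact hkill a.1 a.2 v
    let _ : Module (k[N] ⧸ 𝔪) ρN.asModule := htorsion.module
    have hmk : ∀ (a : k[N]) (v : ρN.asModule), (Ideal.Quotient.mk 𝔪 a) • v = a • v :=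
      fun a v => htorsion.mk_smul a v
    have htower : IsScalarTower k (k[N] ⧸ 𝔪) ρN.asModule := htorsion.isScalarTower
    have hmul := Module.finrank_mul_finrank k (k[N] ⧸ 𝔪) ρN.asModule
    rw [hdim'] at hmul
    have hdvd : Module.finrank (k[N] ⧸ 𝔪) ρN.asModule ∣ p := Dvd.intro_left _ hmul
    rcases (Nat.dvd_prime hp).mp hdvd with h1 | h1
    · -- one-dimensional over the residue field
      right
      obtain ⟨v0, hv0, hv0span⟩ := finrank_eq_one_iff'.mp h1
      have hlinL : ∀ (f : F) (l : k[N] ⧸ 𝔪) (v : ρN.asModule), ρF' f (l • v) = l • ρF' f v := by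
        intro f l v
        obtain ⟨a, rfl⟩ := Ideal.Quotient.mk_surjective l
        rw [hmk, hmk, hlin]
      intro f g
      obtain ⟨a, ha⟩ := hv0span (ρF' f v0)
      obtain ⟨b, hb⟩ := hv0span (ρF' g v0)
      apply LinearMap.ext
      intro w
      obtain ⟨c, rfl⟩ := hv0span w
      show ρF' f (ρF' g (c • v0)) = ρF' g (ρF' f (c • v0))
      rw [hlinL g, ← hb, hlinL f, hlinL f, ← ha, hlinL f, ← ha, hlinL g, hlinL g, ← hb,
        smul_comm b a]
    · -- the residue field is `k`
      left
      have hL1 : Module.finrank k (k[N] ⧸ 𝔪) = 1 := by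
        rw [h1] at hmul
        exact Nat.eq_of_mul_eq_mul_right hp.pos (by rw [hmul, one_mul])
      have hbij := (Algebra.finrank_eq_one_iff_bijective_algebraMap).mp hL1
      intro h n
      obtain ⟨c, hc⟩ := hbij.2 (Ideal.Quotient.mk 𝔪 (single n 1))
      have hn : ∀ v : ρN.asModule, ρN n v = c • v := by
        intro v
        have h2 := hsm n 1 v
        rw [one_smul] at h2
        rw [← h2, ← hmk, ← hc, algebraMap_smul]
      apply LinearMap.ext
      intro v
      have h3 := hcompatN h n (ρH h⁻¹ v)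
      rw [rep_apply_apply_inv] at h3
      rw [← h3]
      have h4 : ρN n (ρH h⁻¹ v) = c • ρH h⁻¹ v := hn _
      rw [h4, map_smul, rep_apply_apply_inv]
      exact (hn v).symm
  · -- case (ii): the orbit of the ideal has `p` elements
    push Not at hstab
    obtain ⟨h0, hh0⟩ := hstab
    right
    have hstabbot : MulAction.stabilizer H 𝔪 = ⊥ := by
      have hdvd : Nat.card (MulAction.stabilizer H 𝔪) ∣ p :=
        hH ▸ Subgroup.card_subgroup_dvd_card _
      rcases (Nat.dvd_prime hp).mp hdvd with h1 | h1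
      · exact Subgroup.card_eq_one.mp h1
      · exfalso
        have h2 : MulAction.stabilizer H 𝔪 = ⊤ :=
          (Subgroup.card_eq_iff_eq_top _).mp (h1.trans hH.symm)
        have h3 : h0 ∈ MulAction.stabilizer H 𝔪 := h2 ▸ Subgroup.mem_top _
        exact hh0 (MulAction.mem_stabilizer_iff.mp h3)
    have hinjorb : Function.Injective fun h : H => h • 𝔪 := by
      intro a b hab
      simp only at hab
      have h1 : a⁻¹ * b ∈ MulAction.stabilizer H 𝔪 := by
        rw [MulAction.mem_stabilizer_iff, mul_smul, ← hab, inv_smul_smul]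
      rw [hstabbot, Subgroup.mem_bot] at h1
      exact (inv_mul_eq_one.mp h1)
    have hmaxh : ∀ h : H, (h • 𝔪).IsMaximal := by
      intro h
      have : 𝔪.IsMaximal := h𝔪
      rw [Ideal.pointwise_smul_def]
      exact Ideal.map_isMaximal_of_equiv (MulSemiringAction.toRingAut H k[N] h)
    have hindep : iSupIndep fun h : H =>
        (FrobCore.tors (k := k) (V := ρN.asModule) 𝔪).map (ρH' h) := by
      have := Fintype.ofFinite H
      rw [iSupIndep_iff_sum_eq_zero]
      intro v hv hsum
      refine FrobCore.tors_indep (k := k) (V := ρN.asModule) (fun h : H => h • 𝔪) hmaxh hinjorb v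
        ?_ hsum
      intro h
      rw [← hmapT]
      exact hv h
    have hfr := finrank_iSup_map ρH' (FrobCore.tors (k := k) (V := ρN.asModule) 𝔪) hindep
    have hle : Module.finrank k
        ↥(⨆ h : H, (FrobCore.tors (k := k) (V := ρN.asModule) 𝔪).map (ρH' h)) ≤ p :=
      hdim' ▸ Submodule.finrank_le _
    rw [hfr, hH] at hle
    have hTpos : 0 < Module.finrank k ↥(FrobCore.tors (k := k) (V := ρN.asModule) 𝔪) := by
      rcases Nat.eq_zero_or_pos
        (Module.finrank k ↥(FrobCore.tors (k := k) (V := ρN.asModule) 𝔪)) with h1 | h1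
      · exact absurd (Submodule.finrank_eq_zero.mp h1) hT
      · exact h1
    have hT1 : Module.finrank k ↥(FrobCore.tors (k := k) (V := ρN.asModule) 𝔪) = 1 := by
      have h1 : Module.finrank k ↥(FrobCore.tors (k := k) (V := ρN.asModule) 𝔪) ≤ 1 := by
        by_contra hc
        push Not at hc
        have : p * 2 ≤ p * Module.finrank k ↥(FrobCore.tors (k := k) (V := ρN.asModule) 𝔪) :=
          Nat.mul_le_mul_left _ hc
        have hp0 := hp.pos
        omega
      omega
    have htop : ⨆ h : H, (FrobCore.tors (k := k) (V := ρN.asModule) 𝔪).map (ρH' h) = ⊤ := by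
      apply Submodule.eq_top_of_finrank_eq
      rw [hfr, hH, hT1, mul_one, hdim']
    obtain ⟨v0, hv0, hv0span⟩ := finrank_eq_one_iff'.mp hT1
    intro f g
    have hE : (⊤ : Submodule k ρN.asModule) ≤
        LinearMap.eqLocus (ρF' f * ρF' g) (ρF' g * ρF' f) := by
      rw [← htop]
      apply iSup_le
      rintro h _ ⟨w, hw, rfl⟩
      obtain ⟨c, hc⟩ := hv0span ⟨w, hw⟩
      have hwc : w = c • (v0 : ρN.asModule) := by
        have := congrArg Subtype.val hc
        simpa using this.symm
      have hx0 : ρH' h (v0 : ρN.asModule) ∈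
          FrobCore.tors (k := k) (V := ρN.asModule) (h • 𝔪) := by
        rw [← hmapT]
        exact Submodule.mem_map_of_mem v0.2
      have key : ∀ f' : F, ∃ cf : k,
          ρF' f' (ρH' h (v0 : ρN.asModule)) = cf • ρH' h (v0 : ρN.asModule) := by
        intro f'
        have h1 : ρF' f' (ρH' h (v0 : ρN.asModule)) ∈
            FrobCore.tors (k := k) (V := ρN.asModule) (h • 𝔪) := hTF _ f' hx0
        rw [← hmapT] at h1
        obtain ⟨u, hu, hu'⟩ := h1
        obtain ⟨cf, hcf⟩ := hv0span ⟨u, hu⟩
        refine ⟨cf, ?_⟩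
        have hu2 : u = cf • (v0 : ρN.asModule) := by
          have := congrArg Subtype.val hcf
          simpa using this.symm
        rw [← hu', hu2, map_smul]
      obtain ⟨cf, hcf⟩ := key f
      obtain ⟨cg, hcg⟩ := key g
      rw [LinearMap.mem_eqLocus, hwc, map_smul, map_smul, map_smul]
      congr 1
      show ρF' f (ρF' g (ρH' h (v0 : ρN.asModule))) = ρF' g (ρF' f (ρH' h (v0 : ρN.asModule)))
      rw [hcg, map_smul, hcf, map_smul, hcg, smul_comm]
    apply LinearMap.ext
    intro w
    exact hE (Submodule.mem_top (x := w))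

end Iso

end Cfsg.Agent.Lib.Helper24.FrobLine
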