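import Mathlib
import Cfsg.Agent.Lib.Helper24.FrobLine2

set_option autoImplicit false

namespace Cfsg.Agent.Lib.Helper24.FrobLine

open scoped BigOperators Pointwise
open Cfsg.Agent.Lib.Helper2.FreeAssembly
open Cfsg.Agent.Lib.Helper2

universe uk uH uF uV uN

section Main

variable {k : Type uk} [Field k] {H : Type uH} [Group H] [Finite H]

theorem center_case (p : ℕ) (hp : p.Prime) (hH : Nat.card H = p)
    {F : Type uF} [Group F] [Finite F] [Group.IsNilpotent F]
    {V : Type uV} [AddCommGroup V] [Module k V]
    (φ : H →* MulAut F) (hfpf : ∀ h : H, h ≠ 1 → ∀ f : F, φ h f = f → f = 1)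
    (hFk : (Nat.card F : k) ≠ 0) (hdim : Module.finrank k V = p)
    (ρF : Representation k F V) (ρH : Representation k H V)
    (hcompat : ∀ (h : H) (f : F) (v : V), ρH h (ρF f v) = ρF (φ h f) (ρH h v))
    (hfix : ∀ v : V, (∀ f : F, ρF f v = v) → v = 0) :
    (∀ z ∈ Subgroup.center F, ρF z = 1) ∨ ∀ f g : F, ρF f * ρF g = ρF g * ρF f := by
  classical
  have hinv : ∀ h : H, ∀ x ∈ Subgroup.center F, φ h x ∈ Subgroup.center F := by
    intro h x hx
    rw [Subgroup.mem_center_iff] at hx ⊢
    intro y
    have := congrArg (φ h) (hx ((φ h).symm y))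
    simpa using this
  let instC : CommGroup ↥(Subgroup.center F) :=
    { (inferInstance : Group ↥(Subgroup.center F)) with
      mul_comm := fun a b => Subtype.ext ((Subgroup.mem_center_iff.mp a.2 b).symm) }
  let φN : H →* MulAut ↥(Subgroup.center F) := FrobFree.restrictAut φ (Subgroup.center F) hinv
  let ρN : Representation k ↥(Subgroup.center F) V := ρF.comp (Subgroup.center F).subtype
  have hNk : (Nat.card ↥(Subgroup.center F) : k) ≠ 0 := by
    intro h0
    apply hFk
    rw [← Subgroup.card_mul_index (Subgroup.center F), Nat.cast_mul, h0, zero_mul]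
  have key := @iso_case k _ H _ _ F _ _ V _ _ ↥(Subgroup.center F) instC _ p hp _ hH φ hfpf hdim ρF ρH
    hcompat hfix φN hNk ρN
    (fun h n v => hcompat h (n : F) v)
    (fun f n v => by
      show ρF f (ρF (n : F) v) = ρF (n : F) (ρF f v)
      rw [← Module.End.mul_apply, ← Module.End.mul_apply, ← map_mul, ← map_mul,
        (Subgroup.mem_center_iff.mp n.2 f)])
  rcases key with key | key
  · left
    -- a non-identity element of `H`
    have hcardH : 1 < Nat.card H := hH ▸ hp.one_lt
    obtain ⟨h1, hh1⟩ : ∃ h : H, h ≠ 1 := by
      have : Nontrivial H := (Finite.one_lt_card_iff_nontrivial).mp hcardH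
      exact exists_ne 1
    have hfpfN : ∀ n : ↥(Subgroup.center F), φN h1 n = n → n = 1 := by
      intro n hn
      apply Subtype.ext
      apply hfpf h1 hh1
      exact congrArg Subtype.val hn
    have hinj := FrobFree.injective_inv_mul (φN h1) hfpfN
    have hsurj := Finite.injective_iff_surjective.mp hinj
    intro z hz
    obtain ⟨n, hn⟩ := hsurj ⟨z, hz⟩
    have h2 : ρN (n⁻¹ * φN h1 n) = 1 := by
      rw [map_mul, key h1 n, ← map_mul, inv_mul_cancel, map_one]
    simp only at hn
    rw [hn] at h2
    exact h2
  · exact Or.inr key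

theorem commute_aux (p : ℕ) (hp : p.Prime) (hH : Nat.card H = p) :
    ∀ (n : ℕ) (F : Type uF) [Group F] [Finite F] [Group.IsNilpotent F], Nat.card F = n →
    ∀ (φ : H →* MulAut F), (∀ h : H, h ≠ 1 → ∀ f : F, φ h f = f → f = 1) →
    (Nat.card F : k) ≠ 0 →
    ∀ (V : Type uV) [AddCommGroup V] [Module k V], Module.finrank k V = p →
    ∀ (ρF : Representation k F V) (ρH : Representation k H V),
    (∀ (h : H) (f : F) (v : V), ρH h (ρF f v) = ρF (φ h f) (ρH h v)) →
    (∀ v : V, (∀ f : F, ρF f v = v) → v = 0) →
    ∀ f g : F, ρF f * ρF g = ρF g * ρF f := by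
  intro n
  induction n using Nat.strong_induction_on with
  | _ n ih =>
    intro F _ _ _ hn φ hfpf hFk V _ _ hdim ρF ρH hcompat hfix
    rcases center_case p hp hH φ hfpf hFk hdim ρF ρH hcompat hfix with hZ | hc
    · -- the centre acts trivially: pass to the quotient
      rcases subsingleton_or_nontrivial F with hsub | hnt
      · intro f g
        rw [Subsingleton.elim f g]
      have hZne : Subgroup.center F ≠ ⊥ := Group.IsNilpotent.center_ne_bot F
      have hinv : ∀ h : H, ∀ x ∈ Subgroup.center F, φ h x ∈ Subgroup.center F := by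
        intro h x hx
        rw [Subgroup.mem_center_iff] at hx ⊢
        intro y
        have := congrArg (φ h) (hx ((φ h).symm y))
        simpa using this
      have hker : Subgroup.center F ≤ (ρF : F →* Module.End k V).ker := by
        intro z hz
        rw [MonoidHom.mem_ker]
        exact hZ z hz
      let ρQ : Representation k (F ⧸ Subgroup.center F) V :=
        QuotientGroup.lift (Subgroup.center F) (ρF : F →* Module.End k V) hker
      have hρQ : ∀ f : F, ρQ (f : F ⧸ Subgroup.center F) = ρF f := fun f => rfl
      have hcardQ : Nat.card (F ⧸ Subgroup.center F) < n := by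
        rw [← hn, ← Subgroup.index_eq_card, ← Subgroup.card_mul_index (Subgroup.center F)]
        have h1 : 1 < Nat.card ↥(Subgroup.center F) := by
          rw [Subgroup.one_lt_card_iff_ne_bot]
          exact hZne
        have h2 : 0 < (Subgroup.center F).index := Nat.pos_of_ne_zero Subgroup.index_ne_zero_of_finite
        nlinarith
      have hQk : (Nat.card (F ⧸ Subgroup.center F) : k) ≠ 0 := by
        intro h0
        apply hFk
        rw [← Subgroup.card_mul_index (Subgroup.center F), Nat.cast_mul, Subgroup.index_eq_card,
          h0, mul_zero]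
      have key := ih _ hcardQ (F ⧸ Subgroup.center F) rfl
        (FrobFree.quotientAut φ (Subgroup.center F) hinv)
        (FrobFree.quotientAut_fpf φ (Subgroup.center F) hinv hfpf) hQk V hdim ρQ ρH
        (by
          intro h f v
          induction f using QuotientGroup.induction_on with
          | H x =>
            rw [FrobFree.quotientAut_mk, hρQ, hρQ]
            exact hcompat h x v)
        (by
          intro v hv
          apply hfix
          intro f
          have := hv (f : F ⧸ Subgroup.center F)
          rwa [hρQ] at this)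
      intro f g
      have := key (f : F ⧸ Subgroup.center F) (g : F ⧸ Subgroup.center F)
      rwa [hρQ, hρQ] at this
    · exact hc

/-- **Main lemma.**  Let `H` of prime order `p` act fixed-point-freely on the finite nilpotent
group `F`, both acting compatibly on a `p`-dimensional space `V` over a field in which `|F|` is
invertible, with `C_V(F) = 0`.  Then `F` acts on `V` through a commutative group. -/
theorem commute_of_finrank_eq_prime (p : ℕ) (hp : p.Prime) (hH : Nat.card H = p)
    {F : Type uF} [Group F] [Finite F] [Group.IsNilpotent F]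
    {V : Type uV} [AddCommGroup V] [Module k V]
    (φ : H →* MulAut F) (hfpf : ∀ h : H, h ≠ 1 → ∀ f : F, φ h f = f → f = 1)
    (hFk : (Nat.card F : k) ≠ 0) (hdim : Module.finrank k V = p)
    (ρF : Representation k F V) (ρH : Representation k H V)
    (hcompat : ∀ (h : H) (f : F) (v : V), ρH h (ρF f v) = ρF (φ h f) (ρH h v))
    (hfix : ∀ v : V, (∀ f : F, ρF f v = v) → v = 0) (f g : F) :
    ρF f * ρF g = ρF g * ρF f :=
  commute_aux p hp hH _ F rfl φ hfpf hFk V hdim ρF ρH hcompat hfix f g

end Main

end Cfsg.Agent.Lib.Helper24.FrobLine
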