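import Mathlib
import Cfsg.Agent.Lib.Helper24.FrobLine3

set_option autoImplicit false

namespace Cfsg.Agent.Lib.Helper24.FrobLine

open scoped BigOperators Pointwise
open Cfsg.Agent.Lib.Helper2.FreeAssembly
open Cfsg.Agent.Lib.Helper2

universe uk uH uF uV uN

section Linear

variable {k : Type uk} [Field k] {H : Type uH} [Group H] [Finite H]

/-- Linear form without the assumption `C_V(F) = 0`: if the fixed space of `H` is at most a line,
`F` acts through a commutative group. -/
theorem commute_of_finrank_fixed_le_one (p : ℕ) (hp : p.Prime) (hH : Nat.card H = p)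
    {F : Type uF} [Group F] [Finite F] [Group.IsNilpotent F]
    {V : Type uV} [AddCommGroup V] [Module k V] [FiniteDimensional k V]
    (φ : H →* MulAut F) (hfpf : ∀ h : H, h ≠ 1 → ∀ f : F, φ h f = f → f = 1)
    (hFk : (Nat.card F : k) ≠ 0)
    (ρF : Representation k F V) (ρH : Representation k H V)
    (hcompat : ∀ (h : H) (f : F) (v : V), ρH h (ρF f v) = ρF (φ h f) (ρH h v))
    (hfixH : Module.finrank k ↥(FrobFree.fixedSub ρH ⊤) ≤ 1) (f g : F) :
    ρF f * ρF g = ρF g * ρF f := by
  classical
  have := Fintype.ofFinite F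
  have := Fintype.ofFinite H
  have hTk : (Nat.card ↥(⊤ : Subgroup F) : k) ≠ 0 := by
    rwa [Subgroup.card_top]
  set U : Submodule k V := LinearMap.ker (FrobFree.avg ρF ⊤) with hUdef
  set V0 : Submodule k V := FrobFree.fixedSub ρF ⊤ with hV0def
  have hsup : V0 ⊔ U = ⊤ := FrobFree.fixedSub_sup_ker ρF ⊤ hTk
  have hdisj : Disjoint V0 U := FrobFree.disjoint_fixedSub_ker ρF ⊤ hTk
  -- sums over `⊤` as sums over `F`
  have havg : ∀ v : V, FrobFree.avg ρF ⊤ v = (Nat.card F : k)⁻¹ • ∑ x : F, ρF x v := by
    intro v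
    rw [FrobFree.avg_apply, Subgroup.card_top]
    congr 1
    exact Fintype.sum_equiv (Subgroup.topEquiv (G := F)).toEquiv _ _ (fun x => rfl)
  have hUF : ∀ x : F, U ≤ U.comap (ρF x) := by
    intro x v hv
    rw [Submodule.mem_comap, hUdef, LinearMap.mem_ker, havg]
    rw [hUdef, LinearMap.mem_ker, havg] at hv
    have h1 : ∑ y : F, ρF y (ρF x v) = ∑ y : F, ρF y v := by
      have : ∀ y : F, ρF y (ρF x v) = ρF (y * x) v := fun y => by rw [map_mul]; rfl
      simp_rw [this]
      exact Fintype.sum_equiv (Equiv.mulRight x) _ _ (fun y => rfl)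
    rw [h1]
    exact hv
  have hUH : ∀ h : H, U ≤ U.comap (ρH h) := by
    intro h v hv
    rw [Submodule.mem_comap, hUdef, LinearMap.mem_ker, havg]
    rw [hUdef, LinearMap.mem_ker, havg] at hv
    have h1 : ∑ y : F, ρF y (ρH h v) = ρH h (∑ y : F, ρF y v) := by
      rw [map_sum]
      simp_rw [hcompat]
      exact (Fintype.sum_equiv (φ h).toEquiv _ _ (fun y => rfl)).symm
    rw [h1, ← map_smul, hv, map_zero]
  have hV0 : ∀ (x : F) (v : V), v ∈ V0 → ρF x v = v := fun x v hv => hv x (Subgroup.mem_top x)
  -- it suffices to commute on `U`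
  suffices hU : ∀ v ∈ U, ρF f (ρF g v) = ρF g (ρF f v) by
    have hE : (⊤ : Submodule k V) ≤ LinearMap.eqLocus (ρF f * ρF g) (ρF g * ρF f) := by
      rw [← hsup]
      apply sup_le
      · intro v hv
        rw [LinearMap.mem_eqLocus]
        show ρF f (ρF g v) = ρF g (ρF f v)
        rw [hV0 g v hv, hV0 f v hv, hV0 g v hv]
      · intro v hv
        rw [LinearMap.mem_eqLocus]
        exact hU v hv
    apply LinearMap.ext
    intro w
    exact hE (Submodule.mem_top (x := w))
  by_cases hUbot : U = ⊥
  · intro v hv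
    rw [hUbot, Submodule.mem_bot] at hv
    rw [hv, map_zero, map_zero, map_zero]
  -- the subrepresentations on `U`
  have hfixU : ∀ v : ↥U, (∀ x : F, ρF.subrepresentation U hUF x v = v) → v = 0 := by
    intro v hv
    have h1 : (v : V) ∈ V0 := by
      intro x _
      exact congrArg Subtype.val (hv x)
    have h2 := (Submodule.disjoint_def.mp hdisj) _ h1 v.2
    exact Subtype.ext h2
  have hcompatU : ∀ (h : H) (x : F) (v : ↥U), ρH.subrepresentation U hUH h
      (ρF.subrepresentation U hUF x v) =
        ρF.subrepresentation U hUF (φ h x) (ρH.subrepresentation U hUH h v) := by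
    intro h x v
    apply Subtype.ext
    exact hcompat h x v
  have hfree : FreeOn (ρH.subrepresentation U hUH) ⊤ :=
    FrobFree.nilpotent_free φ hfpf (ρF.subrepresentation U hUF) (ρH.subrepresentation U hUH)
      hcompatU hfixU
  obtain ⟨W, hind, hsupW⟩ := FrobFree.freeOn_of_subrepresentation ρH U hUH hfree
  have hfr := finrank_iSup_map ρH W hind
  rw [hsupW, hH] at hfr
  -- the norm map on `W`
  let T : ↥W →ₗ[k] ↥(FrobFree.fixedSub ρH ⊤) :=
    { toFun := fun w => ⟨∑ h : H, ρH h (w : V), by
        intro x _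
        rw [map_sum]
        have : ∀ h : H, ρH x (ρH h (w : V)) = ρH (x * h) (w : V) := fun h => by
          rw [map_mul]; rfl
        simp_rw [this]
        exact Fintype.sum_equiv (Equiv.mulLeft x) _ _ (fun h => rfl)⟩
      map_add' := fun a b => by
        apply Subtype.ext
        simp [Finset.sum_add_distrib]
      map_smul' := fun c a => by
        apply Subtype.ext
        simp [Finset.smul_sum] }
  have hTinj : Function.Injective T := by
    rw [← LinearMap.ker_eq_bot, LinearMap.ker_eq_bot']
    intro w hw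
    have h1 : ∑ h : H, ρH h (w : V) = 0 := congrArg Subtype.val hw
    rw [iSupIndep_iff_sum_eq_zero] at hind
    have h2 := hind (fun h => ρH h (w : V)) (fun h => Submodule.mem_map_of_mem w.2) h1 1
    simp only [map_one] at h2
    exact Subtype.ext h2
  have hWle : Module.finrank k ↥W ≤ 1 :=
    le_trans (LinearMap.finrank_le_finrank_of_injective hTinj) hfixH
  have hWne : W ≠ ⊥ := by
    rintro rfl
    apply hUbot
    rw [← hsupW]
    simp
  have hWpos : 0 < Module.finrank k ↥W := by
    rcases Nat.eq_zero_or_pos (Module.finrank k ↥W) with h0 | h0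
    · exact absurd (Submodule.finrank_eq_zero.mp h0) hWne
    · exact h0
  have hW1 : Module.finrank k ↥W = 1 := by omega
  rw [hW1, mul_one] at hfr
  have key := commute_of_finrank_eq_prime p hp hH φ hfpf hFk hfr
    (ρF.subrepresentation U hUF) (ρH.subrepresentation U hUH) hcompatU hfixU f g
  intro v hv
  have := congrArg (fun L : Module.End k ↥U => ((L ⟨v, hv⟩ : ↥U) : V)) key
  exact this

end Linear

end Cfsg.Agent.Lib.Helper24.FrobLine
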