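import Mathlib
import Cfsg.Agent.Lib.Helper24.FrobLine4

set_option autoImplicit false

namespace Cfsg.Agent.Lib.Helper24.FrobLine

open scoped BigOperators Pointwise
open Cfsg.Agent.Lib.Helper2.FreeAssembly
open Cfsg.Agent.Lib.Helper2

universe uk uH uF uV uN

section Bridge

/-- The `ZMod ℓ`-linear map attached to an automorphism of an elementary abelian group. -/
noncomputable def repOfAut (ℓ : ℕ) (W : Type uV) [CommGroup W] [Module (ZMod ℓ) (Additive W)] :
    MulAut W →* Module.End (ZMod ℓ) (Additive W) where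
  toFun α := (MulEquiv.toAdditive α : Additive W ≃+ Additive W).toAddMonoidHom.toZModLinearMap ℓ
  map_one' := by ext; rfl
  map_mul' a b := by ext; rfl

theorem repOfAut_apply (ℓ : ℕ) (W : Type uV) [CommGroup W] [Module (ZMod ℓ) (Additive W)]
    (α : MulAut W) (w : W) : repOfAut ℓ W α (Additive.ofMul w) = Additive.ofMul (α w) := rfl

variable {H : Type uH} [Group H] [Finite H] {F : Type uF} [Group F] [Finite F]

/-- Group-action form: `H` of prime order acting fixed-point-freely on the nilpotent group `F`,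
both acting compatibly on an elementary abelian `ℓ`-group `W` with `ℓ ∤ |F|`, and `H` fixing at
most `ℓ` elements of `W`.  Then the actions of any two elements of `F` commute. -/
theorem comm_of_card_fixed_le {W : Type uV} [CommGroup W] [Finite W]
    (p : ℕ) (hp : p.Prime) (hH : Nat.card H = p) [Group.IsNilpotent F] (ℓ : ℕ)
    [hℓ : Fact ℓ.Prime] (hexp : ∀ w : W, w ^ ℓ = 1) (hℓF : ¬ ℓ ∣ Nat.card F)
    (φ : H →* MulAut F) (hfpf : ∀ h : H, h ≠ 1 → ∀ f : F, φ h f = f → f = 1)
    (αF : F →* MulAut W) (αH : H →* MulAut W)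
    (hcompat : ∀ (h : H) (f : F) (w : W), αH h (αF f w) = αF (φ h f) (αH h w))
    (hfixH : Nat.card {w : W // ∀ h : H, αH h w = w} ≤ ℓ) (f g : F) (w : W) :
    αF f (αF g w) = αF g (αF f w) := by
  classical
  have hexp' : ∀ x : Additive W, ℓ • x = 0 := fun x => by
    induction x using Additive.rec with
    | ofMul v => rw [← ofMul_pow, hexp, ofMul_one]
  obtain ⟨inst⟩ : Nonempty (Module (ZMod ℓ) (Additive W)) := ⟨AddCommGroup.zmodModule hexp'⟩
  let ρF : Representation (ZMod ℓ) F (Additive W) := (repOfAut ℓ W).comp αF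
  let ρH : Representation (ZMod ℓ) H (Additive W) := (repOfAut ℓ W).comp αH
  have hρF : ∀ (x : F) (v : W), ρF x (Additive.ofMul v) = Additive.ofMul (αF x v) :=
    fun x v => rfl
  have hρH : ∀ (x : H) (v : W), ρH x (Additive.ofMul v) = Additive.ofMul (αH x v) :=
    fun x v => rfl
  have hFk : (Nat.card F : ZMod ℓ) ≠ 0 := by
    rw [Ne, ZMod.natCast_eq_zero_iff]
    exact hℓF
  have hfin : Finite (Additive W) := inferInstanceAs (Finite W)
  have hfd : FiniteDimensional (ZMod ℓ) (Additive W) := Module.Finite.of_finite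
  have hcompat' : ∀ (h : H) (x : F) (v : Additive W), ρH h (ρF x v) = ρF (φ h x) (ρH h v) := by
    intro h x v
    induction v using Additive.rec with
    | ofMul v =>
      rw [hρF, hρH, hρH, hρF, hcompat]
  have hfix : Module.finrank (ZMod ℓ) ↥(FrobFree.fixedSub ρH ⊤) ≤ 1 := by
    have h1 : Nat.card ↥(FrobFree.fixedSub ρH ⊤) ≤ Nat.card {w : W // ∀ h : H, αH h w = w} := by
      apply Nat.card_le_card_of_injective
        (fun x : ↥(FrobFree.fixedSub ρH ⊤) => (⟨Additive.toMul (x : Additive W), by
          intro h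
          have := x.2 h (Subgroup.mem_top h)
          exact congrArg Additive.toMul this⟩ : {w : W // ∀ h : H, αH h w = w}))
      intro x y hxy
      apply Subtype.ext
      have := congrArg Subtype.val hxy
      exact this
    have h2 : Nat.card ↥(FrobFree.fixedSub ρH ⊤) =
        ℓ ^ Module.finrank (ZMod ℓ) ↥(FrobFree.fixedSub ρH ⊤) := by
      rw [Module.natCard_eq_pow_finrank (K := ZMod ℓ), Nat.card_zmod]
    have h3 : ℓ ^ Module.finrank (ZMod ℓ) ↥(FrobFree.fixedSub ρH ⊤) ≤ ℓ ^ 1 := by
      rw [← h2, pow_one]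
      exact h1.trans hfixH
    exact (Nat.pow_le_pow_iff_right hℓ.out.one_lt).mp h3
  have key := commute_of_finrank_fixed_le_one p hp hH φ hfpf hFk ρF ρH hcompat' hfix f g
  have := congrArg (fun L : Module.End (ZMod ℓ) (Additive W) => L (Additive.ofMul w)) key
  exact congrArg Additive.toMul this

end Bridge

end Cfsg.Agent.Lib.Helper24.FrobLine
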