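import Mathlib
import Cfsg.Agent.Lib.Helper24.FrobLine5

set_option autoImplicit false

namespace Cfsg.Agent.Lib.Helper24.FrobLine

universe uH uF uV

variable {H : Type uH} [Group H] [Finite H] {F : Type uF} [Group F] [Finite F]

/-- Variant of `comm_of_card_fixed_le` for a `Group` with a commutativity hypothesis. -/
theorem comm_of_card_fixed_le' {W : Type uV} [Group W] [Finite W]
    (hcomm : ∀ a b : W, a * b = b * a)
    (p : ℕ) (hp : p.Prime) (hH : Nat.card H = p) [Group.IsNilpotent F] (ℓ : ℕ)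
    [hℓ : Fact ℓ.Prime] (hexp : ∀ w : W, w ^ ℓ = 1) (hℓF : ¬ ℓ ∣ Nat.card F)
    (φ : H →* MulAut F) (hfpf : ∀ h : H, h ≠ 1 → ∀ f : F, φ h f = f → f = 1)
    (αF : F →* MulAut W) (αH : H →* MulAut W)
    (hcompat : ∀ (h : H) (f : F) (w : W), αH h (αF f w) = αF (φ h f) (αH h w))
    (hfixH : Nat.card {w : W // ∀ h : H, αH h w = w} ≤ ℓ) (f g : F) (w : W) :
    αF f (αF g w) = αF g (αF f w) := by
  let _ : CommGroup W := { (inferInstance : Group W) with mul_comm := hcomm }
  exact comm_of_card_fixed_le p hp hH ℓ hexp hℓF φ hfpf αF αH hcompat hfixH f g w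

end Cfsg.Agent.Lib.Helper24.FrobLine
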