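import Mathlib
import Cfsg.Agent.Lib.Helper24.FrobLine6
import Cfsg.Agent.Lib.Helper24.ConjOn
import Cfsg.Agent.Lib.Helper24.FratSolv
import Cfsg.Agent.Lib.Helper24.Coprime
import Cfsg.Agent.S0022

set_option autoImplicit false

open scoped commutatorElement

namespace Cfsg.Agent.Lib.Helper24

open Cfsg.Agent.Lib.Helper2

/-- If `ℓ` does not divide `|M|` then `M' M^ℓ = M`. -/
theorem frat_eq_of_not_dvd {G : Type*} [Group G] (ℓ : ℕ) (M : Subgroup G) [Finite ↥M]
    (hℓ : (Nat.card ↥M).Coprime ℓ) : frat ℓ M = M := by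
  apply le_antisymm (frat_le ℓ M)
  intro x hx
  have h1 : ℓ.Coprime (orderOf x) := by
    have h2 : orderOf x ∣ Nat.card ↥M := by
      have := orderOf_dvd_natCard (⟨x, hx⟩ : ↥M)
      rwa [Subgroup.orderOf_mk] at this
    exact (hℓ.coprime_dvd_left h2).symm
  obtain ⟨m, hm⟩ := exists_pow_eq_self_of_coprime h1
  have h3 : x = (x ^ m) ^ ℓ := by
    rw [← pow_mul, mul_comm, pow_mul, hm]
  rw [h3]
  exact pow_mem_frat ℓ M (M.pow_mem hx m)

set_option maxHeartbeats 1000000 in
/-- **BG 3.7(c)-type statement.**  `K R` a Frobenius group with `|R|` prime (given by the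
fixed-point-free conjugation action of `R` on the nilpotent group `K`) acting coprimely on the
nilpotent group `M` with `C_M(R)` cyclic: then `K'` centralizes `M`. -/
theorem derived_centralizes_of_cyclic_fixed {X : Type*} [Group X] [Finite X] (K R : Subgroup X)
    (hRK : R ≤ Subgroup.normalizer (K : Set X))
    (hfrob : ∀ r ∈ R, r ≠ 1 → K ⊓ Subgroup.centralizer ({r} : Set X) = ⊥)
    (hRp : (Nat.card R).Prime) (hKnil : Group.IsNilpotent ↥K) :
    ∀ (n : ℕ) (M : Subgroup X), Nat.card M = n → Group.IsNilpotent ↥M →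
      K ≤ Subgroup.normalizer (M : Set X) → R ≤ Subgroup.normalizer (M : Set X) →
      (Nat.card K).Coprime (Nat.card M) → (Nat.card R).Coprime (Nat.card M) →
      IsCyclic ↥(M ⊓ Subgroup.centralizer (R : Set X)) →
      ⁅K, K⁆ ≤ Subgroup.centralizer (M : Set X) := by
  classical
  -- the Frobenius action
  let φ : ↥R →* MulAut ↥K := conjOn R K hRK
  have hφ : ∀ (h : ↥R) (f : ↥K), ((φ h f : ↥K) : X) = (h : X) * f * (h : X)⁻¹ := fun h f => rfl
  have hfpf : ∀ h : ↥R, h ≠ 1 → ∀ f : ↥K, φ h f = f → f = 1 := by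
    intro h hh f hf
    have h1 : (h : X) * f * (h : X)⁻¹ = f := by
      rw [← hφ, hf]
    have hh1 : (h : X) ≠ 1 := fun h0 => hh (Subtype.ext h0)
    have hmem : (f : X) ∈ K ⊓ Subgroup.centralizer {(h : X)} := by
      refine Subgroup.mem_inf.mpr ⟨f.2, Subgroup.mem_centralizer_iff.mpr ?_⟩
      intro y hy
      rw [Set.mem_singleton_iff] at hy
      subst hy
      calc (h : X) * f = (h : X) * f * (h : X)⁻¹ * h := by group
        _ = f * h := by rw [h1]
    rw [hfrob h h.2 hh1, Subgroup.mem_bot] at hmem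
    exact Subtype.ext hmem
  intro n
  induction n using Nat.strong_induction_on with
  | _ n ih =>
    intro M hn hMnil hKM hRM hcopK hcopR hcyc
    by_cases hM1 : M = ⊥
    · intro a _
      rw [Subgroup.mem_centralizer_iff]
      intro m hm
      rw [hM1] at hm
      have : m = 1 := by simpa using hm
      rw [this, one_mul, mul_one]
    have hMsolv : Group.IsSolvable ↥M := inferInstance
    obtain ⟨ℓ, hℓ, hD⟩ := exists_frat_ne_of_isSolvable M hMsolv hM1
    have hℓfact : Fact ℓ.Prime := ⟨hℓ⟩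
    have hDM : frat ℓ M ≤ M := frat_le ℓ M
    have hMD : M ≤ Subgroup.normalizer ((frat ℓ M : Subgroup X) : Set X) := le_normalizer_frat ℓ M
    have hKD : K ≤ Subgroup.normalizer ((frat ℓ M : Subgroup X) : Set X) :=
      hKM.trans (normalizer_le_normalizer_frat ℓ M)
    have hRD : R ≤ Subgroup.normalizer ((frat ℓ M : Subgroup X) : Set X) :=
      hRM.trans (normalizer_le_normalizer_frat ℓ M)
    -- `ℓ` divides `|M|`, hence not `|K|`
    have hℓM : ℓ ∣ Nat.card ↥M := by
      by_contra hnd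
      exact hD (frat_eq_of_not_dvd ℓ M ((Nat.Prime.coprime_iff_not_dvd hℓ).mpr hnd).symm)
    have hℓK : ¬ ℓ ∣ Nat.card ↥K := by
      intro h
      have := Nat.eq_one_of_dvd_coprimes hcopK h hℓM
      exact hℓ.one_lt.ne' this
    -- induction hypothesis for `D`
    have hcardD : Nat.card ↥(frat ℓ M) < n := by
      rw [← hn]
      refine lt_of_le_of_ne (Subgroup.card_le_of_le hDM) (fun h => hD ?_)
      exact Subgroup.eq_of_le_of_card_ge hDM h.ge
    have hDnil : Group.IsNilpotent ↥(frat ℓ M) :=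
      Group.nilpotent_of_mulEquiv (Subgroup.subgroupOfEquivOfLe hDM)
    have hDcyc : IsCyclic ↥(frat ℓ M ⊓ Subgroup.centralizer (R : Set X)) := by
      have hle : frat ℓ M ⊓ Subgroup.centralizer (R : Set X) ≤
          M ⊓ Subgroup.centralizer (R : Set X) := inf_le_inf_right _ hDM
      exact isCyclic_of_injective (Subgroup.inclusion hle) (Subgroup.inclusion_injective hle)
    have hKDc : ⁅K, K⁆ ≤ Subgroup.centralizer ((frat ℓ M : Subgroup X) : Set X) :=
      ih _ hcardD (frat ℓ M) rfl hDnil hKD hRD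
        (hcopK.coprime_dvd_right (Subgroup.card_dvd_of_le hDM))
        (hcopR.coprime_dvd_right (Subgroup.card_dvd_of_le hDM)) hDcyc
    -- the quotient `W = M / D`
    have hDn : ((frat ℓ M).subgroupOf M).Normal := Subgroup.normal_subgroupOf_of_le_normalizer hMD
    have hmemD : ∀ x : ↥M, x ∈ (frat ℓ M).subgroupOf M ↔ (x : X) ∈ frat ℓ M :=
      fun x => Subgroup.mem_subgroupOf
    have hcommW : ∀ a b : ↥M ⧸ (frat ℓ M).subgroupOf M, a * b = b * a := by
      intro a b
      induction a using QuotientGroup.induction_on with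
      | H x =>
        induction b using QuotientGroup.induction_on with
        | H y =>
          rw [← QuotientGroup.mk_mul, ← QuotientGroup.mk_mul, QuotientGroup.eq, hmemD]
          have : (((x * y)⁻¹ * (y * x) : ↥M) : X) = ⁅((y : X))⁻¹, ((x : X))⁻¹⁆ := by
            simp only [Subgroup.coe_mul, Subgroup.coe_inv, commutatorElement_def]
            group
          rw [this]
          exact comm_mem_frat ℓ M (M.inv_mem y.2) (M.inv_mem x.2)
    have hexp : ∀ w : ↥M ⧸ (frat ℓ M).subgroupOf M, w ^ ℓ = 1 := by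
      intro w
      induction w using QuotientGroup.induction_on with
      | H x =>
        rw [← QuotientGroup.mk_pow, QuotientGroup.eq_one_iff, hmemD, Subgroup.coe_pow]
        exact pow_mem_frat ℓ M x.2
    have hinvK : ∀ k : ↥K, ∀ x ∈ (frat ℓ M).subgroupOf M,
        conjOn K M hKM k x ∈ (frat ℓ M).subgroupOf M := by
      intro k x hx
      rw [hmemD] at hx ⊢
      rw [conjOn_apply]
      exact (Subgroup.mem_normalizer_iff.mp (hKD k.2) _).mp hx
    have hinvR : ∀ r : ↥R, ∀ x ∈ (frat ℓ M).subgroupOf M,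
        conjOn R M hRM r x ∈ (frat ℓ M).subgroupOf M := by
      intro r x hx
      rw [hmemD] at hx ⊢
      rw [conjOn_apply]
      exact (Subgroup.mem_normalizer_iff.mp (hRD r.2) _).mp hx
    obtain ⟨αF, hαF⟩ : ∃ αF : ↥K →* MulAut (↥M ⧸ (frat ℓ M).subgroupOf M),
        ∀ (f : ↥K) (x : ↥M), αF f (x : ↥M ⧸ (frat ℓ M).subgroupOf M) =
          ((conjOn K M hKM f x : ↥M) : ↥M ⧸ (frat ℓ M).subgroupOf M) :=
      ⟨FrobFree.quotientAut (conjOn K M hKM) ((frat ℓ M).subgroupOf M) hinvK, fun f x => rfl⟩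
    obtain ⟨αH, hαH⟩ : ∃ αH : ↥R →* MulAut (↥M ⧸ (frat ℓ M).subgroupOf M),
        ∀ (h : ↥R) (x : ↥M), αH h (x : ↥M ⧸ (frat ℓ M).subgroupOf M) =
          ((conjOn R M hRM h x : ↥M) : ↥M ⧸ (frat ℓ M).subgroupOf M) :=
      ⟨FrobFree.quotientAut (conjOn R M hRM) ((frat ℓ M).subgroupOf M) hinvR, fun h x => rfl⟩
    have hcompat : ∀ (h : ↥R) (f : ↥K) (w : ↥M ⧸ (frat ℓ M).subgroupOf M),
        αH h (αF f w) = αF (φ h f) (αH h w) := by
      intro h f w
      induction w using QuotientGroup.induction_on with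
      | H x =>
        rw [hαF, hαH, hαH, hαF]
        congr 1
        apply Subtype.ext
        simp only [conjOn_apply, φ]
        group
    -- the fixed points of `R` on `W`
    have hfixH : Nat.card {w : ↥M ⧸ (frat ℓ M).subgroupOf M // ∀ h : ↥R, αH h w = w} ≤ ℓ := by
      obtain ⟨g0, hg0⟩ := hcyc.exists_generator
      let m0 : ↥M := ⟨(g0 : X), (Subgroup.mem_inf.mp g0.2).1⟩
      let w0 : ↥M ⧸ (frat ℓ M).subgroupOf M := (m0 : ↥M ⧸ (frat ℓ M).subgroupOf M)
      have hmem : ∀ w : ↥M ⧸ (frat ℓ M).subgroupOf M, (∀ h : ↥R, αH h w = w) →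
          w ∈ Subgroup.zpowers w0 := by
        intro w hw
        induction w using QuotientGroup.induction_on with
        | H x =>
          have hfix : ∀ a ∈ R, a * (x : X) * a⁻¹ * (x : X)⁻¹ ∈ frat ℓ M := by
            intro a ha
            have h1 := hw ⟨a, ha⟩
            rw [hαH] at h1
            have h2 := (QuotientGroup.eq.mp h1.symm)
            rw [hmemD] at h2
            have h3 : (x : X)⁻¹ * (a * (x : X) * a⁻¹) ∈ frat ℓ M := by
              simpa [conjOn_apply] using h2
            have h4 := (Subgroup.mem_normalizer_iff.mp (hMD x.2) _).mp h3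
            have h5 : (x : X) * ((x : X)⁻¹ * (a * (x : X) * a⁻¹)) * (x : X)⁻¹ =
                a * (x : X) * a⁻¹ * (x : X)⁻¹ := by group
            rwa [h5] at h4
          obtain ⟨c, hc, hxc⟩ := Cfsg.Agent.S0022.result R M hRM hcopR (Or.inr hMsolv)
            (frat ℓ M) hDM hMD hRD (x : X) x.2 hfix
          obtain ⟨i, hi⟩ := Subgroup.mem_zpowers_iff.mp (hg0 ⟨c, hc⟩)
          refine Subgroup.mem_zpowers_iff.mpr ⟨i, ?_⟩
          have hcM : c ∈ M := (Subgroup.mem_inf.mp hc).1
          have h6 : (x : ↥M ⧸ (frat ℓ M).subgroupOf M) =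
              ((⟨c, hcM⟩ : ↥M) : ↥M ⧸ (frat ℓ M).subgroupOf M) := by
            rw [QuotientGroup.eq, hmemD]
            simpa using hxc
          have h7 : (⟨c, hcM⟩ : ↥M) = m0 ^ i := by
            apply Subtype.ext
            have := congrArg Subtype.val hi
            simpa [m0] using this.symm
          rw [h6, h7, QuotientGroup.mk_zpow]
      have h1 : Nat.card {w : ↥M ⧸ (frat ℓ M).subgroupOf M // ∀ h : ↥R, αH h w = w} ≤
          Nat.card ↥(Subgroup.zpowers w0) := by
        apply Nat.card_le_card_of_injective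
          (fun w : {w : ↥M ⧸ (frat ℓ M).subgroupOf M // ∀ h : ↥R, αH h w = w} =>
            (⟨w.1, hmem w.1 w.2⟩ : ↥(Subgroup.zpowers w0)))
        intro a b hab
        apply Subtype.ext
        have h2 := congrArg Subtype.val hab
        exact h2
      rw [Nat.card_zpowers] at h1
      exact h1.trans (Nat.le_of_dvd hℓ.pos (orderOf_dvd_of_pow_eq_one (hexp w0)))
    have hFinW : Finite (↥M ⧸ (frat ℓ M).subgroupOf M) := inferInstance
    have hFinK : Finite ↥K := inferInstance
    have hFinR : Finite ↥R := inferInstance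
    have key := @FrobLine.comm_of_card_fixed_le' ↥R _ hFinR ↥K _ hFinK
      (↥M ⧸ (frat ℓ M).subgroupOf M) _ hFinW hcommW (Nat.card ↥R) hRp rfl hKnil ℓ hℓfact hexp hℓK
      φ hfpf αF αH hcompat hfixH
    -- the kernel of the action of `K` on `W` contains `K'`
    have hT : ∀ f g : ↥K, αF ⁅f, g⁆ = 1 := by
      intro f g
      rw [map_commutatorElement, commutatorElement_eq_one_iff_commute]
      apply MulEquiv.ext
      intro w
      exact key f g w
    have hker : commutator ↥K ≤ αF.ker := by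
      rw [commutator_def, Subgroup.commutator_le]
      intro f _ g _
      exact MonoidHom.mem_ker.mpr (hT f g)
    intro a ha
    rw [Subgroup.mem_centralizer_iff]
    intro m hm
    have ha' : a ∈ (commutator ↥K).map K.subtype := by
      rw [Subgroup.map_subtype_commutator]
      exact ha
    obtain ⟨f, hfc, rfl⟩ := ha'
    have hfker : αF f = 1 := MonoidHom.mem_ker.mp (hker hfc)
    have h1 : αF f ((⟨m, hm⟩ : ↥M) : ↥M ⧸ (frat ℓ M).subgroupOf M) =
        ((⟨m, hm⟩ : ↥M) : ↥M ⧸ (frat ℓ M).subgroupOf M) := by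
      rw [hfker]; rfl
    rw [hαF] at h1
    have h2 := QuotientGroup.eq.mp h1.symm
    rw [hmemD] at h2
    have h3 : m⁻¹ * ((f : X) * m * (f : X)⁻¹) ∈ frat ℓ M := by
      simpa [conjOn_apply] using h2
    have h4 := hKDc ha
    rw [Subgroup.mem_centralizer_iff] at h4
    have h5 := h4 _ h3
    have hcop : (orderOf (K.subtype f)).Coprime (orderOf (m⁻¹ * ((f : X) * m * (f : X)⁻¹))) := by
      have ha1 : orderOf (K.subtype f) ∣ Nat.card ↥K := by
        have := orderOf_dvd_natCard f
        rwa [← Subgroup.orderOf_coe] at this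
      have ha2 : orderOf (m⁻¹ * ((f : X) * m * (f : X)⁻¹)) ∣ Nat.card ↥M := by
        have hmem2 : m⁻¹ * ((f : X) * m * (f : X)⁻¹) ∈ M := hDM h3
        have := orderOf_dvd_natCard (⟨_, hmem2⟩ : ↥M)
        rwa [Subgroup.orderOf_mk] at this
      exact (hcopK.coprime_dvd_left ha1).coprime_dvd_right ha2
    exact (commute_of_comm_commute_of_coprime (K.subtype f) m h5.symm hcop).symm

end Cfsg.Agent.Lib.Helper24
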