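import Mathlib
import Cfsg.Agent.S0023

/-!
# Invariant Sylow subgroups for coprime actions, in action form

`exists_invariant_sylow_action`: if `A` acts on `G` coprimely (with `A` or `G` solvable) then for
every prime `q` there is an `A`-invariant Sylow `q`-subgroup of `G`.  Obtained from the subgroup
form (`S0023`) inside the semidirect product.
-/

set_option autoImplicit false

namespace Cfsg.Agent.Lib.Helper24

theorem exists_invariant_sylow_action {A G : Type*} [Group A] [Finite A] [Group G] [Finite G]
    [MulDistribMulAction A G] (hcop : (Nat.card A).Coprime (Nat.card G))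
    (hsol : Group.IsSolvable A ∨ Group.IsSolvable G) (q : ℕ) [hq : Fact q.Prime] :
    ∃ P : Sylow q G, ∀ a : A, ∀ x ∈ (P : Subgroup G), a • x ∈ (P : Subgroup G) := by
  let φ : A →* MulAut G := MulDistribMulAction.toMulAut A G
  have hφ : ∀ (a : A) (x : G), φ a x = a • x := fun a x => rfl
  have hfin : Finite (G ⋊[φ] A) := Finite.of_equiv _ SemidirectProduct.equivProd.symm
  let iG : G →* G ⋊[φ] A := SemidirectProduct.inl
  let iA : A →* G ⋊[φ] A := SemidirectProduct.inr
  have hiG : Function.Injective iG := SemidirectProduct.inl_injective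
  have hiA : Function.Injective iA := SemidirectProduct.inr_injective
  have hKn : iG.range.Normal := by
    have : iG.range = (SemidirectProduct.rightHom : G ⋊[φ] A →* A).ker :=
      SemidirectProduct.range_inl_eq_ker_rightHom
    rw [this]
    infer_instance
  have hAK : iA.range ≤ Subgroup.normalizer (iG.range : Set (G ⋊[φ] A)) := by
    rw [Subgroup.normalizer_eq_top]
    exact le_top
  have hcK : Nat.card iG.range = Nat.card G :=
    Nat.card_congr (MonoidHom.ofInjective hiG).toEquiv.symm
  have hcA : Nat.card iA.range = Nat.card A :=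
    Nat.card_congr (MonoidHom.ofInjective hiA).toEquiv.symm
  have hcop' : (Nat.card iA.range).Coprime (Nat.card iG.range) := by rw [hcK, hcA]; exact hcop
  have hsol' : Group.IsSolvable iA.range ∨ Group.IsSolvable iG.range := by
    rcases hsol with h | h
    · left
      exact Group.isSolvable_of_isSolvable_injective
        (f := (MonoidHom.ofInjective hiA).symm.toMonoidHom) (MonoidHom.ofInjective hiA).symm.injective
    · right
      exact Group.isSolvable_of_isSolvable_injective
        (f := (MonoidHom.ofInjective hiG).symm.toMonoidHom) (MonoidHom.ofInjective hiG).symm.injective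
  obtain ⟨P, hP⟩ := Cfsg.Agent.S0023.result iA.range iG.range hAK hcop' hsol' q
  set P' : Subgroup (G ⋊[φ] A) := (P : Subgroup iG.range).map iG.range.subtype with hP'
  have hP'le : P' ≤ iG.range := Subgroup.map_subtype_le _
  have hcard : Nat.card (P'.comap iG) = q ^ (Nat.card G).factorization q := by
    have h1 : Nat.card ((P'.comap iG).map iG) = Nat.card (P'.comap iG) :=
      Subgroup.card_map_of_injective hiG
    rw [Subgroup.map_comap_eq_self hP'le] at h1
    rw [← h1, hP', Subgroup.card_map_of_injective iG.range.subtype_injective,
      P.card_eq_multiplicity, hcK]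
  refine ⟨Sylow.ofCard (P'.comap iG) hcard, ?_⟩
  intro a x hx
  have hx' : iG x ∈ P' := hx
  show iG (a • x) ∈ P'
  have h1 : iG (a • x) = iA a * iG x * (iA a)⁻¹ := by
    rw [← hφ, ← map_inv]
    exact SemidirectProduct.inl_aut a x
  rw [h1]
  exact (Subgroup.mem_normalizer_iff.mp (hP ⟨a, rfl⟩) (iG x)).mp hx'

end Cfsg.Agent.Lib.Helper24
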