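import Mathlib
import Cfsg.Prelude.Def_GeometricClasses
import Cfsg.Agent.Lib.Helper99.AschDefs
import Cfsg.Agent.Lib.Helper55.Oe.Defs
import Cfsg.Agent.Lib.Helper24.OeKit

/-!
helper24: ASCHOE-[P-DECND] (helper55's sheet): `omegaGL Q` does not stabilise a non-degenerate orthogonal
decomposition.  Proof: `W := ⨆ i ≠ j, D i` has dimension `n - m ≥ 3`, so contains a non-zero singular `p`
(Chevalley–Warning); for `x, w ∈ D j` with `B(w,x) ≠ 0` the Eichler element `E(p,w) ∈ Ω` maps `x` to `x + B(w,x) p`,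
which lies in no `D k`.
-/

set_option autoImplicit false

namespace Cfsg.Agent.Lib.Helper55.Oe

open Cfsg Cfsg.Geo Cfsg.Agent.Lib.Helper99.Asch Cfsg.Agent.Lib.Helper24.OeKit
open scoped MatrixGroups Matrix

variable {n : ℕ} {F : Type*} [Field F] [Fintype F]

theorem not_omegaGL_le_decompositionStabilizer {Q : (Fin n → F) → F} (hQ : IsNondegenerateQuadraticForm Q)
    (hn : 7 ≤ n) {t : ℕ} (m : ℕ) (D : Fin t → Submodule F (Fin n → F))
    (hD : IsNondegenerateMDecomposition (QuadraticMap.polar Q) m D) :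
    ¬ omegaGL Q ≤ decompositionStabilizer D := by
  classical
  intro hle
  have hB := hQ.polar_bilinear
  have ht := hD.decomp.two_le
  have hmpos := hD.decomp.pos
  let j : Fin t := ⟨0, by omega⟩
  let j' : Fin t := ⟨1, by omega⟩
  have hjj' : j' ≠ j := by
    intro h
    have := congrArg Fin.val h
    simp [j, j'] at this
  set W : Submodule F (Fin n → F) := ⨆ (i) (_ : i ≠ j), D i with hW
  have hdisj : D j ⊓ W = ⊥ := disjoint_iff.1 (hD.decomp.indep j)
  have hleW : ∀ i, i ≠ j → D i ≤ W := fun i hij => le_iSup₂_of_le i hij le_rfl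
  have hsup : D j ⊔ W = ⊤ := by
    rw [eq_top_iff, ← hD.decomp.iSup_eq_top]
    apply iSup_le
    intro i
    by_cases hij : i = j
    · rw [hij]; exact le_sup_left
    · exact le_sup_of_le_right (hleW i hij)
  have hdimW : 3 ≤ Module.finrank F W := by
    have h := Submodule.finrank_sup_add_finrank_inf_eq (D j) W
    rw [hsup, hdisj, finrank_top, Module.finrank_fin_fun, finrank_bot, hD.decomp.finrank_eq] at h
    have h2 := Submodule.finrank_mono (hleW j' hjj')
    rw [hD.decomp.finrank_eq] at h2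
    omega
  -- the left orthogonal of `D j`
  let S : Submodule F (Fin n → F) :=
    { carrier := {v | ∀ y ∈ D j, QuadraticMap.polar Q v y = 0}
      add_mem' := by
        intro a b ha hb y hy
        rw [hB.add_left, ha y hy, hb y hy, add_zero]
      zero_mem' := by
        intro y _
        have := hB.smul_left 0 0 y
        rw [zero_smul, zero_mul] at this
        exact this
      smul_mem' := by
        intro c a ha y hy
        rw [hB.smul_left, ha y hy, mul_zero] }
  have hWS : W ≤ S := by
    apply iSup₂_le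
    intro i hij v hv y hy
    exact hD.orthogonal i j hij v hv y hy
  obtain ⟨p, hpW, hp0, hQp⟩ := exists_singular_mem hQ W hdimW
  have hpS : ∀ y ∈ D j, QuadraticMap.polar Q p y = 0 := hWS hpW
  -- `x, w ∈ D j` with `B(w,x) ≠ 0`
  have hne : D j ≠ ⊥ := by
    intro h
    have := hD.decomp.finrank_eq j
    rw [h, finrank_bot] at this
    omega
  obtain ⟨x, hxj, hx0⟩ := Submodule.exists_mem_ne_zero_of_ne_bot hne
  obtain ⟨w, hwj, hwx⟩ := (hD.nondegenerate j x hxj hx0).1
  have hpw : QuadraticMap.polar Q p w = 0 := hpS w hwj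
  have hpx : QuadraticMap.polar Q p x = 0 := hpS x hxj
  obtain ⟨g, hg, hgz⟩ := exists_eichler hQ hn p w hQp hpw
  obtain ⟨σ, hσ⟩ := hle hg
  have hgx : (g : Matrix (Fin n) (Fin n) F) *ᵥ x ∈ D (σ j) := by
    rw [← hσ j]
    exact ⟨x, hxj, by simp [Matrix.toLin'_apply]⟩
  rw [hgz x, hpx, mul_zero, sub_zero, zero_smul, sub_zero] at hgx
  set c := QuadraticMap.polar Q w x with hc
  by_cases hk : σ j = j
  · rw [hk] at hgx
    have h1 : c • p ∈ D j := by
      have : c • p = (x + c • p) - x := by abel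
      rw [this]
      exact (D j).sub_mem hgx hxj
    have h2 : c • p ∈ D j ⊓ W := ⟨h1, W.smul_mem _ hpW⟩
    rw [hdisj, Submodule.mem_bot] at h2
    rcases smul_eq_zero.1 h2 with h3 | h3
    · exact hwx h3
    · exact hp0 h3
  · have h1 := hD.orthogonal (σ j) j hk _ hgx w hwj
    rw [hB.add_left, hB.smul_left, hpw, mul_zero, add_zero, QuadraticMap.polar_comm] at h1
    exact hwx h1

end Cfsg.Agent.Lib.Helper55.Oe
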