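import Mathlib
import Cfsg.Prelude.Def_GeometricClasses
import Cfsg.Agent.Lib.Helper99.AschDefs
import Cfsg.Agent.Lib.Helper55.Oe.Defs
import Cfsg.Agent.Lib.Helper24.OeKit

/-!
helper24: ASCHOE-[P-FIELD] (helper55's sheet): `omegaGL Q` does not normalise a field subalgebra `K` of degree
`r ≥ 2`.

Every Eichler element `E = E(p,w)` of `Ω` commutes with every `k ∈ K` (`E k E⁻¹ - k ∈ K` has rank at most four,
so it is not invertible, so it is zero).  The commutation relations for a hyperbolic pair `p, f` force `k` to act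
as a scalar on `p`, on `f` and on `⟨p,f⟩^⊥`, with the same scalar; so `K` consists of scalar matrices.
-/

set_option autoImplicit false

namespace Cfsg.Agent.Lib.Helper24.OePField

open Cfsg Cfsg.Geo
open scoped MatrixGroups Matrix

section abstract

variable {F V : Type*} [Field F] [AddCommGroup V] [Module F V]
variable (B : LinearMap.BilinForm F V) (Q : V → F) (k : V →ₗ[F] V)

/-- the commutation relation of `k` with the Eichler element `E(p,w)` -/
def Star (p w : V) : Prop :=
  ∀ z, (B w (k z) - Q w * B p (k z)) • p - B p (k z) • w = (B w z - Q w * B p z) • k p - B p z • k w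

variable {B Q k}

theorem key {p f : V} (hsymm : ∀ x y, B x y = B y x) (hpp : B p p = 0) (hff : B f f = 0) (hpf : B p f = 1)
    (hnd : ∀ x, (∀ y, B y x = 0) → x = 0)
    (hstar : ∀ w, B p w = 0 → Star B Q k p w)
    (w₀ : V) (hw₀ : w₀ ≠ 0) (hw₀p : B w₀ p = 0) (hw₀f : B w₀ f = 0) :
    k p = B f (k p) • p ∧ ∀ w, B w p = 0 → B w f = 0 → ∃ ν : F, k w = B p (k f) • w + ν • p := by
  have hfp : B f p = 1 := by rw [hsymm]; exact hpf
  -- Claim A
  have hA : ∀ w, B w p = 0 → B w f = 0 → w ≠ 0 → B p (k p) = 0 ∧ B w (k p) = 0 := by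
    intro w hwp hwf hw0
    have hpw : B p w = 0 := by rw [hsymm]; exact hwp
    have h := hstar w hpw p
    rw [hwp, hpp, mul_zero, sub_zero, zero_smul, zero_smul, sub_zero] at h
    have h1 := congrArg (fun x => B x f) h
    simp only [map_sub, map_smul, LinearMap.sub_apply, LinearMap.smul_apply, smul_eq_mul, hpf, hwf, mul_one,
      mul_zero, sub_zero, map_zero, LinearMap.zero_apply] at h1
    rw [h1, zero_smul, zero_sub, neg_eq_zero] at h
    rcases smul_eq_zero.1 h with h2 | h2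
    · refine ⟨h2, ?_⟩
      rw [h2, mul_zero, sub_zero] at h1
      exact h1
    · exact (hw0 h2).elim
  have hpv : B p (k p) = 0 := (hA w₀ hw₀p hw₀f hw₀).1
  have hHv : ∀ w, B w p = 0 → B w f = 0 → B w (k p) = 0 := by
    intro w hwp hwf
    by_cases hw0 : w = 0
    · rw [hw0]; simp
    · exact (hA w hwp hwf hw0).2
  have hkp : k p = B f (k p) • p := by
    have h0 : k p - B f (k p) • p = 0 := by
      apply hnd
      intro y
      have hhp : B (y - B y f • p - B y p • f) p = 0 := by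
        simp only [map_sub, map_smul, LinearMap.sub_apply, LinearMap.smul_apply, smul_eq_mul, hpp, hfp]
        ring
      have hhf : B (y - B y f • p - B y p • f) f = 0 := by
        simp only [map_sub, map_smul, LinearMap.sub_apply, LinearMap.smul_apply, smul_eq_mul, hpf, hff]
        ring
      have hhv := hHv _ hhp hhf
      simp only [map_sub, map_smul, LinearMap.sub_apply, LinearMap.smul_apply, smul_eq_mul, hpv] at hhv
      simp only [map_sub, map_smul, smul_eq_mul]
      linear_combination hhv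
    exact sub_eq_zero.1 h0
  refine ⟨hkp, ?_⟩
  intro w hwp hwf
  have hpw : B p w = 0 := by rw [hsymm]; exact hwp
  have h := hstar w hpw f
  rw [hwf, hpf, mul_one, zero_sub, one_smul] at h
  obtain ⟨c, hc⟩ : ∃ c : F, c = B f (k p) := ⟨_, rfl⟩
  rw [← hc] at hkp
  refine ⟨-(Q w * c) - (B w (k f) - Q w * B p (k f)), ?_⟩
  have h2 : k w = -(Q w) • k p - ((B w (k f) - Q w * B p (k f)) • p - B p (k f) • w) := by
    rw [h]
    abel
  rw [h2, hkp]
  module

theorem scalar_of_star {p f : V} (hsymm : ∀ x y, B x y = B y x) (hpp : B p p = 0) (hff : B f f = 0)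
    (hpf : B p f = 1) (hnd : ∀ x, (∀ y, B y x = 0) → x = 0)
    (hstar_p : ∀ w, B p w = 0 → Star B Q k p w) (hstar_f : ∀ w, B f w = 0 → Star B Q k f w)
    (w₀ : V) (hw₀ : w₀ ≠ 0) (hw₀p : B w₀ p = 0) (hw₀f : B w₀ f = 0) :
    ∀ y, k y = B f (k p) • y := by
  have hfp : B f p = 1 := by rw [hsymm]; exact hpf
  obtain ⟨hkp, hH1⟩ := key hsymm hpp hff hpf hnd hstar_p w₀ hw₀ hw₀p hw₀f
  obtain ⟨hkf, hH2⟩ := key hsymm hff hpp hfp hnd hstar_f w₀ hw₀ hw₀f hw₀p
  have hHw : ∀ w, B w p = 0 → B w f = 0 → k w = B p (k f) • w ∧ B p (k f) • w = B f (k p) • w := by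
    intro w hwp hwf
    obtain ⟨ν, h1⟩ := hH1 w hwp hwf
    obtain ⟨ν', h2⟩ := hH2 w hwf hwp
    have h3 : B p (k f) • w + ν • p = B f (k p) • w + ν' • f := h1.symm.trans h2
    have e1 := congrArg (fun x => B x f) h3
    simp only [map_add, map_smul, LinearMap.add_apply, LinearMap.smul_apply, smul_eq_mul, hwf, hpf, hff,
      mul_zero, mul_one, zero_add, add_zero] at e1
    have e2 := congrArg (fun x => B x p) h3
    simp only [map_add, map_smul, LinearMap.add_apply, LinearMap.smul_apply, smul_eq_mul, hwp, hpp, hfp,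
      mul_zero, mul_one, zero_add, add_zero] at e2
    rw [e1, zero_smul, add_zero] at h1
    rw [e1, ← e2, zero_smul, zero_smul, add_zero, add_zero] at h3
    exact ⟨h1, h3⟩
  have hlam : B p (k f) = B f (k p) := by
    have h := (hHw w₀ hw₀p hw₀f).2
    have h' : (B p (k f) - B f (k p)) • w₀ = 0 := by rw [sub_smul, h, sub_self]
    rcases smul_eq_zero.1 h' with h1 | h1
    · exact sub_eq_zero.1 h1
    · exact (hw₀ h1).elim
  intro y
  have hhp : B (y - B y f • p - B y p • f) p = 0 := by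
    simp only [map_sub, map_smul, LinearMap.sub_apply, LinearMap.smul_apply, smul_eq_mul, hpp, hfp]
    ring
  have hhf : B (y - B y f • p - B y p • f) f = 0 := by
    simp only [map_sub, map_smul, LinearMap.sub_apply, LinearMap.smul_apply, smul_eq_mul, hpf, hff]
    ring
  have h1 := (hHw _ hhp hhf).1
  rw [hlam] at h1
  have hy : y = B y f • p + B y p • f + (y - B y f • p - B y p • f) := by abel
  have h2 : k y = B y f • k p + B y p • k f + k (y - B y f • p - B y p • f) := by
    conv_lhs => rw [hy]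
    simp only [map_add, map_smul]
  rw [h2, h1, hkp, hkf, hlam]
  simp only [map_smul, smul_eq_mul, hfp, mul_one]
  module

end abstract

section matrix

variable {n : ℕ} {F : Type*} [Field F]

/-- an element of the normaliser of a field subalgebra `K` of the shape `1 + (rank ≤ 2)` commutes with `K` -/
theorem commute_of_normalizes (hn : 7 ≤ n) (K : Subalgebra F (Matrix (Fin n) (Fin n) F))
    (hinv : ∀ x ∈ K, x ≠ 0 → ∃ y ∈ K, x * y = 1) (g : GL (Fin n) F) (hg : g ∈ subalgebraNormalizer K)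
    (p w : Fin n → F) (a b : (Fin n → F) → F)
    (hgz : ∀ z, (g : Matrix (Fin n) (Fin n) F) *ᵥ z = z + a z • p - b z • w)
    (k : Matrix (Fin n) (Fin n) F) (hk : k ∈ K) :
    (g : Matrix (Fin n) (Fin n) F) * k = k * (g : Matrix (Fin n) (Fin n) F) := by
  classical
  have hg' : ∀ k' : Matrix (Fin n) (Fin n) F, k' ∈ K ↔
      (g : Matrix (Fin n) (Fin n) F) * k' * ((g⁻¹ : GL (Fin n) F) : Matrix (Fin n) (Fin n) F) ∈ K := hg
  set G : Matrix (Fin n) (Fin n) F := (g : Matrix (Fin n) (Fin n) F) with hG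
  set Gi : Matrix (Fin n) (Fin n) F := ((g⁻¹ : GL (Fin n) F) : Matrix (Fin n) (Fin n) F) with hGi
  have hGGi : G * Gi = 1 := by rw [hG, hGi, ← Units.val_mul, mul_inv_cancel, Units.val_one]
  have hGiG : Gi * G = 1 := by rw [hG, hGi, ← Units.val_mul, inv_mul_cancel, Units.val_one]
  have hM : G * k * Gi - k ∈ K := K.sub_mem ((hg' k).1 hk) hk
  by_contra hne
  have hM0 : G * k * Gi - k ≠ 0 := by
    intro h0
    apply hne
    have h1 : G * k * Gi = k := sub_eq_zero.1 h0
    calc G * k = G * k * (Gi * G) := by rw [hGiG, mul_one]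
      _ = (G * k * Gi) * G := by simp only [mul_assoc]
      _ = k * G := by rw [h1]
  obtain ⟨y, -, hy⟩ := hinv _ hM hM0
  let S : Finset (Fin n → F) := {p, w, k *ᵥ p, k *ᵥ w}
  let T : Submodule F (Fin n → F) := Submodule.span F (S : Set (Fin n → F))
  have hpT : p ∈ T := Submodule.subset_span (by simp [S])
  have hwT : w ∈ T := Submodule.subset_span (by simp [S])
  have hkpT : k *ᵥ p ∈ T := Submodule.subset_span (by simp [S])
  have hkwT : k *ᵥ w ∈ T := Submodule.subset_span (by simp [S])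
  have hT : ∀ z, (G * k * Gi - k) *ᵥ z ∈ T := by
    intro z
    have hz : z = G *ᵥ (Gi *ᵥ z) := by rw [Matrix.mulVec_mulVec, hGGi, Matrix.one_mulVec]
    have e1 : (G * k * Gi - k) *ᵥ z = G *ᵥ (k *ᵥ (Gi *ᵥ z)) - k *ᵥ (G *ᵥ (Gi *ᵥ z)) := by
      rw [← hz, Matrix.sub_mulVec, Matrix.mulVec_mulVec, Matrix.mulVec_mulVec]
    rw [e1, hgz (k *ᵥ (Gi *ᵥ z)), hgz (Gi *ᵥ z), Matrix.mulVec_sub, Matrix.mulVec_add, Matrix.mulVec_smul,
      Matrix.mulVec_smul]
    have e2 : k *ᵥ (Gi *ᵥ z) + a (k *ᵥ (Gi *ᵥ z)) • p - b (k *ᵥ (Gi *ᵥ z)) • w -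
        (k *ᵥ (Gi *ᵥ z) + a (Gi *ᵥ z) • k *ᵥ p - b (Gi *ᵥ z) • k *ᵥ w) =
        a (k *ᵥ (Gi *ᵥ z)) • p - b (k *ᵥ (Gi *ᵥ z)) • w - a (Gi *ᵥ z) • k *ᵥ p + b (Gi *ᵥ z) • k *ᵥ w := by
      abel
    rw [e2]
    exact T.add_mem (T.sub_mem (T.sub_mem (T.smul_mem _ hpT) (T.smul_mem _ hwT)) (T.smul_mem _ hkpT))
      (T.smul_mem _ hkwT)
  have htop : T = ⊤ := by
    rw [eq_top_iff]
    intro v _
    have hv : v = (G * k * Gi - k) *ᵥ (y *ᵥ v) := by rw [Matrix.mulVec_mulVec, hy, Matrix.one_mulVec]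
    rw [hv]
    exact hT _
  have hfr : Module.finrank F T ≤ 4 := (finrank_span_finset_le_card S).trans Finset.card_le_four
  rw [htop, finrank_top, Module.finrank_fin_fun] at hfr
  omega

end matrix

end Cfsg.Agent.Lib.Helper24.OePField

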