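import Mathlib
import Cfsg.Prelude.Def_GeometricClasses
import Cfsg.Agent.Lib.Helper99.AschDefs
import Cfsg.Agent.Lib.Helper55.Oe.Defs
import Cfsg.Agent.Lib.Helper24.OeKit
import Cfsg.Agent.Lib.Helper24.OePFieldKit

/-!
helper24: ASCHOE-[P-FIELD] (helper55's sheet; SECOND copy - the official provider is Lib/Helper43/OePField.lean, so this one
lives in its own namespace to avoid a name clash): `omegaGL Q` does not normalise a field subalgebra `K` of degree
`r ≥ 2` (see `OePFieldKit.lean` for the method).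
-/

set_option autoImplicit false

namespace Cfsg.Agent.Lib.Helper24.OePFieldMain

open Cfsg Cfsg.Geo Cfsg.Agent.Lib.Helper99.Asch Cfsg.Agent.Lib.Helper24.OeKit Cfsg.Agent.Lib.Helper24.OePField
open scoped MatrixGroups Matrix

variable {n : ℕ} {F : Type*} [Field F] [Fintype F]

theorem not_omegaGL_le_subalgebraNormalizer_h24 {Q : (Fin n → F) → F} (hQ : IsNondegenerateQuadraticForm Q)
    (hn : 7 ≤ n) (r : ℕ) (hr : 2 ≤ r) (K : Subalgebra F (Matrix (Fin n) (Fin n) F))
    (hK : IsFieldSubalgebra r K) : ¬ omegaGL Q ≤ subalgebraNormalizer K := by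
  classical
  intro hle
  have hD := Cfsg.Agent.Lib.Helper94.quadData_polarBilin hQ
  have hnd0 := Cfsg.Agent.Lib.Helper94.nondeg_polarBilin hQ
  set B := Cfsg.Agent.Lib.Helper94.polarBilin hQ with hBdef
  have hBapp : ∀ u v, B u v = QuadraticMap.polar Q u v := fun u v => rfl
  have hsymm : ∀ x y, B x y = B y x := fun x y => hD.symm x y
  have hnd : ∀ x, (∀ y, B y x = 0) → x = 0 := by
    intro x hx
    apply hnd0
    intro y
    rw [hsymm]
    exact hx y
  -- a hyperbolic pair
  obtain ⟨p, -, hp0, hQp⟩ := exists_singular_mem hQ ⊤ (by rw [finrank_top, Module.finrank_fin_fun]; omega)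
  obtain ⟨f, hQf, hpf'⟩ := Cfsg.Agent.Lib.Helper44.exists_hyp_partner (qf hQ) (qf_nondeg hQ) p hp0 hQp
  have hpf : B p f = 1 := hpf'
  have hQf' : Q f = 0 := hQf
  have hpp : B p p = 0 := by rw [hD.self, hQp, mul_zero]
  have hff : B f f = 0 := by rw [hD.self, hQf', mul_zero]
  -- a non-zero vector orthogonal to `p` and `f`
  obtain ⟨w₀, hw₀, hw₀p, hw₀f⟩ : ∃ w₀ : Fin n → F, w₀ ≠ 0 ∧ B w₀ p = 0 ∧ B w₀ f = 0 := by
    let φ : (Fin n → F) →ₗ[F] F × F := (B.flip p).prod (B.flip f)
    have hker : LinearMap.ker φ ≠ ⊥ := LinearMap.ker_ne_bot_of_finrank_lt (by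
      rw [Module.finrank_prod, Module.finrank_self, Module.finrank_fin_fun]; omega)
    obtain ⟨w₀, hw, hw0⟩ := Submodule.exists_mem_ne_zero_of_ne_bot hker
    have h0 : φ w₀ = 0 := LinearMap.mem_ker.1 hw
    refine ⟨w₀, hw0, ?_, ?_⟩
    · have := congrArg Prod.fst h0
      simpa [φ] using this
    · have := congrArg Prod.snd h0
      simpa [φ] using this
  -- every element of `K` is scalar
  have hscalar : ∀ k ∈ K, ∃ c : F, k = c • (1 : Matrix (Fin n) (Fin n) F) := by
    intro k hk
    have hstar : ∀ q : Fin n → F, Q q = 0 → ∀ w, B q w = 0 → Star B Q (Matrix.toLin' k) q w := by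
      intro q hQq w hqw
      obtain ⟨g, hg, hgz⟩ := exists_eichler hQ hn q w hQq hqw
      have hcomm := commute_of_normalizes hn K hK.inv g (hle hg) q w
        (fun z => QuadraticMap.polar Q w z - Q w * QuadraticMap.polar Q q z)
        (fun z => QuadraticMap.polar Q q z) hgz k hk
      intro z
      have h1 : (g : Matrix (Fin n) (Fin n) F) *ᵥ (k *ᵥ z) = k *ᵥ ((g : Matrix (Fin n) (Fin n) F) *ᵥ z) := by
        rw [Matrix.mulVec_mulVec, Matrix.mulVec_mulVec, hcomm]
      rw [hgz, hgz, Matrix.mulVec_sub, Matrix.mulVec_add, Matrix.mulVec_smul, Matrix.mulVec_smul,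
        add_sub_assoc, add_sub_assoc] at h1
      have h2 := add_left_cancel h1
      simp only [Matrix.toLin'_apply, hBapp]
      exact h2
    have hall := scalar_of_star hsymm hpp hff hpf hnd (hstar p hQp) (hstar f hQf') w₀ hw₀ hw₀p hw₀f
    refine ⟨B f (Matrix.toLin' k p), ?_⟩
    apply Matrix.toLin'.injective
    apply LinearMap.ext
    intro y
    rw [hall y]
    simp [Matrix.toLin'_apply]
  have hKle : Subalgebra.toSubmodule K ≤ Submodule.span F {(1 : Matrix (Fin n) (Fin n) F)} := by
    intro k hk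
    obtain ⟨c, hc⟩ := hscalar k hk
    rw [hc]
    exact Submodule.smul_mem _ _ (Submodule.subset_span rfl)
  have h1 := Submodule.finrank_mono hKle
  have h2 : Module.finrank F (Submodule.span F {(1 : Matrix (Fin n) (Fin n) F)}) ≤ 1 := by
    have := finrank_span_le_card (R := F) ({(1 : Matrix (Fin n) (Fin n) F)} : Set (Matrix (Fin n) (Fin n) F))
    simpa using this
  have h3 : Module.finrank F (Subalgebra.toSubmodule K) = r := by
    rw [Subalgebra.finrank_toSubmodule]
    exact hK.finrank_eq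
  omega

end Cfsg.Agent.Lib.Helper24.OePFieldMain
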