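import Mathlib
import Cfsg.Prelude.Def_GeometricClasses
import Cfsg.Agent.Lib.Helper99.AschDefs
import Cfsg.Agent.Lib.Helper55.Oe.Defs
import Cfsg.Agent.Lib.Helper24.OeKit

/-!
helper24: ASCHOE-[P-TSPAIR] (helper55's sheet): `omegaGL Q` does not stabilise a pair of complementary totally
singular subspaces.  Proof: an Eichler element `E(p,b)` with `p, b ∈ D 1` independent moves a suitable `x ∈ D 0`
to a vector with non-zero components in both `D 0` and `D 1`.
-/

set_option autoImplicit false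

namespace Cfsg.Agent.Lib.Helper55.Oe

open Cfsg Cfsg.Geo Cfsg.Agent.Lib.Helper99.Asch Cfsg.Agent.Lib.Helper24.OeKit
open scoped MatrixGroups Matrix

variable {n : ℕ} {F : Type*} [Field F] [Fintype F]

theorem not_omegaGL_le_decompositionStabilizer_pair {Q : (Fin n → F) → F}
    (hQ : IsNondegenerateQuadraticForm Q) (hn : 7 ≤ n) (m : ℕ) (D : Fin 2 → Submodule F (Fin n → F))
    (hD : IsMDecomposition m D) (hts : ∀ i, IsTotallySingularQuad Q (D i)) :
    ¬ omegaGL Q ≤ decompositionStabilizer D := by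
  classical
  intro hle
  have hB := hQ.polar_bilinear
  have hinf : D 0 ⊓ D 1 = ⊥ := by
    have := hD.indep.pairwiseDisjoint (show (0 : Fin 2) ≠ 1 by decide)
    exact disjoint_iff.1 this
  have hsup : D 0 ⊔ D 1 = ⊤ := by
    rw [← hD.iSup_eq_top]
    apply le_antisymm
    · exact sup_le (le_iSup D 0) (le_iSup D 1)
    · apply iSup_le
      intro i
      fin_cases i
      · exact le_sup_left
      · exact le_sup_right
  -- dimension count
  have hdim : n = 2 * m := by
    have h := Submodule.finrank_sup_add_finrank_inf_eq (D 0) (D 1)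
    rw [hsup, hinf, finrank_top, Module.finrank_fin_fun, finrank_bot, hD.finrank_eq, hD.finrank_eq] at h
    omega
  have hm : 2 ≤ m := by omega
  -- the polar form vanishes on `D 1`
  have hB1 : ∀ u ∈ D 1, ∀ v ∈ D 1, QuadraticMap.polar Q u v = 0 := by
    intro u hu v hv
    unfold QuadraticMap.polar
    rw [hts 1 _ ((D 1).add_mem hu hv), hts 1 u hu, hts 1 v hv]
    ring
  -- two independent vectors of `D 1`
  have hne : D 1 ≠ ⊥ := by
    intro h
    have := hD.finrank_eq 1
    rw [h, finrank_bot] at this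
    omega
  obtain ⟨p, hp1, hp0⟩ := Submodule.exists_mem_ne_zero_of_ne_bot hne
  obtain ⟨b, hb1, hbp⟩ : ∃ b ∈ D 1, b ∉ Submodule.span F {p} := by
    by_contra hcon
    push Not at hcon
    have hle' : D 1 ≤ Submodule.span F {p} := hcon
    have := Submodule.finrank_mono hle'
    rw [finrank_span_singleton hp0, hD.finrank_eq] at this
    omega
  have hQp : Q p = 0 := hts 1 p hp1
  have hQb : Q b = 0 := hts 1 b hb1
  have hpb : QuadraticMap.polar Q p b = 0 := hB1 p hp1 b hb1
  -- `x ∈ D 0` with `B(p,x) ≠ 0`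
  obtain ⟨y, hy⟩ := (hQ.nondegenerate p hp0).2
  have hytop : y ∈ D 0 ⊔ D 1 := by rw [hsup]; trivial
  obtain ⟨x, hx0, y1, hy1, hxy⟩ := Submodule.mem_sup.1 hytop
  have hpx : QuadraticMap.polar Q p x ≠ 0 := by
    intro h
    apply hy
    rw [← hxy, hB.add_right, h, hB1 p hp1 y1 hy1, add_zero]
  -- the Eichler element
  obtain ⟨g, hg, hgz⟩ := exists_eichler hQ hn p b hQp hpb
  obtain ⟨σ, hσ⟩ := hle hg
  have hgx : (g : Matrix (Fin n) (Fin n) F) *ᵥ x ∈ D (σ 0) := by
    rw [← hσ 0]
    exact ⟨x, hx0, by simp [Matrix.toLin'_apply]⟩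
  rw [hgz x, hQb, zero_mul, sub_zero] at hgx
  set c := QuadraticMap.polar Q b x with hc
  set d := QuadraticMap.polar Q p x with hd
  have hmem1 : c • p - d • b ∈ D 1 := (D 1).sub_mem ((D 1).smul_mem _ hp1) ((D 1).smul_mem _ hb1)
  rcases (show σ 0 = 0 ∨ σ 0 = 1 by
    have : ∀ i : Fin 2, i = 0 ∨ i = 1 := by decide
    exact this (σ 0)) with h0 | h1
  · -- the `D 1`-component `c p - d b` lies in `D 0 ⊓ D 1`
    rw [h0] at hgx
    have h2 : c • p - d • b ∈ D 0 := by
      have : c • p - d • b = (x + c • p - d • b) - x := by abel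
      rw [this]
      exact (D 0).sub_mem hgx hx0
    have h3 : c • p - d • b ∈ D 0 ⊓ D 1 := ⟨h2, hmem1⟩
    rw [hinf, Submodule.mem_bot] at h3
    apply hbp
    rw [Submodule.mem_span_singleton]
    refine ⟨d⁻¹ * c, ?_⟩
    have h4 : d • b = c • p := by
      rw [sub_eq_zero] at h3
      exact h3.symm
    calc (d⁻¹ * c) • p = d⁻¹ • (c • p) := by rw [mul_smul]
      _ = d⁻¹ • (d • b) := by rw [h4]
      _ = b := by rw [smul_smul, inv_mul_cancel₀ hpx, one_smul]
  · rw [h1] at hgx
    have h2 : x ∈ D 1 := by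
      have : x = (x + c • p - d • b) - (c • p - d • b) := by abel
      rw [this]
      exact (D 1).sub_mem hgx hmem1
    have h3 : x ∈ D 0 ⊓ D 1 := ⟨hx0, h2⟩
    rw [hinf, Submodule.mem_bot] at h3
    apply hpx
    rw [hd, h3]
    have := hB.smul_right 0 p 0
    rw [zero_smul, zero_mul] at this
    exact this

end Cfsg.Agent.Lib.Helper55.Oe
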