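import Mathlib
import Cfsg.Agent.Lib.Helper24.PFTenB0
import Cfsg.Agent.Lib.Helper64.PFElevenChainBZ
import Cfsg.Agent.Lib.Helper64.PFElevenStructOf
import Cfsg.Agent.Lib.Helper64.PFElevenFrameOf
import Cfsg.Agent.Lib.Helper59.PFElevenCtx34
import Cfsg.Agent.Lib.Helper1.PFElevenDEq
import Cfsg.Agent.Lib.Helper1.PFElevenXCount
import Cfsg.Agent.Lib.Helper97.PFElevenEConsMain
import Cfsg.Agent.Lib.Helper51.PFTenSubcohW

/-!
# PROJECT PF, Peterfalvi section 11: the finals in `PairHyp` form, chain-B half (helper24)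

Backup assembly of helper64's sheet (`Lib/Helper64/PF11_MODULES.md`, `PF11_MODULES2.md`):

* `struct34_of_pair`: for a pair `(M, T)` with `M` of Type III or IV the record `Struct34 M W₁ U W₂`
  (Peterfalvi (11.5)-(11.7)); non-coherence comes from (10.8) (`pf10_noncoherent`).
* `card_lt_of_pair`: `|W₂| < |W₁|` for `M` of Type III or IV (chain B of section 11 ends in the
  hypotheses of `b0`).
* `typeIII_lt`: the Type III instance.
-/

set_option autoImplicit false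

namespace Cfsg.Agent.Lib.Helper24.PF11

open Cfsg Cfsg.Agent.Lib.Helper24.PFCyc Cfsg.Agent.Lib.Helper4.PF Cfsg.Agent.Lib.Helper64.PF11

universe u

variable {G : Type u} [Group G] [Fintype G]

/-- `U ≠ 1` for the data of a pair whose first member is of Type III or IV -/
theorem U_ne_bot_of_type34 {M W₁ U W₂ : Subgroup G} (hP : IsTypePWith M W₁ U W₂)
    (h34 : IsOfTypeIII M ∨ IsOfTypeIV M) : U ≠ ⊥ := by
  have key : ∀ {A B C : Subgroup G}, IsTypePWith M A B C → B ≠ ⊥ → U ≠ ⊥ := by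
    intro A B C hP' hB hbot
    apply hB
    have hc : Nat.card U = Nat.card B := by
      have h1 := Cfsg.Agent.Lib.Helper23.card_of_isComplIn hP.U_compl
      have h2 := Cfsg.Agent.Lib.Helper23.card_of_isComplIn hP'.U_compl
      rw [h1] at h2
      exact Nat.eq_of_mul_eq_mul_left Nat.card_pos h2
    rw [← Subgroup.card_eq_one, ← hc, hbot]
    exact Subgroup.card_bot
  rcases h34 with h | h
  · obtain ⟨A, B, C, hP', hB, -⟩ := h
    exact key hP' hB
  · obtain ⟨A, B, C, hP', hB, -⟩ := h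
    exact key hP' hB

/-- `|W₁|` is a prime for the data of a pair whose first member is of Type III or IV -/
theorem prime_W₁_of_type34 {M W₁ U W₂ : Subgroup G} (hP : IsTypePWith M W₁ U W₂)
    (h34 : IsOfTypeIII M ∨ IsOfTypeIV M) : (Nat.card W₁).Prime := by
  rcases h34 with h | h
  · obtain ⟨A, B, C, hP', -, hpr, -⟩ := h
    rw [card_W₁_eq hP hP']
    exact hpr
  · obtain ⟨A, B, C, hP', -, hpr, -⟩ := h
    rw [card_W₁_eq hP hP']
    exact hpr

/-- **Peterfalvi (11.5)-(11.7)** in `PairHyp` form. -/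
theorem struct34_of_pair (hG : IsMinSimpleOddOrder G) (bg : BookBGData G) (pf8 : BookPF8Data G)
    {M T W₁ W₂ U V : Subgroup G} (ph : PairHyp M T W₁ W₂ U V)
    (h34 : IsOfTypeIII M ∨ IsOfTypeIV M) : Struct34 M W₁ U W₂ := by
  classical
  haveI : Fintype M := Fintype.ofFinite _
  have hM : IsOfTypeIII M ∨ IsOfTypeIV M ∨ IsOfTypeV M :=
    h34.elim Or.inl (fun h => Or.inr (Or.inl h))
  have hP := ph.hSP
  have hoddG : Odd (Nat.card G) := hG.1
  have hsol : Group.IsSolvable ↥M := hG.2.2.2 M ph.hS.1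
  have hp : (Nat.card W₂).Prime := prime_card_of_typeII ph.hTP (typeII_of_pair hG ph hM)
  have hq : (Nat.card W₁).Prime := prime_W₁_of_type34 hP h34
  have hU : U ≠ ⊥ := U_ne_bot_of_type34 hP h34
  have hA := litA_eq_of_typeIIItoV hP hM
  have hD := (pf8.dade M ph.hS (litA0 M) (Or.inr (Or.inr rfl))).2
  obtain ⟨mu, dl, η, ζ, d, δ, n, F, -, -⟩ := exists_frame hP hoddG hsol hq hp hA hD
  obtain ⟨R, hS, -, -⟩ := Cfsg.Agent.Lib.Helper51.PF10.subcoherent_of_frame F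
  exact struct34_of hP hU hq hp hoddG (Cfsg.Agent.Lib.Helper64.PF11.tauM M) R hS
    (pf10_noncoherent hG bg pf8 ph hM)

/-- **Chain B of section 11**: `|W₂| < |W₁|` for a pair whose first member is of Type III or IV. -/
theorem card_lt_of_pair (hG : IsMinSimpleOddOrder G) (bg : BookBGData G) (pf8 : BookPF8Data G)
    {M T W₁ W₂ U V : Subgroup G} (ph : PairHyp M T W₁ W₂ U V)
    (h34 : IsOfTypeIII M ∨ IsOfTypeIV M) : Nat.card W₂ < Nat.card W₁ := by
  classical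
  haveI : Fintype M := Fintype.ofFinite _
  have hM : IsOfTypeIII M ∨ IsOfTypeIV M ∨ IsOfTypeV M :=
    h34.elim Or.inl (fun h => Or.inr (Or.inl h))
  have S := struct34_of_pair hG bg pf8 ph h34
  have hP := ph.hSP
  have hoddG : Odd (Nat.card G) := hG.1
  have hsol : Group.IsSolvable ↥M := hG.2.2.2 M ph.hS.1
  have hp : (Nat.card W₂).Prime := S.hp
  have hq : (Nat.card W₁).Prime := S.hq
  have hne : Nat.card W₂ ≠ Nat.card W₁ := card_W_ne hP S.hU hq hp hoddG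
  by_contra hnot
  have hlt : Nat.card W₁ < Nat.card W₂ := by omega
  have hA := litA_eq_of_typeIIItoV hP hM
  have hD := (pf8.dade M ph.hS (litA0 M) (Or.inr (Or.inr rfl))).2
  obtain ⟨mu, dl, η, ζ₀, d, δ, n, F, -, -⟩ := exists_frame hP hoddG hsol hq hp hA hD
  obtain ⟨c, hC, -, hchief⟩ := Cfsg.Agent.Lib.Helper59.PF11.ctx34_of S
  obtain ⟨hd1, hd2⟩ := Cfsg.Agent.Lib.Helper1.PF11D.d_eq F S c hC hchief
  obtain ⟨X, hX, hXc⟩ := Cfsg.Agent.Lib.Helper1.PF11X.exists_X F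
  have hcard : d ≤ Nat.card W₁ * X.card + 1 := by
    rw [hd1, ← hd2]; exact hXc
  have hq2 : 2 ≤ Nat.card W₁ := hq.two_le
  have hdq := F.hdq
  have hdpos : 0 < d := by omega
  obtain ⟨ψ₀, hψ₀, hψ₀1⟩ := exists_psi hP.selfNormalizing hp
  have hexE : ∀ τ₁ : (↥M → ℂ) → (G → ℂ), IsLinearIsometryOn (zspan (Zd M W₁ d)) τ₁ →
      (∀ α ∈ zspanOn (Zd M W₁ d) ({1}ᶜ : Set ↥M), τ₁ α = Cfsg.Agent.Lib.Helper64.PF11.tauM M α) →
      (∀ ψ : WChar W₁ W₂, TrivOn W₁ ψ → ψ ≠ 1 → τ₁ (muSum mu ψ) = δ • etaSum η ψ) →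
      ∃ E : G → ℂ, IsGeneralizedCharacter G E ∧
        (∀ ξ ∈ Zd M W₁ d,
          Cfsg.Agent.Lib.Helper64.PF11.tauM M
              (((d * (fun _ : ↥M → ℂ => 1) ξ : ℕ) : ℂ) • muSum mu 1 - ξ) =
            (((fun _ : ↥M → ℂ => 1) ξ : ℕ) : ℂ) • E - τ₁ ξ) ∧
        classInner E (fun _ => 1) = (d : ℂ) ∧
        (∀ w : ↥(W₁ ⊔ W₂), (w : G) ∉ W₁ → (w : G) ∉ W₂ → E (w : G) = 0) ∧
        (∀ σ : ℂ ≃+* ℂ, (fun x => σ (E x)) = E) := by
    intro τ₁ hτ₁ hext hτ₁μ
    exact Cfsg.Agent.Lib.Helper97.PF11.exists_E F (Zd M W₁ d) (Zd_sub M W₁ d) (muSum_mem_Zd F)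
      τ₁ hτ₁ hext hτ₁μ d hdpos (fun _ => 1) (fun ξ hξ => by rw [hξ.2, mul_one])
      (muSum mu ψ₀) (muSum_mem_Zd F ψ₀ hψ₀ hψ₀1) rfl
  obtain ⟨ζ, χ, hz, hz1, hχ, hn, ho, hb, hr⟩ := chainB_final F hlt hexE X hX hcard
  -- `ζ` is irreducible: it is not a `μ`-sum, by degrees
  have hzi : IsIrrCharacter ↥M ζ := by
    rcases F.calS_cases ζ hz with h | ⟨ψ, hψ, hψ1, rfl⟩
    · exact h.1
    · exfalso
      have h1 := (muSum_mem_Zd F ψ hψ hψ1).2
      rw [hz1] at h1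
      have h2 : Nat.card W₁ = Nat.card W₁ * d := by exact_mod_cast h1
      have h3 : d = 1 := by
        have : Nat.card W₁ * 1 = Nat.card W₁ * d := by rw [mul_one]; exact h2
        exact (Nat.eq_of_mul_eq_mul_left (by omega) this).symm
      omega
  exact b0 hG bg pf8 ph hM F.md η F.hη d F.deg_psi ζ hz hzi hz1 χ hχ hn ho hb hr

/-- `|W₂| < |W₁|` for `M` of Type III (Peterfalvi (11.9), first half). -/
theorem typeIII_lt (hG : IsMinSimpleOddOrder G) (bg : BookBGData G) (pf8 : BookPF8Data G)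
    {M T W₁ W₂ U V : Subgroup G} (ph : PairHyp M T W₁ W₂ U V) (hIII : IsOfTypeIII M) :
    Nat.card W₂ < Nat.card W₁ :=
  card_lt_of_pair hG bg pf8 ph (Or.inl hIII)

end Cfsg.Agent.Lib.Helper24.PF11
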