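import Mathlib
import Cfsg.Agent.Lib.Helper24.PFTenGlobal

/-!
# Every maximal subgroup of Type III, IV, V is the first member of a pair (helper24)

`exists_pairHyp_of_coatom`: for a maximal subgroup `M` of Type III, IV or V of a minimal simple group of
odd order there are `T W₁ W₂ U V` with `PairHyp M T W₁ W₂ U V` (the pair of `bg.pair`, conjugated, and
swapped if necessary).  This is the plumbing inside `pf10_noncoherent_coatom`, factored out.
-/

set_option autoImplicit false

namespace Cfsg.Agent.Lib.Helper24.PFCyc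

open Cfsg Cfsg.Agent.Lib.Helper4.PF Cfsg.Agent.Lib.Helper54.TypePTransport
  Cfsg.Agent.Lib.Helper95.TypeConj

universe u

variable {G : Type u} [Group G] [Fintype G]

/-- a maximal subgroup of Type III, IV or V is the first member of a pair -/
theorem exists_pairHyp_of_coatom (hG : IsMinSimpleOddOrder G) (bg : BookBGData G)
    (M : Subgroup G) (hM : IsCoatom M)
    (h : IsOfTypeIII M ∨ IsOfTypeIV M ∨ IsOfTypeV M) :
    ∃ T W₁ W₂ U V : Subgroup G, PairHyp M T W₁ W₂ U V := by
  have hP : IsOfTypeP M := by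
    rcases h with ⟨A, B, C, hP, -⟩ | ⟨A, B, C, hP, -⟩ | ⟨A, B, C, hP, -⟩
    all_goals exact ⟨A, B, C, hP⟩
  have hnI : ¬ LitTypeI M := fun hL =>
    Cfsg.Agent.Lib.Helper59.PFBridge.not_isOfTypeP_of_isOfTypeF M hL.1 hP
  rcases bg.pair with hall | ⟨W₁, W₂, S, T, hW, hS, hT, hSc, hTc, hST, hII, hS25, hT25, hconj⟩
  · exact absurd (hall M hM) hnI
  · rcases hconj M hM with hI | ⟨g, hg | hg⟩
    · exact absurd hI hnI
    · obtain ⟨U, V, ph⟩ := exists_pairHyp_map (MulAut.conj g) hW hS hT hSc hTc hST hII hS25 hT25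
      have hg' : S.map (MulAut.conj g).toMonoidHom = M := hg.symm
      rw [hg'] at ph
      exact ⟨_, _, _, _, _, ph⟩
    · obtain ⟨U, V, ph⟩ := exists_pairHyp_map (MulAut.conj g) hW hS hT hSc hTc hST hII hS25 hT25
      have hg' : T.map (MulAut.conj g).toMonoidHom = M := hg.symm
      rw [hg'] at ph
      exact ⟨_, _, _, _, _, ph.symm⟩

end Cfsg.Agent.Lib.Helper24.PFCyc
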