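import Mathlib
import Cfsg.Agent.Lib.Helper24.PFTenPair
import Cfsg.Agent.Lib.Helper46.PFTenVCubeV
import Cfsg.Agent.Lib.Helper46.PFTenVCS
import Cfsg.Agent.Lib.Helper31.PFCubeDefs

/-!
# Peterfalvi (10.10), residual case (c*): the head of the argument (helper24, for helper31)

From the hypotheses of `NoResidualCube` (`TypeVFacts M W₁ W₂`, `|H| = p³`, `2q = p + 1`) we produce a
partner `T` with `PairHyp M T W₁' W₂' U' V'` **and** a `CubeCtx` for the type-P data `(W₁', U', W₂')` of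
that pair, so that the whole argument can be run with the pair's data and end in `b0`.
-/

set_option autoImplicit false

namespace Cfsg.Agent.Lib.Helper24.PFCyc

open Cfsg Cfsg.Agent.Lib.Helper4.PF Cfsg.Agent.Lib.Helper46.PF10V Cfsg.Agent.Lib.Helper31.PFCube

universe u

variable {G : Type u} [Group G] [Fintype G]

/-- the numerical facts of (c*) do not depend on the type-P data -/
theorem cube_transport {M W₁ W₂ W₁' U' W₂' : Subgroup G} (hF : TypeVFacts M W₁ W₂)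
    (hc3 : Nat.card (fittingHallOf M) = Nat.card W₂ ^ 3)
    (h2q : 2 * Nat.card W₁ = Nat.card W₂ + 1)
    (hP' : IsTypePWith M W₁' U' W₂') (hp' : (Nat.card W₂').Prime) :
    Nat.card W₁' = Nat.card W₁ ∧ Nat.card W₂' = Nat.card W₂ ∧
      Nat.card ↥(⁅M, M⁆ : Subgroup G) = Nat.card W₂' ^ 3 ∧
      2 * Nat.card W₁' = Nat.card W₂' + 1 := by
  have h1 : Nat.card W₁' = Nat.card W₁ := card_W₁_eq hP' hF.hP
  have h2 : Nat.card W₂' = Nat.card W₂ := by
    have hle : W₂' ≤ fittingHallOf M := hP'.W₂_le.trans inf_le_left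
    have hdvd : Nat.card W₂' ∣ Nat.card W₂ ^ 3 := by
      rw [← hc3]
      exact Subgroup.card_dvd_of_le hle
    exact (Nat.prime_dvd_prime_iff_eq hp' hF.hp).mp (hp'.dvd_of_dvd_pow hdvd)
  refine ⟨h1, h2, ?_, ?_⟩
  · rw [h2, ← hc3, hF.hHK]
  · rw [h1, h2]
    exact h2q

/-- **Head of (c*).** -/
theorem exists_cube_pair (hG : IsMinSimpleOddOrder G) (bg : BookBGData G) (pf8 : BookPF8Data G)
    {M W₁ W₂ : Subgroup G} [Fintype M] (hM : IsCoatom M) (hF : TypeVFacts M W₁ W₂)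
    (hc3 : Nat.card (fittingHallOf M) = Nat.card W₂ ^ 3)
    (h2q : 2 * Nat.card W₁ = Nat.card W₂ + 1) :
    IsOfTypeV M ∧ ∃ (T W₁' W₂' U' V' : Subgroup G), PairHyp M T W₁' W₂' U' V' ∧
      ∃ (mu : WChar W₁' W₂' → (↥M → ℂ)) (dl : WChar W₁' W₂' → ℂ)
        (η : WChar W₁' W₂' → (G → ℂ)) (ζ : ↥M → ℂ), CubeCtx M W₁' U' W₂' mu dl η ζ := by
  have hV : IsOfTypeV M := isOfTypeV_of_cube hF hc3 h2q
  have hT : IsOfTypeIII M ∨ IsOfTypeIV M ∨ IsOfTypeV M := Or.inr (Or.inr hV)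
  refine ⟨hV, ?_⟩
  obtain ⟨T, W₁', W₂', U', V', ph⟩ := exists_pairHyp_of_coatom hG bg M hM hT
  refine ⟨T, W₁', W₂', U', V', ph, ?_⟩
  obtain ⟨mu, dl, η, ζ, h0, hf⟩ := exists_mctx0_of_typeIIItoV hG bg pf8 hM ph.hSP hT
  obtain ⟨-, -, h3, h4⟩ := cube_transport hF hc3 h2q ph.hSP h0.hp
  exact ⟨mu, dl, η, ζ, ⟨h0, hf, h3, h4⟩⟩

end Cfsg.Agent.Lib.Helper24.PFCyc
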