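import Mathlib
import Cfsg.Agent.Lib.Helper24.PFTenFinal
import Cfsg.Agent.Lib.Helper46.PFTenVFinal
import Cfsg.Agent.Lib.Helper31.PFCubeFinal

/-!
# Peterfalvi (10.10): no maximal subgroup of Type V — from `IsMinSimpleOddOrder G` alone (helper24)

Glue of helper46's `no_typeV_of_cube` ((10.9)/(10.10) + Sibley, helper22), helper31's `noResidualCube`
(residual case (c*)) and (10.8) (`pf10_noncoherent_coatom`), with the book records discharged by
`bookBGData` / `bookPF8Data`.
-/

set_option autoImplicit false

namespace Cfsg.Agent.Lib.Helper24.PFCyc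

open Cfsg Cfsg.Agent.Lib.Helper4.PF

universe u

variable {G : Type u} [Group G] [Fintype G]

/-- (10.10) with the book records as hypotheses -/
theorem no_typeV_book (hG : IsMinSimpleOddOrder G) (bg : BookBGData G) (pf8 : BookPF8Data G) :
    ∀ M : Subgroup G, IsCoatom M → ¬ IsOfTypeV M :=
  Cfsg.Agent.Lib.Helper46.PF10V.no_typeV_of_cube hG bg pf8
    (Cfsg.Agent.Lib.Helper31.PFCube.noResidualCube hG bg pf8
      (fun M _ hM h => pf10_noncoherent_coatom hG bg pf8 M hM h))

/-- **Peterfalvi (10.10)**: a minimal simple group of odd order has no maximal subgroup of Type V. -/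
theorem pf10_10 (hG : IsMinSimpleOddOrder G) : ∀ M : Subgroup G, IsCoatom M → ¬ IsOfTypeV M :=
  no_typeV_book hG (Cfsg.Agent.Lib.Helper24.BGBook.bookBGData hG) (bookPF8Data hG)

end Cfsg.Agent.Lib.Helper24.PFCyc
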