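import Mathlib
import Cfsg.Prelude.Def_Local
import Cfsg.Prelude.Def_Transfer
import Cfsg.Agent.Lib.Helper41.PGV.Defs
import Cfsg.Agent.Lib.Helper41.PGV.Defs2

/-!
# Project PGV (S3086), RED sheet part 2, leaf **[G0-GEN]** (helper24), `_of` form

`g0_gen_of`: the conclusion of the sheet's `g0_gen`, from `a ∈ A` and the first half of `red_3_cor` (`A = B ∪ aB`) as a hypothesis.
The exact `g0_gen` is the one-line wrapper `Cfsg.Agent.Lib.Helper24.Pgv.g0_gen_of h.mem (red_3_cor hp h).1` (file `PgvG0GenExact.lean`, once `red_3_cor` is on main).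
-/

set_option autoImplicit false

universe v

namespace Cfsg.Agent.Lib.Helper24.Pgv

open Cfsg Cfsg.Agent.Lib.Helper41.PGV

variable {G : Type v} [Group G] {A K1 : Subgroup G} {a : G}

/-- **[G0-GEN]**, `_of` form: `G0 = ⟨K1, K1^a, A⟩` contains `K1`, `K1^a`, `A`, and it is `⟨K1, K1^a, B, a⟩` when `A = B ∪ aB`. -/
theorem g0_gen_of (ha : a ∈ A) (hcor : ∀ b ∈ A, b ∈ NA A K1 ∨ a * b ∈ NA A K1) :
    K1 ≤ G0 A K1 a ∧ cj K1 a ≤ G0 A K1 a ∧ A ≤ G0 A K1 a ∧
      G0 A K1 a = K1 ⊔ cj K1 a ⊔ NA A K1 ⊔ Subgroup.zpowers a := by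
  refine ⟨le_sup_of_le_left le_sup_left, le_sup_of_le_left le_sup_right, le_sup_right, ?_⟩
  have hNA : NA A K1 ≤ A := inf_le_left
  have hza : Subgroup.zpowers a ≤ A := by
    rw [Subgroup.zpowers_le]; exact ha
  apply le_antisymm
  · refine sup_le (le_sup_of_le_left le_sup_left) ?_
    intro b hb
    have hBle : NA A K1 ≤ K1 ⊔ cj K1 a ⊔ NA A K1 ⊔ Subgroup.zpowers a := le_sup_of_le_left le_sup_right
    have hale : a ∈ K1 ⊔ cj K1 a ⊔ NA A K1 ⊔ Subgroup.zpowers a :=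
      (le_sup_right : Subgroup.zpowers a ≤ _) (Subgroup.mem_zpowers a)
    rcases hcor b hb with h1 | h1
    · exact hBle h1
    · have : b = a⁻¹ * (a * b) := by group
      rw [this]
      exact Subgroup.mul_mem _ (Subgroup.inv_mem _ hale) (hBle h1)
  · exact sup_le (sup_le le_sup_left (le_sup_of_le_right hNA)) (le_sup_of_le_right hza)

end Cfsg.Agent.Lib.Helper24.Pgv
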