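import Mathlib
import Cfsg.Prelude.Def_Local
import Cfsg.Prelude.Def_Transfer
import Cfsg.Agent.Lib.Helper41.PGV.Defs
import Cfsg.Agent.Lib.Helper41.PGV.Defs2

/-!
# Project PGV (S3086), RED sheet part 2, leaf **[HD-SEC]** (helper24): `mul_eq_zero_section`, exact sheet statement

An operator identity `(ρ g - 1) * (ρ g' - 1) = 0` on `V` passes to every section `V' / V''`.
-/

set_option autoImplicit false

universe v

namespace Cfsg.Agent.Lib.Helper41.PGV

open Cfsg

variable {p : ℕ} [Fact p.Prime] {G V : Type v} [Group G] [Finite G] [AddCommGroup V] [Finite V] [Module (ZMod p) V]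
  {ρ : Representation (ZMod p) G V} {A K1 : Subgroup G} {a : G}

/-- **[HD-SEC]** an operator identity `(ρ g - 1) * (ρ g' - 1) = 0` on `V` passes to every section. -/
theorem mul_eq_zero_section (H : Subgroup G) (V' V'' : Submodule (ZMod p) V) (h' : Inv ρ H V') (h'' : Inv ρ H V'') (g g' : H)
    (hz : (ρ g.1 - 1) * (ρ g'.1 - 1) = 0) :
    (secRep ρ H V' V'' h' h'' g - 1) * (secRep ρ H V' V'' h' h'' g' - 1) = 0 := by
  apply LinearMap.ext
  intro w
  obtain ⟨v, rfl⟩ := Submodule.Quotient.mk_surjective _ w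
  have key : ρ g.1 (ρ g'.1 v.1) - ρ g.1 v.1 - (ρ g'.1 v.1 - v.1) = 0 := by
    have := LinearMap.congr_fun hz v.1
    simp only [Module.End.mul_apply, LinearMap.sub_apply, Module.End.one_apply, map_sub, LinearMap.zero_apply] at this
    rw [← this]
    abel
  have e1 : (secRep ρ H V' V'' h' h'' g' - 1) (Submodule.Quotient.mk v) =
      Submodule.Quotient.mk ((⟨ρ g'.1 v.1, h' g'.1 g'.2 v.1 v.2⟩ : V') - v) := by
    rw [LinearMap.sub_apply, secRep_mk, Module.End.one_apply, Submodule.Quotient.mk_sub]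
  rw [Module.End.mul_apply, e1, LinearMap.sub_apply, secRep_mk, Module.End.one_apply, ← Submodule.Quotient.mk_sub,
    LinearMap.zero_apply]
  have : ((⟨ρ g.1 ((⟨ρ g'.1 v.1, h' g'.1 g'.2 v.1 v.2⟩ : V') - v).1,
      h' g.1 g.2 _ ((⟨ρ g'.1 v.1, h' g'.1 g'.2 v.1 v.2⟩ : V') - v).2⟩ : V') -
      ((⟨ρ g'.1 v.1, h' g'.1 g'.2 v.1 v.2⟩ : V') - v)) = 0 := by
    apply Subtype.ext
    simp only [Submodule.coe_sub, map_sub, Submodule.coe_zero]
    exact key
  rw [this, Submodule.Quotient.mk_zero]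

end Cfsg.Agent.Lib.Helper41.PGV
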