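import Mathlib
import Cfsg.Prelude.Def_Local
import Cfsg.Prelude.Def_Transfer
import Cfsg.Agent.Lib.Helper41.PGV.Defs
import Cfsg.Agent.Lib.Helper41.PGV.Defs2

/-!
# Project PGV (S3086), RED sheet part 2, leaf **[OFF]** (helper24), `_of` form

`off_section_of`: the conclusion of the sheet's `off_section`, with the instance of `sec_ineq` (`X = A`, `H = G0`) and the second half of `red_3_cor`
(`|A| = 2 |B|`) as hypotheses.  The exact `off_section` is the wrapper
`Cfsg.Agent.Lib.Helper24.Pgv.off_section_of h (red_3_cor hp h).2 V' V'' h' h'' (sec_ineq (G0 A K1 a) A le_sup_right V' V'' h' h'' hle)` (file `PgvOffExact.lean`, once both are on main).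
-/

set_option autoImplicit false

universe v

namespace Cfsg.Agent.Lib.Helper24.Pgv

open Cfsg Cfsg.Agent.Lib.Helper41.PGV

variable {p : ℕ} [Fact p.Prime] {G V : Type v} [Group G] [Finite G] [AddCommGroup V] [Finite V] [Module (ZMod p) V]
  {ρ : Representation (ZMod p) G V} {A K1 : Subgroup G} {a : G}

omit [Finite G] [Finite V] in
/-- `C_V(1) = V` -/
theorem fix_bot_eq_top (ρ : Representation (ZMod p) G V) : fix ρ (((⊥ : Subgroup G) : Subgroup G) : Set G) = ⊤ := by
  apply top_unique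
  intro v _ x hx
  have hx1 : x = 1 := by simpa using hx
  rw [hx1, map_one, Module.End.one_apply]

omit [Finite G] in
/-- a best offender satisfies `|V| ≤ |A| |C_V(A)|` -/
theorem card_le_of_bestOffender (hoff : BestOffender ρ A) : Nat.card V ≤ Nat.card A * Nat.card (fix ρ (A : Set G)) := by
  have h1 := hoff ⊥ bot_le
  unfold jj at h1
  rw [fix_bot_eq_top, Subgroup.card_bot, one_mul] at h1
  have h2 : Nat.card (⊤ : Submodule (ZMod p) V) = Nat.card V := Nat.card_congr (Equiv.Set.univ V)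
  rw [h2] at h1
  exact h1

/-- **[OFF]**, `_of` form: `|W : C_W(A)| ≤ |V : C_V(A)| ≤ |A| = 2 |B|`. -/
theorem off_section_of (h : CE ρ A K1 a) (hcard : Nat.card A = 2 * Nat.card (NA A K1))
    (V' V'' : Submodule (ZMod p) V) (h' : Inv ρ (G0 A K1 a) V') (h'' : Inv ρ (G0 A K1 a) V'')
    (hsec : Nat.card (Sec V' V'') * Nat.card (fix ρ (A : Set G)) ≤
      Nat.card V * Nat.card (fix (secRep ρ (G0 A K1 a) V' V'' h' h'')
        ((A.subgroupOf (G0 A K1 a) : Subgroup (G0 A K1 a)) : Set (G0 A K1 a)))) :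
    Nat.card (Sec V' V'') ≤ 2 * Nat.card (NA A K1) *
      Nat.card (fix (secRep ρ (G0 A K1 a) V' V'' h' h'') ((A.subgroupOf (G0 A K1 a) : Subgroup (G0 A K1 a)) : Set (G0 A K1 a))) := by
  have h1 := card_le_of_bestOffender h.off
  rw [← hcard]
  have hc : 0 < Nat.card (fix ρ (A : Set G)) := Nat.card_pos
  have h2 : Nat.card (Sec V' V'') * Nat.card (fix ρ (A : Set G)) ≤
      (Nat.card A * Nat.card (fix (secRep ρ (G0 A K1 a) V' V'' h' h'')
        ((A.subgroupOf (G0 A K1 a) : Subgroup (G0 A K1 a)) : Set (G0 A K1 a)))) * Nat.card (fix ρ (A : Set G)) := by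
    calc Nat.card (Sec V' V'') * Nat.card (fix ρ (A : Set G))
        ≤ Nat.card V * Nat.card (fix (secRep ρ (G0 A K1 a) V' V'' h' h'')
          ((A.subgroupOf (G0 A K1 a) : Subgroup (G0 A K1 a)) : Set (G0 A K1 a))) := hsec
      _ ≤ (Nat.card A * Nat.card (fix ρ (A : Set G))) * Nat.card (fix (secRep ρ (G0 A K1 a) V' V'' h' h'')
          ((A.subgroupOf (G0 A K1 a) : Subgroup (G0 A K1 a)) : Set (G0 A K1 a))) := Nat.mul_le_mul_right _ h1
      _ = _ := by ring
  exact Nat.le_of_mul_le_mul_right h2 hc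

end Cfsg.Agent.Lib.Helper24.Pgv
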