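import Mathlib
import Cfsg.Agent.Lib.Helper24.NilAction

/-!
# The second centre of a `p`-group of rank at least three (helper24 library)

* `le_ucs_two_of_normal_card_sq`: a normal subgroup of order `s ^ 2` of a finite nilpotent group lies in the
  second centre.
* `comm_pow_eq_one_of_mem_ucs_two`: commutators with an element `y` of the second centre with `y ^ s = 1` have
  `s`-th power one.
* `exists_elemAb_cube_commute_of_mem_ucs_two`: in a finite `s`-group containing an elementary abelian subgroup of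
  order at least `s ^ 3`, every `y` of the second centre with `y ^ s = 1` commutes with such a subgroup.
-/

set_option autoImplicit false

open scoped commutatorElement

namespace Cfsg.Agent.Lib.Helper24

variable {T : Type*} [Group T]

/-- a normal subgroup of order `s ^ 2` of a finite nilpotent group lies in the second centre -/
theorem le_ucs_two_of_normal_card_sq [Finite T] [Group.IsNilpotent T] {s : ℕ} (hs : s.Prime)
    (V : Subgroup T) [V.Normal] (hV : Nat.card V = s ^ 2) :
    V ≤ Subgroup.upperCentralSeries T 2 := by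
  have hV1 : V ≠ ⊥ := by
    rintro rfl
    rw [Subgroup.card_bot] at hV
    have := hs.one_lt
    nlinarith [Nat.one_lt_pow (n := 2) (by norm_num) this]
  set C₁ : Subgroup T := ⁅V, (⊤ : Subgroup T)⁆ with hC₁
  have hC₁V : C₁ ≤ V := Subgroup.commutator_le_left V ⊤
  have hC₁ne : C₁ ≠ V := by
    intro h
    exact hV1 (eq_bot_of_le_commutator V ⊤ (by rw [← hC₁, h]))
  have hC₁n : C₁.Normal := by rw [hC₁]; infer_instance
  set C₂ : Subgroup T := ⁅C₁, (⊤ : Subgroup T)⁆ with hC₂
  have hC₂C₁ : C₂ ≤ C₁ := Subgroup.commutator_le_left C₁ ⊤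
  -- the order of `C₁` is `1` or `s`
  have hcard₁ : Nat.card C₁ ∣ s := by
    have hdvd : Nat.card C₁ ∣ s ^ 2 := hV ▸ Subgroup.card_dvd_of_le hC₁V
    obtain ⟨j, hj2, hj⟩ := (Nat.dvd_prime_pow hs).mp hdvd
    have hlt : Nat.card C₁ < s ^ 2 := by
      rw [← hV]
      exact card_lt_of_le_of_ne hC₁V hC₁ne
    have hj1 : j ≤ 1 := by
      by_contra hcon
      have : j = 2 := by omega
      rw [hj, this] at hlt
      exact lt_irrefl _ hlt
    rw [hj]
    exact (pow_dvd_pow s hj1).trans (by rw [pow_one])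
  have hC₂bot : C₂ = ⊥ := by
    by_cases h : C₂ = C₁
    · have h1 : C₁ = ⊥ := eq_bot_of_le_commutator C₁ ⊤ (by rw [← hC₂, h])
      rw [h, h1]
    · have hlt : Nat.card C₂ < Nat.card C₁ := card_lt_of_le_of_ne hC₂C₁ h
      have hdvd : Nat.card C₂ ∣ s := (Subgroup.card_dvd_of_le hC₂C₁).trans hcard₁
      rcases (Nat.dvd_prime hs).mp hdvd with h1 | h1
      · exact Subgroup.card_eq_one.mp h1
      · exfalso
        have h2 : Nat.card C₁ ≤ s := Nat.le_of_dvd hs.pos hcard₁
        omega
  intro v hv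
  rw [show (2 : ℕ) = 1 + 1 from rfl, Subgroup.mem_upperCentralSeries_succ_iff]
  intro t
  rw [Subgroup.upperCentralSeries_one, Subgroup.mem_center_iff]
  intro x
  have h1 : ⁅v, t⁆ ∈ C₁ := Subgroup.commutator_mem_commutator hv (Subgroup.mem_top t)
  have h2 : ⁅⁅v, t⁆, x⁆ ∈ C₂ := Subgroup.commutator_mem_commutator h1 (Subgroup.mem_top x)
  rw [hC₂bot, Subgroup.mem_bot, commutatorElement_eq_one_iff_commute] at h2
  exact h2.eq.symm

/-- commutators with an element of the second centre are central -/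
theorem comm_mem_center_of_mem_ucs_two {y : T} (hy : y ∈ Subgroup.upperCentralSeries T 2) (t : T) :
    ⁅y, t⁆ ∈ Subgroup.center T := by
  rw [show (2 : ℕ) = 1 + 1 from rfl, Subgroup.mem_upperCentralSeries_succ_iff] at hy
  have := hy t
  rwa [Subgroup.upperCentralSeries_one] at this

/-- `t ↦ ⁅y, t⁆` is multiplicative for `y` in the second centre -/
theorem comm_mul_of_mem_ucs_two {y : T} (hy : y ∈ Subgroup.upperCentralSeries T 2) (v w : T) :
    ⁅y, v * w⁆ = ⁅y, v⁆ * ⁅y, w⁆ := by
  have hc := comm_mem_center_of_mem_ucs_two hy w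
  rw [Subgroup.mem_center_iff] at hc
  have h1 : ⁅y, v * w⁆ = y * v * y⁻¹ * ⁅y, w⁆ * v⁻¹ := by
    simp only [commutatorElement_def]; group
  rw [h1, mul_assoc (y * v * y⁻¹), ← hc v⁻¹, ← mul_assoc]
  simp only [commutatorElement_def]

/-- commutators with an element `y` of the second centre with `y ^ s = 1` have `s`-th power one -/
theorem comm_pow_eq_one_of_mem_ucs_two {y : T} (hy : y ∈ Subgroup.upperCentralSeries T 2) {s : ℕ}
    (hys : y ^ s = 1) (t : T) : ⁅y, t⁆ ^ s = 1 := by
  have hc := comm_mem_center_of_mem_ucs_two hy t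
  rw [Subgroup.mem_center_iff] at hc
  have h1 : t * y⁻¹ * t⁻¹ = y⁻¹ * ⁅y, t⁆ := by
    simp only [commutatorElement_def]; group
  have h2 : (t * y⁻¹ * t⁻¹) ^ s = 1 := by
    rw [conj_pow, inv_pow, hys]; simp
  have h3 : Commute y⁻¹ ⁅y, t⁆ := (hc y⁻¹)
  rw [h1, h3.mul_pow, inv_pow, hys, inv_one, one_mul] at h2
  exact h2

/-- joining an element of order dividing `s` to an elementary abelian subgroup commuting with it -/
theorem elemAb_sup_zpowers [Finite T] {s : ℕ} [hs : Fact s.Prime] (hT : IsPGroup s T) (H : Subgroup T)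
    (hHc : ∀ x ∈ H, ∀ z ∈ H, x * z = z * x) (hHe : ∀ x ∈ H, x ^ s = 1) (y : T)
    (hyH : ∀ x ∈ H, x * y = y * x) (hys : y ^ s = 1) (hynot : y ∉ H) (hcard : s ^ 2 ≤ Nat.card H) :
    ∃ W : Subgroup T, (∀ w ∈ W, w * y = y * w) ∧ (∀ x ∈ W, ∀ z ∈ W, x * z = z * x) ∧
      (∀ x ∈ W, x ^ s = 1) ∧ s ^ 3 ≤ Nat.card W := by
  set W : Subgroup T := H ⊔ Subgroup.zpowers y with hW
  have hHW : H ≤ W := le_sup_left
  have hyW : y ∈ W := (le_sup_right : Subgroup.zpowers y ≤ W) (Subgroup.mem_zpowers y)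
  -- `W` is generated by the set `H ∪ {y}` of commuting elements
  have hWcl : W = Subgroup.closure ((H : Set T) ∪ {y}) := by
    rw [hW, Subgroup.closure_union, Subgroup.closure_eq, Subgroup.zpowers_eq_closure]
  have hgen : ∀ a ∈ ((H : Set T) ∪ {y}), ∀ b ∈ ((H : Set T) ∪ {y}), a * b = b * a := by
    intro a ha b hb
    rcases ha with ha | ha <;> rcases hb with hb | hb
    · exact hHc a ha b hb
    · rw [Set.mem_singleton_iff] at hb; subst hb; exact hyH a ha
    · rw [Set.mem_singleton_iff] at ha; subst ha; exact (hyH b hb).symm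
    · rw [Set.mem_singleton_iff] at ha hb; subst ha; subst hb; rfl
  have hWcent : W ≤ Subgroup.centralizer (W : Set T) := by
    have h1 : ((H : Set T) ∪ {y}) ⊆ Subgroup.centralizer ((H : Set T) ∪ {y}) := by
      intro a ha
      rw [SetLike.mem_coe, Subgroup.mem_centralizer_iff]
      intro b hb
      exact hgen b hb a ha
    have h2 : W ≤ Subgroup.centralizer ((H : Set T) ∪ {y}) := by
      rw [hWcl, Subgroup.closure_le]; exact h1
    rw [← Subgroup.centralizer_closure, ← hWcl] at h2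
    exact h2
  have hWc : ∀ x ∈ W, ∀ z ∈ W, x * z = z * x := by
    intro x hx z hz
    have := hWcent hz
    rw [Subgroup.mem_centralizer_iff] at this
    exact this x hx
  have hWe : ∀ x ∈ W, x ^ s = 1 := by
    intro x hx
    have key : ∀ x ∈ W, x ∈ W ∧ x ^ s = 1 := by
      intro x hx
      rw [hWcl] at hx
      induction hx using Subgroup.closure_induction with
      | mem a ha =>
        rcases ha with ha | ha
        · exact ⟨hHW ha, hHe a ha⟩
        · rw [Set.mem_singleton_iff] at ha; subst ha; exact ⟨hyW, hys⟩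
      | one => exact ⟨W.one_mem, one_pow _⟩
      | mul a b _ _ iha ihb =>
        refine ⟨W.mul_mem iha.1 ihb.1, ?_⟩
        have hcomm : Commute a b := hWc a iha.1 b ihb.1
        rw [hcomm.mul_pow, iha.2, ihb.2, one_mul]
      | inv a _ iha => exact ⟨W.inv_mem iha.1, by rw [inv_pow, iha.2, inv_one]⟩
    exact (key x hx).2
  refine ⟨W, fun w hw => hWc w hw y hyW, hWc, hWe, ?_⟩
  -- cardinality
  have hcardlt : Nat.card H < Nat.card W := card_lt_of_le_of_ne hHW (fun h => hynot (h ▸ hyW))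
  obtain ⟨k, hk⟩ := (hT.to_subgroup W).exists_card_eq
  obtain ⟨j, hj⟩ := (hT.to_subgroup H).exists_card_eq
  rw [hk]
  rw [hk, hj] at hcardlt
  rw [hj] at hcard
  have hs1 : 1 < s := hs.out.one_lt
  have hj2 : 2 ≤ j := (Nat.pow_le_pow_iff_right hs1).mp hcard
  have hjk : j < k := (Nat.pow_lt_pow_iff_right hs1).mp hcardlt
  exact Nat.pow_le_pow_right hs.out.pos (by omega)

/-- In a finite `s`-group containing an elementary abelian subgroup `V` of order at least `s ^ 3`, every element `y`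
of the second centre with `y ^ s = 1` commutes with an elementary abelian subgroup of order at least `s ^ 3`. -/
theorem exists_elemAb_cube_commute_of_mem_ucs_two [Finite T] {s : ℕ} [hs : Fact s.Prime]
    (hT : IsPGroup s T) (V : Subgroup T) (hVc : ∀ x ∈ V, ∀ z ∈ V, x * z = z * x)
    (hVe : ∀ x ∈ V, x ^ s = 1) (hVcard : s ^ 3 ≤ Nat.card V) {y : T}
    (hy : y ∈ Subgroup.upperCentralSeries T 2) (hys : y ^ s = 1) :
    ∃ W : Subgroup T, (∀ w ∈ W, w * y = y * w) ∧ (∀ x ∈ W, ∀ z ∈ W, x * z = z * x) ∧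
      (∀ x ∈ W, x ^ s = 1) ∧ s ^ 3 ≤ Nat.card W := by
  by_cases hyV : y ∈ V
  · exact ⟨V, fun w hw => hVc w hw y hyV, hVc, hVe, hVcard⟩
  by_cases hyZ : y ∈ Subgroup.center T
  · rw [Subgroup.mem_center_iff] at hyZ
    exact ⟨V, fun w _ => hyZ w, hVc, hVe, hVcard⟩
  -- the elements of order dividing `s` of the centre
  let Z₁ : Subgroup T :=
    { carrier := {z | z ∈ Subgroup.center T ∧ z ^ s = 1}
      one_mem' := ⟨Subgroup.one_mem _, one_pow _⟩
      mul_mem' := by
        rintro a b ⟨ha, ha'⟩ ⟨hb, hb'⟩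
        refine ⟨Subgroup.mul_mem _ ha hb, ?_⟩
        have hcomm : Commute a b := by
          rw [Subgroup.mem_center_iff] at ha
          exact (ha b).symm
        rw [hcomm.mul_pow, ha', hb', one_mul]
      inv_mem' := by
        rintro a ⟨ha, ha'⟩
        exact ⟨Subgroup.inv_mem _ ha, by rw [inv_pow, ha', inv_one]⟩ }
  have hZ₁mem : ∀ z, z ∈ Z₁ ↔ z ∈ Subgroup.center T ∧ z ^ s = 1 := fun z => Iff.rfl
  have hZ₁c : ∀ x ∈ Z₁, ∀ z ∈ Z₁, x * z = z * x := by
    intro x hx z _
    have := ((hZ₁mem x).mp hx).1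
    rw [Subgroup.mem_center_iff] at this
    exact (this z).symm
  have hZ₁e : ∀ x ∈ Z₁, x ^ s = 1 := fun x hx => ((hZ₁mem x).mp hx).2
  have hZ₁y : ∀ x ∈ Z₁, x * y = y * x := by
    intro x hx
    have := ((hZ₁mem x).mp hx).1
    rw [Subgroup.mem_center_iff] at this
    exact (this y).symm
  have hyZ₁ : y ∉ Z₁ := fun h => hyZ ((hZ₁mem y).mp h).1
  by_cases hZcard : s ^ 2 ≤ Nat.card Z₁
  · exact elemAb_sup_zpowers hT Z₁ hZ₁c hZ₁e y hZ₁y hys hyZ₁ hZcard
  -- now `Z₁` has order at most `s`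
  have hZle : Nat.card Z₁ ≤ s := by
    obtain ⟨j, hj⟩ := (hT.to_subgroup Z₁).exists_card_eq
    rw [hj] at hZcard ⊢
    have hs1 : 1 < s := hs.out.one_lt
    have hj1 : j < 2 := by
      by_contra hcon
      exact hZcard (Nat.pow_le_pow_right hs.out.pos (by omega))
    calc s ^ j ≤ s ^ 1 := Nat.pow_le_pow_right hs.out.pos (by omega)
      _ = s := pow_one s
  -- the homomorphism `V → Z₁`, `v ↦ ⁅y, v⁆`
  let φ : V →* Z₁ :=
    { toFun := fun v => ⟨⁅y, (v : T)⁆, (hZ₁mem _).mpr
        ⟨comm_mem_center_of_mem_ucs_two hy _, comm_pow_eq_one_of_mem_ucs_two hy hys _⟩⟩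
      map_one' := by
        apply Subtype.ext
        simp [commutatorElement_def]
      map_mul' := by
        intro v w
        apply Subtype.ext
        simp only [Subgroup.coe_mul]
        exact comm_mul_of_mem_ucs_two hy _ _ }
  have hφ : ∀ v : V, ((φ v : Z₁) : T) = ⁅y, (v : T)⁆ := fun v => rfl
  set H : Subgroup T := (φ.ker).map V.subtype with hH
  have hHV : H ≤ V := Subgroup.map_subtype_le _
  have hHy : ∀ x ∈ H, x * y = y * x := by
    rintro x ⟨v, hv, rfl⟩
    rw [SetLike.mem_coe, MonoidHom.mem_ker] at hv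
    have h1 : ⁅y, (v : T)⁆ = 1 := by
      rw [← hφ v, hv]; rfl
    rw [commutatorElement_eq_one_iff_commute] at h1
    exact h1.eq.symm
  have hHcard : s ^ 2 ≤ Nat.card H := by
    have h1 : Nat.card H = Nat.card φ.ker :=
      Nat.card_congr ((φ.ker).equivMapOfInjective V.subtype V.subtype_injective).symm.toEquiv
    have h2 : Nat.card φ.ker * (φ.ker).index = Nat.card V := Subgroup.card_mul_index _
    have h3 : (φ.ker).index = Nat.card φ.range := Subgroup.index_ker φ
    have h4 : Nat.card φ.range ≤ s := (Subgroup.card_le_card_group _).trans hZle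
    rw [h1]
    by_contra hcon
    push Not at hcon
    have h5 : Nat.card V < s ^ 2 * s := by
      rw [← h2, h3]
      calc Nat.card φ.ker * Nat.card φ.range ≤ Nat.card φ.ker * s := Nat.mul_le_mul_left _ h4
        _ < s ^ 2 * s := Nat.mul_lt_mul_of_pos_right hcon hs.out.pos
    have : s ^ 2 * s = s ^ 3 := by ring
    omega
  exact elemAb_sup_zpowers hT H (fun x hx z hz => hVc x (hHV hx) z (hHV hz))
    (fun x hx => hVe x (hHV hx)) y hHy hys (fun h => hyV (hHV h)) hHcard

end Cfsg.Agent.Lib.Helper24
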