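import Mathlib
import Cfsg.Prelude.Def_OddOrderLocal
import Cfsg.Agent.Lib.Helper24.CyclicSylow
import Cfsg.Agent.Lib.Helper49.RankOneCyclic
import Cfsg.Agent.Lib.Helper54.UqRank

/-!
# Complements of `M_σ` (Bender–Glauberman, Lemma 12.1), conditional form of S1415

`s1415_of`: for a complement `E` of `M_σ` in a maximal subgroup `M` of a minimal simple group of
odd order, `E'` is nilpotent, Hall `τ₁(M)`-subgroups of `E` are cyclic and Hall `τ₃(M)`-subgroups
of `E` are cyclic, normal in `E` and contained in `E'` — from the two facts of S1405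
(`M_α ≤ M_σ` and the nilpotency of `M'M_α/M_α`).
-/

set_option autoImplicit false

namespace Cfsg.Agent.Lib.Helper24

open Cfsg
open scoped commutatorElement

universe u

theorem isNilpotent_of_injective {A B : Type*} [Group A] [Group B] (f : A →* B)
    (hf : Function.Injective f) [Group.IsNilpotent B] : Group.IsNilpotent A :=
  (Group.isNilpotent_congr (MonoidHom.ofInjective hf)).mpr inferInstance

/-- Sylow subgroups of a subgroup `H ≤ M` are cyclic when `M` has `p`-rank at most one for every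
prime `p` dividing `|H|` (odd order). -/
theorem sylow_cyclic_of_rank_one {G : Type u} [Group G] [Finite G] (M H : Subgroup G)
    (hodd : Odd (Nat.card M)) (hHM : H ≤ M)
    (hr : ∀ p : ℕ, p.Prime → p ∣ Nat.card H → PRankLE p 1 ↥M)
    (p : ℕ) [hp : Fact p.Prime] (P : Sylow p ↥H) : IsCyclic (P : Subgroup ↥H) := by
  by_cases hpH : p ∣ Nat.card H
  · have hp2 : p ≠ 2 := by
      rintro rfl
      have h2 : 2 ∣ Nat.card M := hpH.trans (Subgroup.card_dvd_of_le hHM)
      exact (Nat.not_even_iff_odd.mpr hodd) (even_iff_two_dvd.mpr h2)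
    apply Cfsg.Agent.Lib.Helper49.isCyclic_of_pRankLE_one hp2 P.isPGroup'
    apply Cfsg.Agent.Lib.Helper54.pRankLE_of_injective
      ((Subgroup.inclusion hHM).comp (P : Subgroup ↥H).subtype)
      ((Subgroup.inclusion_injective hHM).comp (Subgroup.subtype_injective _))
    exact hr p hp.out hpH
  · have hcard : Nat.card (P : Subgroup ↥H) = 1 := by
      rw [P.card_eq_multiplicity, Nat.factorization_eq_zero_of_not_dvd hpH, pow_zero]
    have : Subsingleton ↥(P : Subgroup ↥H) := (Nat.card_eq_one_iff_unique.mp hcard).1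
    exact isCyclic_of_subsingleton

theorem s1415_of {G : Type u} [Group G] [Finite G] (hG : IsMinSimpleOddOrder G) (M : Subgroup G)
    (hα : alphaCore M ≤ sigmaCore M)
    (hnil : Group.IsNilpotent
      ↥((commutator ↥M).map (QuotientGroup.mk' (piCore (alpha M) ↥M))))
    (E : Subgroup G) (hE : IsComplIn E (sigmaCore M) M) :
    Group.IsNilpotent ↥⁅E, E⁆ ∧
      (∀ E₁ : Subgroup G, IsPiHallOf (tau1 M) E₁ E → IsCyclic E₁) ∧
      ∀ E₃ : Subgroup G, IsPiHallOf (tau3 M) E₃ E →
        IsCyclic E₃ ∧ E₃ ≤ ⁅E, E⁆ ∧ E ≤ Subgroup.normalizer (E₃ : Set G) := by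
  classical
  obtain ⟨hEM, -, hEinf, hEprod⟩ := hE
  have hodd : Odd (Nat.card ↥M) := Odd.of_dvd_nat hG.1 (Subgroup.card_subgroup_dvd_card M)
  set A : Subgroup ↥M := piCore (alpha M) ↥M with hA
  set S : Subgroup ↥M := piCore (sigma M) ↥M with hS
  have hAS : A ≤ S := (Subgroup.map_le_map_iff_of_injective M.subtype_injective).mp hα
  -- the embedding `E → M/M_σ`
  let f : ↥E →* ↥M ⧸ S := (QuotientGroup.mk' S).comp (Subgroup.inclusion hEM)
  have hfinj : Function.Injective f := by
    rw [injective_iff_map_eq_one]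
    intro e he
    have h1 : Subgroup.inclusion hEM e ∈ S := (QuotientGroup.eq_one_iff _).mp he
    have h2 : (e : G) ∈ E ⊓ sigmaCore M := ⟨e.2, ⟨Subgroup.inclusion hEM e, h1, rfl⟩⟩
    rw [hEinf, Subgroup.mem_bot] at h2
    exact Subtype.ext h2
  have hfsurj : Function.Surjective f := by
    intro y
    obtain ⟨m, rfl⟩ := QuotientGroup.mk'_surjective S y
    obtain ⟨a, ha, b, ⟨b', hb', hbb'⟩, hm⟩ := hEprod m m.2
    refine ⟨⟨a, ha⟩, ?_⟩
    show QuotientGroup.mk' S (Subgroup.inclusion hEM ⟨a, ha⟩) = QuotientGroup.mk' S m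
    rw [QuotientGroup.mk'_eq_mk']
    refine ⟨b', hb', ?_⟩
    apply Subtype.ext
    simp only [Subgroup.coe_mul, Subgroup.coe_inclusion]
    rw [hm, ← hbb']; rfl
  -- the derived subgroup of `M/M_σ`
  have hTS : (commutator ↥M).map (QuotientGroup.mk' S) = commutator (↥M ⧸ S) := by
    rw [map_commutator_eq, MonoidHom.range_eq_top.mpr (QuotientGroup.mk'_surjective S),
      commutator_def]
  have hfE : (commutator ↥E).map f = commutator (↥M ⧸ S) := by
    rw [map_commutator_eq, MonoidHom.range_eq_top.mpr hfsurj, commutator_def]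
  -- `M' ∩ E ≤ E'`
  have hK1 : ∀ x : G, x ∈ ⁅M, M⁆ → x ∈ E → x ∈ ⁅E, E⁆ := by
    intro x hxM' hxE
    rw [← Subgroup.map_subtype_commutator M] at hxM'
    obtain ⟨x', hx', rfl⟩ := hxM'
    have h1 : QuotientGroup.mk' S x' ∈ commutator (↥M ⧸ S) := by
      rw [← hTS]; exact ⟨x', hx', rfl⟩
    rw [← hfE] at h1
    obtain ⟨c, hc, hcx⟩ := h1
    have h2 : f c = f ⟨(x' : G), hxE⟩ := by
      rw [hcx]
      show QuotientGroup.mk' S x' = QuotientGroup.mk' S (Subgroup.inclusion hEM ⟨(x' : G), hxE⟩)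
      congr 1
    have h3 := hfinj h2
    rw [← Subgroup.map_subtype_commutator E]
    exact ⟨c, hc, by rw [h3]; rfl⟩
  -- nilpotency of `(M/M_σ)'`
  have hTSnil : Group.IsNilpotent ↥(commutator (↥M ⧸ S)) := by
    let q : ↥M ⧸ A →* ↥M ⧸ S :=
      QuotientGroup.map A S (MonoidHom.id ↥M) (by rw [Subgroup.comap_id]; exact hAS)
    have hq : q.comp (QuotientGroup.mk' A) = QuotientGroup.mk' S := by
      ext x; rfl
    have h1 : ((commutator ↥M).map (QuotientGroup.mk' A)).map q = commutator (↥M ⧸ S) := by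
      rw [Subgroup.map_map, hq, hTS]
    have := hnil
    have h2 : Group.IsNilpotent ↥(((commutator ↥M).map (QuotientGroup.mk' A)).map q) :=
      Group.nilpotent_of_surjective _ (q.subgroupMap_surjective _)
    rwa [h1] at h2
  have hDnil : Group.IsNilpotent ↥(commutator ↥E) := by
    have hmem : ∀ c : ↥(commutator ↥E), f (c : ↥E) ∈ commutator (↥M ⧸ S) := by
      intro c
      rw [← hfE]; exact ⟨c, c.2, rfl⟩
    let g : ↥(commutator ↥E) →* ↥(commutator (↥M ⧸ S)) :=
      (f.comp (commutator ↥E).subtype).codRestrict _ hmem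
    have hg : Function.Injective g := by
      intro a b hab
      have h1 : f (a : ↥E) = f (b : ↥E) := congrArg Subtype.val hab
      exact Subtype.ext (hfinj h1)
    exact isNilpotent_of_injective g hg
  have hE'nil : Group.IsNilpotent ↥⁅E, E⁆ := by
    let e : ↥(commutator ↥E) ≃* ↥⁅E, E⁆ :=
      (Subgroup.equivMapOfInjective _ E.subtype E.subtype_injective).trans
        (MulEquiv.subgroupCongr (Subgroup.map_subtype_commutator E))
    exact (Group.isNilpotent_congr e).mp hDnil
  refine ⟨hE'nil, ?_, ?_⟩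
  · -- Hall `τ₁`-subgroups
    rintro E₁ ⟨hE₁E, hE₁pi, -⟩
    have hE₁M : E₁ ≤ M := hE₁E.trans hEM
    have hcomm : ∀ a b : ↥E₁, a * b = b * a := by
      intro a b
      have h1 : ⁅(a : G), (b : G)⁆ ∈ ⁅M, M⁆ :=
        Subgroup.commutator_mem_commutator (hE₁M a.2) (hE₁M b.2)
      have h2 : ⁅(a : G), (b : G)⁆ ∈ E₁ := by
        rw [commutatorElement_def]
        exact E₁.mul_mem (E₁.mul_mem (E₁.mul_mem a.2 b.2) (E₁.inv_mem a.2)) (E₁.inv_mem b.2)
      have h3 : ⁅(a : G), (b : G)⁆ = 1 := by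
        by_contra hne
        have ho : orderOf ⁅(a : G), (b : G)⁆ ≠ 1 := fun h => hne (orderOf_eq_one_iff.mp h)
        obtain ⟨r, hr, hrd⟩ := Nat.exists_prime_and_dvd ho
        have hr1 : r ∣ Nat.card E₁ := by
          have := orderOf_dvd_natCard (⟨_, h2⟩ : E₁)
          rw [Subgroup.orderOf_mk] at this
          exact hrd.trans this
        have hr2 : r ∣ Nat.card ↥⁅M, M⁆ := by
          have := orderOf_dvd_natCard (⟨_, h1⟩ : ↥⁅M, M⁆)
          rw [Subgroup.orderOf_mk] at this
          exact hrd.trans this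
        exact (hE₁pi r hr hr1).2.2.2.1 hr2
      apply Subtype.ext
      exact commutatorElement_eq_one_iff_mul_comm.mp h3
    let _ : CommGroup ↥E₁ := { (inferInstance : Group ↥E₁) with mul_comm := hcomm }
    apply isCyclic_of_nilpotent_of_sylow_cyclic
    intro p _ P
    exact sylow_cyclic_of_rank_one M E₁ hodd hE₁M
      (fun r hr hrd => (hE₁pi r hr hrd).2.2.2.2) p P
  · -- Hall `τ₃`-subgroups
    rintro E₃ ⟨hE₃E, hE₃pi, hE₃idx⟩
    have hE₃M : E₃ ≤ M := hE₃E.trans hEM
    -- `p`-elements of `M`, `p ∈ τ₃(M)`, lie in `M'`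
    have hpel : ∀ p : ℕ, p ∈ tau3 M → ∀ y ∈ M, (∃ k, orderOf y = p ^ k) → y ∈ ⁅M, M⁆ := by
      rintro p ⟨hp, -, hpM', hpr⟩ y hyM ⟨k, hk⟩
      have : Fact p.Prime := ⟨hp⟩
      have hp2 : p ≠ 2 := by
        rintro rfl
        have h2 : 2 ∣ Nat.card M := hpM'.trans (Subgroup.card_dvd_of_le (Subgroup.commutator_le_self M))
        exact (Nat.not_even_iff_odd.mpr hodd) (even_iff_two_dvd.mpr h2)
      have hyp : IsPGroup p (Subgroup.zpowers (⟨y, hyM⟩ : ↥M)) := by
        apply IsPGroup.of_card (n := k)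
        rw [Nat.card_zpowers, Subgroup.orderOf_mk, hk]
      obtain ⟨Q, hQ⟩ := hyp.exists_le_sylow
      have hQc : IsCyclic (Q : Subgroup ↥M) := by
        apply Cfsg.Agent.Lib.Helper49.isCyclic_of_pRankLE_one hp2 Q.isPGroup'
        exact Cfsg.Agent.Lib.Helper54.pRankLE_of_injective (Q : Subgroup ↥M).subtype
          (Subgroup.subtype_injective _) hpr
      have hcardM' : Nat.card ↥(commutator ↥M) = Nat.card ↥⁅M, M⁆ := by
        rw [← Subgroup.map_subtype_commutator M,
          Subgroup.card_map_of_injective M.subtype_injective]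
      rcases cyclic_sylow_le_commutator_or_npc p Q hQc with h | h
      · exfalso
        have := not_dvd_card_commutator_of_npc p Q hQc.isMulCommutative h
        rw [hcardM'] at this
        exact this hpM'
      · rw [← Subgroup.map_subtype_commutator M]
        exact ⟨⟨y, hyM⟩, h (hQ (Subgroup.mem_zpowers _)), rfl⟩
    -- `E₃ ≤ E'`
    have hE₃le : E₃ ≤ ⁅E, E⁆ := by
      have hidx : ((⁅E, E⁆).subgroupOf E₃).index = 1 := by
        rw [Nat.eq_one_iff_not_exists_prime_dvd]
        intro p hp hpd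
        have : Fact p.Prime := ⟨hp⟩
        have hpE₃ : p ∣ Nat.card E₃ := hpd.trans (Subgroup.index_dvd_card _)
        have hpτ := hE₃pi p hp hpE₃
        let P : Sylow p ↥E₃ := default
        have hPle : (P : Subgroup ↥E₃) ≤ (⁅E, E⁆).subgroupOf E₃ := by
          intro x hx
          rw [Subgroup.mem_subgroupOf]
          apply hK1 _ _ (hE₃E x.2)
          apply hpel p hpτ _ (hE₃M x.2)
          obtain ⟨k, hk⟩ := (IsPGroup.iff_orderOf.mp P.isPGroup') ⟨x, hx⟩
          exact ⟨k, by rw [← hk, Subgroup.orderOf_mk, Subgroup.orderOf_coe]⟩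
        exact P.not_dvd_index (hpd.trans (Subgroup.index_dvd_of_le hPle))
      have htop := Subgroup.index_eq_one.mp hidx
      intro x hx
      have : (⟨x, hx⟩ : ↥E₃) ∈ (⁅E, E⁆).subgroupOf E₃ := by rw [htop]; exact Subgroup.mem_top _
      exact Subgroup.mem_subgroupOf.mp this
    -- normality
    have hHD : E₃.subgroupOf E ≤ commutator ↥E := by
      intro x hx
      have h1 : (x : G) ∈ ⁅E, E⁆ := hE₃le (Subgroup.mem_subgroupOf.mp hx)
      rw [← Subgroup.map_subtype_commutator E] at h1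
      obtain ⟨c, hc, hcx⟩ := h1
      have : c = x := Subtype.ext hcx
      exact this ▸ hc
    have hcardH : Nat.card (E₃.subgroupOf E) = Nat.card E₃ :=
      Nat.card_congr (Subgroup.subgroupOfEquivOfLe hE₃E).toEquiv
    have hcop : (Nat.card (E₃.subgroupOf E)).Coprime ((E₃.subgroupOf E).relIndex (commutator ↥E)) := by
      rw [hcardH]
      apply Nat.coprime_of_dvd
      intro r hr hr1 hr2
      have h1 : (E₃.subgroupOf E).relIndex (commutator ↥E) ∣ (E₃.subgroupOf E).index :=
        Subgroup.relIndex_dvd_index_of_le hHD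
      exact hE₃idx r hr (hE₃pi r hr hr1) (hr2.trans h1)
    have hnorm : (E₃.subgroupOf E).Normal :=
      normal_of_hall_le_nilpotent (commutator ↥E) (E₃.subgroupOf E) hDnil hHD hcop
    have hEN : E ≤ Subgroup.normalizer (E₃ : Set G) :=
      (Subgroup.normal_subgroupOf_iff_le_normalizer hE₃E).mp hnorm
    refine ⟨?_, hE₃le, hEN⟩
    -- cyclic
    have : Group.IsNilpotent ↥⁅E, E⁆ := hE'nil
    have hE₃nil : Group.IsNilpotent ↥E₃ :=
      isNilpotent_of_injective (Subgroup.inclusion hE₃le) (Subgroup.inclusion_injective hE₃le)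
    apply isCyclic_of_nilpotent_of_sylow_cyclic
    intro p _ P
    exact sylow_cyclic_of_rank_one M E₃ hodd hE₃M
      (fun r hr hrd => (hE₃pi r hr hrd).2.2.2) p P

end Cfsg.Agent.Lib.Helper24
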