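import Mathlib
import Cfsg.Agent.Lib.Helper39.SPW.Defs
import Cfsg.Agent.Lib.Helper94.SPMD.Defs
import Cfsg.Agent.Lib.Helper62.SpmdCTrans

/-!
# SPW-[O-TRANS1] (helper24): `GL_n` is transitive on non-zero vectors
-/

set_option autoImplicit false

namespace Cfsg.Agent.Lib.Helper39.SPW

open Matrix Module Cfsg.Agent.Lib.Helper5 Cfsg.Agent.Lib.Helper94.SPMD

section O
variable {F : Type*} [Field F] [Fintype F] {n : ℕ}

/-- **[O-TRANS1]** `GL_n` is transitive on non-zero vectors -/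
theorem exists_GL_map (x y : Fin n → F) (hx : x ≠ 0) (hy : y ≠ 0) :
    ∃ A : GL (Fin n) F, (A : Matrix (Fin n) (Fin n) F) *ᵥ x = y := by
  obtain ⟨g, hg⟩ := CTrans.exists_equiv_map_family (fun _ : Unit => x) (fun _ : Unit => y)
    (linearIndependent_unique_iff.mpr hx) (linearIndependent_unique_iff.mpr hy)
  exact ⟨CTrans.glOfEquiv g, by rw [CTrans.glOfEquiv_mulVec]; exact hg ()⟩

end O

end Cfsg.Agent.Lib.Helper39.SPW
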