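import Mathlib
import Cfsg.Agent.Lib.Helper39.SPW.Defs
import Cfsg.Agent.Lib.Helper94.SPMD.Defs

/-!
# SPW-[O-TRANSL] (helper24): `q^(n-1)` forms of the orbit of `Q` take the value `c = Q y ≠ 0` at `y`
-/

set_option autoImplicit false

namespace Cfsg.Agent.Lib.Helper24.SpwOTransl

open Matrix Module Cfsg.Agent.Lib.Helper94.SPMD

variable {F : Type*} [Field F] {n : ℕ}

/-- the matrix `1 + y lᵀ` of `x ↦ x + (l ⬝ x) y` -/
def bM (y l : Fin n → F) : Matrix (Fin n) (Fin n) F := 1 + Matrix.vecMulVec y l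

theorem bM_mulVec (y l x : Fin n → F) : bM y l *ᵥ x = x + (l ⬝ᵥ x) • y := by
  unfold bM
  rw [Matrix.add_mulVec, Matrix.one_mulVec]
  congr 1
  ext i
  simp only [Matrix.mulVec, Matrix.vecMulVec_apply, dotProduct, Pi.smul_apply, smul_eq_mul]
  rw [Finset.sum_mul]
  refine Finset.sum_congr rfl fun j _ => ?_
  ring

theorem bM_mul_neg (y l : Fin n → F) (hl : l ⬝ᵥ y = 0) : bM y l * bM y (-l) = 1 := by
  apply Matrix.toLin'.injective
  apply LinearMap.ext
  intro x
  rw [Matrix.toLin'_mul, LinearMap.comp_apply, Matrix.toLin'_apply, Matrix.toLin'_apply, bM_mulVec,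
    bM_mulVec, Matrix.toLin'_one, LinearMap.id_apply, dotProduct_add, dotProduct_smul, hl, smul_zero,
    add_zero, neg_dotProduct, neg_smul]
  abel

/-- the element of `GL_n` whose inverse is `bM y l` -/
def bGL (y l : Fin n → F) (hl : l ⬝ᵥ y = 0) : GL (Fin n) F :=
  ⟨bM y (-l), bM y l, by
    have := bM_mul_neg y (-l) (by rw [neg_dotProduct, hl, neg_zero])
    rwa [neg_neg] at this, bM_mul_neg y l hl⟩

theorem actQ_bGL (y l : Fin n → F) (hl : l ⬝ᵥ y = 0) (Q : QuadraticForm F (Fin n → F))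
    (x : Fin n → F) :
    actQ (bGL y l hl) Q x = Q x + (l ⬝ᵥ x) * QuadraticMap.polar Q x y + (l ⬝ᵥ x) ^ 2 * Q y := by
  rw [actQ_apply]
  show Q (bM y l *ᵥ x) = _
  rw [bM_mulVec, QuadraticMap.map_add Q x ((l ⬝ᵥ x) • y), QuadraticMap.map_smul,
    QuadraticMap.polar_smul_right, smul_eq_mul, smul_eq_mul]
  ring

/-- the functionals vanishing at `y` -/
def lam (y : Fin n → F) : Submodule F (Fin n → F) :=
  LinearMap.ker (Matrix.replicateRow (Fin 1) y).mulVecLin

theorem mem_lam (y l : Fin n → F) : l ∈ lam y ↔ l ⬝ᵥ y = 0 := by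
  unfold lam
  rw [LinearMap.mem_ker, Matrix.mulVecLin_apply]
  constructor
  · intro h
    have h0 := congrFun h 0
    simp only [Matrix.mulVec, Matrix.replicateRow_apply, Pi.zero_apply] at h0
    rw [dotProduct_comm]; exact h0
  · intro h
    funext i
    simp only [Matrix.mulVec, Matrix.replicateRow_apply, Pi.zero_apply]
    rw [dotProduct_comm]; exact h

theorem finrank_lam_ge (y : Fin n → F) : n - 1 ≤ finrank F (lam y) := by
  have h := LinearMap.finrank_range_add_finrank_ker (Matrix.replicateRow (Fin 1) y).mulVecLin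
  have h2 : finrank F (LinearMap.range (Matrix.replicateRow (Fin 1) y).mulVecLin) ≤ 1 := by
    have := Submodule.finrank_le (LinearMap.range (Matrix.replicateRow (Fin 1) y).mulVecLin)
    simpa using this
  rw [finrank_fintype_fun_eq_card, Fintype.card_fin] at h
  unfold lam
  omega

end Cfsg.Agent.Lib.Helper24.SpwOTransl

namespace Cfsg.Agent.Lib.Helper39.SPW

open Matrix Module Cfsg.Agent.Lib.Helper5 Cfsg.Agent.Lib.Helper94.SPMD
open Cfsg.Agent.Lib.Helper24.SpwOTransl

section O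
variable {F : Type*} [Field F] [Fintype F] {n : ℕ}

/-- **[O-TRANSL]** `q^(n-1)` forms of the orbit of `Q` take the value `c = Q y ≠ 0` at `y` -/
theorem card_translates_ge_odd {q : ℕ} (hq : Fintype.card F = q) (h2 : (2 : F) ≠ 0) (hn : 1 ≤ n)
    (Q : QuadraticForm F (Fin n → F)) (y : Fin n → F) (c : F) (hc : c ≠ 0) (hy : Q y = c) :
    q ^ (n - 1) ≤ Nat.card {Q' : QuadraticForm F (Fin n → F) // Q' ∈ orbQ Q ∧ Q' y = c} := by
  classical
  have hfinQ : Finite (QuadraticForm F (Fin n → F)) :=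
    Finite.of_injective (fun Q' : QuadraticForm F (Fin n → F) => (Q' : (Fin n → F) → F))
      DFunLike.coe_injective
  let Φ : (lam y) → {Q' : QuadraticForm F (Fin n → F) // Q' ∈ orbQ Q ∧ Q' y = c} :=
    fun l => ⟨actQ (bGL y l ((mem_lam y l).1 l.2)) Q, ⟨_, rfl⟩, by
      rw [actQ_bGL, (mem_lam y l).1 l.2, hy]; ring⟩
  have hΦ : Function.Injective Φ := by
    intro l l' hp
    have hl := (mem_lam y l).1 l.2
    have hl' := (mem_lam y l').1 l'.2
    have hQ : actQ (bGL y l hl) Q = actQ (bGL y l' hl') Q := congrArg Subtype.val hp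
    by_contra hne
    -- d = l - l' ≠ 0
    have hd : ∃ x₀, ((l : Fin n → F) - (l' : Fin n → F)) ⬝ᵥ x₀ ≠ 0 := by
      by_contra hcon
      push Not at hcon
      apply hne
      apply Subtype.ext
      funext i
      have := hcon (Pi.single i 1)
      simp only [dotProduct_single, mul_one, Pi.sub_apply] at this
      exact sub_eq_zero.mp this
    obtain ⟨x₀, hx₀⟩ := hd
    -- the key identity at x = x₀ + t y
    have key : ∀ t : F, QuadraticMap.polar Q x₀ y + t * (2 * c) +
        c * (((l : Fin n → F) + (l' : Fin n → F)) ⬝ᵥ x₀) = 0 := by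
      intro t
      have h1 : actQ (bGL y l hl) Q (x₀ + t • y) = actQ (bGL y l' hl') Q (x₀ + t • y) := by rw [hQ]
      rw [actQ_bGL, actQ_bGL] at h1
      have ea : (l : Fin n → F) ⬝ᵥ (x₀ + t • y) = (l : Fin n → F) ⬝ᵥ x₀ := by
        rw [dotProduct_add, dotProduct_smul, hl, smul_zero, add_zero]
      have eb : (l' : Fin n → F) ⬝ᵥ (x₀ + t • y) = (l' : Fin n → F) ⬝ᵥ x₀ := by
        rw [dotProduct_add, dotProduct_smul, hl', smul_zero, add_zero]
      have ep : QuadraticMap.polar Q (x₀ + t • y) y = QuadraticMap.polar Q x₀ y + t * (2 * c) := by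
        rw [QuadraticMap.polar_add_left, QuadraticMap.polar_smul_left, QuadraticMap.polar_self,
          hy, smul_eq_mul, two_smul, two_mul]
      rw [ea, eb, ep, hy] at h1
      have hd' : (l : Fin n → F) ⬝ᵥ x₀ - (l' : Fin n → F) ⬝ᵥ x₀ ≠ 0 := by
        rwa [sub_dotProduct] at hx₀
      have hs : ((l : Fin n → F) + (l' : Fin n → F)) ⬝ᵥ x₀ =
          (l : Fin n → F) ⬝ᵥ x₀ + (l' : Fin n → F) ⬝ᵥ x₀ := add_dotProduct _ _ _
      rw [hs]
      have hprod : ((l : Fin n → F) ⬝ᵥ x₀ - (l' : Fin n → F) ⬝ᵥ x₀) *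
          (QuadraticMap.polar Q x₀ y + t * (2 * c) +
            c * ((l : Fin n → F) ⬝ᵥ x₀ + (l' : Fin n → F) ⬝ᵥ x₀)) = 0 := by
        linear_combination h1
      exact (mul_eq_zero.mp hprod).resolve_left hd'
    have k0 := key 0
    have k1 := key 1
    have : 2 * c = 0 := by linear_combination k1 - k0
    exact (mul_ne_zero h2 hc) this
  have hcardF : Nat.card F = q := by rw [Nat.card_eq_fintype_card, hq]
  have hq1 : 1 ≤ q := by rw [← hq]; exact Fintype.card_pos
  have hlam : q ^ (n - 1) ≤ Nat.card (lam y) := by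
    rw [Module.natCard_eq_pow_finrank (K := F), hcardF]
    exact Nat.pow_le_pow_right hq1 (finrank_lam_ge y)
  exact le_trans hlam (Nat.card_le_card_of_injective Φ hΦ)

end O

end Cfsg.Agent.Lib.Helper39.SPW
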