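import Mathlib
import Cfsg.Agent.Lib.Helper39.SPW.Defs
import Cfsg.Agent.Lib.Helper94.SPMD.Defs

/-!
# SPW-[O-ZERO] (helper24): a level set of a non-zero quadratic form has at most `2 q^(n-1)` points
-/

set_option autoImplicit false

namespace Cfsg.Agent.Lib.Helper24.SpwOZero

open Matrix Module

variable {F : Type*} [Field F] {n : ℕ}

/-- the quadratic polynomial `t ↦ Q (a + t e) - c` -/
noncomputable def linePoly (Q : QuadraticForm F (Fin n → F)) (a e : Fin n → F) (c : F) : Polynomial F :=
  Polynomial.C (Q e) * Polynomial.X ^ 2 + Polynomial.C (QuadraticMap.polar Q a e) * Polynomial.X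
    + Polynomial.C (Q a - c)

theorem linePoly_eval (Q : QuadraticForm F (Fin n → F)) (a e : Fin n → F) (c t : F) :
    (linePoly Q a e c).eval t = Q (a + t • e) - c := by
  unfold linePoly
  simp only [Polynomial.eval_add, Polynomial.eval_mul, Polynomial.eval_C, Polynomial.eval_pow,
    Polynomial.eval_X]
  rw [QuadraticMap.map_add Q a (t • e), QuadraticMap.map_smul, QuadraticMap.polar_smul_right, smul_eq_mul,
    smul_eq_mul]
  ring

theorem linePoly_ne_zero (Q : QuadraticForm F (Fin n → F)) (a e : Fin n → F) (c : F) (he : Q e ≠ 0) :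
    linePoly Q a e c ≠ 0 := by
  intro h
  have h2 : (linePoly Q a e c).coeff 2 = Q e := by
    unfold linePoly
    simp
  rw [h, Polynomial.coeff_zero] at h2
  exact he h2.symm

theorem linePoly_natDegree_le (Q : QuadraticForm F (Fin n → F)) (a e : Fin n → F) (c : F) :
    (linePoly Q a e c).natDegree ≤ 2 := by
  unfold linePoly
  compute_degree

end Cfsg.Agent.Lib.Helper24.SpwOZero

namespace Cfsg.Agent.Lib.Helper39.SPW

open Matrix Module Cfsg.Agent.Lib.Helper5 Cfsg.Agent.Lib.Helper94.SPMD
open Cfsg.Agent.Lib.Helper24.SpwOZero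

section O
variable {F : Type*} [Field F] [Fintype F] {n : ℕ}

/-- **[O-ZERO]** a level set of a non-zero quadratic form has at most `2 q^(n-1)` points (`2 ≠ 0`) -/
theorem card_level_le {q : ℕ} (hq : Fintype.card F = q) (h2 : (2 : F) ≠ 0) (hn : 1 ≤ n)
    (Q : QuadraticForm F (Fin n → F)) (hQ : Q ≠ 0) (c : F) :
    Nat.card {y : Fin n → F // Q y = c} ≤ 2 * q ^ (n - 1) := by
  classical
  -- a vector with Q e ≠ 0 and a non-zero coordinate
  obtain ⟨e, he⟩ : ∃ e, Q e ≠ 0 := by
    by_contra hcon
    push Not at hcon
    exact hQ (QuadraticMap.ext fun x => by simpa using hcon x)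
  have he0 : e ≠ 0 := by
    rintro rfl
    exact he (QuadraticMap.map_zero Q)
  obtain ⟨i, hi⟩ : ∃ i, e i ≠ 0 := by
    by_contra hcon
    push Not at hcon
    exact he0 (funext hcon)
  -- the hyperplane z i = 0
  have hfr : Module.finrank F ↥(LinearMap.ker (LinearMap.proj i : (Fin n → F) →ₗ[F] F)) = n - 1 := by
    have hrk := LinearMap.finrank_range_add_finrank_ker (LinearMap.proj i : (Fin n → F) →ₗ[F] F)
    have hrange : LinearMap.range (LinearMap.proj i : (Fin n → F) →ₗ[F] F) = ⊤ :=
      LinearMap.range_eq_top.mpr (LinearMap.proj_surjective i)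
    rw [hrange, finrank_top, Module.finrank_self, Module.finrank_fin_fun] at hrk
    omega
  set K : Submodule F (Fin n → F) := LinearMap.ker (LinearMap.proj i : (Fin n → F) →ₗ[F] F) with hK
  have hKcard : Fintype.card ↥K = q ^ (n - 1) := by
    rw [Module.card_eq_pow_finrank (K := F) (V := ↥K), hfr, hq]
  -- the projection along e
  set f : (Fin n → F) → (Fin n → F) := fun y => y - (y i / e i) • e with hf
  have hfK : ∀ y, f y ∈ K := by
    intro y
    rw [hK, LinearMap.mem_ker, LinearMap.proj_apply]
    show (y - (y i / e i) • e) i = 0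
    rw [Pi.sub_apply, Pi.smul_apply, smul_eq_mul, div_mul_cancel₀ _ hi, sub_self]
  set s : Finset (Fin n → F) := Finset.univ.filter (fun y => Q y = c) with hs
  have hcard : Nat.card {y : Fin n → F // Q y = c} = s.card := by
    rw [Nat.card_eq_fintype_card, Fintype.card_subtype]
  rw [hcard]
  have h1 : s.card ≤ 2 * (s.image f).card := by
    refine Finset.card_le_mul_card_image s 2 fun a _ => ?_
    -- the fibre over a injects into the roots of the line polynomial
    have hinj : Set.InjOn (fun y : Fin n → F => y i / e i) (↑(s.filter fun y => f y = a)) := by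
      intro y hy y' hy' ht
      have hy1 : f y = a := (Finset.mem_filter.mp hy).2
      have hy2 : f y' = a := (Finset.mem_filter.mp hy').2
      have e1 : y = a + (y i / e i) • e := by rw [← hy1, hf]; simp
      have e2 : y' = a + (y' i / e i) • e := by rw [← hy2, hf]; simp
      rw [e1, e2]
      simp only at ht
      rw [ht]
    have hmaps : ∀ y ∈ (s.filter fun y => f y = a), (fun y : Fin n → F => y i / e i) y ∈
        (linePoly Q a e c).roots.toFinset := by
      intro y hy
      have hy1 : f y = a := (Finset.mem_filter.mp hy).2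
      have hyQ : Q y = c := (Finset.mem_filter.mp (Finset.mem_filter.mp hy).1).2
      have e1 : y = a + (y i / e i) • e := by rw [← hy1, hf]; simp
      rw [Multiset.mem_toFinset, Polynomial.mem_roots (linePoly_ne_zero Q a e c he),
        Polynomial.IsRoot.def, linePoly_eval, ← e1, hyQ, sub_self]
    calc (s.filter fun y => f y = a).card
        ≤ (linePoly Q a e c).roots.toFinset.card := Finset.card_le_card_of_injOn _ hmaps hinj
      _ ≤ Multiset.card (linePoly Q a e c).roots := Multiset.toFinset_card_le _
      _ ≤ (linePoly Q a e c).natDegree := Polynomial.card_roots' _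
      _ ≤ 2 := linePoly_natDegree_le Q a e c
  have h3 : (s.image f).card ≤ q ^ (n - 1) := by
    rw [← hKcard]
    have hsub : s.image f ⊆ (Finset.univ : Finset ↥K).map ⟨Subtype.val, Subtype.val_injective⟩ := by
      intro z hz
      obtain ⟨y, _, rfl⟩ := Finset.mem_image.mp hz
      exact Finset.mem_map.mpr ⟨⟨f y, hfK y⟩, Finset.mem_univ _, rfl⟩
    calc (s.image f).card ≤ ((Finset.univ : Finset ↥K).map ⟨Subtype.val, Subtype.val_injective⟩).card :=
          Finset.card_le_card hsub
      _ = Fintype.card ↥K := by rw [Finset.card_map, Finset.card_univ]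
  calc s.card ≤ 2 * (s.image f).card := h1
    _ ≤ 2 * q ^ (n - 1) := Nat.mul_le_mul_left 2 h3

end O

end Cfsg.Agent.Lib.Helper39.SPW
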