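import Mathlib
import Cfsg.Agent.Lib.Helper39.SPW.Defs
import Cfsg.Agent.Lib.Helper94.SPMD.Defs
import Cfsg.Agent.Lib.Helper14.SpmdCCount
import Cfsg.Agent.Lib.Helper24.SpwOZero
import Cfsg.Agent.Lib.Helper24.SpwOTrans1
import Cfsg.Agent.Lib.Helper24.SpwOTransl

/-!
# SPW-[O-COUNT] (helper24): `q^n - 1 ≤ 2 |orbQ Q|` for `q` odd and `Q` with non-zero polar form
-/

set_option autoImplicit false
set_option linter.style.haveILetI false

namespace Cfsg.Agent.Lib.Helper39.SPW

open Matrix Module Cfsg.Agent.Lib.Helper5 Cfsg.Agent.Lib.Helper94.SPMD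

section O
variable {F : Type*} [Field F] [Fintype F] {n : ℕ}

/-- **[O-COUNT]** the orbit of a quadratic form with non-zero polar form, `q` odd -/
theorem orbit_bound_odd {q : ℕ} (hq : Fintype.card F = q) (hodd : Odd q) (hn : 1 ≤ n)
    (Q : QuadraticForm F (Fin n → F)) (hB : ∃ x y, QuadraticMap.polar Q x y ≠ 0) :
    q ^ n - 1 ≤ 2 * Nat.card (orbQ Q) := by
  classical
  haveI hfinQ : Finite (QuadraticForm F (Fin n → F)) := CCountAux.finite_quadraticForm
  letI : Fintype (QuadraticForm F (Fin n → F)) := Fintype.ofFinite _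
  -- 2 ≠ 0
  have h2 : (2 : F) ≠ 0 := by
    intro h
    have hdvd : ringChar F ∣ 2 := ringChar.dvd (by exact_mod_cast h)
    have hne1 : ringChar F ≠ 1 := CharP.ringChar_ne_one
    have h2' : ringChar F = 2 := by
      rcases (Nat.dvd_prime Nat.prime_two).mp hdvd with h1 | h1
      · exact absurd h1 hne1
      · exact h1
    have := FiniteField.even_card_of_char_two h2'
    rw [hq] at this
    rcases hodd with ⟨k, hk⟩
    omega
  -- a vector with Q e ≠ 0
  obtain ⟨e, he⟩ : ∃ e, Q e ≠ 0 := by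
    obtain ⟨x, y, hxy⟩ := hB
    by_contra hcon
    push Not at hcon
    apply hxy
    unfold QuadraticMap.polar
    rw [hcon, hcon, hcon]
    ring
  have he0 : e ≠ 0 := by
    rintro rfl
    exact he (QuadraticMap.map_zero Q)
  set c : F := Q e with hc
  set s : Finset (QuadraticForm F (Fin n → F)) := Finset.univ.filter (fun Q' => Q' ∈ orbQ Q) with hs
  have hscard : Nat.card (orbQ Q) = s.card := by
    rw [Nat.card_eq_fintype_card]
    show Fintype.card {Q' // Q' ∈ orbQ Q} = s.card
    rw [Fintype.card_subtype]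
  have hq1 : 1 ≤ q := by rw [← hq]; exact Fintype.card_pos
  -- upper bound
  have hup : ∀ Q' ∈ s, ((Finset.univ : Finset (Fin n → F)).filter (fun y => Q' y = c)).card ≤
      2 * q ^ (n - 1) := by
    intro Q' hQ'
    have hmem : Q' ∈ orbQ Q := (Finset.mem_filter.mp hQ').2
    obtain ⟨A, rfl⟩ := hmem
    have hne : actQ A Q ≠ 0 := by
      intro h0
      have := congrArg (fun R : QuadraticForm F (Fin n → F) => R ((A : Matrix (Fin n) (Fin n) F) *ᵥ e)) h0
      simp only [actQ_apply, CCountAux.inv_mulVec_mulVec, _root_.zero_apply] at this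
      exact he this
    have := card_level_le hq h2 hn (actQ A Q) hne c
    rwa [Nat.card_eq_fintype_card, Fintype.card_subtype] at this
  -- lower bound
  have hlow : ∀ y : Fin n → F, y ≠ 0 → q ^ (n - 1) ≤ (s.filter (fun Q' => Q' y = c)).card := by
    intro y hy
    obtain ⟨A, hA⟩ := exists_GL_map e y he0 hy
    have hQ0 : actQ A Q y = c := by
      rw [actQ_apply, ← hA, CCountAux.inv_mulVec_mulVec]
    have h1 := card_translates_ge_odd hq h2 hn (actQ A Q) y c he hQ0
    refine le_trans h1 ?_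
    rw [Nat.card_eq_fintype_card, Fintype.card_subtype]
    refine Finset.card_le_card ?_
    intro Q' hQ'
    rw [Finset.mem_filter] at hQ' ⊢
    refine ⟨?_, hQ'.2.2⟩
    rw [hs, Finset.mem_filter]
    refine ⟨Finset.mem_univ _, ?_⟩
    obtain ⟨B, hB'⟩ := hQ'.2.1
    exact ⟨B * A, by rw [hB', CCountAux.actQ_actQ]⟩
  -- double count
  have hdc := Finset.sum_card_bipartiteAbove_eq_sum_card_bipartiteBelow
    (s := s) (t := (Finset.univ : Finset (Fin n → F)))
    (fun (Q' : QuadraticForm F (Fin n → F)) (y : Fin n → F) => Q' y = c)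
  have hL : ∑ Q' ∈ s, ((Finset.univ : Finset (Fin n → F)).filter (fun y => Q' y = c)).card ≤
      s.card * (2 * q ^ (n - 1)) := by
    calc _ ≤ ∑ _Q' ∈ s, 2 * q ^ (n - 1) := Finset.sum_le_sum hup
      _ = s.card * (2 * q ^ (n - 1)) := by rw [Finset.sum_const, smul_eq_mul]
  have hnz : ((Finset.univ : Finset (Fin n → F)).filter (fun y => y ≠ 0)).card = q ^ n - 1 := by
    rw [Finset.filter_ne', Finset.card_erase_of_mem (Finset.mem_univ _), Finset.card_univ,
      Fintype.card_fun, Fintype.card_fin, hq]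
  have hR : (q ^ n - 1) * q ^ (n - 1) ≤
      ∑ y ∈ (Finset.univ : Finset (Fin n → F)), (s.filter (fun Q' => Q' y = c)).card := by
    calc (q ^ n - 1) * q ^ (n - 1)
        = ∑ _y ∈ (Finset.univ : Finset (Fin n → F)).filter (fun y => y ≠ 0), q ^ (n - 1) := by
          rw [Finset.sum_const, smul_eq_mul, hnz]
      _ ≤ ∑ y ∈ (Finset.univ : Finset (Fin n → F)).filter (fun y => y ≠ 0),
            (s.filter (fun Q' => Q' y = c)).card :=
          Finset.sum_le_sum fun y hy => hlow y (Finset.mem_filter.mp hy).2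
      _ ≤ ∑ y ∈ (Finset.univ : Finset (Fin n → F)), (s.filter (fun Q' => Q' y = c)).card :=
          Finset.sum_le_sum_of_subset (Finset.filter_subset _ _)
  have hmain : (q ^ n - 1) * q ^ (n - 1) ≤ s.card * (2 * q ^ (n - 1)) := by
    refine le_trans hR ?_
    refine le_trans (le_of_eq ?_) hL
    exact hdc.symm
  have hpos : 0 < q ^ (n - 1) := Nat.pow_pos hq1
  rw [hscard]
  have : (q ^ n - 1) * q ^ (n - 1) ≤ (2 * s.card) * q ^ (n - 1) := by
    calc _ ≤ s.card * (2 * q ^ (n - 1)) := hmain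
      _ = (2 * s.card) * q ^ (n - 1) := by ring
  exact Nat.le_of_mul_le_mul_right this hpos

end O

end Cfsg.Agent.Lib.Helper39.SPW
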